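import Mathlib

set_option autoImplicit false

namespace Cfsg.Agent.Helper43

open Matrix

variable {F : Type*} [Field F] {n : ℕ}

/-- If a linear automorphism of `F^n` intertwines `u - 1` and `u' - 1`, then `u` and `u'` are
conjugate in `GL_n(F)`. -/
theorem isConj_of_linearEquiv (u u' : GL (Fin n) F) (e : (Fin n → F) ≃ₗ[F] (Fin n → F))
    (he : ∀ x, e (Matrix.toLin' ((u : Matrix (Fin n) (Fin n) F) - 1) x)
      = Matrix.toLin' ((u' : Matrix (Fin n) (Fin n) F) - 1) (e x)) : IsConj u u' := by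
  set E : Matrix (Fin n) (Fin n) F := LinearMap.toMatrix' (e : (Fin n → F) →ₗ[F] (Fin n → F)) with hE
  set E' : Matrix (Fin n) (Fin n) F :=
    LinearMap.toMatrix' (e.symm : (Fin n → F) →ₗ[F] (Fin n → F)) with hE'
  have h1 : E * E' = 1 := by
    rw [hE, hE', ← LinearMap.toMatrix'_comp]
    rw [← LinearMap.toMatrix'_id]
    congr 1
    ext x : 1
    simp
  have h2 : E' * E = 1 := by
    rw [hE, hE', ← LinearMap.toMatrix'_comp]
    rw [← LinearMap.toMatrix'_id]
    congr 1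
    ext x : 1
    simp
  let g : GL (Fin n) F := ⟨E, E', h1, h2⟩
  rw [isConj_iff]
  refine ⟨g, ?_⟩
  rw [mul_inv_eq_iff_eq_mul]
  apply Units.ext
  rw [Units.val_mul, Units.val_mul]
  show E * (u : Matrix (Fin n) (Fin n) F) = (u' : Matrix (Fin n) (Fin n) F) * E
  have h3 : E * ((u : Matrix (Fin n) (Fin n) F) - 1) = ((u' : Matrix (Fin n) (Fin n) F) - 1) * E := by
    apply (Matrix.toLin' (R := F)).injective
    rw [Matrix.toLin'_mul, Matrix.toLin'_mul, hE, Matrix.toLin'_toMatrix']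
    exact LinearMap.ext (fun x => he x)
  rw [mul_sub, sub_mul, mul_one, one_mul] at h3
  exact sub_left_injective h3

/-- Arithmetic: splitting off the first two factors of `|GL_{m+2}(q)|`. -/
theorem prod_GL_split (q m : ℕ) :
    ∏ i : Fin (m + 2), (q ^ (m + 2) - q ^ (i : ℕ))
      = q ^ (2 * m + 1) * (q ^ (m + 2) - 1) * (q ^ (m + 1) - 1) * ∏ i : Fin m, (q ^ m - q ^ (i : ℕ)) := by
  rw [Fin.prod_univ_succ, Fin.prod_univ_succ]
  have h0 : q ^ (m + 2) - q ^ ((0 : Fin (m + 2)) : ℕ) = q ^ (m + 2) - 1 := by simp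
  have h1 : q ^ (m + 2) - q ^ (((0 : Fin (m + 1)).succ : Fin (m + 2)) : ℕ) = q * (q ^ (m + 1) - 1) := by
    simp only [Fin.val_succ, Fin.val_zero, zero_add, pow_one]
    rw [Nat.mul_sub, mul_one, ← pow_succ']
  have h2 : ∀ i : Fin m, q ^ (m + 2) - q ^ ((i.succ.succ : Fin (m + 2)) : ℕ)
      = q ^ 2 * (q ^ m - q ^ (i : ℕ)) := by
    intro i
    simp only [Fin.val_succ]
    rw [Nat.mul_sub, ← pow_add, ← pow_add]
    congr 2 <;> omega
  rw [h0, h1, Finset.prod_congr rfl (fun i _ => h2 i), Finset.prod_mul_distrib, Finset.prod_const,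
    Finset.card_univ, Fintype.card_fin, ← pow_mul]
  ring

end Cfsg.Agent.Helper43
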