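import Cfsg.Agent.Helper43.SSMod
import Cfsg.Agent.Helper43.GLConj

set_option autoImplicit false

namespace Cfsg.Agent.Helper43.SS

open Polynomial Module

universe u v w

variable {F : Type u} [Field F]

theorem charpoly_xEnd_AEval {V : Type v} [AddCommGroup V] [Module F V] [Module.Finite F V]
    (φ : Module.End F V) : (xEnd F (AEval' φ)).charpoly = φ.charpoly := by
  rw [← LinearEquiv.charpoly_conj (AEval'.of φ) φ]
  congr 1
  apply LinearMap.ext
  intro m
  obtain ⟨v, rfl⟩ := (AEval'.of φ).surjective m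
  show (X : F[X]) • AEval'.of φ v = AEval'.of φ (φ ((AEval'.of φ).symm (AEval'.of φ v)))
  rw [LinearEquiv.symm_apply_apply, AEval'.X_smul_of]

/-- Semisimple endomorphisms with the same characteristic polynomial are conjugate. -/
theorem exists_equiv_of_charpoly_eq {V : Type v} [AddCommGroup V] [Module F V] [Module.Finite F V]
    {W : Type w} [AddCommGroup W] [Module F W] [Module.Finite F W]
    (φ : Module.End F V) (ψ : Module.End F W) (hφ : φ.IsSemisimple) (hψ : ψ.IsSemisimple)
    (h : φ.charpoly = ψ.charpoly) : ∃ e : V ≃ₗ[F] W, ∀ v, e (φ v) = ψ (e v) := by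
  haveI : IsSemisimpleModule F[X] (AEval' φ) := hφ
  haveI : IsSemisimpleModule F[X] (AEval' ψ) := hψ
  have h' : (xEnd F (AEval' φ)).charpoly = (xEnd F (AEval' ψ)).charpoly := by
    rw [charpoly_xEnd_AEval, charpoly_xEnd_AEval, h]
  obtain ⟨E⟩ := nonempty_equiv_of_charpoly_eq _ (AEval' φ) (AEval' ψ) rfl h'
  refine ⟨(AEval'.of φ).trans ((E.restrictScalars F).trans (AEval'.of ψ).symm), ?_⟩
  intro v
  show (AEval'.of ψ).symm (E (AEval'.of φ (φ v))) = ψ ((AEval'.of ψ).symm (E (AEval'.of φ v)))
  rw [← AEval'.X_smul_of, map_smul, AEval'.of_symm_X_smul]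

/-- An endomorphism of finite order prime to the characteristic is semisimple. -/
theorem isSemisimple_of_pow_eq_one {V : Type v} [AddCommGroup V] [Module F V] [Module.Finite F V]
    (φ : Module.End F V) (k : ℕ) (hk : (k : F) ≠ 0) (hφ : φ ^ k = 1) : φ.IsSemisimple := by
  have hsep : (X ^ k - 1 : F[X]).Separable := by
    have := Polynomial.separable_X_pow_sub_C (1 : F) hk one_ne_zero
    simpa using this
  apply Module.End.isSemisimple_of_squarefree_aeval_eq_zero hsep.squarefree
  rw [map_sub, map_pow, aeval_X, map_one, hφ, sub_self]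


/-- Elements of `GL_n(F)` of finite order prime to the characteristic, with the same
characteristic polynomial, are conjugate in `GL_n(F)`. -/
theorem isConj_GL_of_charpoly_eq {n : ℕ} (x y : GL (Fin n) F) (k l : ℕ) (hk : (k : F) ≠ 0)
    (hl : (l : F) ≠ 0) (hx : x ^ k = 1) (hy : y ^ l = 1)
    (hc : (x : Matrix (Fin n) (Fin n) F).charpoly = (y : Matrix (Fin n) (Fin n) F).charpoly) :
    IsConj x y := by
  have hpow : ∀ (z : GL (Fin n) F) (j : ℕ), z ^ j = 1 →
      Matrix.toLin' (z : Matrix (Fin n) (Fin n) F) ^ j = 1 := by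
    intro z j hz
    rw [← Matrix.toLin'_pow]
    have : (z : Matrix (Fin n) (Fin n) F) ^ j = 1 := by
      have := congrArg (fun w : GL (Fin n) F => (w : Matrix (Fin n) (Fin n) F)) hz
      simpa using this
    rw [this, Matrix.toLin'_one]
    rfl
  have hsx := isSemisimple_of_pow_eq_one _ k hk (hpow x k hx)
  have hsy := isSemisimple_of_pow_eq_one _ l hl (hpow y l hy)
  have hc' : (Matrix.toLin' (x : Matrix (Fin n) (Fin n) F)).charpoly
      = (Matrix.toLin' (y : Matrix (Fin n) (Fin n) F)).charpoly := by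
    rw [Matrix.charpoly_toLin', Matrix.charpoly_toLin', hc]
  obtain ⟨e, he⟩ := exists_equiv_of_charpoly_eq _ _ hsx hsy hc'
  apply Cfsg.Agent.Helper43.isConj_of_linearEquiv x y e
  intro v
  rw [map_sub, map_sub, Matrix.toLin'_one, LinearMap.sub_apply, LinearMap.sub_apply, map_sub, he]
  rfl

end Cfsg.Agent.Helper43.SS
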