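import Mathlib

set_option autoImplicit false

namespace Cfsg.Agent.Helper43.SpSS

open Polynomial Module

variable {F : Type*} [Field F] {V : Type*} [AddCommGroup V] [Module F V]

/-- `g` preserves the bilinear form `B`. -/
def IsIsom (B : LinearMap.BilinForm F V) (g : Module.End F V) : Prop :=
  ∀ x y, B (g x) (g y) = B x y

variable {B : LinearMap.BilinForm F V} {g : Module.End F V}

theorem IsIsom.pow (h : IsIsom B g) (k : ℕ) : IsIsom B (g ^ k) := by
  induction k with
  | zero => intro x y; simp
  | succ k ih =>
    intro x y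
    rw [pow_succ, Module.End.mul_apply, Module.End.mul_apply, ih, h]

theorem IsIsom.injective (h : IsIsom B g) (hB : B.Nondegenerate) : Function.Injective g := by
  rw [← LinearMap.ker_eq_bot, LinearMap.ker_eq_bot']
  intro x hx
  apply hB.1
  intro y
  rw [← h, hx, map_zero, LinearMap.zero_apply]

theorem IsIsom.surjective [FiniteDimensional F V] (h : IsIsom B g) (hB : B.Nondegenerate) :
    Function.Surjective g :=
  LinearMap.injective_iff_surjective.mp (h.injective hB)

theorem IsIsom.pow_surjective [FiniteDimensional F V] (h : IsIsom B g) (hB : B.Nondegenerate)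
    (k : ℕ) : Function.Surjective (g ^ k) := (h.pow k).surjective hB

/-- The reversed polynomial with respect to the degree bound `N`. -/
noncomputable def rev (N : ℕ) (p : F[X]) : F[X] :=
  ∑ i ∈ Finset.range (N + 1), C (p.coeff i) * X ^ (N - i)

theorem aeval_rev (g : Module.End F V) (N : ℕ) (p : F[X]) :
    aeval g (rev N p) = ∑ i ∈ Finset.range (N + 1), p.coeff i • g ^ (N - i) := by
  unfold rev
  rw [map_sum]
  apply Finset.sum_congr rfl
  intro i _
  rw [map_mul, aeval_C, map_pow, aeval_X, Algebra.algebraMap_eq_smul_one, smul_mul_assoc, one_mul]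

/-- The adjunction formula for polynomials in an isometry. -/
theorem IsIsom.adj (h : IsIsom B g) (p : F[X]) (N : ℕ) (hN : p.natDegree ≤ N) (x y : V) :
    B (aeval g p x) ((g ^ N) y) = B x (aeval g (rev N p) y) := by
  rw [aeval_eq_sum_range' (Nat.lt_succ_of_le hN), aeval_rev]
  simp only [LinearMap.sum_apply, map_sum, LinearMap.smul_apply, map_smul]
  apply Finset.sum_congr rfl
  intro i hi
  have hi' : i ≤ N := Nat.lt_succ_iff.mp (Finset.mem_range.mp hi)
  congr 1
  have : (g ^ N) y = (g ^ i) ((g ^ (N - i)) y) := by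
    rw [← Module.End.mul_apply, ← pow_add, Nat.add_sub_cancel' hi']
  rw [this, h.pow i]

theorem coeff_rev (N : ℕ) (p : F[X]) (k : ℕ) (hk : k ≤ N) :
    (rev N p).coeff k = p.coeff (N - k) := by
  unfold rev
  rw [finset_sum_coeff]
  simp only [coeff_C_mul, coeff_X_pow]
  rw [Finset.sum_eq_single (N - k)]
  · rw [if_pos (by omega), mul_one]
  · intro i hi hne
    have hi' : i ≤ N := Nat.lt_succ_iff.mp (Finset.mem_range.mp hi)
    rw [if_neg (by omega), mul_zero]
  · intro hnot
    exact absurd (Finset.mem_range.mpr (by omega)) hnot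

theorem natDegree_rev_le (N : ℕ) (p : F[X]) : (rev N p).natDegree ≤ N := by
  unfold rev
  apply natDegree_sum_le_of_forall_le
  intro i _
  calc (C (p.coeff i) * X ^ (N - i)).natDegree ≤ (X ^ (N - i) : F[X]).natDegree :=
        natDegree_C_mul_le _ _
    _ ≤ N - i := natDegree_X_pow_le _
    _ ≤ N := Nat.sub_le _ _

/-- Orthogonality of kernels: `ker p(g) ⊥ ker r(g)` when `rev p` is coprime to `r`. -/
theorem IsIsom.orth_of_coprime (h : IsIsom B g) {p r : F[X]} {N : ℕ} (hN : p.natDegree ≤ N)
    (hco : IsCoprime (rev N p) r) {x y : V} (hx : aeval g p x = 0) (hy : aeval g r y = 0) :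
    B x y = 0 := by
  obtain ⟨a, b, hab⟩ := hco
  have h1 : y = aeval g (rev N p) (aeval g a y) := by
    have := congrArg (fun q : F[X] => aeval g q y) hab
    simp only [map_add, map_mul, map_one, LinearMap.add_apply, Module.End.mul_apply,
      Module.End.one_apply] at this
    rw [hy, map_zero, add_zero] at this
    rw [← Module.End.mul_apply, ← map_mul, mul_comm, map_mul, Module.End.mul_apply]
    exact this.symm
  rw [h1, ← h.adj p N hN, hx, map_zero, LinearMap.zero_apply]

end Cfsg.Agent.Helper43.SpSS
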