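import Mathlib
import Cfsg.Agent.Helper43.SpSSA

set_option autoImplicit false

namespace Cfsg.Agent.Helper43.SpSS

open Polynomial Module

universe u v

variable {F : Type u} [Field F] {V : Type v} [AddCommGroup V] [Module F V] [FiniteDimensional F V]

/-- Standing data: a nondegenerate alternating form with a semisimple isometry. -/
structure SympData (B : LinearMap.BilinForm F V) (g : Module.End F V) : Prop where
  alt : B.IsAlt
  nondeg : B.Nondegenerate
  isom : IsIsom B g
  ss : g.IsSemisimple

variable {B : LinearMap.BilinForm F V} {g : Module.End F V}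

/-- Restriction of an endomorphism to an invariant submodule. -/
abbrev rst (g : Module.End F V) {W : Submodule F V} (hW : W ∈ g.invtSubmodule) : Module.End F W :=
  LinearMap.restrict g hW

theorem restrict_apply' (W : Submodule F V) (x y : W) : B.restrict W x y = B x y := rfl

theorem SympData.refl (h : SympData B g) : B.IsRefl := h.alt.isRefl

theorem SympData.skew (h : SympData B g) (x y : V) : B x y = -B y x := (h.alt.neg_eq y x).symm

/-- `g` maps an invariant subspace onto itself. -/
theorem SympData.exists_preimage (h : SympData B g) {W : Submodule F V}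
    (hW : W ∈ g.invtSubmodule) (x : W) : ∃ y : W, g y = x := by
  have hinj : Function.Injective (g.restrict hW) := by
    intro a b hab
    apply Subtype.ext
    apply h.isom.injective h.nondeg
    exact congrArg Subtype.val hab
  obtain ⟨y, hy⟩ := (LinearMap.injective_iff_surjective.mp hinj) x
  exact ⟨y, congrArg Subtype.val hy⟩

theorem SympData.orthogonal_mem (h : SympData B g) {W : Submodule F V}
    (hW : W ∈ g.invtSubmodule) : B.orthogonal W ∈ g.invtSubmodule := by
  rw [Module.End.mem_invtSubmodule]
  intro m hm
  rw [Submodule.mem_comap, LinearMap.BilinForm.mem_orthogonal_iff]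
  intro n hn
  obtain ⟨n', hn'⟩ := h.exists_preimage hW ⟨n, hn⟩
  have : n = g n' := hn'.symm
  rw [this, h.isom]
  exact hm n' n'.2

/-- The restricted data on an invariant subspace on which the form is nondegenerate. -/
theorem SympData.restrict (h : SympData B g) {W : Submodule F V} (hW : W ∈ g.invtSubmodule)
    (hWn : (B.restrict W).Nondegenerate) : SympData (B.restrict W) (g.restrict hW) where
  alt := fun x => h.alt x
  nondeg := hWn
  isom := fun x y => h.isom x y
  ss := h.ss.restrict hW

theorem SympData.orthogonal_nondeg (h : SympData B g) {W : Submodule F V}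
    (hWn : (B.restrict W).Nondegenerate) : (B.restrict (B.orthogonal W)).Nondegenerate := by
  rw [LinearMap.BilinForm.restrict_nondegenerate_iff_isCompl_orthogonal h.refl,
    LinearMap.BilinForm.orthogonal_orthogonal h.nondeg h.refl]
  exact (LinearMap.BilinForm.isCompl_orthogonal_of_restrict_nondegenerate h.refl hWn).symm

/-- Characteristic polynomials multiply over invariant complements. -/
theorem charpoly_of_isCompl (g : Module.End F V) {W R : Submodule F V} (hW : W ∈ g.invtSubmodule)
    (hR : R ∈ g.invtSubmodule) (hc : IsCompl W R) :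
    g.charpoly = (g.restrict hW).charpoly * (g.restrict hR).charpoly := by
  rw [← LinearMap.charpoly_prodMap, ← LinearEquiv.charpoly_conj (Submodule.prodEquivOfIsCompl W R hc)]
  congr 1
  apply LinearMap.ext
  intro x
  obtain ⟨⟨w, r⟩, rfl⟩ := (Submodule.prodEquivOfIsCompl W R hc).surjective x
  rw [LinearEquiv.conj_apply_apply, LinearEquiv.symm_apply_apply]
  simp only [LinearMap.prodMap_apply, Submodule.coe_prodEquivOfIsCompl', map_add]
  rfl

variable {V' : Type v} [AddCommGroup V'] [Module F V'] [FiniteDimensional F V']
  {B' : LinearMap.BilinForm F V'} {g' : Module.End F V'}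

/-- An equivariant isometry. -/
structure IsEquivIsom (B : LinearMap.BilinForm F V) (g : Module.End F V)
    (B' : LinearMap.BilinForm F V') (g' : Module.End F V') (s : V ≃ₗ[F] V') : Prop where
  isom : ∀ x y, B' (s x) (s y) = B x y
  equiv : ∀ x, s (g x) = g' (s x)

theorem IsEquivIsom.charpoly_eq {s : V ≃ₗ[F] V'} (hs : IsEquivIsom B g B' g' s) :
    g.charpoly = g'.charpoly := by
  rw [← LinearEquiv.charpoly_conj s g]
  congr 1
  apply LinearMap.ext
  intro x
  rw [LinearEquiv.conj_apply_apply, hs.equiv, LinearEquiv.apply_symm_apply]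

/-- Gluing equivariant isometries along an orthogonal decomposition. -/
theorem glue (h : SympData B g) (h' : SympData B' g') {W : Submodule F V} {W' : Submodule F V'}
    (hW : W ∈ g.invtSubmodule) (hW' : W' ∈ g'.invtSubmodule)
    (hWn : (B.restrict W).Nondegenerate) (hWn' : (B'.restrict W').Nondegenerate)
    (t : W ≃ₗ[F] W')
    (ht : IsEquivIsom (B.restrict W) (g.restrict hW) (B'.restrict W') (g'.restrict hW') t)
    (s₁ : B.orthogonal W ≃ₗ[F] B'.orthogonal W')
    (hs₁ : IsEquivIsom (B.restrict (B.orthogonal W)) (g.restrict (h.orthogonal_mem hW))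
      (B'.restrict (B'.orthogonal W')) (g'.restrict (h'.orthogonal_mem hW')) s₁) :
    ∃ s : V ≃ₗ[F] V', IsEquivIsom B g B' g' s := by
  have hc := LinearMap.BilinForm.isCompl_orthogonal_of_restrict_nondegenerate h.refl hWn
  have hc' := LinearMap.BilinForm.isCompl_orthogonal_of_restrict_nondegenerate h'.refl hWn'
  let e := Submodule.prodEquivOfIsCompl W (B.orthogonal W) hc
  let e' := Submodule.prodEquivOfIsCompl W' (B'.orthogonal W') hc'
  let s : V ≃ₗ[F] V' := e.symm ≪≫ₗ (t.prodCongr s₁) ≪≫ₗ e'
  have hs : ∀ (w : W) (r : B.orthogonal W), s ((w : V) + (r : V)) = (t w : V') + (s₁ r : V') := by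
    intro w r
    have : (w : V) + (r : V) = e (w, r) := rfl
    rw [this]
    show e' ((t.prodCongr s₁) (e.symm (e (w, r)))) = _
    rw [LinearEquiv.symm_apply_apply]
    rfl
  have hdec : ∀ x : V, ∃ (w : W) (r : B.orthogonal W), x = (w : V) + (r : V) := by
    intro x
    obtain ⟨⟨w, r⟩, rfl⟩ := e.surjective x
    exact ⟨w, r, rfl⟩
  have horth : ∀ (w : W) (r : B.orthogonal W), B w r = 0 := fun w r => r.2 w w.2
  have horth2 : ∀ (w : W) (r : B.orthogonal W), B r w = 0 := fun w r => h.refl _ _ (horth w r)
  have horth' : ∀ (w : W') (r : B'.orthogonal W'), B' w r = 0 := fun w r => r.2 w w.2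
  have horth2' : ∀ (w : W') (r : B'.orthogonal W'), B' r w = 0 :=
    fun w r => h'.refl _ _ (horth' w r)
  refine ⟨s, ⟨?_, ?_⟩⟩
  · intro x y
    obtain ⟨w, r, rfl⟩ := hdec x
    obtain ⟨w2, r2, rfl⟩ := hdec y
    rw [hs, hs]
    simp only [map_add, LinearMap.add_apply]
    rw [horth', horth2', horth, horth2]
    have h1 := ht.isom w w2
    have h2 := hs₁.isom r r2
    rw [restrict_apply', restrict_apply'] at h1 h2
    rw [h1, h2]
  · intro x
    obtain ⟨w, r, rfl⟩ := hdec x
    have hR := h.orthogonal_mem hW
    have hR' := h'.orthogonal_mem hW'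
    calc s (g ((w : V) + (r : V)))
        = s (((g.restrict hW w : W) : V) +
            ((LinearMap.restrict g (p := B.orthogonal W) (q := B.orthogonal W) hR r :
              B.orthogonal W) : V)) := by
          rw [map_add]; rfl
      _ = (t (g.restrict hW w) : V') +
            (s₁ (LinearMap.restrict g (p := B.orthogonal W) (q := B.orthogonal W) hR r) : V') :=
          hs _ _
      _ = ((g'.restrict hW' (t w) : W') : V') +
            ((LinearMap.restrict g' (p := B'.orthogonal W') (q := B'.orthogonal W') hR' (s₁ r) :
              B'.orthogonal W') : V') := by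
          rw [ht.equiv, hs₁.equiv]
      _ = g' ((t w : V') + (s₁ r : V')) := by
          rw [map_add]; rfl
      _ = g' (s ((w : V) + (r : V))) := by rw [hs]

end Cfsg.Agent.Helper43.SpSS
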