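import Mathlib
import Cfsg.Agent.Helper43.SpSSB

set_option autoImplicit false

namespace Cfsg.Agent.Helper43.SpSS

open Polynomial Module

universe u v

variable {F : Type u} [Field F] {V : Type v} [AddCommGroup V] [Module F V] [FiniteDimensional F V]
variable {B : LinearMap.BilinForm F V} {g : Module.End F V}

theorem SympData.nondeg_restrict_of (h : SympData B g) (W : Submodule F V)
    (hW : ∀ x ∈ W, (∀ y ∈ W, B x y = 0) → x = 0) : (B.restrict W).Nondegenerate := by
  have hrefl : (B.restrict W).IsRefl := fun x y hxy => h.refl _ _ hxy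
  refine (LinearMap.IsRefl.nondegenerate_iff_separatingLeft hrefl).mpr ?_
  intro x hx
  apply Subtype.ext
  exact hW x x.2 (fun y hy => hx ⟨y, hy⟩)

/-- A pair of totally isotropic invariant subspaces in perfect duality. -/
structure HypPair (B : LinearMap.BilinForm F V) (g : Module.End F V) (K1 K2 : Submodule F V) :
    Prop where
  inv1 : K1 ∈ g.invtSubmodule
  inv2 : K2 ∈ g.invtSubmodule
  iso1 : ∀ x ∈ K1, ∀ y ∈ K1, B x y = 0
  iso2 : ∀ x ∈ K2, ∀ y ∈ K2, B x y = 0
  left : ∀ x ∈ K1, (∀ y ∈ K2, B x y = 0) → x = 0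
  right : ∀ y ∈ K2, (∀ x ∈ K1, B x y = 0) → y = 0

section pair

variable {K1 K2 : Submodule F V}

/-- The pairing map `K2 → K1*`. -/
def pairMap (B : LinearMap.BilinForm F V) (K1 K2 : Submodule F V) : K2 →ₗ[F] Dual F K1 :=
  LinearMap.domRestrict₁₂ B.flip K2 K1

theorem pairMap_apply (y : K2) (x : K1) : pairMap B K1 K2 y x = B x y := rfl

theorem HypPair.pairMap_injective (hp : HypPair B g K1 K2) :
    Function.Injective (pairMap B K1 K2) := by
  rw [← LinearMap.ker_eq_bot, LinearMap.ker_eq_bot']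
  intro y hy
  apply Subtype.ext
  apply hp.right y y.2
  intro x hx
  have := LinearMap.congr_fun hy ⟨x, hx⟩
  exact this

theorem HypPair.finrank_eq (hp : HypPair B g K1 K2) : finrank F K2 = finrank F K1 := by
  apply le_antisymm
  · have := LinearMap.finrank_le_finrank_of_injective hp.pairMap_injective
    rwa [Subspace.dual_finrank_eq] at this
  · have hinj : Function.Injective (LinearMap.domRestrict₁₂ B K1 K2) := by
      rw [← LinearMap.ker_eq_bot, LinearMap.ker_eq_bot']
      intro x hx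
      apply Subtype.ext
      apply hp.left x x.2
      intro y hy
      have := LinearMap.congr_fun hx ⟨y, hy⟩
      exact this
    have := LinearMap.finrank_le_finrank_of_injective hinj
    rwa [Subspace.dual_finrank_eq] at this

/-- The pairing equivalence `K2 ≃ K1*`. -/
noncomputable def HypPair.pairEquiv (hp : HypPair B g K1 K2) : K2 ≃ₗ[F] Dual F K1 :=
  LinearEquiv.ofBijective (pairMap B K1 K2) ⟨hp.pairMap_injective, by
    rw [← LinearMap.injective_iff_surjective_of_finrank_eq_finrank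
      (by rw [Subspace.dual_finrank_eq, hp.finrank_eq])]
    exact hp.pairMap_injective⟩

theorem HypPair.pairEquiv_apply (hp : HypPair B g K1 K2) (y : K2) (x : K1) :
    hp.pairEquiv y x = B x y := rfl

/-- The sum map `K1 × K2 → V`. -/
def sumMap (K1 K2 : Submodule F V) : (K1 × K2) →ₗ[F] V := K1.subtype.coprod K2.subtype

theorem sumMap_apply (x : K1) (y : K2) : sumMap K1 K2 (x, y) = (x : V) + (y : V) := by
  simp [sumMap]

theorem HypPair.sumMap_injective (hp : HypPair B g K1 K2) : Function.Injective (sumMap K1 K2) := by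
  rw [← LinearMap.ker_eq_bot, LinearMap.ker_eq_bot']
  rintro ⟨x, y⟩ hxy
  rw [sumMap_apply] at hxy
  have hx : (x : V) = -(y : V) := eq_neg_of_add_eq_zero_left hxy
  have hx0 : (x : V) = 0 := by
    apply hp.left x x.2
    intro z hz
    rw [hx, map_neg, LinearMap.neg_apply, hp.iso2 y y.2 z hz, neg_zero]
  have hy0 : (y : V) = 0 := by
    rw [hx0] at hx
    exact neg_eq_zero.mp hx.symm
  exact Prod.ext (Subtype.ext hx0) (Subtype.ext hy0)

theorem HypPair.range_mem (hp : HypPair B g K1 K2) :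
    LinearMap.range (sumMap K1 K2) ∈ g.invtSubmodule := by
  rw [Module.End.mem_invtSubmodule]
  rintro _ ⟨⟨x, y⟩, rfl⟩
  rw [Submodule.mem_comap, sumMap_apply, map_add]
  exact ⟨(⟨g x, hp.inv1 x.2⟩, ⟨g y, hp.inv2 y.2⟩), by rw [sumMap_apply]⟩

theorem HypPair.form_sum (hp : HypPair B g K1 K2) (h : SympData B g) (x x2 : K1) (y y2 : K2) :
    B ((x : V) + (y : V)) ((x2 : V) + (y2 : V)) = B x y2 - B x2 y := by
  simp only [map_add, LinearMap.add_apply]
  rw [hp.iso1 x x.2 x2 x2.2, hp.iso2 y y.2 y2 y2.2, h.skew (y : V) (x2 : V)]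
  ring

theorem HypPair.range_nondeg (hp : HypPair B g K1 K2) (h : SympData B g) :
    (B.restrict (LinearMap.range (sumMap K1 K2))).Nondegenerate := by
  apply h.nondeg_restrict_of
  rintro _ ⟨⟨x, y⟩, rfl⟩ hw
  rw [sumMap_apply] at hw ⊢
  have hx : (x : V) = 0 := by
    apply hp.left x x.2
    intro z hz
    have := hw ((0 : K1) + z) ⟨(0, ⟨z, hz⟩), by rw [sumMap_apply]⟩
    have h2 := hp.form_sum h x 0 y ⟨z, hz⟩
    simp only [ZeroMemClass.coe_zero, zero_add, map_zero, LinearMap.zero_apply, sub_zero] at h2 this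
    rw [← h2]
    exact this
  have hy : (y : V) = 0 := by
    apply hp.right y y.2
    intro z hz
    have := hw (z + (0 : K2)) ⟨(⟨z, hz⟩, 0), by rw [sumMap_apply]⟩
    have h2 := hp.form_sum h x ⟨z, hz⟩ y 0
    simp only [ZeroMemClass.coe_zero, add_zero, map_zero, zero_sub] at h2 this
    rw [h2] at this
    exact neg_eq_zero.mp this
  rw [hx, hy, add_zero]

end pair

section glue

variable {V' : Type v} [AddCommGroup V'] [Module F V'] [FiniteDimensional F V']
  {B' : LinearMap.BilinForm F V'} {g' : Module.End F V'}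
variable {K1 K2 : Submodule F V} {K1' K2' : Submodule F V'}

/-- The dual of an equivariant isomorphism, through the pairings. -/
noncomputable def dualEquiv (hp : HypPair B g K1 K2) (hp' : HypPair B' g' K1' K2')
    (t1 : K1 ≃ₗ[F] K1') : K2 ≃ₗ[F] K2' :=
  hp.pairEquiv ≪≫ₗ t1.symm.dualMap ≪≫ₗ hp'.pairEquiv.symm

theorem dualEquiv_spec (hp : HypPair B g K1 K2) (hp' : HypPair B' g' K1' K2')
    (t1 : K1 ≃ₗ[F] K1') (x : K1) (y : K2) :
    B' (t1 x : V') (dualEquiv hp hp' t1 y : V') = B x y := by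
  have h1 : hp'.pairEquiv (dualEquiv hp hp' t1 y) = t1.symm.dualMap (hp.pairEquiv y) := by
    unfold dualEquiv
    simp only [LinearEquiv.trans_apply, LinearEquiv.apply_symm_apply]
  have h2 := LinearMap.congr_fun h1 (t1 x)
  rw [hp'.pairEquiv_apply, LinearEquiv.dualMap_apply, LinearEquiv.symm_apply_apply,
    hp.pairEquiv_apply] at h2
  exact h2

theorem dualEquiv_equivariant (h : SympData B g) (h' : SympData B' g')
    (hp : HypPair B g K1 K2) (hp' : HypPair B' g' K1' K2')
    (t1 : K1 ≃ₗ[F] K1') (ht1 : ∀ x, t1 (g.restrict hp.inv1 x) = g'.restrict hp'.inv1 (t1 x))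
    (y : K2) :
    dualEquiv hp hp' t1 (g.restrict hp.inv2 y) = g'.restrict hp'.inv2 (dualEquiv hp hp' t1 y) := by
  apply hp'.pairMap_injective
  apply LinearMap.ext
  intro x'
  rw [pairMap_apply, pairMap_apply]
  obtain ⟨x'', hx''⟩ := h'.exists_preimage hp'.inv1 x'
  obtain ⟨z, rfl⟩ := t1.surjective x''
  have hx' : x' = t1 (g.restrict hp.inv1 z) := by
    rw [ht1]
    apply Subtype.ext
    exact hx''.symm
  rw [hx', dualEquiv_spec]
  have e1 : ((g.restrict hp.inv1 z : K1) : V) = g z := rfl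
  have e2 : ((g.restrict hp.inv2 y : K2) : V) = g y := rfl
  have e3 : ((g'.restrict hp'.inv2 (dualEquiv hp hp' t1 y) : K2') : V')
      = g' (dualEquiv hp hp' t1 y : V') := rfl
  have e4 : ((t1 (g.restrict hp.inv1 z) : K1') : V') = g' (t1 z : V') := by
    rw [ht1]; rfl
  rw [e1, e2, e3, e4, h.isom, h'.isom, dualEquiv_spec]

/-- The equivariant isometry on the sum of a hyperbolic pair. -/
theorem exists_equivIsom_of_hypPair (h : SympData B g) (h' : SympData B' g')
    (hp : HypPair B g K1 K2) (hp' : HypPair B' g' K1' K2')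
    (t1 : K1 ≃ₗ[F] K1') (ht1 : ∀ x, t1 (g.restrict hp.inv1 x) = g'.restrict hp'.inv1 (t1 x)) :
    ∃ t : LinearMap.range (sumMap K1 K2) ≃ₗ[F] LinearMap.range (sumMap K1' K2'),
      IsEquivIsom (B.restrict (LinearMap.range (sumMap K1 K2))) (g.restrict hp.range_mem)
        (B'.restrict (LinearMap.range (sumMap K1' K2'))) (g'.restrict hp'.range_mem) t := by
  let e := LinearEquiv.ofInjective (sumMap K1 K2) hp.sumMap_injective
  let e' := LinearEquiv.ofInjective (sumMap K1' K2') hp'.sumMap_injective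
  let t2 := dualEquiv hp hp' t1
  let t : LinearMap.range (sumMap K1 K2) ≃ₗ[F] LinearMap.range (sumMap K1' K2') :=
    e.symm ≪≫ₗ (t1.prodCongr t2) ≪≫ₗ e'
  have hdec : ∀ w : LinearMap.range (sumMap K1 K2), ∃ (x : K1) (y : K2), w = e (x, y) := by
    intro w
    obtain ⟨⟨x, y⟩, rfl⟩ := e.surjective w
    exact ⟨x, y, rfl⟩
  have hte : ∀ (x : K1) (y : K2), t (e (x, y)) = e' (t1 x, t2 y) := by
    intro x y
    show e' ((t1.prodCongr t2) (e.symm (e (x, y)))) = _
    rw [LinearEquiv.symm_apply_apply]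
    rfl
  have hev : ∀ (x : K1) (y : K2), ((e (x, y) : LinearMap.range (sumMap K1 K2)) : V)
      = (x : V) + (y : V) := fun x y => sumMap_apply x y
  have hev' : ∀ (x : K1') (y : K2'), ((e' (x, y) : LinearMap.range (sumMap K1' K2')) : V')
      = (x : V') + (y : V') := fun x y => sumMap_apply x y
  refine ⟨t, ⟨?_, ?_⟩⟩
  · intro w w2
    obtain ⟨x, y, rfl⟩ := hdec w
    obtain ⟨x2, y2, rfl⟩ := hdec w2
    rw [hte, hte, restrict_apply', restrict_apply', hev, hev, hev', hev', hp.form_sum h,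
      hp'.form_sum h', dualEquiv_spec, dualEquiv_spec]
  · intro w
    obtain ⟨x, y, rfl⟩ := hdec w
    have h1 : rst g hp.range_mem (e (x, y))
        = e (g.restrict hp.inv1 x, g.restrict hp.inv2 y) := by
      apply Subtype.ext
      rw [hev]
      show g ((e (x, y) : LinearMap.range (sumMap K1 K2)) : V) = _
      rw [hev, map_add]
      rfl
    have h2 : rst g' hp'.range_mem (e' (t1 x, t2 y))
        = e' (g'.restrict hp'.inv1 (t1 x), g'.restrict hp'.inv2 (t2 y)) := by
      apply Subtype.ext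
      rw [hev']
      show g' ((e' (t1 x, t2 y) : LinearMap.range (sumMap K1' K2')) : V') = _
      rw [hev', map_add]
      rfl
    rw [h1, hte, hte, h2, ht1, dualEquiv_equivariant h h' hp hp' t1 ht1]

end glue

end Cfsg.Agent.Helper43.SpSS
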