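import Mathlib
import Cfsg.Agent.Helper43.SpSSB

set_option autoImplicit false

namespace Cfsg.Agent.Helper43.SpSS

open Polynomial Module
open scoped IsMulCommutative

section norm

/-- Norm surjectivity for a finite field with an involution. -/
theorem exists_norm_field {F : Type*} [Field F] [Fintype F] {A : Type*} [Field A] [Fintype A]
    [Algebra F A] (σ : A ≃ₐ[F] A) (hσ2 : ∀ x, σ (σ x) = x) (hσ : ∃ x, σ x ≠ x)
    {b : A} (hb : σ b = b) (hb0 : b ≠ 0) : ∃ a : A, a * σ a = b := by
  classical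
  set q := Fintype.card F with hq
  set n := finrank F A with hn
  obtain ⟨k, hk⟩ := (FiniteField.bijective_frobeniusAlgEquivOfAlgebraic_pow F A).2 σ
  have hk' : ∀ x : A, σ x = x ^ (q ^ (k : ℕ)) := by
    intro x
    rw [← hk]
    show ((FiniteField.frobeniusAlgEquivOfAlgebraic F A) ^ (k : ℕ)) x = _
    rw [AlgEquiv.coe_pow, FiniteField.coe_frobeniusAlgEquivOfAlgebraic, pow_iterate]
  set Q := q ^ (k : ℕ) with hQ
  have hq1 : 1 < q := Fintype.one_lt_card
  have hk0 : (k : ℕ) ≠ 0 := by
    intro h0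
    obtain ⟨x, hx⟩ := hσ
    apply hx
    rw [hk', hQ, h0, pow_zero, pow_one]
  have hQ1 : 1 < Q := Nat.one_lt_pow hk0 hq1
  have h2k : 2 * (k : ℕ) = n := by
    have hpow : (FiniteField.frobeniusAlgEquivOfAlgebraic F A) ^ (2 * (k : ℕ)) = 1 := by
      apply AlgEquiv.ext
      intro x
      rw [two_mul, pow_add, AlgEquiv.mul_apply]
      have : ((FiniteField.frobeniusAlgEquivOfAlgebraic F A) ^ (k : ℕ)) = σ := hk
      rw [this, hσ2]
      rfl
    have hdvd := orderOf_dvd_of_pow_eq_one hpow
    rw [FiniteField.orderOf_frobeniusAlgEquivOfAlgebraic] at hdvd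
    obtain ⟨c, hc⟩ := hdvd
    have hkn : (k : ℕ) < n := k.2
    have hc1 : c = 1 := by
      rcases c with _ | _ | c
      · omega
      · rfl
      · exfalso
        have : n * 2 ≤ 2 * (k : ℕ) := by
          rw [hc]
          exact Nat.mul_le_mul_left _ (by omega)
        omega
    rw [hc1, mul_one] at hc
    exact hc
  have hcardA : Fintype.card A = Q * Q := by
    rw [Module.card_eq_pow_finrank (K := F) (V := A), ← hn, ← h2k, hQ, ← pow_add, two_mul]
  obtain ⟨ζ, hζ⟩ := IsCyclic.exists_generator (α := Aˣ)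
  have hord : orderOf ζ = Q * Q - 1 := by
    rw [orderOf_eq_card_of_forall_mem_zpowers hζ, Nat.card_eq_fintype_card, Fintype.card_units,
      hcardA]
  set bu : Aˣ := Units.mk0 b hb0 with hbu
  obtain ⟨j, hj⟩ : ∃ j : ℕ, ζ ^ j = bu := by
    have := hζ bu
    rw [← mem_powers_iff_mem_zpowers] at this
    exact this
  have hbQ : bu ^ Q = bu := by
    apply Units.ext
    rw [Units.val_pow_eq_pow_val, hbu, Units.val_mk0, ← hk', hb]
  have h1 : ζ ^ (j * (Q - 1)) = 1 := by
    rw [pow_mul, hj]
    have : bu ^ (Q - 1) * bu = bu := by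
      rw [← pow_succ, Nat.sub_add_cancel hQ1.le, hbQ]
    exact mul_right_cancel (b := bu) (by rw [this, one_mul])
  have h2 : (Q * Q - 1) ∣ j * (Q - 1) := by
    rw [← hord]
    exact orderOf_dvd_of_pow_eq_one h1
  have h3 : Q * Q - 1 = (Q + 1) * (Q - 1) := by
    obtain ⟨r, hr⟩ : ∃ r, Q = r + 1 := ⟨Q - 1, by omega⟩
    rw [hr]
    simp only [Nat.add_sub_cancel]
    ring_nf
    omega
  rw [h3] at h2
  have h4 : (Q + 1) ∣ j := Nat.dvd_of_mul_dvd_mul_right (by omega) h2
  obtain ⟨i, hi⟩ := h4
  refine ⟨((ζ ^ i : Aˣ) : A), ?_⟩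
  rw [hk', ← pow_succ']
  have : ((ζ ^ i : Aˣ) : A) ^ (Q + 1) = ((ζ ^ j : Aˣ) : A) := by
    rw [hi, ← Units.val_pow_eq_pow_val, ← pow_mul, mul_comm]
  rw [this, hj, hbu, Units.val_mk0]

theorem exists_norm_isField {F : Type*} [Field F] [Fintype F] {A : Type*} [CommRing A] [Finite A]
    [Algebra F A] (hA : IsField A) (σ : A ≃ₐ[F] A) (hσ2 : ∀ x, σ (σ x) = x) (hσ : ∃ x, σ x ≠ x)
    {b : A} (hb : σ b = b) (hb0 : b ≠ 0) : ∃ a : A, a * σ a = b := by
  let _ := hA.toField
  have := Fintype.ofFinite A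
  exact exists_norm_field σ hσ2 hσ hb hb0

end norm

section adjoint

variable {F : Type*} [Field F] {V : Type*} [AddCommGroup V] [Module F V] [FiniteDimensional F V]
variable {B : LinearMap.BilinForm F V}

/-- The adjoint with respect to a nondegenerate form. -/
noncomputable def adjE (hB : B.Nondegenerate) (c : Module.End F V) : Module.End F V :=
  B.leftAdjointOfNondegenerate hB c

theorem adjE_spec (hB : B.Nondegenerate) (c : Module.End F V) (x y : V) :
    B (adjE hB c x) y = B x (c y) :=
  B.isAdjointPairLeftAdjointOfNondegenerate hB c x y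

theorem adjE_unique (hB : B.Nondegenerate) {c d : Module.End F V}
    (h : ∀ x y, B (d x) y = B x (c y)) : d = adjE hB c := by
  apply LinearMap.ext
  intro x
  rw [← sub_eq_zero]
  apply hB.1
  intro y
  rw [map_sub, LinearMap.sub_apply, h, adjE_spec, sub_self]

theorem adjE_mul (hB : B.Nondegenerate) (c d : Module.End F V) :
    adjE hB (c * d) = adjE hB d * adjE hB c := by
  symm
  apply adjE_unique
  intro x y
  rw [Module.End.mul_apply, adjE_spec, adjE_spec, Module.End.mul_apply]

theorem adjE_add (hB : B.Nondegenerate) (c d : Module.End F V) :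
    adjE hB (c + d) = adjE hB c + adjE hB d := by
  symm
  apply adjE_unique
  intro x y
  rw [LinearMap.add_apply, map_add, LinearMap.add_apply, adjE_spec, adjE_spec, LinearMap.add_apply,
    map_add]

theorem adjE_smul (hB : B.Nondegenerate) (r : F) (c : Module.End F V) :
    adjE hB (r • c) = r • adjE hB c := by
  symm
  apply adjE_unique
  intro x y
  rw [LinearMap.smul_apply, map_smul, LinearMap.smul_apply, adjE_spec, LinearMap.smul_apply, map_smul]

theorem adjE_one (hB : B.Nondegenerate) : adjE hB (1 : Module.End F V) = 1 := by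
  symm
  apply adjE_unique
  intro x y
  rfl

theorem adjE_adjE (hB : B.Nondegenerate) (hskew : ∀ x y, B x y = -B y x) (c : Module.End F V) :
    adjE hB (adjE hB c) = c := by
  symm
  apply adjE_unique
  intro x y
  rw [hskew x (adjE hB c y), adjE_spec, hskew (c x) y]

end adjoint

end Cfsg.Agent.Helper43.SpSS
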