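import Mathlib
import Cfsg.Agent.Helper43.SpSSD

set_option autoImplicit false

namespace Cfsg.Agent.Helper43.SpSS

open Polynomial Module
open scoped IsMulCommutative

section cyc

variable {F : Type*} [Field F] {V : Type*} [AddCommGroup V] [Module F V]
variable {g : Module.End F V} {f : F[X]} {v : V}

/-- `V` is the cyclic module `F[g] v` and `v` is killed by the irreducible polynomial `f`. -/
structure CycIrr (g : Module.End F V) (f : F[X]) (v : V) : Prop where
  irr : Irreducible f
  kill : aeval g f v = 0
  ne : v ≠ 0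
  span : ∀ x, ∃ p : F[X], aeval g p v = x

theorem aeval_comm_apply (g : Module.End F V) (p q : F[X]) (x : V) :
    aeval g p (aeval g q x) = aeval g q (aeval g p x) := by
  rw [← Module.End.mul_apply, ← Module.End.mul_apply, ← map_mul, ← map_mul, mul_comm]

theorem CycIrr.aeval_f (h : CycIrr g f v) : aeval g f = 0 := by
  apply LinearMap.ext
  intro x
  obtain ⟨p, rfl⟩ := h.span x
  rw [aeval_comm_apply, h.kill, map_zero]
  rfl

theorem CycIrr.dvd_of_aeval_apply (h : CycIrr g f v) {p : F[X]} (hp : aeval g p v = 0) : f ∣ p := by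
  by_contra hnd
  obtain ⟨a, b, hab⟩ := (h.irr.coprime_iff_not_dvd).mpr hnd
  have := congrArg (fun q : F[X] => aeval g q v) hab
  simp only [map_add, map_mul, map_one, LinearMap.add_apply, Module.End.mul_apply,
    Module.End.one_apply] at this
  rw [h.kill, hp, map_zero, map_zero, add_zero] at this
  exact h.ne this.symm

theorem CycIrr.aeval_eq_zero_iff (h : CycIrr g f v) {p : F[X]} : aeval g p = 0 ↔ f ∣ p := by
  constructor
  · intro hp
    apply h.dvd_of_aeval_apply
    rw [hp]
    rfl
  · rintro ⟨r, rfl⟩
    rw [map_mul, h.aeval_f, zero_mul]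

theorem commute_aeval {c : Module.End F V} (hc : c * g = g * c) (q : F[X]) :
    c * aeval g q = aeval g q * c :=
  (Algebra.commute_of_mem_adjoin_singleton_of_commute (aeval_mem_adjoin_singleton F g)
    (show Commute c g from hc)).eq

theorem CycIrr.exists_aeval_of_commute (h : CycIrr g f v) {c : Module.End F V}
    (hc : c * g = g * c) : ∃ p : F[X], aeval g p = c := by
  obtain ⟨p, hp⟩ := h.span (c v)
  refine ⟨p, ?_⟩
  apply LinearMap.ext
  intro x
  obtain ⟨q, rfl⟩ := h.span x
  rw [aeval_comm_apply, hp, ← Module.End.mul_apply, ← commute_aeval hc q, Module.End.mul_apply]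

theorem CycIrr.mem_adjoin_iff (h : CycIrr g f v) {c : Module.End F V} :
    c ∈ Algebra.adjoin F {g} ↔ c * g = g * c := by
  constructor
  · intro hc
    exact ((Algebra.commute_of_mem_adjoin_singleton_of_commute hc (Commute.refl g)).eq).symm
  · intro hc
    obtain ⟨p, rfl⟩ := h.exists_aeval_of_commute hc
    exact aeval_mem_adjoin_singleton F g

theorem CycIrr.isField (h : CycIrr g f v) : IsField (Algebra.adjoin F {g}) where
  exists_pair_ne := by
    refine ⟨0, 1, ?_⟩
    intro h01
    have := congrArg (fun a : Algebra.adjoin F {g} => (a : Module.End F V) v) h01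
    simp only [ZeroMemClass.coe_zero, LinearMap.zero_apply, OneMemClass.coe_one,
      Module.End.one_apply] at this
    exact h.ne this.symm
  mul_comm := mul_comm
  mul_inv_cancel := by
    intro a ha
    obtain ⟨p, hp⟩ : ∃ p : F[X], aeval g p = (a : Module.End F V) :=
      h.exists_aeval_of_commute (h.mem_adjoin_iff.mp a.2)
    have hnd : ¬ f ∣ p := by
      intro hd
      apply ha
      apply Subtype.ext
      rw [← hp, h.aeval_eq_zero_iff.mpr hd]
      rfl
    obtain ⟨r, b, hab⟩ := (h.irr.coprime_iff_not_dvd).mpr hnd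
    refine ⟨⟨aeval g b, aeval_mem_adjoin_singleton F g⟩, ?_⟩
    apply Subtype.ext
    have := congrArg (fun q : F[X] => aeval g q) hab
    simp only [map_add, map_mul, map_one] at this
    rw [h.aeval_f, mul_zero, zero_add] at this
    rw [Subalgebra.coe_mul, Subalgebra.coe_one, ← hp]
    show aeval g p * aeval g b = 1
    rw [← map_mul, mul_comm, map_mul]
    exact this

end cyc

section sigma

variable {F : Type*} [Field F] {V : Type*} [AddCommGroup V] [Module F V] [FiniteDimensional F V]
variable {B : LinearMap.BilinForm F V} {g : Module.End F V} {f : F[X]} {v : V}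

theorem SympData.adjE_mul_self (h : SympData B g) : adjE h.nondeg g * g = 1 := by
  apply LinearMap.ext
  intro x
  rw [Module.End.mul_apply, Module.End.one_apply, ← sub_eq_zero]
  apply h.nondeg.1
  intro y
  rw [map_sub, LinearMap.sub_apply, adjE_spec, h.isom, sub_self]

theorem SympData.self_mul_adjE (h : SympData B g) : g * adjE h.nondeg g = 1 := by
  apply LinearMap.ext
  intro x
  obtain ⟨x', rfl⟩ := h.isom.surjective h.nondeg x
  have := LinearMap.congr_fun h.adjE_mul_self x'
  rw [Module.End.mul_apply, Module.End.one_apply] at this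
  rw [Module.End.mul_apply, this, Module.End.one_apply]

theorem SympData.adjE_commute (h : SympData B g) {a : Module.End F V} (ha : a * g = g * a) :
    adjE h.nondeg a * g = g * adjE h.nondeg a := by
  have h1 : adjE h.nondeg g * adjE h.nondeg a = adjE h.nondeg a * adjE h.nondeg g := by
    rw [← adjE_mul, ← adjE_mul, ha]
  calc adjE h.nondeg a * g = (g * adjE h.nondeg g) * adjE h.nondeg a * g := by
        rw [h.self_mul_adjE, one_mul]
    _ = g * (adjE h.nondeg g * adjE h.nondeg a) * g := by simp only [mul_assoc]
    _ = g * (adjE h.nondeg a * adjE h.nondeg g) * g := by rw [h1]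
    _ = g * adjE h.nondeg a * (adjE h.nondeg g * g) := by simp only [mul_assoc]
    _ = g * adjE h.nondeg a := by rw [h.adjE_mul_self, mul_one]

/-- The involution on `F[g]` induced by the adjoint. -/
noncomputable def sigmaE₀ (h : SympData B g) (hc : CycIrr g f v) :
    (Algebra.adjoin F {g}) →ₐ[F] (Algebra.adjoin F {g}) :=
  AlgHom.ofLinearMap
    { toFun := fun a => ⟨adjE h.nondeg (a : Module.End F V),
        hc.mem_adjoin_iff.mpr (h.adjE_commute (hc.mem_adjoin_iff.mp a.2))⟩
      map_add' := fun a b => Subtype.ext (adjE_add _ _ _)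
      map_smul' := fun c a => Subtype.ext (adjE_smul _ _ _) }
    (Subtype.ext (adjE_one _))
    (fun a b => Subtype.ext (by
      show adjE h.nondeg ((a : Module.End F V) * (b : Module.End F V))
        = adjE h.nondeg (a : Module.End F V) * adjE h.nondeg (b : Module.End F V)
      rw [adjE_mul]
      have := mul_comm (⟨adjE h.nondeg (b : Module.End F V),
          hc.mem_adjoin_iff.mpr (h.adjE_commute (hc.mem_adjoin_iff.mp b.2))⟩ : Algebra.adjoin F {g})
        ⟨adjE h.nondeg (a : Module.End F V),
          hc.mem_adjoin_iff.mpr (h.adjE_commute (hc.mem_adjoin_iff.mp a.2))⟩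
      exact congrArg Subtype.val this))

theorem sigmaE₀_coe (h : SympData B g) (hc : CycIrr g f v) (a : Algebra.adjoin F {g}) :
    ((sigmaE₀ h hc a : Algebra.adjoin F {g}) : Module.End F V)
      = adjE h.nondeg (a : Module.End F V) := rfl

noncomputable def sigmaE (h : SympData B g) (hc : CycIrr g f v) :
    (Algebra.adjoin F {g}) ≃ₐ[F] (Algebra.adjoin F {g}) :=
  AlgEquiv.ofAlgHom (sigmaE₀ h hc) (sigmaE₀ h hc)
    (by ext a; simp only [AlgHom.coe_comp, Function.comp_apply, AlgHom.coe_id, id_eq]
        rw [sigmaE₀_coe, sigmaE₀_coe, adjE_adjE h.nondeg h.skew])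
    (by ext a; simp only [AlgHom.coe_comp, Function.comp_apply, AlgHom.coe_id, id_eq]
        rw [sigmaE₀_coe, sigmaE₀_coe, adjE_adjE h.nondeg h.skew])

theorem sigmaE_coe (h : SympData B g) (hc : CycIrr g f v) (a : Algebra.adjoin F {g}) :
    ((sigmaE h hc a : Algebra.adjoin F {g}) : Module.End F V)
      = adjE h.nondeg (a : Module.End F V) := rfl

/-- The involution is nontrivial. -/
theorem sigmaE_ne (h : SympData B g) (hc : CycIrr g f v) :
    ∃ x : Algebra.adjoin F {g}, sigmaE h hc x ≠ x := by
  by_contra hcon
  push Not at hcon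
  have hg : adjE h.nondeg g = g := by
    have := hcon ⟨g, Algebra.self_mem_adjoin_singleton F g⟩
    exact congrArg Subtype.val this
  have hgg : g * g = 1 := by
    have := h.adjE_mul_self
    rwa [hg] at this
  -- `(g - 1) * (g + 1) = 0` in the field `F[g]`
  let γ : Algebra.adjoin F {g} := ⟨g, Algebra.self_mem_adjoin_singleton F g⟩
  have hγ : (γ - 1) * (γ + 1) = 0 := by
    have : γ * γ = 1 := Subtype.ext hgg
    calc (γ - 1) * (γ + 1) = γ * γ - 1 := by ring
      _ = 0 := by rw [this, sub_self]
  let _ := hc.isField.toField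
  have hscal : ∃ r : F, ∀ x, g x = r • x := by
    rcases mul_eq_zero.mp hγ with h1 | h1
    · refine ⟨1, fun x => ?_⟩
      have : γ = 1 := sub_eq_zero.mp h1
      have h2 := congrArg (fun a : Algebra.adjoin F {g} => (a : Module.End F V) x) this
      simpa using h2
    · refine ⟨-1, fun x => ?_⟩
      have : γ = -1 := eq_neg_of_add_eq_zero_left h1
      have h2 := congrArg (fun a : Algebra.adjoin F {g} => (a : Module.End F V) x) this
      simpa using h2
  obtain ⟨r, hr⟩ := hscal
  -- every vector is a multiple of `v`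
  have hmul : ∀ x, ∃ c : F, x = c • v := by
    intro x
    obtain ⟨p, rfl⟩ := hc.span x
    refine ⟨p.eval r, ?_⟩
    have hgr : g = r • (1 : Module.End F V) := by
      apply LinearMap.ext
      intro x
      rw [hr, LinearMap.smul_apply, Module.End.one_apply]
    rw [hgr]
    have : aeval (r • (1 : Module.End F V)) p = (p.eval r) • (1 : Module.End F V) := by
      rw [← Algebra.algebraMap_eq_smul_one, aeval_algebraMap_apply, Algebra.algebraMap_eq_smul_one]
      simp
    rw [this, LinearMap.smul_apply, Module.End.one_apply]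
  apply hc.ne
  apply h.nondeg.1
  intro y
  obtain ⟨c, rfl⟩ := hmul y
  rw [map_smul, h.alt v, smul_zero]

end sigma

end Cfsg.Agent.Helper43.SpSS
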