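import Mathlib
import Cfsg.Agent.Helper43.SpSSE

set_option autoImplicit false

namespace Cfsg.Agent.Helper43.SpSS

open Polynomial Module
open scoped IsMulCommutative

universe u v

section cycmap

variable {F : Type u} [Field F] {V : Type v} [AddCommGroup V] [Module F V]
variable {V' : Type v} [AddCommGroup V'] [Module F V']

/-- The orbit map `p ↦ p(g) v`. -/
noncomputable def cycMap (g : Module.End F V) (v : V) : F[X] →ₗ[F] V :=
  (LinearMap.applyₗ v).comp (aeval g).toLinearMap

theorem cycMap_apply (g : Module.End F V) (v : V) (p : F[X]) : cycMap g v p = aeval g p v := rfl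

/-- The cyclic submodule `F[g] v`. -/
noncomputable abbrev cycSub (g : Module.End F V) (v : V) : Submodule F V :=
  LinearMap.range (cycMap g v)

theorem mem_cycSub {g : Module.End F V} {v x : V} : x ∈ cycSub g v ↔ ∃ p : F[X], aeval g p v = x :=
  LinearMap.mem_range

theorem self_mem_cycSub (g : Module.End F V) (v : V) : v ∈ cycSub g v :=
  mem_cycSub.mpr ⟨1, by simp⟩

theorem cycSub_mem_invt (g : Module.End F V) (v : V) : cycSub g v ∈ g.invtSubmodule := by
  rw [Module.End.mem_invtSubmodule]
  rintro _ ⟨p, rfl⟩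
  rw [Submodule.mem_comap]
  refine mem_cycSub.mpr ⟨X * p, ?_⟩
  rw [cycMap_apply, map_mul, aeval_X, Module.End.mul_apply]

theorem cycSub_le {g : Module.End F V} {v : V} {W : Submodule F V} (hW : W ∈ g.invtSubmodule)
    (hv : v ∈ W) : cycSub g v ≤ W := by
  rintro _ ⟨p, rfl⟩
  rw [cycMap_apply]
  have : ∀ k : ℕ, (g ^ k) v ∈ W := by
    intro k
    induction k with
    | zero => simpa using hv
    | succ k ih =>
      rw [pow_succ', Module.End.mul_apply]
      exact hW ih
  rw [aeval_eq_sum_range]
  simp only [LinearMap.sum_apply, LinearMap.smul_apply]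
  exact Submodule.sum_mem _ (fun i _ => Submodule.smul_mem _ _ (this i))

/-- The equivalence between cyclic submodules with the same annihilator. -/
noncomputable def cycEquiv {g : Module.End F V} {v : V} {g' : Module.End F V'} {v' : V'}
    (hk : LinearMap.ker (cycMap g v) = LinearMap.ker (cycMap g' v')) :
    cycSub g v ≃ₗ[F] cycSub g' v' :=
  (LinearMap.quotKerEquivRange (cycMap g v)).symm ≪≫ₗ Submodule.quotEquivOfEq _ _ hk ≪≫ₗ
    LinearMap.quotKerEquivRange (cycMap g' v')

theorem cycEquiv_apply {g : Module.End F V} {v : V} {g' : Module.End F V'} {v' : V'}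
    (hk : LinearMap.ker (cycMap g v) = LinearMap.ker (cycMap g' v')) (p : F[X])
    (hp : aeval g p v ∈ cycSub g v) :
    ((cycEquiv hk ⟨aeval g p v, hp⟩ : cycSub g' v') : V') = aeval g' p v' := by
  have h1 : (⟨aeval g p v, hp⟩ : cycSub g v)
      = LinearMap.quotKerEquivRange (cycMap g v) (Submodule.Quotient.mk p) := by
    apply Subtype.ext
    rw [LinearMap.quotKerEquivRange_apply_mk]
    rfl
  unfold cycEquiv
  rw [h1]
  simp only [LinearEquiv.trans_apply, LinearEquiv.symm_apply_apply]
  rw [Submodule.quotEquivOfEq_mk, LinearMap.quotKerEquivRange_apply_mk]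
  rfl

theorem cycEquiv_equivariant {g : Module.End F V} {v : V} {g' : Module.End F V'} {v' : V'}
    (hk : LinearMap.ker (cycMap g v) = LinearMap.ker (cycMap g' v')) (x : cycSub g v) :
    cycEquiv hk (rst g (cycSub_mem_invt g v) x)
      = rst g' (cycSub_mem_invt g' v') (cycEquiv hk x) := by
  obtain ⟨x, hx⟩ := x
  obtain ⟨p, rfl⟩ := mem_cycSub.mp hx
  apply Subtype.ext
  have h1 : (rst g (cycSub_mem_invt g v) ⟨aeval g p v, hx⟩ : cycSub g v)
      = ⟨aeval g (X * p) v, mem_cycSub.mpr ⟨X * p, rfl⟩⟩ := by
    apply Subtype.ext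
    show g (aeval g p v) = aeval g (X * p) v
    rw [map_mul, aeval_X, Module.End.mul_apply]
  rw [h1, cycEquiv_apply]
  show _ = g' ((cycEquiv hk ⟨aeval g p v, hx⟩ : cycSub g' v') : V')
  rw [cycEquiv_apply, map_mul, aeval_X, Module.End.mul_apply]

end cycmap

section norm

variable {F : Type u} [Field F] [Fintype F] {V : Type v} [AddCommGroup V] [Module F V]
  [FiniteDimensional F V]
variable {V' : Type v} [AddCommGroup V'] [Module F V'] [FiniteDimensional F V']
variable {B : LinearMap.BilinForm F V} {g : Module.End F V} {f : F[X]} {v : V}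
variable {B' : LinearMap.BilinForm F V'} {g' : Module.End F V'}

/-- Cyclic irreducible case: an equivariant linear equivalence can be corrected to an equivariant
isometry (surjectivity of the norm for finite fields). -/
theorem exists_equivIsom_of_cyclic (h : SympData B g) (h' : SympData B' g') (hc : CycIrr g f v)
    (t0 : V ≃ₗ[F] V') (ht0 : ∀ x, t0 (g x) = g' (t0 x)) :
    ∃ t : V ≃ₗ[F] V', IsEquivIsom B g B' g' t := by
  classical
  -- the pulled back form
  let B2 : LinearMap.BilinForm F V := B'.comp t0.toLinearMap t0.toLinearMap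
  have hB2 : ∀ x y, B2 x y = B' (t0 x) (t0 y) := fun x y => rfl
  let c : Module.End F V := B2.symmCompOfNondegenerate B h.nondeg
  have hcs : ∀ w u, B (c w) u = B2 w u := fun w u =>
    LinearMap.BilinForm.symmCompOfNondegenerate_left_apply B2 h.nondeg u w
  have hcg : c * g = g * c := by
    apply LinearMap.ext
    intro w
    rw [Module.End.mul_apply, Module.End.mul_apply, ← sub_eq_zero]
    apply h.nondeg.1
    intro u
    obtain ⟨u', rfl⟩ := h.isom.surjective h.nondeg u
    rw [map_sub, LinearMap.sub_apply, hcs, h.isom, hcs, hB2, hB2, ht0, ht0, h'.isom, sub_self]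
  have hcadj : adjE h.nondeg c = c := by
    symm
    apply adjE_unique
    intro x y
    rw [hcs, h.skew x (c y), hcs, hB2, hB2, h'.skew]
  have hc0 : c ≠ 0 := by
    intro h0
    apply hc.ne
    apply t0.injective
    rw [map_zero]
    apply h'.nondeg.1
    intro y
    obtain ⟨y', rfl⟩ := t0.surjective y
    rw [← hB2, ← hcs, h0, LinearMap.zero_apply, map_zero, LinearMap.zero_apply]
  let γ : Algebra.adjoin F {g} := ⟨c, hc.mem_adjoin_iff.mpr hcg⟩
  have hγσ : sigmaE h hc γ = γ := Subtype.ext hcadj
  have hγ0 : γ ≠ 0 := fun h0 => hc0 (congrArg Subtype.val h0)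
  have : Finite V := Module.finite_of_finite F
  have : Finite (Module.End F V) := Module.finite_of_finite F
  have : Finite (Algebra.adjoin F {g}) := Finite.of_injective _ Subtype.val_injective
  have hσ2 : ∀ x, sigmaE h hc (sigmaE h hc x) = x := by
    intro x
    apply Subtype.ext
    rw [sigmaE_coe, sigmaE_coe, adjE_adjE h.nondeg h.skew]
  obtain ⟨a, ha⟩ := exists_norm_isField hc.isField (sigmaE h hc) hσ2 (sigmaE_ne h hc) hγσ hγ0
  have ha0 : a ≠ 0 := by
    rintro rfl
    rw [zero_mul] at ha
    exact hγ0 ha.symm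
  obtain ⟨b, hab⟩ := hc.isField.mul_inv_cancel ha0
  have hkey : sigmaE h hc b * γ * b = 1 := by
    rw [← ha]
    calc sigmaE h hc b * (a * sigmaE h hc a) * b
        = (sigmaE h hc b * sigmaE h hc a) * (a * b) := by ring
      _ = 1 := by rw [← map_mul, mul_comm b a, hab, map_one, one_mul]
  have hkey' : adjE h.nondeg (b : Module.End F V) * c * (b : Module.End F V) = 1 := by
    have := congrArg Subtype.val hkey
    simpa only [Subalgebra.coe_mul, sigmaE_coe, Subalgebra.coe_one] using this
  have hab' : (a : Module.End F V) * (b : Module.End F V) = 1 := by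
    have := congrArg Subtype.val hab
    simpa only [Subalgebra.coe_mul, Subalgebra.coe_one] using this
  have hba' : (b : Module.End F V) * (a : Module.End F V) = 1 := by
    have := congrArg Subtype.val ((mul_comm b a).trans hab)
    simpa only [Subalgebra.coe_mul, Subalgebra.coe_one] using this
  let eb : V ≃ₗ[F] V := LinearEquiv.ofLinearMap (b : Module.End F V) (a : Module.End F V) hba' hab'
  have heb : ∀ x, eb x = (b : Module.End F V) x := fun x => rfl
  refine ⟨eb ≪≫ₗ t0, ⟨?_, ?_⟩⟩
  · intro x y
    rw [LinearEquiv.trans_apply, LinearEquiv.trans_apply, heb, heb, ← hB2, ← hcs, ← adjE_spec h.nondeg,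
      ← Module.End.mul_apply, ← Module.End.mul_apply, hkey', Module.End.one_apply]
  · intro x
    rw [LinearEquiv.trans_apply, LinearEquiv.trans_apply, heb, heb, ← ht0]
    congr 1
    have := hc.mem_adjoin_iff.mp b.2
    rw [← Module.End.mul_apply, this, Module.End.mul_apply]

end norm

end Cfsg.Agent.Helper43.SpSS
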