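import Mathlib
import Cfsg.Agent.Helper43.SpSSF
import Cfsg.Agent.Helper43.SpSSC

set_option autoImplicit false

namespace Cfsg.Agent.Helper43.SpSS

open Polynomial Module

universe u v

section basic

variable {F : Type u} [Field F] {V : Type v} [AddCommGroup V] [Module F V]
variable {V' : Type v} [AddCommGroup V'] [Module F V']

theorem aeval_equivariant {g : Module.End F V} {g' : Module.End F V'} (e : V →ₗ[F] V')
    (he : ∀ x, e (g x) = g' (e x)) (p : F[X]) (x : V) : e (aeval g p x) = aeval g' p (e x) := by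
  induction p using Polynomial.induction_on' with
  | add p q hp hq => simp only [map_add, LinearMap.add_apply, hp, hq]
  | monomial n a =>
    simp only [aeval_monomial, Module.End.mul_apply, Module.algebraMap_end_apply, map_smul]
    congr 1
    induction n generalizing x with
    | zero => simp
    | succ n ih => rw [pow_succ, pow_succ, Module.End.mul_apply, Module.End.mul_apply, ih, he]

theorem aeval_mem_of_invt {g : Module.End F V} {W : Submodule F V} (hW : W ∈ g.invtSubmodule)
    (p : F[X]) {x : V} (hx : x ∈ W) : aeval g p x ∈ W :=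
  cycSub_le hW hx (mem_cycSub.mpr ⟨p, rfl⟩)

theorem aeval_rst {g : Module.End F V} {W : Submodule F V} (hW : W ∈ g.invtSubmodule)
    (p : F[X]) (x : W) : ((aeval (rst g hW) p x : W) : V) = aeval g p (x : V) :=
  (aeval_equivariant (g := rst g hW) (g' := g) W.subtype (fun _ => rfl) p x)

theorem ker_aeval_mem_invt (g : Module.End F V) (p : F[X]) :
    LinearMap.ker (aeval g p) ∈ g.invtSubmodule := by
  rw [Module.End.mem_invtSubmodule]
  intro x hx
  rw [Submodule.mem_comap, LinearMap.mem_ker]
  rw [LinearMap.mem_ker] at hx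
  have : aeval g p (g x) = g (aeval g p x) := by
    have h1 := aeval_comm_apply g p X x
    rwa [aeval_X] at h1
  rw [this, hx, map_zero]

/-- Annihilator criterion for a vector killed by an irreducible polynomial. -/
theorem aeval_apply_eq_zero_iff {g : Module.End F V} {f : F[X]} {v : V} (hf : Irreducible f)
    (hv : aeval g f v = 0) (hv0 : v ≠ 0) (p : F[X]) : aeval g p v = 0 ↔ f ∣ p := by
  constructor
  · intro hp
    by_contra hnd
    obtain ⟨a, b, hab⟩ := (hf.coprime_iff_not_dvd).mpr hnd
    have := congrArg (fun q : F[X] => aeval g q v) hab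
    simp only [map_add, map_mul, map_one, LinearMap.add_apply, Module.End.mul_apply,
      Module.End.one_apply] at this
    rw [hv, hp, map_zero, map_zero, add_zero] at this
    exact hv0 this.symm
  · rintro ⟨r, rfl⟩
    rw [mul_comm, map_mul, Module.End.mul_apply, hv, map_zero]

theorem ker_cycMap_eq {g : Module.End F V} {g' : Module.End F V'} {f : F[X]} {v : V} {v' : V'}
    (hf : Irreducible f) (hv : aeval g f v = 0) (hv0 : v ≠ 0) (hv' : aeval g' f v' = 0)
    (hv0' : v' ≠ 0) : LinearMap.ker (cycMap g v) = LinearMap.ker (cycMap g' v') := by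
  ext p
  rw [LinearMap.mem_ker, LinearMap.mem_ker, cycMap_apply, cycMap_apply,
    aeval_apply_eq_zero_iff hf hv hv0, aeval_apply_eq_zero_iff hf hv' hv0']

/-- A cyclic module with irreducible annihilator is simple. -/
theorem cyc_simple {g : Module.End F V} {f : F[X]} {v : V} (hf : Irreducible f)
    (hv : aeval g f v = 0) {S : Submodule F V} (hS : S ∈ g.invtSubmodule) {x : V} (hxS : x ∈ S)
    (hx : x ∈ cycSub g v) (hx0 : x ≠ 0) : v ∈ S := by
  obtain ⟨p, rfl⟩ := mem_cycSub.mp hx
  have hnd : ¬ f ∣ p := by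
    rintro ⟨r, rfl⟩
    apply hx0
    rw [mul_comm, map_mul, Module.End.mul_apply, hv, map_zero]
  obtain ⟨a, b, hab⟩ := (hf.coprime_iff_not_dvd).mpr hnd
  have := congrArg (fun q : F[X] => aeval g q v) hab
  simp only [map_add, map_mul, map_one, LinearMap.add_apply, Module.End.mul_apply,
    Module.End.one_apply] at this
  rw [hv, map_zero, zero_add] at this
  rw [← this]
  exact aeval_mem_of_invt hS b hxS

theorem cycIrr_rst {g : Module.End F V} {f : F[X]} {v : V} (hf : Irreducible f)
    (hv : aeval g f v = 0) (hv0 : v ≠ 0) :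
    CycIrr (rst g (cycSub_mem_invt g v)) f ⟨v, self_mem_cycSub g v⟩ where
  irr := hf
  kill := by
    apply Subtype.ext
    rw [aeval_rst]
    exact hv
  ne := fun h0 => hv0 (congrArg Subtype.val h0)
  span := by
    rintro ⟨x, hx⟩
    obtain ⟨p, rfl⟩ := mem_cycSub.mp hx
    refine ⟨p, ?_⟩
    apply Subtype.ext
    rw [aeval_rst]

theorem rev_rev (N : ℕ) (p : F[X]) (hp : p.natDegree ≤ N) : rev N (rev N p) = p := by
  ext k
  by_cases hk : k ≤ N
  · rw [coeff_rev N _ k hk, coeff_rev N _ (N - k) (Nat.sub_le _ _)]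
    congr 1
    omega
  · push Not at hk
    rw [coeff_eq_zero_of_natDegree_lt (lt_of_le_of_lt (natDegree_rev_le N _) hk),
      coeff_eq_zero_of_natDegree_lt (lt_of_le_of_lt hp hk)]

end basic

section symp

variable {F : Type u} [Field F] {V : Type v} [AddCommGroup V] [Module F V] [FiniteDimensional F V]
variable {B : LinearMap.BilinForm F V} {g : Module.End F V}

theorem SympData.exists_preimage_pow (h : SympData B g) {W : Submodule F V}
    (hW : W ∈ g.invtSubmodule) (k : ℕ) (x : V) (hx : x ∈ W) : ∃ y ∈ W, (g ^ k) y = x := by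
  induction k generalizing x with
  | zero => exact ⟨x, hx, by simp⟩
  | succ k ih =>
    obtain ⟨y, hy⟩ := h.exists_preimage hW ⟨x, hx⟩
    obtain ⟨z, hz, hzy⟩ := ih y y.2
    refine ⟨z, hz, ?_⟩
    rw [pow_succ', Module.End.mul_apply, hzy, hy]

/-- The kernel of a self-reciprocal polynomial in `g` is a nondegenerate subspace. -/
theorem SympData.ker_nondeg (h : SympData B g) {f : F[X]} (hrev : f ∣ rev f.natDegree f)
    (x : V) (hx : x ∈ LinearMap.ker (aeval g f))
    (hxo : ∀ y ∈ LinearMap.ker (aeval g f), B x y = 0) : x = 0 := by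
  set U := LinearMap.ker (aeval g f) with hU
  have hUi : U ∈ g.invtSubmodule := ker_aeval_mem_invt g f
  obtain ⟨R, hRi, hUR⟩ := (Module.End.isSemisimple_iff.mp h.ss) U hUi
  -- `f(g)` is bijective on `R`
  have hRf : ∀ r ∈ R, ∃ z ∈ R, aeval g f z = r := by
    have hRi' : R ∈ (aeval g f).invtSubmodule := by
      rw [Module.End.mem_invtSubmodule]
      intro z hz
      exact aeval_mem_of_invt hRi f hz
    have hinj : Function.Injective (rst (aeval g f) hRi') := by
      rw [← LinearMap.ker_eq_bot, LinearMap.ker_eq_bot']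
      intro z hz
      have h1 : aeval g f (z : V) = 0 := congrArg Subtype.val hz
      have h2 : (z : V) ∈ U ⊓ R := ⟨LinearMap.mem_ker.mpr h1, z.2⟩
      rw [hUR.inf_eq_bot] at h2
      exact Subtype.ext ((Submodule.mem_bot F).mp h2)
    intro r hr
    obtain ⟨z, hz⟩ := (LinearMap.injective_iff_surjective.mp hinj) ⟨r, hr⟩
    exact ⟨z, z.2, congrArg Subtype.val hz⟩
  -- `R ⊥ U`
  have hRU : ∀ r ∈ R, ∀ w ∈ U, B r w = 0 := by
    intro r hr w hw
    obtain ⟨z, -, rfl⟩ := hRf r hr
    obtain ⟨y, hy, rfl⟩ := h.exists_preimage_pow hUi f.natDegree w hw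
    rw [h.isom.adj f f.natDegree le_rfl]
    obtain ⟨u, hu⟩ := hrev
    rw [hu, mul_comm, map_mul, Module.End.mul_apply, LinearMap.mem_ker.mp hy, map_zero, map_zero]
  apply h.nondeg.1
  intro y
  have hy : y ∈ U ⊔ R := by rw [hUR.sup_eq_top]; exact Submodule.mem_top
  obtain ⟨u, hu, r, hr, rfl⟩ := Submodule.mem_sup.mp hy
  rw [map_add, hxo u hu, zero_add, h.skew, hRU r hr x hx, neg_zero]

/-- A cyclic submodule with irreducible annihilator on which the form is not identically zero is
nondegenerate. -/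
theorem SympData.cyc_nondeg (h : SympData B g) {f : F[X]} {v : V} (hf : Irreducible f)
    (hv : aeval g f v = 0) (hne : B (g v) v ≠ 0) :
    (B.restrict (cycSub g v)).Nondegenerate := by
  apply h.nondeg_restrict_of
  intro x hx hxo
  by_contra hx0
  have hS := h.orthogonal_mem (cycSub_mem_invt g v)
  have hxS : x ∈ B.orthogonal (cycSub g v) := by
    rw [LinearMap.BilinForm.mem_orthogonal_iff]
    intro n hn
    show B n x = 0
    rw [h.skew, hxo n hn, neg_zero]
  have hvS := cyc_simple hf hv hS hxS hx hx0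
  rw [LinearMap.BilinForm.mem_orthogonal_iff] at hvS
  exact hne (hvS (g v) (cycSub_mem_invt g v (self_mem_cycSub g v)))

/-- Polarization: if `B (g v) v = 0` on a nondegenerate invariant subspace then `g ^ 2 = 1` there. -/
theorem SympData.polar (h : SympData B g) {U : Submodule F V} (hUi : U ∈ g.invtSubmodule)
    (hUn : ∀ x ∈ U, (∀ y ∈ U, B x y = 0) → x = 0) (hz : ∀ v ∈ U, B (g v) v = 0)
    (w : V) (hw : w ∈ U) : g (g w) = w := by
  have hgU : ∀ {x}, x ∈ U → g x ∈ U := fun hx => hUi hx
  have key : ∀ v ∈ U, B (g v) (w - g (g w)) = 0 := by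
    intro v hv
    have h1 := hz (v + w) (U.add_mem hv hw)
    simp only [map_add, LinearMap.add_apply] at h1
    rw [hz v hv, hz w hw, zero_add, add_zero] at h1
    have h2 : B (g v) w = - B (g w) v := by linear_combination h1
    rw [map_sub, h2, h.isom, h.skew (g w) v, neg_neg, sub_self]
  rw [← sub_eq_zero, ← neg_eq_zero, neg_sub]
  apply hUn _ (U.sub_mem hw (hgU (hgU hw)))
  intro y hy
  obtain ⟨y', hy'⟩ := h.exists_preimage hUi ⟨y, hy⟩
  have := key y' y'.2
  rw [hy'] at this
  rw [h.skew, this, neg_zero]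

/-- Case A: hyperbolic pair from a non-self-reciprocal irreducible factor. -/
theorem SympData.exists_hypPair_of_coprime (h : SympData B g) {f : F[X]} {v : V}
    (hco : IsCoprime (rev f.natDegree f) f) (hv : aeval g f v = 0) :
    ∃ K2, HypPair B g (cycSub g v) K2 := by
  set N := f.natDegree with hN
  set K1 := cycSub g v with hK1
  have hK1i : K1 ∈ g.invtSubmodule := cycSub_mem_invt g v
  have hK1f : ∀ x ∈ K1, aeval g f x = 0 := by
    intro x hx
    obtain ⟨p, rfl⟩ := mem_cycSub.mp hx
    rw [aeval_comm_apply, hv, map_zero]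
  have hOi := h.orthogonal_mem hK1i
  obtain ⟨K2, hK2i, hc⟩ := (Module.End.isSemisimple_iff.mp h.ss) _ hOi
  have hK2r : ∀ y ∈ K2, aeval g (rev N f) y = 0 := by
    intro y hy
    have h1 : aeval g (rev N f) y ∈ B.orthogonal K1 ⊓ K2 := by
      refine Submodule.mem_inf.mpr ⟨?_, aeval_mem_of_invt hK2i _ hy⟩
      rw [LinearMap.BilinForm.mem_orthogonal_iff]
      intro x hx
      show B x (aeval g (rev N f) y) = 0
      rw [← h.isom.adj f N le_rfl, hK1f x hx, map_zero, LinearMap.zero_apply]
    rw [hc.inf_eq_bot] at h1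
    exact (Submodule.mem_bot F).mp h1
  refine ⟨K2, ⟨hK1i, hK2i, ?_, ?_, ?_, ?_⟩⟩
  · intro x hx y hy
    exact h.isom.orth_of_coprime (p := f) (r := f) (N := N) le_rfl hco (hK1f x hx) (hK1f y hy)
  · intro x hx y hy
    refine h.isom.orth_of_coprime (p := rev N f) (r := rev N f) (N := N) (natDegree_rev_le N f) ?_
      (hK2r x hx) (hK2r y hy)
    rw [rev_rev N f le_rfl]
    exact hco.symm
  · intro x hx hxo
    apply h.nondeg.1
    intro z
    have hz : z ∈ B.orthogonal K1 ⊔ K2 := by rw [hc.sup_eq_top]; exact Submodule.mem_top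
    obtain ⟨a, ha, b, hb, rfl⟩ := Submodule.mem_sup.mp hz
    rw [map_add, hxo b hb, add_zero]
    exact (LinearMap.BilinForm.mem_orthogonal_iff.mp ha) x hx
  · intro y hy hyo
    have h1 : y ∈ B.orthogonal K1 ⊓ K2 := by
      refine Submodule.mem_inf.mpr ⟨?_, hy⟩
      rw [LinearMap.BilinForm.mem_orthogonal_iff]
      intro x hx
      exact hyo x hx
    rw [hc.inf_eq_bot] at h1
    exact (Submodule.mem_bot F).mp h1

/-- Case B1: hyperbolic plane in an eigenspace. -/
theorem SympData.hypPair_of_scalar (h : SympData B g) {ε : F} {v w : V} (hv : g v = ε • v)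
    (hw : g w = ε • w) (hvw : B v w ≠ 0) : HypPair B g (cycSub g v) (cycSub g w) := by
  have hspan : ∀ {u : V}, g u = ε • u → ∀ x ∈ cycSub g u, ∃ a : F, x = a • u := by
    intro u hu x hx
    have hi : Submodule.span F {u} ∈ g.invtSubmodule := by
      rw [Module.End.mem_invtSubmodule]
      intro y hy
      obtain ⟨a, rfl⟩ := Submodule.mem_span_singleton.mp hy
      rw [Submodule.mem_comap, map_smul, hu]
      exact Submodule.smul_mem _ _ (Submodule.smul_mem _ _ (Submodule.mem_span_singleton_self u))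
    obtain ⟨a, ha⟩ := Submodule.mem_span_singleton.mp
      (cycSub_le hi (Submodule.mem_span_singleton_self u) hx)
    exact ⟨a, ha.symm⟩
  refine ⟨cycSub_mem_invt g v, cycSub_mem_invt g w, ?_, ?_, ?_, ?_⟩
  · intro x hx y hy
    obtain ⟨a, rfl⟩ := hspan hv x hx
    obtain ⟨b, rfl⟩ := hspan hv y hy
    simp only [map_smul, LinearMap.smul_apply, h.alt v, smul_zero]
  · intro x hx y hy
    obtain ⟨a, rfl⟩ := hspan hw x hx
    obtain ⟨b, rfl⟩ := hspan hw y hy
    simp only [map_smul, LinearMap.smul_apply, h.alt w, smul_zero]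
  · intro x hx hxo
    obtain ⟨a, rfl⟩ := hspan hv x hx
    have := hxo w (self_mem_cycSub g w)
    rw [map_smul, LinearMap.smul_apply, smul_eq_mul] at this
    rcases mul_eq_zero.mp this with h0 | h0
    · rw [h0, zero_smul]
    · exact absurd h0 hvw
  · intro y hy hyo
    obtain ⟨b, rfl⟩ := hspan hw y hy
    have := hyo v (self_mem_cycSub g v)
    rw [map_smul, smul_eq_mul] at this
    rcases mul_eq_zero.mp this with h0 | h0
    · rw [h0, zero_smul]
    · exact absurd h0 hvw

end symp

end Cfsg.Agent.Helper43.SpSS
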