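import Mathlib
import Cfsg.Agent.Helper43.SpSSG
import Cfsg.Agent.Helper43.SSConj

set_option autoImplicit false

namespace Cfsg.Agent.Helper43.SpSS

open Polynomial Module

universe u v

section irr

variable {F : Type u} [Field F] {V : Type v} [AddCommGroup V] [Module F V] [FiniteDimensional F V]

/-- A nonzero finite-dimensional space has a nonzero vector killed by an irreducible polynomial
in `g`. -/
theorem exists_irr_vec [Nontrivial V] (g : Module.End F V) :
    ∃ (f : F[X]) (v : V), Irreducible f ∧ aeval g f v = 0 ∧ v ≠ 0 := by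
  have hint : IsIntegral F g := Algebra.IsIntegral.isIntegral g
  have hm0 : minpoly F g ≠ 0 := minpoly.ne_zero hint
  obtain ⟨f, hf, q, hq⟩ := WfDvdMonoid.exists_irreducible_factor (minpoly.not_isUnit F g) hm0
  by_contra hcon
  push Not at hcon
  have hinj : ∀ x, aeval g f x = 0 → x = 0 := fun x hx => hcon f x hf hx
  have hq0 : aeval g q = 0 := by
    apply LinearMap.ext
    intro x
    apply hinj
    rw [← Module.End.mul_apply, ← map_mul, ← hq, minpoly.aeval]
    rfl
  have hdvd := minpoly.dvd F g hq0
  have hqne : q ≠ 0 := by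
    rintro rfl
    rw [mul_zero] at hq
    exact hm0 hq
  have h1 := natDegree_le_of_dvd hdvd hqne
  have h2 : (minpoly F g).natDegree = f.natDegree + q.natDegree := by
    rw [hq, natDegree_mul hf.ne_zero hqne]
  have h3 := hf.natDegree_pos
  omega

end irr

section step

variable {F : Type u} [Field F] [Fintype F] {V : Type v} [AddCommGroup V] [Module F V]
  [FiniteDimensional F V]
variable {V' : Type v} [AddCommGroup V'] [Module F V'] [FiniteDimensional F V']
variable {B : LinearMap.BilinForm F V} {g : Module.End F V}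
variable {B' : LinearMap.BilinForm F V'} {g' : Module.End F V'}

/-- The conclusion of the splitting step. -/
def StepGoal (B : LinearMap.BilinForm F V) (g : Module.End F V) (B' : LinearMap.BilinForm F V')
    (g' : Module.End F V') : Prop :=
  ∃ (W : Submodule F V) (W' : Submodule F V') (hW : W ∈ g.invtSubmodule)
    (hW' : W' ∈ g'.invtSubmodule) (_ : (B.restrict W).Nondegenerate)
    (_ : (B'.restrict W').Nondegenerate) (t : W ≃ₗ[F] W'),
    W ≠ ⊥ ∧ IsEquivIsom (B.restrict W) (rst g hW) (B'.restrict W') (rst g' hW') t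

omit [Fintype F] in
theorem step_of_hypPair (h : SympData B g) (h' : SympData B' g') {v : V} {v' : V'}
    {K2 : Submodule F V} {K2' : Submodule F V'} (hv0 : v ≠ 0)
    (hk : LinearMap.ker (cycMap g v) = LinearMap.ker (cycMap g' v'))
    (hp : HypPair B g (cycSub g v) K2) (hp' : HypPair B' g' (cycSub g' v') K2') :
    StepGoal B g B' g' := by
  obtain ⟨t, ht⟩ := exists_equivIsom_of_hypPair h h' hp hp' (cycEquiv hk) (cycEquiv_equivariant hk)
  refine ⟨_, _, hp.range_mem, hp'.range_mem, hp.range_nondeg h, hp'.range_nondeg h', t, ?_, ht⟩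
  intro hbot
  apply hv0
  have : v ∈ LinearMap.range (sumMap (cycSub g v) K2) :=
    ⟨(⟨v, self_mem_cycSub g v⟩, 0), by rw [sumMap_apply]; simp⟩
  rw [hbot] at this
  exact (Submodule.mem_bot F).mp this

omit [Fintype F] in
theorem eq_smul_of_dvd {f : F[X]} {ε : F} (hd : f ∣ X - C ε) {x : V} (hx : aeval g f x = 0) :
    g x = ε • x := by
  obtain ⟨u, hu⟩ := hd
  have : aeval g (X - C ε) x = 0 := by
    rw [hu, mul_comm, map_mul, Module.End.mul_apply, hx, map_zero]
  rw [map_sub, aeval_X, aeval_C, LinearMap.sub_apply, Module.algebraMap_end_apply] at this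
  exact sub_eq_zero.mp this

omit [Fintype F] in
theorem SympData.exists_nonisotropic (h : SympData B g) {f : F[X]} (hf : Irreducible f)
    (hdvd : f ∣ rev f.natDegree f) (hlin : ¬ ∃ ε : F, f ∣ X - C ε) {v : V}
    (hv : aeval g f v = 0) (hv0 : v ≠ 0) : ∃ x, aeval g f x = 0 ∧ B (g x) x ≠ 0 := by
  by_contra hno
  push Not at hno
  have hsq := h.polar (ker_aeval_mem_invt g f) (h.ker_nondeg hdvd)
    (fun x hx => hno x (LinearMap.mem_ker.mp hx)) v (LinearMap.mem_ker.mpr hv)
  have h1 : aeval g ((X - C 1) * (X - C (-1)) : F[X]) v = 0 := by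
    have : ((X - C 1) * (X - C (-1)) : F[X]) = X * X - 1 := by
      rw [map_neg, map_one]; ring
    rw [this, map_sub, map_mul, aeval_X, map_one, LinearMap.sub_apply, Module.End.mul_apply, hsq,
      Module.End.one_apply, sub_self]
  have h2 := (aeval_apply_eq_zero_iff hf hv hv0 _).mp h1
  rcases hf.prime.dvd_or_dvd h2 with h3 | h3
  · exact hlin ⟨1, h3⟩
  · exact hlin ⟨-1, h3⟩

/-- The splitting step. -/
theorem exists_step [Nontrivial V] (h : SympData B g) (h' : SympData B' g') (e : V ≃ₗ[F] V')
    (he : ∀ x, e (g x) = g' (e x)) : StepGoal B g B' g' := by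
  obtain ⟨f, v, hf, hv, hv0⟩ := exists_irr_vec g
  have hv' : aeval g' f (e v) = 0 := by
    have := aeval_equivariant e.toLinearMap he f v
    rw [hv, map_zero] at this
    exact this.symm
  have hv0' : e v ≠ 0 := fun h0 => hv0 (e.injective (h0.trans (map_zero e).symm))
  have hk := ker_cycMap_eq hf hv hv0 hv' hv0'
  by_cases hco : IsCoprime (rev f.natDegree f) f
  · obtain ⟨K2, hp⟩ := h.exists_hypPair_of_coprime hco hv
    obtain ⟨K2', hp'⟩ := h'.exists_hypPair_of_coprime hco hv'
    exact step_of_hypPair h h' hv0 hk hp hp'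
  · have hdvd : f ∣ rev f.natDegree f := by
      by_contra hnd
      exact hco ((hf.coprime_iff_not_dvd).mpr hnd).symm
    by_cases hlin : ∃ ε : F, f ∣ X - C ε
    · obtain ⟨ε, hε⟩ := hlin
      have hw : ∃ w, aeval g f w = 0 ∧ B v w ≠ 0 := by
        by_contra hno
        push Not at hno
        exact hv0 (h.ker_nondeg hdvd v (LinearMap.mem_ker.mpr hv)
          (fun y hy => hno y (LinearMap.mem_ker.mp hy)))
      have hw' : ∃ w, aeval g' f w = 0 ∧ B' (e v) w ≠ 0 := by
        by_contra hno
        push Not at hno
        exact hv0' (h'.ker_nondeg hdvd (e v) (LinearMap.mem_ker.mpr hv')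
          (fun y hy => hno y (LinearMap.mem_ker.mp hy)))
      obtain ⟨w, hwf, hvw⟩ := hw
      obtain ⟨w', hwf', hvw'⟩ := hw'
      exact step_of_hypPair h h' hv0 hk
        (h.hypPair_of_scalar (eq_smul_of_dvd hε hv) (eq_smul_of_dvd hε hwf) hvw)
        (h'.hypPair_of_scalar (eq_smul_of_dvd hε hv') (eq_smul_of_dvd hε hwf') hvw')
    · obtain ⟨x, hx, hxne⟩ := h.exists_nonisotropic hf hdvd hlin hv hv0
      obtain ⟨x', hx', hxne'⟩ := h'.exists_nonisotropic hf hdvd hlin hv' hv0'
      have hx0 : x ≠ 0 := by
        rintro rfl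
        apply hxne
        simp
      have hx0' : x' ≠ 0 := by
        rintro rfl
        apply hxne'
        simp
      have hk2 := ker_cycMap_eq hf hx hx0 hx' hx0'
      have hWn := h.cyc_nondeg hf hx hxne
      have hWn' := h'.cyc_nondeg hf hx' hxne'
      obtain ⟨t, ht⟩ := exists_equivIsom_of_cyclic (h.restrict (cycSub_mem_invt g x) hWn)
        (h'.restrict (cycSub_mem_invt g' x') hWn') (cycIrr_rst hf hx hx0) (cycEquiv hk2)
        (cycEquiv_equivariant hk2)
      refine ⟨_, _, cycSub_mem_invt g x, cycSub_mem_invt g' x', hWn, hWn', t, ?_, ht⟩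
      intro hbot
      apply hx0
      have := self_mem_cycSub g x
      rw [hbot] at this
      exact (Submodule.mem_bot F).mp this

end step

section main

variable {F : Type u} [Field F] [Fintype F]

/-- Semisimple isometries of nondegenerate alternating forms over a finite field with the same
characteristic polynomial are conjugate by an isometry. -/
theorem exists_equivIsom_aux : ∀ (n : ℕ) (V : Type v) [AddCommGroup V] [Module F V]
    [FiniteDimensional F V] (V' : Type v) [AddCommGroup V'] [Module F V'] [FiniteDimensional F V']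
    (B : LinearMap.BilinForm F V) (g : Module.End F V) (B' : LinearMap.BilinForm F V')
    (g' : Module.End F V'), finrank F V = n → SympData B g → SympData B' g' →
    g.charpoly = g'.charpoly → ∃ s : V ≃ₗ[F] V', IsEquivIsom B g B' g' s := by
  intro n
  induction n using Nat.strong_induction_on with
  | _ n ih =>
    intro V _ _ _ V' _ _ _ B g B' g' hn h h' hch
    have hfr : finrank F V' = finrank F V := by
      rw [← LinearMap.charpoly_natDegree g, ← LinearMap.charpoly_natDegree g', hch]
    rcases Nat.eq_zero_or_pos n with h0 | hpos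
    · have hs : Subsingleton V := Module.finrank_zero_iff.mp (hn.trans h0)
      have hs' : Subsingleton V' := Module.finrank_zero_iff.mp (hfr.trans (hn.trans h0))
      refine ⟨LinearEquiv.ofFinrankEq V V' hfr.symm, ⟨?_, ?_⟩⟩
      · intro x y
        rw [Subsingleton.elim x 0]
        simp
      · intro x
        exact Subsingleton.elim _ _
    · have hnt : Nontrivial V := Module.nontrivial_of_finrank_pos (R := F) (by omega)
      obtain ⟨e, he⟩ := SS.exists_equiv_of_charpoly_eq g g' h.ss h'.ss hch
      obtain ⟨W, W', hW, hW', hWn, hWn', t, hne, ht⟩ := exists_step h h' e he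
      have hc := LinearMap.BilinForm.isCompl_orthogonal_of_restrict_nondegenerate h.refl hWn
      have hc' := LinearMap.BilinForm.isCompl_orthogonal_of_restrict_nondegenerate h'.refl hWn'
      have hO := h.orthogonal_mem hW
      have hO' := h'.orthogonal_mem hW'
      -- the characteristic polynomials of the complements agree
      have hch2 : (rst g hO).charpoly = (rst g' hO').charpoly := by
        have e1 := charpoly_of_isCompl g hW hO hc
        have e2 := charpoly_of_isCompl g' hW' hO' hc'
        have e3 := ht.charpoly_eq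
        rw [e1, e2, e3] at hch
        exact mul_left_cancel₀ (LinearMap.charpoly_monic _).ne_zero hch
      have hlt : finrank F (B.orthogonal W) < n := by
        have h1 := Submodule.finrank_add_eq_of_isCompl hc
        have h2 : 0 < finrank F W := by
          rw [Module.finrank_pos_iff_exists_ne_zero]
          obtain ⟨x, hx, hx0⟩ := (Submodule.ne_bot_iff W).mp hne
          exact ⟨⟨x, hx⟩, fun h0 => hx0 (congrArg Subtype.val h0)⟩
        omega
      obtain ⟨s₁, hs₁⟩ := ih _ hlt (B.orthogonal W) (B'.orthogonal W')
        (B.restrict (B.orthogonal W)) (rst g hO) (B'.restrict (B'.orthogonal W')) (rst g' hO') rfl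
        (h.restrict hO (h.orthogonal_nondeg hWn)) (h'.restrict hO' (h'.orthogonal_nondeg hWn')) hch2
      exact glue h h' hW hW' hWn hWn' t ht s₁ hs₁

theorem exists_equivIsom {V : Type v} [AddCommGroup V] [Module F V]
    [FiniteDimensional F V] {V' : Type v} [AddCommGroup V'] [Module F V'] [FiniteDimensional F V']
    {B : LinearMap.BilinForm F V} {g : Module.End F V} {B' : LinearMap.BilinForm F V'}
    {g' : Module.End F V'} (h : SympData B g) (h' : SympData B' g')
    (hch : g.charpoly = g'.charpoly) : ∃ s : V ≃ₗ[F] V', IsEquivIsom B g B' g' s :=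
  exists_equivIsom_aux _ V V' B g B' g' rfl h h' hch

end main

end Cfsg.Agent.Helper43.SpSS
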