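import Mathlib
import Cfsg.Prelude.Def_ClassicalGeometry

set_option autoImplicit false

namespace Cfsg.Agent.Helper43

open Module

theorem sympForm_eq_toBilin {m : ℕ} {F : Type*} [Field F] (v w : Fin m ⊕ Fin m → F) :
    Cfsg.sympForm m F v w = Matrix.toBilin' (Matrix.J (Fin m) F) v w := by
  rw [Matrix.toBilin'_apply']
  rfl

theorem symp_transpose_J_mul {m : ℕ} {F : Type*} [Field F]
    {A : Matrix (Fin m ⊕ Fin m) (Fin m ⊕ Fin m) F} (hA : A ∈ Matrix.symplecticGroup (Fin m) F) :
    A.transpose * Matrix.J (Fin m) F * A = Matrix.J (Fin m) F := by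
  have := SymplecticGroup.mem_iff.mp (SymplecticGroup.transpose_mem hA)
  simpa using this

theorem symp_preserves {m : ℕ} {F : Type*} [Field F]
    {A : Matrix (Fin m ⊕ Fin m) (Fin m ⊕ Fin m) F} (hA : A ∈ Matrix.symplecticGroup (Fin m) F)
    (x y : Fin m ⊕ Fin m → F) :
    Matrix.toBilin' (Matrix.J (Fin m) F) (A.mulVec x) (A.mulVec y)
      = Matrix.toBilin' (Matrix.J (Fin m) F) x y := by
  rw [Matrix.toBilin'_apply', Matrix.toBilin'_apply']
  rw [Matrix.mulVec_mulVec, Matrix.dotProduct_mulVec, Matrix.vecMul_mulVec, ← Matrix.dotProduct_mulVec,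
      ← Matrix.mul_assoc, symp_transpose_J_mul hA]

theorem J_det_ne_zero (m : ℕ) (F : Type*) [Field F] : (Matrix.J (Fin m) F).det ≠ 0 := by
  intro h
  have := Matrix.J_det_mul_J_det (Fin m) F
  rw [h] at this
  simp at this

theorem toBilin_J_nondegenerate (m : ℕ) (F : Type*) [Field F] :
    (Matrix.toBilin' (Matrix.J (Fin m) F)).Nondegenerate := by
  rw [Matrix.nondegenerate_toBilin'_iff]
  exact Matrix.nondegenerate_of_det_ne_zero (J_det_ne_zero m F)

end Cfsg.Agent.Helper43
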