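import Mathlib
import Cfsg.Agent.Helper43.SpSSH
import Cfsg.Agent.Helper43.Symp
import Cfsg.Agent.Helper13.Symp
import Cfsg.Agent.S2167

set_option autoImplicit false

namespace Cfsg.Agent.Helper43.SpSS

open Polynomial Module Matrix

section mat

variable {F : Type*} [Field F] {n : ℕ}

/-- The standard symplectic form as a bilinear form. -/
noncomputable def Bn (n : ℕ) (F : Type*) [Field F] : LinearMap.BilinForm F (Fin n ⊕ Fin n → F) :=
  Matrix.toBilin' (Matrix.J (Fin n) F)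

theorem Bn_apply (x y : Fin n ⊕ Fin n → F) : Bn n F x y = Cfsg.sympForm n F x y :=
  (Cfsg.Agent.Helper43.sympForm_eq_toBilin x y).symm

theorem Bn_alt : (Bn n F).IsAlt := by
  intro x
  rw [Bn_apply]
  exact Cfsg.Agent.S2167.symp_self x

theorem Bn_nondeg : (Bn n F).Nondegenerate := Cfsg.Agent.Helper43.toBilin_J_nondegenerate n F

theorem sympData_of_mem {A : Matrix (Fin n ⊕ Fin n) (Fin n ⊕ Fin n) F}
    (hA : A ∈ Matrix.symplecticGroup (Fin n) F) (k : ℕ) (hk : (k : F) ≠ 0) (hAk : A ^ k = 1) :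
    SympData (Bn n F) (Matrix.toLin' A) where
  alt := Bn_alt
  nondeg := Bn_nondeg
  isom := by
    intro x y
    rw [Matrix.toLin'_apply, Matrix.toLin'_apply]
    exact Cfsg.Agent.Helper43.symp_preserves hA x y
  ss := by
    apply SS.isSemisimple_of_pow_eq_one _ k hk
    rw [← Matrix.toLin'_pow, hAk, Matrix.toLin'_one]
    rfl

theorem exists_symp_of_equivIsom {A A' : Matrix (Fin n ⊕ Fin n) (Fin n ⊕ Fin n) F}
    (s : (Fin n ⊕ Fin n → F) ≃ₗ[F] (Fin n ⊕ Fin n → F))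
    (hs : IsEquivIsom (Bn n F) (Matrix.toLin' A) (Bn n F) (Matrix.toLin' A') s) :
    ∃ C ∈ Matrix.symplecticGroup (Fin n) F, C * A = A' * C := by
  let C : Matrix (Fin n ⊕ Fin n) (Fin n ⊕ Fin n) F := LinearMap.toMatrix' s.toLinearMap
  have hC : Matrix.toLin' C = s.toLinearMap := Matrix.toLin'_toMatrix' _
  have hCv : ∀ v, C *ᵥ v = s v := by
    intro v
    rw [← Matrix.toLin'_apply, hC]
    rfl
  refine ⟨C, ?_, ?_⟩
  · rw [Cfsg.Agent.Helper13.mem_symplecticGroup_iff_preserves]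
    intro u v
    rw [hCv, hCv, ← Bn_apply, ← Bn_apply]
    exact hs.isom u v
  · apply Matrix.toLin'.injective
    rw [Matrix.toLin'_mul, Matrix.toLin'_mul, hC]
    apply LinearMap.ext
    intro x
    exact hs.equiv x

theorem exists_symp_conj_of_charpoly [Fintype F] {A A' : Matrix (Fin n ⊕ Fin n) (Fin n ⊕ Fin n) F}
    (hA : A ∈ Matrix.symplecticGroup (Fin n) F) (hA' : A' ∈ Matrix.symplecticGroup (Fin n) F)
    (k k' : ℕ) (hk : (k : F) ≠ 0) (hk' : (k' : F) ≠ 0) (hAk : A ^ k = 1) (hAk' : A' ^ k' = 1)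
    (hc : A.charpoly = A'.charpoly) :
    ∃ C ∈ Matrix.symplecticGroup (Fin n) F, C * A = A' * C := by
  have h := sympData_of_mem hA k hk hAk
  have h' := sympData_of_mem hA' k' hk' hAk'
  have hch : (Matrix.toLin' A).charpoly = (Matrix.toLin' A').charpoly := by
    rw [Matrix.charpoly_toLin', Matrix.charpoly_toLin', hc]
  obtain ⟨s, hs⟩ := exists_equivIsom h h' hch
  exact exists_symp_of_equivIsom s hs

/-- Group-level version. -/
theorem isConj_symp_of_charpoly [Fintype F] (g h : ↥(Matrix.symplecticGroup (Fin n) F))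
    (k k' : ℕ) (hk : (k : F) ≠ 0) (hk' : (k' : F) ≠ 0) (hgk : g ^ k = 1) (hhk : h ^ k' = 1)
    (hc : (g : Matrix (Fin n ⊕ Fin n) (Fin n ⊕ Fin n) F).charpoly
      = (h : Matrix (Fin n ⊕ Fin n) (Fin n ⊕ Fin n) F).charpoly) : IsConj g h := by
  have e1 : (g : Matrix (Fin n ⊕ Fin n) (Fin n ⊕ Fin n) F) ^ k = 1 := by
    have := congrArg Subtype.val hgk
    simpa using this
  have e2 : (h : Matrix (Fin n ⊕ Fin n) (Fin n ⊕ Fin n) F) ^ k' = 1 := by
    have := congrArg Subtype.val hhk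
    simpa using this
  obtain ⟨C, hC, hCA⟩ := exists_symp_conj_of_charpoly g.2 h.2 k k' hk hk' e1 e2 hc
  rw [isConj_iff]
  refine ⟨⟨C, hC⟩, ?_⟩
  rw [mul_inv_eq_iff_eq_mul]
  exact Subtype.ext hCA

theorem natCast_ne_zero_of_coprime (p : ℕ) [Fact p.Prime] [CharP F p] {k : ℕ} (hk : k.Coprime p) :
    (k : F) ≠ 0 := by
  rw [Ne, CharP.cast_eq_zero_iff F p]
  exact (Nat.Prime.coprime_iff_not_dvd Fact.out).mp hk.symm

end mat

end Cfsg.Agent.Helper43.SpSS
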