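import Mathlib

set_option autoImplicit false

namespace Cfsg.Agent.Helper43.SS

open Polynomial

universe u

/-- Counting conjugacy classes of elements with a property via a complete class invariant. -/
theorem card_classes_eq {G : Type*} [Group G] {T : Type*} (P : G → Prop) (χ : G → T)
    (S : T → Prop)
    (hχ : ∀ g c : G, χ (c * g * c⁻¹) = χ g)
    (hinj : ∀ g h, P g → P h → χ g = χ h → IsConj g h)
    (hS : ∀ g, P g → S (χ g))
    (hsurj : ∀ t, S t → ∃ g, P g ∧ χ g = t) :
    Nat.card {c : ConjClasses G // ∃ g : G, ConjClasses.mk g = c ∧ P g} = Nat.card {t : T // S t} := by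
  let Ψ : {c : ConjClasses G // ∃ g : G, ConjClasses.mk g = c ∧ P g} → {t : T // S t} :=
    fun c => ⟨χ (Classical.choose c.2), hS _ (Classical.choose_spec c.2).2⟩
  apply Nat.card_eq_of_bijective Ψ
  constructor
  · intro c c' h
    have h1 : χ (Classical.choose c.2) = χ (Classical.choose c'.2) := congrArg Subtype.val h
    have h2 := hinj _ _ (Classical.choose_spec c.2).2 (Classical.choose_spec c'.2).2 h1
    apply Subtype.ext
    rw [← (Classical.choose_spec c.2).1, ← (Classical.choose_spec c'.2).1]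
    exact ConjClasses.mk_eq_mk_iff_isConj.mpr h2
  · rintro ⟨t, ht⟩
    obtain ⟨g, hPg, hg⟩ := hsurj t ht
    let c : {c : ConjClasses G // ∃ g : G, ConjClasses.mk g = c ∧ P g} := ⟨ConjClasses.mk g, g, rfl, hPg⟩
    refine ⟨c, ?_⟩
    apply Subtype.ext
    show χ (Classical.choose c.2) = t
    have h1 : ConjClasses.mk (Classical.choose c.2) = ConjClasses.mk g := (Classical.choose_spec c.2).1
    obtain ⟨d, hd⟩ := isConj_iff.mp (ConjClasses.mk_eq_mk_iff_isConj.mp h1)
    rw [← hg, ← hd, hχ]

variable {F : Type u} [Field F]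

/-- The monic polynomial of degree `n` with prescribed lower coefficients. -/
noncomputable def mkMonic (n : ℕ) (a : Fin n → F) : F[X] := X ^ n + ∑ i : Fin n, C (a i) * X ^ (i : ℕ)

theorem mkMonic_monic (n : ℕ) (a : Fin n → F) : (mkMonic n a).Monic :=
  Polynomial.monic_X_pow_add (Polynomial.degree_sum_fin_lt a)

theorem mkMonic_natDegree (n : ℕ) (a : Fin n → F) : (mkMonic n a).natDegree = n := by
  unfold mkMonic
  rw [Polynomial.natDegree_add_eq_left_of_degree_lt, natDegree_X_pow]
  rw [degree_X_pow]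
  exact Polynomial.degree_sum_fin_lt a

theorem mkMonic_coeff (n : ℕ) (a : Fin n → F) (j : Fin n) : (mkMonic n a).coeff j = a j := by
  unfold mkMonic
  rw [coeff_add, coeff_X_pow, if_neg (by have := j.2; omega), zero_add, finsetSum_coeff]
  rw [Finset.sum_eq_single j]
  · rw [coeff_C_mul, coeff_X_pow, if_pos rfl, mul_one]
  · intro i _ hij
    rw [coeff_C_mul, coeff_X_pow, if_neg, mul_zero]
    intro h
    exact hij (Fin.ext h.symm)
  · intro h; exact absurd (Finset.mem_univ j) h

theorem mkMonic_coeff_self (n : ℕ) (f : F[X]) (hf : f.Monic) (hn : f.natDegree = n) :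
    mkMonic n (fun i => f.coeff i) = f := by
  subst hn
  unfold mkMonic
  conv_rhs => rw [hf.as_sum]
  congr 1
  rw [Fin.sum_univ_eq_sum_range (fun i => C (f.coeff i) * X ^ i)]

/-- Monic polynomials of degree `m + 1` with a condition on the constant term. -/
noncomputable def monicEquiv (m : ℕ) (Q : F → Prop) :
    {f : F[X] // f.Monic ∧ f.natDegree = m + 1 ∧ Q (f.coeff 0)} ≃ {x : F // Q x} × (Fin m → F) where
  toFun f := (⟨f.1.coeff 0, f.2.2.2⟩, fun i => f.1.coeff (i.succ : Fin (m + 1)))
  invFun y := ⟨mkMonic (m + 1) (Fin.cons y.1.1 y.2), mkMonic_monic _ _, mkMonic_natDegree _ _, by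
    have := mkMonic_coeff (m + 1) (Fin.cons y.1.1 y.2 : Fin (m + 1) → F) 0
    rw [Fin.val_zero, Fin.cons_zero] at this
    rw [this]
    exact y.1.2⟩
  left_inv f := by
    apply Subtype.ext
    show mkMonic (m + 1) (Fin.cons (f.1.coeff 0) (fun i => f.1.coeff (i.succ : Fin (m + 1)))) = f.1
    refine Eq.trans ?_ (mkMonic_coeff_self (m + 1) f.1 f.2.1 f.2.2.1)
    congr 1
    funext i
    refine Fin.cases ?_ ?_ i
    · rw [Fin.cons_zero]; rfl
    · intro j; rw [Fin.cons_succ]
  right_inv y := by
    apply Prod.ext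
    · apply Subtype.ext
      show (mkMonic (m + 1) (Fin.cons y.1.1 y.2)).coeff 0 = y.1.1
      have := mkMonic_coeff (m + 1) (Fin.cons y.1.1 y.2 : Fin (m + 1) → F) 0
      rw [Fin.val_zero, Fin.cons_zero] at this
      exact this
    · funext i
      show (mkMonic (m + 1) (Fin.cons y.1.1 y.2)).coeff (i.succ : Fin (m + 1)) = y.2 i
      rw [mkMonic_coeff, Fin.cons_succ]

theorem card_monic [Finite F] (m : ℕ) (Q : F → Prop) :
    Nat.card {f : F[X] // f.Monic ∧ f.natDegree = m + 1 ∧ Q (f.coeff 0)}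
      = Nat.card {x : F // Q x} * Nat.card F ^ m := by
  rw [Nat.card_congr (monicEquiv m Q), Nat.card_prod, Nat.card_fun, Nat.card_fin]

end Cfsg.Agent.Helper43.SS
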