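import Mathlib

set_option autoImplicit false

namespace Cfsg.Agent.Helper43.SS

open Polynomial Module

universe u

variable {F : Type u} [Field F]

theorem coprime_pred_prime_pow (p e : ℕ) (hp : 0 < p) (he : 0 < e) : (p ^ e - 1).Coprime p := by
  have h1 : (p ^ e - 1).Coprime (p ^ e) := by
    have h2 : p ^ e = (p ^ e - 1) + 1 := by
      have : 0 < p ^ e := Nat.pos_of_ne_zero (pow_ne_zero _ hp.ne')
      omega
    rw [h2]
    simp
  exact Nat.Coprime.coprime_dvd_right (dvd_pow_self p he.ne') h1

/-- A matrix with irreducible characteristic polynomial `r` and order prime to `p`. -/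
theorem exists_matrix_irreducible [Finite F] (p : ℕ) [Fact p.Prime] [CharP F p] (r : F[X])
    (hrm : r.Monic) (hri : Irreducible r) (hr0 : r.coeff 0 ≠ 0) :
    ∃ A : Matrix (Fin r.natDegree) (Fin r.natDegree) F, A.charpoly = r ∧
      ∃ k : ℕ, 0 < k ∧ k.Coprime p ∧ A ^ k = 1 := by
  haveI : Fact (Irreducible r) := ⟨hri⟩
  let K := AdjoinRoot r
  haveI : Module.Finite F K := hrm.finite_adjoinRoot
  haveI : Finite K := Module.finite_of_finite F
  letI : Fintype K := Fintype.ofFinite K
  haveI : CharP K p := charP_of_injective_algebraMap (algebraMap F K).injective p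
  let pb := AdjoinRoot.powerBasis' hrm
  have h1 := charpoly_leftMulMatrix pb
  have h2 : minpoly F pb.gen = r := by
    rw [AdjoinRoot.powerBasis'_gen, AdjoinRoot.minpoly_root hrm.ne_zero, hrm.leadingCoeff, inv_one,
      map_one, mul_one]
  rw [h2] at h1
  have hroot : (AdjoinRoot.root r : K) ≠ 0 := by
    intro h0
    rw [← AdjoinRoot.mk_X, AdjoinRoot.mk_eq_zero] at h0
    have h3 : X ∣ r := hri.dvd_symm irreducible_X h0
    rw [Polynomial.X_dvd_iff] at h3
    exact hr0 h3
  obtain ⟨e, -, hcard⟩ := FiniteField.card K p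
  have hpow : (AdjoinRoot.root r : K) ^ (Fintype.card K - 1) = 1 :=
    FiniteField.pow_card_sub_one_eq_one _ hroot
  have main : ∃ A : Matrix (Fin pb.dim) (Fin pb.dim) F, A.charpoly = r ∧
      ∃ k : ℕ, 0 < k ∧ k.Coprime p ∧ A ^ k = 1 := by
    refine ⟨Algebra.leftMulMatrix pb.basis pb.gen, h1, Fintype.card K - 1, ?_, ?_, ?_⟩
    · have := Fintype.one_lt_card (α := K)
      omega
    · rw [hcard]
      exact coprime_pred_prime_pow p e (Fact.out : p.Prime).pos e.pos
    · rw [← map_pow, AdjoinRoot.powerBasis'_gen, hpow, map_one]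
  exact main

theorem fromBlocks_diag_pow {a b : Type*} [Fintype a] [Fintype b] [DecidableEq a] [DecidableEq b]
    (A : Matrix a a F) (B : Matrix b b F) (k : ℕ) :
    (Matrix.fromBlocks A 0 0 B) ^ k = Matrix.fromBlocks (A ^ k) 0 0 (B ^ k) := by
  induction k with
  | zero => simp [Matrix.fromBlocks_one]
  | succ k ih =>
    rw [pow_succ, ih, Matrix.fromBlocks_multiply, pow_succ, pow_succ]
    simp

/-- Every monic polynomial with nonzero constant term is the characteristic polynomial of a
matrix of order prime to `p`. -/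
theorem exists_matrix_charpoly [Finite F] (p : ℕ) [Fact p.Prime] [CharP F p] :
    ∀ (d : ℕ) (f : F[X]), f.Monic → f.natDegree = d → f.coeff 0 ≠ 0 →
    ∃ A : Matrix (Fin d) (Fin d) F, A.charpoly = f ∧
      ∃ k : ℕ, 0 < k ∧ k.Coprime p ∧ A ^ k = 1 := by
  intro d
  induction d using Nat.strong_induction_on with
  | _ d ih =>
    intro f hfm hfd hf0
    rcases Nat.eq_zero_or_pos d with rfl | hd
    · have h1 : f = 1 := hfm.natDegree_eq_zero.mp hfd
      refine ⟨1, ?_, 1, one_pos, Nat.coprime_one_left p, pow_one 1⟩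
      rw [h1]
      exact Matrix.charpoly_isEmpty
    · have hfu : ¬ IsUnit f := by
        intro hu
        have := natDegree_eq_zero_of_isUnit hu
        omega
      obtain ⟨r, hrm, hri, f', hf'⟩ := exists_monic_irreducible_factor f hfu
      have hf'm : f'.Monic := hrm.of_mul_monic_left (hf' ▸ hfm)
      have hdeg : r.natDegree + f'.natDegree = d := by
        rw [← hfd, hf', hrm.natDegree_mul hf'm]
      have h00 : r.coeff 0 * f'.coeff 0 ≠ 0 := by
        rw [← mul_coeff_zero, ← hf']; exact hf0
      obtain ⟨A, hA, k, hk0, hkp, hAk⟩ :=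
        exists_matrix_irreducible p r hrm hri (left_ne_zero_of_mul h00)
      have hlt : f'.natDegree < d := by
        have := hri.natDegree_pos
        omega
      obtain ⟨B, hB, l, hl0, hlp, hBl⟩ := ih _ hlt f' hf'm rfl (right_ne_zero_of_mul h00)
      let e : Fin r.natDegree ⊕ Fin f'.natDegree ≃ Fin d := finSumFinEquiv.trans (finCongr hdeg)
      refine ⟨Matrix.reindex e e (Matrix.fromBlocks A 0 0 B), ?_, k * l, Nat.mul_pos hk0 hl0,
        Nat.Coprime.mul_left hkp hlp, ?_⟩
      · rw [Matrix.charpoly_reindex, Matrix.charpoly_fromBlocks_zero₁₂, hA, hB, hf']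
      · have h1 : (Matrix.reindex e e (Matrix.fromBlocks A 0 0 B)) ^ (k * l)
            = Matrix.reindex e e ((Matrix.fromBlocks A 0 0 B) ^ (k * l)) :=
          (map_pow (Matrix.reindexAlgEquiv F F e) _ _).symm
        rw [h1, fromBlocks_diag_pow, pow_mul, hAk, one_pow, mul_comm, pow_mul, hBl, one_pow,
          Matrix.fromBlocks_one]
        simp

end Cfsg.Agent.Helper43.SS
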