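import Cfsg.Agent.Helper43.SSPrime
import Cfsg.Agent.Helper43.SSExist
import Cfsg.Agent.Helper43.SSCount

set_option autoImplicit false

namespace Cfsg.Agent.Helper43.SS

open Polynomial Module

universe u v w

variable {F : Type u} [Field F]

/-- The characteristic polynomials of elements of prime order `r`. -/
def PrimePred (n r : ℕ) (f : F[X]) : Prop :=
  f.Monic ∧ f.natDegree = n ∧
    (∀ P : F[X], P.Monic → Irreducible P → P ∣ f → P ∣ (X ^ r - 1 : F[X])) ∧ f ≠ (X - 1) ^ n

theorem card_classes_prime_order [Finite F] (p : ℕ) [Fact p.Prime] [CharP F p] (n r : ℕ)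
    (hr : r.Prime) (hrp : r ≠ p) :
    Nat.card {C : ConjClasses (GL (Fin n) F) // ∃ g : GL (Fin n) F, ConjClasses.mk g = C ∧ orderOf g = r}
      = Nat.card {f : F[X] // PrimePred n r f} := by
  have hp : p.Prime := Fact.out
  have hrF : (r : F) ≠ 0 := by
    intro h0
    rw [CharP.cast_eq_zero_iff F p r] at h0
    exact hrp ((Nat.prime_dvd_prime_iff_eq hp hr).mp h0).symm
  have hsep : (X ^ r - 1 : F[X]).Separable := by
    have := Polynomial.separable_X_pow_sub_C (1 : F) hrF one_ne_zero
    simpa using this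
  have hX0 : (X ^ r - 1 : F[X]) ≠ 0 := hsep.ne_zero
  have haev : ∀ A : Matrix (Fin n) (Fin n) F, aeval A (X ^ r - 1 : F[X]) = A ^ r - 1 := by
    intro A
    rw [map_sub, map_pow, aeval_X, map_one]
  have hval : ∀ (g : GL (Fin n) F) (k : ℕ), g ^ k = 1 → (g : Matrix (Fin n) (Fin n) F) ^ k = 1 := by
    intro g k hg
    rw [← Units.val_pow_eq_pow_val, hg, Units.val_one]
  apply card_classes_eq (G := GL (Fin n) F) (T := F[X]) (fun g => orderOf g = r)
    (fun g => (g : Matrix (Fin n) (Fin n) F).charpoly) (PrimePred n r)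
  · intro g c
    show ((c * g * c⁻¹ : GL (Fin n) F) : Matrix (Fin n) (Fin n) F).charpoly
      = (g : Matrix (Fin n) (Fin n) F).charpoly
    rw [Units.val_mul, Units.val_mul, Matrix.coe_units_inv]
    exact Matrix.charpoly_units_conj c _
  · intro g h hg hh hc
    have hg' : g ^ r = 1 := by rw [← hg]; exact pow_orderOf_eq_one g
    have hh' : h ^ r = 1 := by rw [← hh]; exact pow_orderOf_eq_one h
    exact isConj_GL_of_charpoly_eq g h r r hrF hrF hg' hh' hc
  · intro g hg
    have hg' : g ^ r = 1 := by rw [← hg]; exact pow_orderOf_eq_one g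
    refine ⟨Matrix.charpoly_monic _, ?_, ?_, ?_⟩
    · rw [Matrix.charpoly_natDegree_eq_dim, Fintype.card_fin]
    · intro P hPm hPi hP
      apply dvd_of_dvd_charpoly (g : Matrix (Fin n) (Fin n) F) _ hsep.squarefree ?_ P hPm hPi hP
      rw [haev, hval g r hg', sub_self]
    · intro hc
      have h1 : (g : Matrix (Fin n) (Fin n) F).charpoly
          = ((1 : GL (Fin n) F) : Matrix (Fin n) (Fin n) F).charpoly := by
        rw [hc, Units.val_one, Matrix.charpoly_one, Fintype.card_fin]
      have hconj := isConj_GL_of_charpoly_eq g 1 r r hrF hrF hg' (one_pow r) h1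
      have hg1 : g = 1 := by
        obtain ⟨c, hc⟩ := isConj_iff.mp hconj.symm
        rw [← hc]; group
      rw [hg1, orderOf_one] at hg
      exact hr.one_lt.ne hg
  · rintro f ⟨hfm, hfd, hfac, hne⟩
    have hf0 : f.coeff 0 ≠ 0 := by
      intro h0
      have hXf : (X : F[X]) ∣ f := Polynomial.X_dvd_iff.mpr h0
      have hX := hfac X monic_X irreducible_X hXf
      have h2 := Polynomial.X_dvd_iff.mp hX
      rw [coeff_sub, coeff_X_pow, coeff_one_zero, if_neg hr.ne_zero.symm] at h2
      simp at h2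
    obtain ⟨A, hA, k, hk0, hkp, hAk⟩ := exists_matrix_charpoly p n f hfm hfd hf0
    have hkF : (k : F) ≠ 0 := by
      intro h0
      rw [CharP.cast_eq_zero_iff F p k] at h0
      have : p ∣ Nat.gcd k p := Nat.dvd_gcd h0 dvd_rfl
      rw [hkp] at this
      exact hp.one_lt.ne' (Nat.dvd_one.mp this)
    have hAr : A ^ r = 1 := by
      have := aeval_eq_zero_of_factors A k hkF hAk (X ^ r - 1 : F[X]) hX0 (by
        intro P hPm hPi hP
        rw [hA] at hP
        exact hfac P hPm hPi hP)
      rw [haev] at this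
      exact sub_eq_zero.mp this
    have h1 : A * A ^ (r - 1) = 1 := by
      rw [← pow_succ', Nat.sub_add_cancel hr.pos, hAr]
    have h2 : A ^ (r - 1) * A = 1 := by
      rw [← pow_succ, Nat.sub_add_cancel hr.pos, hAr]
    let g : GL (Fin n) F := ⟨A, A ^ (r - 1), h1, h2⟩
    have hgr : g ^ r = 1 := by
      apply Units.ext
      rw [Units.val_pow_eq_pow_val]
      exact hAr
    refine ⟨g, ?_, hA⟩
    rcases (Nat.dvd_prime hr).mp (orderOf_dvd_of_pow_eq_one hgr) with h1' | hr'
    · exfalso
      rw [orderOf_eq_one_iff] at h1'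
      apply hne
      rw [← hA]
      have : A = 1 := by
        have h3 : (g : Matrix (Fin n) (Fin n) F) = ((1 : GL (Fin n) F) : Matrix (Fin n) (Fin n) F) := by
          rw [h1']
        exact h3
      rw [this, Matrix.charpoly_one, Fintype.card_fin]
    · exact hr'

end Cfsg.Agent.Helper43.SS
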