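import Mathlib
import Cfsg.Agent.S0765
import Cfsg.Agent.Helper13.Symp

set_option autoImplicit false

namespace Cfsg.Agent.Helper43.SpCount

open Matrix Polynomial

variable {F : Type*} [Field F] {m : ℕ}

theorem det_sympTransvection (v : Fin m ⊕ Fin m → F) (c : F) :
    (Cfsg.sympTransvection m v c).det = 1 := by
  unfold Cfsg.sympTransvection
  rw [← Matrix.smul_vecMulVec, Matrix.vecMulVec_eq Unit,
    Matrix.det_one_add_replicateCol_mul_replicateRow]
  rw [dotProduct_smul, dotProduct_comm, ← Cfsg.Agent.Helper13.sympForm_def,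
    Cfsg.Agent.Helper13.sympForm_self, smul_zero, add_zero]

/-- Symplectic matrices have determinant one. -/
theorem det_eq_one_of_mem_symplectic (A : ↥(Matrix.symplecticGroup (Fin m) F)) :
    (A : Matrix (Fin m ⊕ Fin m) (Fin m ⊕ Fin m) F).det = 1 := by
  let φ : ↥(Matrix.symplecticGroup (Fin m) F) →* F :=
    (Matrix.detMonoidHom).comp (Matrix.symplecticGroup (Fin m) F).subtype
  have hφ : ∀ a : ↥(Matrix.symplecticGroup (Fin m) F),
      φ a = (a : Matrix (Fin m ⊕ Fin m) (Fin m ⊕ Fin m) F).det := fun a => rfl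
  have hle : Subgroup.closure {A : Matrix.symplecticGroup (Fin m) F | ∃ (w : Fin m ⊕ Fin m → F) (c : F),
      (A : Matrix (Fin m ⊕ Fin m) (Fin m ⊕ Fin m) F) = Cfsg.sympTransvection m w c} ≤ φ.ker := by
    rw [Subgroup.closure_le]
    rintro a ⟨w, c, ha⟩
    show a ∈ φ.ker
    rw [MonoidHom.mem_ker, hφ, ha, det_sympTransvection]
  rw [Cfsg.Agent.S0765.result] at hle
  have := hle (Subgroup.mem_top A)
  rw [MonoidHom.mem_ker, hφ] at this
  exact this

/-- The characteristic polynomial of a symplectic matrix is self-reciprocal. -/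
theorem charpoly_reverse_of_mem_symplectic (A : ↥(Matrix.symplecticGroup (Fin m) F)) :
    (A : Matrix (Fin m ⊕ Fin m) (Fin m ⊕ Fin m) F).charpoly.reverse
      = (A : Matrix (Fin m ⊕ Fin m) (Fin m ⊕ Fin m) F).charpoly := by
  set M : Matrix (Fin m ⊕ Fin m) (Fin m ⊕ Fin m) F := (A : Matrix (Fin m ⊕ Fin m) (Fin m ⊕ Fin m) F) with hM
  have hdet : M.det = 1 := det_eq_one_of_mem_symplectic A
  have hunit : IsUnit M := by
    rw [Matrix.isUnit_iff_isUnit_det, hdet]
    exact isUnit_one
  have h1 := Matrix.charpoly_inv M hunit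
  rw [hdet, Ring.inverse_one, map_one, mul_one, Fintype.card_sum, Fintype.card_fin,
    ← two_mul, pow_mul, neg_one_sq, one_pow, one_mul, ← Matrix.reverse_charpoly] at h1
  rw [← h1, ← SymplecticGroup.coe_inv', SymplecticGroup.coe_inv, Matrix.charpoly_mul_comm,
    ← Matrix.mul_assoc]
  have hJ : Matrix.J (Fin m) F * -Matrix.J (Fin m) F = 1 := by
    rw [Matrix.mul_neg, Matrix.J_squared, neg_neg]
  rw [hJ, Matrix.one_mul, Matrix.charpoly_transpose]

end Cfsg.Agent.Helper43.SpCount
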