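import Mathlib
import Cfsg.Agent.Helper43.SpSSG

set_option autoImplicit false

namespace Cfsg.Agent.Helper43.SpCount

open Polynomial Module
open Cfsg.Agent.Helper43.SpSS

universe u v

section cyclic

variable {F : Type u} [Field F] {V : Type v} [AddCommGroup V] [Module F V] [FiniteDimensional F V]

/-- The characteristic polynomial of a cyclic endomorphism is any monic annihilating polynomial
of the right degree. -/
theorem charpoly_of_cyclic (g : Module.End F V) (v : V) (f : F[X]) (hf : f.Monic)
    (hdeg : f.natDegree = finrank F V) (hfv : aeval g f v = 0)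
    (hcyc : ∀ x, ∃ p : F[X], aeval g p v = x) : g.charpoly = f := by
  have hfg : aeval g f = 0 := by
    apply LinearMap.ext
    intro x
    obtain ⟨p, rfl⟩ := hcyc x
    rw [aeval_comm_apply, hfv, map_zero]
    rfl
  have hint : IsIntegral F g := Algebra.IsIntegral.isIntegral g
  set mp := minpoly F g with hmp
  have hmon : mp.Monic := minpoly.monic hint
  have hdvd : mp ∣ f := minpoly.dvd F g hfg
  -- `finrank V ≤ natDegree mp`
  have hle : finrank F V ≤ mp.natDegree := by
    let ψ : degreeLT F mp.natDegree →ₗ[F] V := (cycMap g v).comp (degreeLT F mp.natDegree).subtype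
    have hsurj : Function.Surjective ψ := by
      intro x
      obtain ⟨p, rfl⟩ := hcyc x
      refine ⟨⟨p %ₘ mp, ?_⟩, ?_⟩
      · rw [mem_degreeLT]
        calc (p %ₘ mp).degree < mp.degree := degree_modByMonic_lt p hmon
          _ = mp.natDegree := degree_eq_natDegree hmon.ne_zero
      · show aeval g (p %ₘ mp) v = aeval g p v
        have h1 : p = p %ₘ mp + mp * (p /ₘ mp) := (modByMonic_add_div p mp).symm
        conv_rhs => rw [h1]
        rw [map_add, map_mul, minpoly.aeval, zero_mul, add_zero]
    have hfin : Module.Finite F (degreeLT F mp.natDegree) :=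
      Module.Finite.equiv (degreeLTEquiv F mp.natDegree).symm
    have h2 := LinearMap.finrank_le_finrank_of_surjective hsurj
    rwa [LinearEquiv.finrank_eq (degreeLTEquiv F mp.natDegree), Module.finrank_fin_fun] at h2
  have hfne : f ≠ 0 := hf.ne_zero
  have hle2 : mp.natDegree ≤ f.natDegree := natDegree_le_of_dvd hdvd hfne
  have hmpf : f = mp :=
    eq_of_monic_of_dvd_of_natDegree_le hmon hf hdvd (by omega)
  have hch : g.charpoly = mp := by
    apply eq_of_monic_of_dvd_of_natDegree_le hmon (LinearMap.charpoly_monic g)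
      (LinearMap.minpoly_dvd_charpoly g)
    rw [LinearMap.charpoly_natDegree]
    exact hle
  rw [hch, hmpf]

end cyclic

section pal

variable {F : Type u} [Field F]

/-- The "palindromization" `X^n h(X + 1/X)` of a polynomial `h` of degree at most `n`. -/
noncomputable def pal (n : ℕ) (h : F[X]) : F[X] :=
  ∑ i ∈ Finset.range (n + 1), C (h.coeff i) * (X ^ 2 + 1) ^ i * X ^ (n - i)

theorem pal_add (n : ℕ) (h₁ h₂ : F[X]) : pal n (h₁ + h₂) = pal n h₁ + pal n h₂ := by
  unfold pal
  rw [← Finset.sum_add_distrib]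
  apply Finset.sum_congr rfl
  intro i _
  rw [coeff_add, map_add]
  ring

theorem pal_sub (n : ℕ) (h₁ h₂ : F[X]) : pal n (h₁ - h₂) = pal n h₁ - pal n h₂ := by
  unfold pal
  rw [← Finset.sum_sub_distrib]
  apply Finset.sum_congr rfl
  intro i _
  rw [coeff_sub, map_sub]
  ring

theorem natDegree_pal_term (n i : ℕ) (hi : i ≤ n) (c : F) :
    (C c * (X ^ 2 + 1) ^ i * X ^ (n - i) : F[X]).natDegree ≤ n + i := by
  have h1 : ((X : F[X]) ^ 2 + 1).natDegree ≤ 2 := by
    apply natDegree_add_le_of_degree_le
    · exact natDegree_X_pow_le 2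
    · rw [natDegree_one]; omega
  calc (C c * (X ^ 2 + 1) ^ i * X ^ (n - i) : F[X]).natDegree
      ≤ (C c * (X ^ 2 + 1) ^ i : F[X]).natDegree + (X ^ (n - i) : F[X]).natDegree := natDegree_mul_le
    _ ≤ ((C c : F[X]).natDegree + ((X ^ 2 + 1) ^ i : F[X]).natDegree) + (n - i) := by
        gcongr
        · exact natDegree_mul_le
        · exact natDegree_X_pow_le _
    _ ≤ (0 + i * 2) + (n - i) := by
        gcongr
        · rw [natDegree_C]
        · calc ((X ^ 2 + 1) ^ i : F[X]).natDegree ≤ i * ((X : F[X]) ^ 2 + 1).natDegree :=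
              natDegree_pow_le
            _ ≤ i * 2 := by gcongr
    _ = n + i := by omega

theorem coeff_pal_term_top (n i : ℕ) (hi : i ≤ n) (c : F) :
    (C c * (X ^ 2 + 1) ^ i * X ^ (n - i) : F[X]).coeff (n + i) = c := by
  have hmon : ((X : F[X]) ^ 2 + 1).Monic := by
    apply monic_X_pow_add
    rw [degree_one]
    norm_num
  have hnd : ((X : F[X]) ^ 2 + 1).natDegree = 2 := by
    have := natDegree_X_pow_add_C (n := 2) (r := (1 : F))
    rwa [map_one] at this
  have h2 : ((X ^ 2 + 1 : F[X]) ^ i).Monic := hmon.pow i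
  have h3 : ((X ^ 2 + 1 : F[X]) ^ i).natDegree = 2 * i := by
    rw [hmon.natDegree_pow, hnd, mul_comm]
  have h4 : n + i = (2 * i) + (n - i) := by omega
  rw [mul_assoc, coeff_C_mul, h4, coeff_mul_X_pow, ← h3, h2.coeff_natDegree, mul_one]

/-- The top coefficient: if `h` has degree `d ≤ n` then `pal n h` has coefficient `h_d` in
degree `n + d`. -/
theorem coeff_pal (n : ℕ) (h : F[X]) (hd : h.natDegree ≤ n) :
    (pal n h).coeff (n + h.natDegree) = h.leadingCoeff := by
  unfold pal
  rw [finsetSum_coeff]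
  rw [Finset.sum_eq_single h.natDegree]
  · exact coeff_pal_term_top n _ hd _
  · intro i hi hne
    have hi' : i ≤ n := Nat.lt_succ_iff.mp (Finset.mem_range.mp hi)
    rcases lt_or_gt_of_ne hne with hlt | hgt
    · apply coeff_eq_zero_of_natDegree_lt
      exact lt_of_le_of_lt (natDegree_pal_term n i hi' _) (by omega)
    · rw [coeff_eq_zero_of_natDegree_lt hgt, map_zero, zero_mul, zero_mul, coeff_zero]
  · intro hnot
    exact absurd (Finset.mem_range.mpr (Nat.lt_succ_of_le hd)) hnot

theorem pal_injective (n : ℕ) {h₁ h₂ : F[X]} (hd₁ : h₁.natDegree ≤ n) (hd₂ : h₂.natDegree ≤ n)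
    (heq : pal n h₁ = pal n h₂) : h₁ = h₂ := by
  by_contra hne
  have hd : (h₁ - h₂).natDegree ≤ n := (natDegree_sub_le _ _).trans (max_le hd₁ hd₂)
  have h0 : pal n (h₁ - h₂) = 0 := by rw [pal_sub, heq, sub_self]
  have h1 := coeff_pal n (h₁ - h₂) hd
  rw [h0, coeff_zero] at h1
  exact hne (sub_eq_zero.mp (leadingCoeff_eq_zero.mp h1.symm))

theorem natDegree_pal_le (n : ℕ) (h : F[X]) : (pal n h).natDegree ≤ 2 * n := by
  unfold pal
  apply natDegree_sum_le_of_forall_le
  intro i hi
  have hi' : i ≤ n := Nat.lt_succ_iff.mp (Finset.mem_range.mp hi)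
  exact (natDegree_pal_term n i hi' _).trans (by omega)

theorem pal_monic (n : ℕ) {h : F[X]} (hm : h.Monic) (hd : h.natDegree = n) : (pal n h).Monic := by
  have h1 := coeff_pal n h hd.le
  rw [hd, hm.leadingCoeff] at h1
  have h2 := natDegree_pal_le n h
  have h3 : (pal n h).natDegree = 2 * n := by
    apply le_antisymm h2
    apply le_natDegree_of_ne_zero
    rw [two_mul, h1]
    exact one_ne_zero
  unfold Monic leadingCoeff
  rw [h3, two_mul, h1]

theorem natDegree_pal (n : ℕ) {h : F[X]} (hm : h.Monic) (hd : h.natDegree = n) :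
    (pal n h).natDegree = 2 * n := by
  have h1 := coeff_pal n h hd.le
  rw [hd, hm.leadingCoeff] at h1
  apply le_antisymm (natDegree_pal_le n h)
  apply le_natDegree_of_ne_zero
  rw [two_mul, h1]
  exact one_ne_zero

end pal

end Cfsg.Agent.Helper43.SpCount
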