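import Mathlib
import Cfsg.Agent.Helper43.SpCountB

set_option autoImplicit false

namespace Cfsg.Agent.Helper43.SpCount

open Polynomial Module
open Cfsg.Agent.Helper43.SpSS

universe u

variable {F : Type u} [Field F] {h : F[X]}

/-- The linear functional "coefficient of `Y^(n-1)`" on `F[Y]/(h)`. -/
noncomputable def ell (hh : h.Monic) : AdjoinRoot h →ₗ[F] F :=
  (lcoeff F (h.natDegree - 1)).comp (AdjoinRoot.modByMonicHom hh)

theorem ell_mk (hh : h.Monic) (p : F[X]) :
    ell hh (AdjoinRoot.mk h p) = (p %ₘ h).coeff (h.natDegree - 1) := by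
  unfold ell
  rw [LinearMap.comp_apply, AdjoinRoot.modByMonicHom_mk]
  rfl

/-- The trace-like form `(a, b) ↦ ell (a b)` is nondegenerate. -/
theorem ell_nondeg (hh : h.Monic) (a : AdjoinRoot h) (ha : ∀ b, ell hh (a * b) = 0) : a = 0 := by
  by_contra ha0
  set p := AdjoinRoot.modByMonicHom hh a with hp
  have hpa : AdjoinRoot.mk h p = a := AdjoinRoot.mk_leftInverse hh a
  have hp0 : p ≠ 0 := by
    intro h0
    apply ha0
    rw [← hpa, h0, map_zero]
  have hdeg : p.degree < h.degree := by
    obtain ⟨p₀, hp₀⟩ := AdjoinRoot.mk_surjective a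
    rw [hp, ← hp₀, AdjoinRoot.modByMonicHom_mk]
    exact degree_modByMonic_lt p₀ hh
  have hnd : p.natDegree < h.natDegree := natDegree_lt_natDegree hp0 hdeg
  set d := p.natDegree with hd
  set n := h.natDegree with hn
  have h1 := ha (AdjoinRoot.mk h (X ^ (n - 1 - d)))
  rw [← hpa, ← map_mul, ell_mk] at h1
  have hlt : (p * X ^ (n - 1 - d)).degree < h.degree := by
    rw [degree_eq_natDegree hh.ne_zero, degree_lt_iff_coeff_zero]
    intro j hj
    rw [coeff_mul_X_pow']
    split_ifs with hc
    · apply coeff_eq_zero_of_natDegree_lt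
      omega
    · rfl
  rw [(modByMonic_eq_self_iff hh).mpr hlt, coeff_mul_X_pow', if_pos (by omega)] at h1
  have h2 : n - 1 - (n - 1 - d) = d := by omega
  rw [h2] at h1
  exact hp0 (leadingCoeff_eq_zero.mp h1)

/-- The model isometry `(a, b) ↦ (b, -a + Y b)` on `W × W`. -/
noncomputable def gW (h : F[X]) : Module.End F (AdjoinRoot h × AdjoinRoot h) where
  toFun x := (x.2, -x.1 + AdjoinRoot.root h * x.2)
  map_add' x y := by
    ext
    · rfl
    · show -(x.1 + y.1) + AdjoinRoot.root h * (x.2 + y.2)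
        = (-x.1 + AdjoinRoot.root h * x.2) + (-y.1 + AdjoinRoot.root h * y.2)
      ring
  map_smul' c x := by
    ext
    · rfl
    · show -(c • x.1) + AdjoinRoot.root h * (c • x.2) = c • (-x.1 + AdjoinRoot.root h * x.2)
      rw [smul_add, smul_neg, mul_smul_comm]

theorem gW_apply (x : AdjoinRoot h × AdjoinRoot h) :
    gW h x = (x.2, -x.1 + AdjoinRoot.root h * x.2) := rfl

/-- The inverse of the model isometry. -/
noncomputable def gWi (h : F[X]) : Module.End F (AdjoinRoot h × AdjoinRoot h) where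
  toFun x := (AdjoinRoot.root h * x.1 - x.2, x.1)
  map_add' x y := by
    ext
    · show AdjoinRoot.root h * (x.1 + y.1) - (x.2 + y.2)
        = (AdjoinRoot.root h * x.1 - x.2) + (AdjoinRoot.root h * y.1 - y.2)
      ring
    · rfl
  map_smul' c x := by
    ext
    · show AdjoinRoot.root h * (c • x.1) - c • x.2 = c • (AdjoinRoot.root h * x.1 - x.2)
      rw [smul_sub, mul_smul_comm]
    · rfl

theorem gWi_apply (x : AdjoinRoot h × AdjoinRoot h) :
    gWi h x = (AdjoinRoot.root h * x.1 - x.2, x.1) := rfl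

theorem gWi_gW (x : AdjoinRoot h × AdjoinRoot h) : gWi h (gW h x) = x := by
  rw [gW_apply, gWi_apply]
  ext
  · show AdjoinRoot.root h * x.2 - (-x.1 + AdjoinRoot.root h * x.2) = x.1
    ring
  · rfl

/-- The model alternating form. -/
noncomputable def BW (hh : h.Monic) : LinearMap.BilinForm F (AdjoinRoot h × AdjoinRoot h) :=
  LinearMap.mk₂ F (fun x y => ell hh (x.1 * y.2 - x.2 * y.1))
    (by intro x x' y
        rw [← map_add]; congr 1
        show (x.1 + x'.1) * y.2 - (x.2 + x'.2) * y.1 = _
        ring)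
    (by intro c x y
        rw [← map_smul]; congr 1
        show (c • x.1) * y.2 - (c • x.2) * y.1 = c • (x.1 * y.2 - x.2 * y.1)
        rw [smul_sub, smul_mul_assoc, smul_mul_assoc])
    (by intro x y y'
        rw [← map_add]; congr 1
        show x.1 * (y.2 + y'.2) - x.2 * (y.1 + y'.1) = _
        ring)
    (by intro c x y
        rw [← map_smul]; congr 1
        show x.1 * (c • y.2) - x.2 * (c • y.1) = c • (x.1 * y.2 - x.2 * y.1)
        rw [smul_sub, mul_smul_comm, mul_smul_comm])

theorem BW_apply (hh : h.Monic) (x y : AdjoinRoot h × AdjoinRoot h) :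
    BW hh x y = ell hh (x.1 * y.2 - x.2 * y.1) := rfl

theorem BW_alt (hh : h.Monic) : (BW hh).IsAlt := by
  intro x
  rw [BW_apply, mul_comm x.2 x.1, sub_self, map_zero]

theorem BW_isom (hh : h.Monic) : IsIsom (BW hh) (gW h) := by
  intro x y
  rw [BW_apply, BW_apply, gW_apply, gW_apply]
  congr 1
  show x.2 * (-y.1 + AdjoinRoot.root h * y.2) - (-x.1 + AdjoinRoot.root h * x.2) * y.2
    = x.1 * y.2 - x.2 * y.1
  ring

theorem BW_nondeg (hh : h.Monic) : (BW hh).Nondegenerate := by
  refine (LinearMap.IsRefl.nondegenerate_iff_separatingLeft (BW_alt hh).isRefl).mpr ?_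
  intro x hx
  have h1 : x.1 = 0 := by
    apply ell_nondeg hh
    intro b
    have := hx (0, b)
    rw [BW_apply] at this
    simpa using this
  have h2 : x.2 = 0 := by
    apply ell_nondeg hh
    intro b
    have := hx (b, 0)
    rw [BW_apply] at this
    have h3 : ell hh (x.2 * b) = -ell hh (x.1 * (0 : AdjoinRoot h) - x.2 * b) := by
      rw [mul_zero, zero_sub, map_neg, neg_neg]
    rw [h3]
    simpa using this
  exact Prod.ext h1 h2

end Cfsg.Agent.Helper43.SpCount
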