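import Mathlib
import Cfsg.Agent.Helper43.SpCountC

set_option autoImplicit false

namespace Cfsg.Agent.Helper43.SpCount

open Polynomial Module
open Cfsg.Agent.Helper43.SpSS

universe u

variable {F : Type u} [Field F] {h : F[X]}

theorem finite_adjoinRoot (hh : h.Monic) : Module.Finite F (AdjoinRoot h) :=
  (AdjoinRoot.powerBasis' hh).finite

theorem finrank_adjoinRoot (hh : h.Monic) : finrank F (AdjoinRoot h) = h.natDegree := by
  rw [(AdjoinRoot.powerBasis' hh).finrank, AdjoinRoot.powerBasis'_dim]

theorem finrank_model (hh : h.Monic) :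
    finrank F (AdjoinRoot h × AdjoinRoot h) = 2 * h.natDegree := by
  haveI := finite_adjoinRoot hh
  rw [Module.finrank_prod, finrank_adjoinRoot hh, two_mul]

/-- Scalar multiplication by an element of `W` as an `F`-linear endomorphism of `W × W`. -/
noncomputable def DW (h : F[X]) : AdjoinRoot h →ₐ[F] Module.End F (AdjoinRoot h × AdjoinRoot h) :=
  Algebra.lsmul F F (AdjoinRoot h × AdjoinRoot h)

theorem DW_apply (w : AdjoinRoot h) (x : AdjoinRoot h × AdjoinRoot h) :
    DW h w x = (w * x.1, w * x.2) := rfl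

theorem aeval_DW (p : F[X]) : aeval (DW h (AdjoinRoot.root h)) p = DW h (AdjoinRoot.mk h p) := by
  rw [aeval_algHom_apply, AdjoinRoot.aeval_eq]

theorem gW_add_gWi : gW h + gWi h = DW h (AdjoinRoot.root h) := by
  apply LinearMap.ext
  intro x
  rw [LinearMap.add_apply, gW_apply, gWi_apply, DW_apply]
  ext
  · show x.2 + (AdjoinRoot.root h * x.1 - x.2) = AdjoinRoot.root h * x.1
    ring
  · show (-x.1 + AdjoinRoot.root h * x.2) + x.1 = AdjoinRoot.root h * x.2
    ring

theorem gW_sq_add_one : gW h * gW h + 1 = DW h (AdjoinRoot.root h) * gW h := by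
  apply LinearMap.ext
  intro x
  rw [LinearMap.add_apply, Module.End.mul_apply, Module.End.mul_apply, Module.End.one_apply,
    gW_apply, gW_apply, DW_apply]
  ext
  · show (-x.1 + AdjoinRoot.root h * x.2) + x.1 = AdjoinRoot.root h * x.2
    ring
  · show (-x.2 + AdjoinRoot.root h * (-x.1 + AdjoinRoot.root h * x.2)) + x.2
      = AdjoinRoot.root h * (-x.1 + AdjoinRoot.root h * x.2)
    ring

theorem DW_comm_gW (w : AdjoinRoot h) : Commute (DW h w) (gW h) := by
  apply LinearMap.ext
  intro x
  rw [Module.End.mul_apply, Module.End.mul_apply, gW_apply, gW_apply, DW_apply, DW_apply]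
  ext
  · rfl
  · show w * (-x.1 + AdjoinRoot.root h * x.2) = -(w * x.1) + AdjoinRoot.root h * (w * x.2)
    ring

/-- The model isometry is annihilated by the palindromization of `h`. -/
theorem aeval_gW_pal : aeval (gW h) (pal h.natDegree h) = 0 := by
  set n := h.natDegree with hn
  set D := DW h (AdjoinRoot.root h) with hD
  have hterm : ∀ i ∈ Finset.range (n + 1),
      aeval (gW h) (C (h.coeff i) * (X ^ 2 + 1) ^ i * X ^ (n - i))
        = (h.coeff i • D ^ i) * gW h ^ n := by
    intro i hi
    have hi' : i ≤ n := Nat.lt_succ_iff.mp (Finset.mem_range.mp hi)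
    rw [map_mul, map_mul, aeval_C, map_pow, map_pow, map_add, map_pow, aeval_X, map_one, pow_two,
      gW_sq_add_one, (DW_comm_gW _).mul_pow, Algebra.algebraMap_eq_smul_one, smul_mul_assoc,
      one_mul, smul_mul_assoc, mul_assoc, ← pow_add, Nat.add_sub_cancel' hi', smul_mul_assoc]
  unfold pal
  rw [map_sum, Finset.sum_congr rfl hterm, ← Finset.sum_mul]
  have h1 : ∑ i ∈ Finset.range (n + 1), h.coeff i • D ^ i = aeval D h := by
    rw [aeval_eq_sum_range]
  rw [h1, hD, aeval_DW, AdjoinRoot.mk_self, map_zero, zero_mul]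

/-- `(0, 1)` is a cyclic vector for the model isometry. -/
theorem gW_cyclic (hh : h.Monic) (x : AdjoinRoot h × AdjoinRoot h) :
    ∃ p : F[X], aeval (gW h) p ((0 : AdjoinRoot h), (1 : AdjoinRoot h)) = x := by
  haveI := finite_adjoinRoot hh
  set v : AdjoinRoot h × AdjoinRoot h := (0, 1) with hv
  set S := cycSub (gW h) v with hS
  have hSi : S ∈ (gW h).invtSubmodule := cycSub_mem_invt _ _
  -- `S` is stable under the inverse
  have hSinv : ∀ y ∈ S, gWi h y ∈ S := by
    intro y hy
    have hinj : Function.Injective (rst (gW h) hSi) := by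
      intro a b hab
      apply Subtype.ext
      have h1 : gW h (a : AdjoinRoot h × AdjoinRoot h) = gW h (b : AdjoinRoot h × AdjoinRoot h) :=
        congrArg Subtype.val hab
      have h2 := congrArg (gWi h) h1
      rwa [gWi_gW, gWi_gW] at h2
    obtain ⟨z, hz⟩ := (LinearMap.injective_iff_surjective.mp hinj) ⟨y, hy⟩
    have hz' : gW h (z : AdjoinRoot h × AdjoinRoot h) = y := congrArg Subtype.val hz
    rw [← hz', gWi_gW]
    exact z.2
  -- `S` is stable under `W`
  have hSD : S ∈ (DW h (AdjoinRoot.root h)).invtSubmodule := by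
    rw [Module.End.mem_invtSubmodule]
    intro y hy
    rw [Submodule.mem_comap, ← gW_add_gWi, LinearMap.add_apply]
    exact S.add_mem (hSi hy) (hSinv y hy)
  have hSW : ∀ (w : AdjoinRoot h) (y : AdjoinRoot h × AdjoinRoot h), y ∈ S → DW h w y ∈ S := by
    intro w y hy
    obtain ⟨p, rfl⟩ := AdjoinRoot.mk_surjective w
    rw [← aeval_DW]
    exact aeval_mem_of_invt hSD p hy
  have hvS : v ∈ S := self_mem_cycSub _ _
  have h0w : ∀ w : AdjoinRoot h, ((0 : AdjoinRoot h), w) ∈ S := by
    intro w
    have := hSW w v hvS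
    rw [DW_apply] at this
    simpa [hv] using this
  have hw0 : ∀ w : AdjoinRoot h, (w, (0 : AdjoinRoot h)) ∈ S := by
    intro w
    have h1 := hSi (h0w w)
    rw [Submodule.mem_comap, gW_apply] at h1
    have h2 := S.sub_mem h1 (h0w (AdjoinRoot.root h * w))
    have h3 : ((((0 : AdjoinRoot h), w).2, -((0 : AdjoinRoot h), w).1 + AdjoinRoot.root h * ((0 : AdjoinRoot h), w).2)
        - ((0 : AdjoinRoot h), AdjoinRoot.root h * w) : AdjoinRoot h × AdjoinRoot h) = (w, 0) := by
      ext
      · simp
      · simp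
    rwa [h3] at h2
  have hx : x ∈ S := by
    have : x = (x.1, 0) + (0, x.2) := by
      ext <;> simp
    rw [this]
    exact S.add_mem (hw0 _) (h0w _)
  exact mem_cycSub.mp hx

/-- The characteristic polynomial of the model isometry. -/
theorem charpoly_gW (hh : h.Monic) :
    haveI := finite_adjoinRoot hh
    (gW h).charpoly = pal h.natDegree h := by
  haveI := finite_adjoinRoot hh
  apply charpoly_of_cyclic (gW h) ((0 : AdjoinRoot h), (1 : AdjoinRoot h)) _ (pal_monic _ hh rfl)
  · rw [natDegree_pal _ hh rfl, finrank_model hh]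
  · rw [aeval_gW_pal, LinearMap.zero_apply]
  · exact gW_cyclic hh

end Cfsg.Agent.Helper43.SpCount
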