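import Mathlib
import Cfsg.Agent.Helper43.SpCountD
import Cfsg.Agent.Helper43.SpSSM

set_option autoImplicit false

namespace Cfsg.Agent.Helper43.SpCount

open Polynomial Module Matrix
open Cfsg.Agent.Helper43.SpSS

universe u

variable {F : Type u} [Field F] [Fintype F]

theorem sympData_one {V : Type u} [AddCommGroup V] [Module F V] [FiniteDimensional F V]
    {B : LinearMap.BilinForm F V} (halt : B.IsAlt) (hnd : B.Nondegenerate) :
    SympData B (1 : Module.End F V) where
  alt := halt
  nondeg := hnd
  isom := fun _ _ => rfl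
  ss := SS.isSemisimple_of_pow_eq_one 1 1 (by simp) (pow_one 1)

/-- Any two nondegenerate alternating spaces of the same dimension over a finite field are
isometric. -/
theorem exists_isometry_alt {V V' : Type u} [AddCommGroup V] [Module F V] [FiniteDimensional F V]
    [AddCommGroup V'] [Module F V'] [FiniteDimensional F V']
    {B : LinearMap.BilinForm F V} {B' : LinearMap.BilinForm F V'}
    (halt : B.IsAlt) (hnd : B.Nondegenerate) (halt' : B'.IsAlt) (hnd' : B'.Nondegenerate)
    (hdim : finrank F V = finrank F V') :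
    ∃ φ : V ≃ₗ[F] V', ∀ x y, B' (φ x) (φ y) = B x y := by
  have hch : (1 : Module.End F V).charpoly = (1 : Module.End F V').charpoly := by
    let e := LinearEquiv.ofFinrankEq V V' hdim
    rw [← LinearEquiv.charpoly_conj e (1 : Module.End F V)]
    congr 1
    apply LinearMap.ext
    intro x
    rw [LinearEquiv.conj_apply_apply, Module.End.one_apply, LinearEquiv.apply_symm_apply,
      Module.End.one_apply]
  obtain ⟨φ, hφ⟩ := exists_equivIsom (sympData_one halt hnd) (sympData_one halt' hnd') hch
  exact ⟨φ, hφ.isom⟩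

/-- Every palindromization of a monic polynomial of degree `n` is the characteristic polynomial
of a symplectic matrix. -/
theorem exists_symp_charpoly {n : ℕ} {h : F[X]} (hh : h.Monic) (hn : h.natDegree = n) :
    ∃ A ∈ Matrix.symplecticGroup (Fin n) F, A.charpoly = pal n h := by
  haveI := finite_adjoinRoot hh
  have hdim : finrank F (AdjoinRoot h × AdjoinRoot h) = finrank F (Fin n ⊕ Fin n → F) := by
    rw [finrank_model hh, hn, Module.finrank_fintype_fun_eq_card, Fintype.card_sum,
      Fintype.card_fin, two_mul]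
  obtain ⟨φ, hφ⟩ := exists_isometry_alt (BW_alt hh) (BW_nondeg hh) (Bn_alt (n := n) (F := F))
    (Bn_nondeg (n := n) (F := F)) hdim
  let g' : Module.End F (Fin n ⊕ Fin n → F) := φ.conj (gW h)
  have hg' : ∀ u, g' u = φ (gW h (φ.symm u)) := fun u => LinearEquiv.conj_apply_apply _ _ _
  let A : Matrix (Fin n ⊕ Fin n) (Fin n ⊕ Fin n) F := LinearMap.toMatrix' g'
  have hA : Matrix.toLin' A = g' := Matrix.toLin'_toMatrix' _
  have hAv : ∀ v, A *ᵥ v = g' v := by
    intro v
    rw [← Matrix.toLin'_apply, hA]
  refine ⟨A, ?_, ?_⟩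
  · rw [Cfsg.Agent.Helper13.mem_symplecticGroup_iff_preserves]
    intro u v
    rw [hAv, hAv, ← Bn_apply, ← Bn_apply, hg', hg', hφ, BW_isom hh, ← hφ,
      LinearEquiv.apply_symm_apply, LinearEquiv.apply_symm_apply]
  · rw [← Matrix.charpoly_toLin', hA]
    show (φ.conj (gW h)).charpoly = _
    rw [LinearEquiv.charpoly_conj, charpoly_gW hh, hn]

/-- Iterated Frobenius powers preserve the characteristic polynomial. -/
theorem charpoly_pow_card_pow' {ι : Type*} [Fintype ι] [DecidableEq ι] (M : Matrix ι ι F) (e : ℕ) :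
    (M ^ (Fintype.card F ^ e)).charpoly = M.charpoly := by
  induction e with
  | zero => rw [pow_zero, pow_one]
  | succ e ih => rw [pow_succ, pow_mul, FiniteField.Matrix.charpoly_pow_card, ih]

/-- Every palindromization of a monic polynomial of degree `n` is the characteristic polynomial
of a symplectic matrix of order prime to the characteristic. -/
theorem exists_semisimple_charpoly (p : ℕ) [Fact p.Prime] [CharP F p] {n : ℕ} {h : F[X]}
    (hh : h.Monic) (hn : h.natDegree = n) :
    ∃ a : ↥(Matrix.symplecticGroup (Fin n) F), (orderOf a).Coprime p ∧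
      (a : Matrix (Fin n ⊕ Fin n) (Fin n ⊕ Fin n) F).charpoly = pal n h := by
  obtain ⟨A, hA, hch⟩ := exists_symp_charpoly hh hn
  let a₀ : ↥(Matrix.symplecticGroup (Fin n) F) := ⟨A, hA⟩
  have hN : 0 < orderOf a₀ := orderOf_pos a₀
  obtain ⟨e, r, hr, hNr⟩ := Nat.exists_eq_pow_mul_and_not_dvd hN.ne' p (Fact.out : p.Prime).ne_one
  have hpq : p ∣ Fintype.card F := by
    rw [← CharP.cast_eq_zero_iff F p]
    exact Nat.cast_card_eq_zero F
  refine ⟨a₀ ^ (Fintype.card F ^ e), ?_, ?_⟩
  · have h1 : (a₀ ^ (Fintype.card F ^ e)) ^ r = 1 := by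
      rw [← pow_mul]
      apply orderOf_dvd_iff_pow_eq_one.mp
      rw [hNr]
      exact Nat.mul_dvd_mul (pow_dvd_pow_of_dvd hpq e) (dvd_refl r)
    have h2 : orderOf (a₀ ^ (Fintype.card F ^ e)) ∣ r := orderOf_dvd_of_pow_eq_one h1
    have h3 : r.Coprime p := ((Nat.Prime.coprime_iff_not_dvd Fact.out).mpr hr).symm
    exact Nat.Coprime.coprime_dvd_left h2 h3
  · rw [SubmonoidClass.coe_pow]
    show (A ^ (Fintype.card F ^ e)).charpoly = _
    rw [charpoly_pow_card_pow', hch]

end Cfsg.Agent.Helper43.SpCount
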