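import Mathlib
import Cfsg.Agent.Helper43.SpCountE
import Cfsg.Agent.Helper43.SpCountA

set_option autoImplicit false

namespace Cfsg.Agent.Helper43.SpCount

open Polynomial Module Matrix
open Cfsg.Agent.Helper43.SpSS

universe u

section poly

variable {F : Type u} [Field F]

/-- A self-reciprocal monic polynomial of degree `2n` is determined by its coefficients in
degrees `1, …, n`. -/
theorem eq_of_reverse_eq {n : ℕ} {f₁ f₂ : F[X]} (hm₁ : f₁.Monic) (hm₂ : f₂.Monic)
    (hd₁ : f₁.natDegree = 2 * n) (hd₂ : f₂.natDegree = 2 * n) (hr₁ : f₁.reverse = f₁)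
    (hr₂ : f₂.reverse = f₂) (hc : ∀ i : Fin n, f₁.coeff (i + 1) = f₂.coeff (i + 1)) : f₁ = f₂ := by
  have hsym : ∀ (f : F[X]), f.natDegree = 2 * n → f.reverse = f → ∀ j ≤ 2 * n,
      f.coeff (2 * n - j) = f.coeff j := by
    intro f hd hr j hj
    conv_rhs => rw [← hr]
    rw [coeff_reverse, hd, revAt_le hj]
  have h0 : ∀ (f : F[X]), f.Monic → f.natDegree = 2 * n → f.reverse = f → f.coeff 0 = 1 := by
    intro f hm hd hr
    have := hsym f hd hr (2 * n) le_rfl
    rw [Nat.sub_self] at this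
    rw [this, ← hd]
    exact hm.coeff_natDegree
  have hlow : ∀ j, j ≤ n → f₁.coeff j = f₂.coeff j := by
    intro j hj
    rcases Nat.eq_zero_or_pos j with rfl | hpos
    · rw [h0 f₁ hm₁ hd₁ hr₁, h0 f₂ hm₂ hd₂ hr₂]
    · have := hc ⟨j - 1, by omega⟩
      simp only at this
      rwa [Nat.sub_add_cancel hpos] at this
  ext j
  by_cases hj : j ≤ 2 * n
  · by_cases hjn : j ≤ n
    · exact hlow j hjn
    · rw [← hsym f₁ hd₁ hr₁ j hj, ← hsym f₂ hd₂ hr₂ j hj]
      exact hlow _ (by omega)
  · push Not at hj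
    rw [coeff_eq_zero_of_natDegree_lt (by omega), coeff_eq_zero_of_natDegree_lt (by omega)]

/-- The monic polynomial of degree `n` with prescribed lower coefficients. -/
noncomputable def monicOf {n : ℕ} (c : Fin n → F) : F[X] :=
  X ^ n + ∑ i : Fin n, C (c i) * X ^ (i : ℕ)

theorem monicOf_low_degree {n : ℕ} (c : Fin n → F) :
    (∑ i : Fin n, C (c i) * X ^ (i : ℕ)).degree < (n : WithBot ℕ) :=
  degree_sum_fin_lt c

theorem monicOf_monic {n : ℕ} (c : Fin n → F) : (monicOf c).Monic :=
  monic_X_pow_add (monicOf_low_degree c)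

theorem monicOf_natDegree {n : ℕ} (c : Fin n → F) : (monicOf c).natDegree = n := by
  unfold monicOf
  have h1 : ((X : F[X]) ^ n).degree = n := degree_X_pow n
  have h2 : (X ^ n + ∑ i : Fin n, C (c i) * X ^ (i : ℕ)).degree = n := by
    rw [degree_add_eq_left_of_degree_lt (by rw [h1]; exact monicOf_low_degree c), h1]
  exact natDegree_eq_of_degree_eq_some h2

theorem monicOf_coeff {n : ℕ} (c : Fin n → F) (i : Fin n) : (monicOf c).coeff i = c i := by
  unfold monicOf
  rw [coeff_add, coeff_X_pow, if_neg (by omega), zero_add, finsetSum_coeff]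
  rw [Finset.sum_eq_single i]
  · rw [coeff_C_mul_X_pow, if_pos rfl]
  · intro j _ hj
    rw [coeff_C_mul_X_pow, if_neg]
    intro h
    exact hj (Fin.ext h.symm)
  · intro hnot
    exact absurd (Finset.mem_univ i) hnot

theorem monicOf_injective {n : ℕ} : Function.Injective (monicOf (F := F) (n := n)) := by
  intro c c' h
  funext i
  rw [← monicOf_coeff c i, ← monicOf_coeff c' i, h]

end poly

section count

variable {F : Type u} [Field F] [Fintype F]

theorem charpoly_eq_of_isConj {n : ℕ} {a b : ↥(Matrix.symplecticGroup (Fin n) F)}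
    (h : IsConj a b) : (a : Matrix (Fin n ⊕ Fin n) (Fin n ⊕ Fin n) F).charpoly
      = (b : Matrix (Fin n ⊕ Fin n) (Fin n ⊕ Fin n) F).charpoly := by
  obtain ⟨c, hc⟩ := isConj_iff.mp h
  have h1 : (b : Matrix (Fin n ⊕ Fin n) (Fin n ⊕ Fin n) F)
      = (c : Matrix (Fin n ⊕ Fin n) (Fin n ⊕ Fin n) F) * (a : Matrix _ _ F)
        * ((c⁻¹ : ↥(Matrix.symplecticGroup (Fin n) F)) : Matrix _ _ F) := by
    rw [← hc]
    rfl
  have h2 : ((c⁻¹ : ↥(Matrix.symplecticGroup (Fin n) F)) : Matrix (Fin n ⊕ Fin n) (Fin n ⊕ Fin n) F)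
      * (c : Matrix (Fin n ⊕ Fin n) (Fin n ⊕ Fin n) F) = 1 := by
    have := congrArg (fun z : ↥(Matrix.symplecticGroup (Fin n) F) =>
      (z : Matrix (Fin n ⊕ Fin n) (Fin n ⊕ Fin n) F)) (inv_mul_cancel c)
    exact this
  rw [h1, Matrix.charpoly_mul_comm, ← Matrix.mul_assoc, h2, Matrix.one_mul]

/-- The number of conjugacy classes of elements of order prime to `p` in `Sp_{2n}(q)` is `q^n`. -/
theorem card_semisimple_classes (p : ℕ) [Fact p.Prime] [CharP F p] (n : ℕ) :
    Nat.card {c : ConjClasses ↥(Matrix.symplecticGroup (Fin n) F) //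
      ∃ g : ↥(Matrix.symplecticGroup (Fin n) F), ConjClasses.mk g = c ∧ (orderOf g).Coprime p}
      = Fintype.card F ^ n := by
  classical
  set T := {c : ConjClasses ↥(Matrix.symplecticGroup (Fin n) F) //
      ∃ g : ↥(Matrix.symplecticGroup (Fin n) F), ConjClasses.mk g = c ∧ (orderOf g).Coprime p}
    with hT
  have hcardfun : Nat.card (Fin n → F) = Fintype.card F ^ n := by
    rw [Nat.card_eq_fintype_card, Fintype.card_fun, Fintype.card_fin]
  -- representatives
  let rep : T → ↥(Matrix.symplecticGroup (Fin n) F) := fun c => c.2.choose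
  have hrep : ∀ c : T, ConjClasses.mk (rep c) = c.1 ∧ (orderOf (rep c)).Coprime p :=
    fun c => c.2.choose_spec
  have hmon : ∀ a : ↥(Matrix.symplecticGroup (Fin n) F),
      (a : Matrix (Fin n ⊕ Fin n) (Fin n ⊕ Fin n) F).charpoly.Monic :=
    fun a => Matrix.charpoly_monic _
  have hdeg : ∀ a : ↥(Matrix.symplecticGroup (Fin n) F),
      (a : Matrix (Fin n ⊕ Fin n) (Fin n ⊕ Fin n) F).charpoly.natDegree = 2 * n := by
    intro a
    rw [Matrix.charpoly_natDegree_eq_dim, Fintype.card_sum, Fintype.card_fin, two_mul]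
  apply le_antisymm
  · -- upper bound
    rw [← hcardfun]
    let Φ : T → (Fin n → F) := fun c i =>
      ((rep c : ↥(Matrix.symplecticGroup (Fin n) F)) : Matrix (Fin n ⊕ Fin n) (Fin n ⊕ Fin n) F).charpoly.coeff
        (i + 1)
    apply Nat.card_le_card_of_injective Φ
    intro c c' hcc
    have hch : ((rep c : ↥(Matrix.symplecticGroup (Fin n) F)) :
        Matrix (Fin n ⊕ Fin n) (Fin n ⊕ Fin n) F).charpoly
        = ((rep c' : ↥(Matrix.symplecticGroup (Fin n) F)) :
          Matrix (Fin n ⊕ Fin n) (Fin n ⊕ Fin n) F).charpoly := by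
      apply eq_of_reverse_eq (hmon _) (hmon _) (hdeg _) (hdeg _)
        (charpoly_reverse_of_mem_symplectic _) (charpoly_reverse_of_mem_symplectic _)
      intro i
      exact congrFun hcc i
    have hconj : IsConj (rep c) (rep c') :=
      isConj_symp_of_charpoly (rep c) (rep c') (orderOf (rep c)) (orderOf (rep c'))
        (natCast_ne_zero_of_coprime p (hrep c).2) (natCast_ne_zero_of_coprime p (hrep c').2)
        (pow_orderOf_eq_one _) (pow_orderOf_eq_one _) hch
    apply Subtype.ext
    rw [← (hrep c).1, ← (hrep c').1]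
    exact ConjClasses.mk_eq_mk_iff_isConj.mpr hconj
  · -- lower bound
    rw [← hcardfun]
    have hex : ∀ c : Fin n → F, ∃ a : ↥(Matrix.symplecticGroup (Fin n) F), (orderOf a).Coprime p ∧
        (a : Matrix (Fin n ⊕ Fin n) (Fin n ⊕ Fin n) F).charpoly = pal n (monicOf c) :=
      fun c => exists_semisimple_charpoly p (monicOf_monic c) (monicOf_natDegree c)
    let Ψ : (Fin n → F) → T := fun c =>
      ⟨ConjClasses.mk (hex c).choose, (hex c).choose, rfl, (hex c).choose_spec.1⟩
    apply Nat.card_le_card_of_injective Ψ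
    intro c c' hcc
    have h1 : ConjClasses.mk (hex c).choose = ConjClasses.mk (hex c').choose :=
      congrArg Subtype.val hcc
    have h2 := charpoly_eq_of_isConj (ConjClasses.mk_eq_mk_iff_isConj.mp h1)
    rw [(hex c).choose_spec.2, (hex c').choose_spec.2] at h2
    apply monicOf_injective
    exact pal_injective n (monicOf_natDegree c).le (monicOf_natDegree c').le h2

end count

end Cfsg.Agent.Helper43.SpCount
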