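import Mathlib
import Cfsg.Agent.Helper43.SpCountF
import Cfsg.Agent.Helper43.SSPrimeCls

set_option autoImplicit false

namespace Cfsg.Agent.Helper43.SpPrime

open Polynomial Module Matrix
open Cfsg.Agent.Helper43.SpSS Cfsg.Agent.Helper43.SpCount Cfsg.Agent.Helper43.SS

universe u

section gen

variable {F : Type u} [Field F] {ι : Type*} [Fintype ι] [DecidableEq ι]

theorem aeval_toLin'_gen (A : Matrix ι ι F) (h : F[X]) :
    aeval (Matrix.toLin' A) h = Matrix.toLin' (aeval A h) := by
  have := Polynomial.aeval_algHom_apply (Matrix.toLinAlgEquiv' (R := F) (n := ι)).toAlgHom A h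
  exact this

/-- Irreducible factors of the characteristic polynomial of a matrix killed by a squarefree
polynomial `h` divide `h` (general index type). -/
theorem dvd_of_dvd_charpoly_gen (A : Matrix ι ι F) (h : F[X]) (hsf : Squarefree h)
    (hA : aeval A h = 0) (P : F[X]) (hPm : P.Monic) (hPi : Irreducible P) (hP : P ∣ A.charpoly) :
    P ∣ h := by
  set φ := Matrix.toLin' A with hφ
  have hφh : aeval φ h = 0 := by rw [aeval_toLin'_gen, hA, map_zero]
  have hss : Module.End.IsSemisimple φ := Module.End.isSemisimple_of_squarefree_aeval_eq_zero hsf hφh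
  haveI : IsSemisimpleModule F[X] (AEval' φ) := hss
  have hdvd : P ∣ (xEnd F (AEval' φ)).charpoly := by
    rw [charpoly_xEnd_AEval, hφ, Matrix.charpoly_toLin']
    exact hP
  obtain ⟨m, hm, hPm0⟩ := exists_torsion_of_dvd _ (AEval' φ) rfl P hPm hPi hdvd
  by_contra hnd
  have hcop : IsCoprime P h := (hPi.coprime_iff_not_dvd).mpr hnd
  obtain ⟨a, b, hab⟩ := hcop
  have hhm : h • m = 0 := by
    obtain ⟨v, rfl⟩ := (AEval'.of φ).surjective m
    rw [← AEval.of_aeval_smul, hφh]
    simp
  apply hm
  calc m = (1 : F[X]) • m := (one_smul _ m).symm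
    _ = (a * P + b * h) • m := by rw [hab]
    _ = 0 := by rw [add_smul, mul_smul, mul_smul, hPm0, hhm, smul_zero, smul_zero, add_zero]

/-- A matrix of finite order prime to the characteristic is killed by any nonzero polynomial
divisible by all irreducible factors of its characteristic polynomial (general index type). -/
theorem aeval_eq_zero_of_factors_gen (A : Matrix ι ι F) (k : ℕ) (hk : (k : F) ≠ 0)
    (hAk : A ^ k = 1) (h : F[X]) (h0 : h ≠ 0)
    (hfac : ∀ P : F[X], P.Monic → Irreducible P → P ∣ A.charpoly → P ∣ h) : aeval A h = 0 := by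
  classical
  set φ := Matrix.toLin' A with hφ
  have hφk : φ ^ k = 1 := by
    rw [hφ, ← Matrix.toLin'_pow, hAk, Matrix.toLin'_one]; rfl
  have hss : Module.End.IsSemisimple φ := isSemisimple_of_pow_eq_one φ k hk hφk
  have hsq : Squarefree (minpoly F φ) := hss.minpoly_squarefree
  have hμ0 : minpoly F φ ≠ 0 := minpoly.ne_zero (Algebra.IsIntegral.isIntegral φ)
  have hμdvd : minpoly F φ ∣ A.charpoly := by
    rw [← Matrix.charpoly_toLin' A]
    exact LinearMap.minpoly_dvd_charpoly φ
  have hdvd : minpoly F φ ∣ h := by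
    rw [UniqueFactorizationMonoid.dvd_iff_normalizedFactors_le_normalizedFactors hμ0 h0]
    rw [Multiset.le_iff_subset
      ((UniqueFactorizationMonoid.squarefree_iff_nodup_normalizedFactors hμ0).mp hsq)]
    intro P hP
    rw [Polynomial.mem_normalizedFactors_iff hμ0] at hP
    rw [Polynomial.mem_normalizedFactors_iff h0]
    exact ⟨hP.1, hP.2.1, hfac P hP.2.1 hP.1 (hP.2.2.trans hμdvd)⟩
  have h1 : aeval φ h = 0 := by
    obtain ⟨c, rfl⟩ := hdvd
    rw [map_mul, minpoly.aeval, zero_mul]
  rw [aeval_toLin'_gen] at h1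
  exact (Matrix.toLin' (R := F)).injective (h1.trans (map_zero _).symm)

end gen

section pal

variable {F : Type u} [Field F] [Fintype F]

/-- Palindromizations of monic polynomials are self-reciprocal. -/
theorem pal_reverse {n : ℕ} {h : F[X]} (hh : h.Monic) (hn : h.natDegree = n) :
    (pal n h).reverse = pal n h := by
  obtain ⟨A, hA, hch⟩ := exists_symp_charpoly hh hn
  have := charpoly_reverse_of_mem_symplectic (⟨A, hA⟩ : ↥(Matrix.symplecticGroup (Fin n) F))
  rw [← hch]
  exact this

/-- Every self-reciprocal monic polynomial of degree `2n` is a palindromization. -/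
theorem exists_pal_eq {n : ℕ} {f : F[X]} (hm : f.Monic) (hd : f.natDegree = 2 * n)
    (hr : f.reverse = f) : ∃ h : F[X], h.Monic ∧ h.natDegree = n ∧ pal n h = f := by
  let α : (Fin n → F) → (Fin n → F) := fun c i => (pal n (monicOf c)).coeff (i + 1)
  have hpm : ∀ c : Fin n → F, (pal n (monicOf c)).Monic :=
    fun c => pal_monic n (monicOf_monic c) (monicOf_natDegree c)
  have hpd : ∀ c : Fin n → F, (pal n (monicOf c)).natDegree = 2 * n :=
    fun c => natDegree_pal n (monicOf_monic c) (monicOf_natDegree c)
  have hpr : ∀ c : Fin n → F, (pal n (monicOf c)).reverse = pal n (monicOf c) :=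
    fun c => pal_reverse (monicOf_monic c) (monicOf_natDegree c)
  have hinj : Function.Injective α := by
    intro c c' hcc
    have h1 : pal n (monicOf c) = pal n (monicOf c') :=
      eq_of_reverse_eq (hpm c) (hpm c') (hpd c) (hpd c') (hpr c) (hpr c') (fun i => congrFun hcc i)
    exact monicOf_injective
      (pal_injective n (monicOf_natDegree c).le (monicOf_natDegree c').le h1)
  have hsurj : Function.Surjective α := Finite.injective_iff_surjective.mp hinj
  obtain ⟨c, hc⟩ := hsurj (fun i => f.coeff (i + 1))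
  refine ⟨monicOf c, monicOf_monic c, monicOf_natDegree c, ?_⟩
  exact eq_of_reverse_eq (hpm c) hm (hpd c) hd (hpr c) hr (fun i => congrFun hc i)

end pal

end Cfsg.Agent.Helper43.SpPrime
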