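import Mathlib
import Cfsg.Agent.Helper43.SpPrimeA

set_option autoImplicit false

namespace Cfsg.Agent.Helper43.SpPrime

open Polynomial Module Matrix
open Cfsg.Agent.Helper43.SpSS Cfsg.Agent.Helper43.SpCount Cfsg.Agent.Helper43.SS

universe u

variable {F : Type u} [Field F]

/-- The characteristic polynomials of elements of prime order `r` of `Sp_{2m}`. -/
def SpPrimePred (m r : ℕ) (f : F[X]) : Prop :=
  f.Monic ∧ f.natDegree = 2 * m ∧ f.reverse = f ∧
    (∀ P : F[X], P.Monic → Irreducible P → P ∣ f → P ∣ (X ^ r - 1 : F[X])) ∧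
      f ≠ (X - 1) ^ (2 * m)

theorem charpoly_one_sp (m : ℕ) :
    (1 : Matrix (Fin m ⊕ Fin m) (Fin m ⊕ Fin m) F).charpoly = (X - 1) ^ (2 * m) := by
  rw [Matrix.charpoly_one, Fintype.card_sum, Fintype.card_fin, two_mul]

theorem card_classes_prime_order_sp [Fintype F] (p : ℕ) [Fact p.Prime] [CharP F p] (m r : ℕ)
    (hr : r.Prime) (hrp : r ≠ p) :
    Nat.card {C : ConjClasses ↥(Matrix.symplecticGroup (Fin m) F) //
      ∃ g : ↥(Matrix.symplecticGroup (Fin m) F), ConjClasses.mk g = C ∧ orderOf g = r}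
      = Nat.card {f : F[X] // SpPrimePred m r f} := by
  have hp : p.Prime := Fact.out
  have hrF : (r : F) ≠ 0 := by
    intro h0
    rw [CharP.cast_eq_zero_iff F p r] at h0
    exact hrp ((Nat.prime_dvd_prime_iff_eq hp hr).mp h0).symm
  have hsep : (X ^ r - 1 : F[X]).Separable := by
    have := Polynomial.separable_X_pow_sub_C (1 : F) hrF one_ne_zero
    simpa using this
  have hX0 : (X ^ r - 1 : F[X]) ≠ 0 := hsep.ne_zero
  have haev : ∀ A : Matrix (Fin m ⊕ Fin m) (Fin m ⊕ Fin m) F,
      aeval A (X ^ r - 1 : F[X]) = A ^ r - 1 := by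
    intro A
    rw [map_sub, map_pow, aeval_X, map_one]
  have hval : ∀ (g : ↥(Matrix.symplecticGroup (Fin m) F)) (k : ℕ), g ^ k = 1 →
      (g : Matrix (Fin m ⊕ Fin m) (Fin m ⊕ Fin m) F) ^ k = 1 := by
    intro g k hg
    rw [← SubmonoidClass.coe_pow, hg]
    rfl
  apply card_classes_eq (G := ↥(Matrix.symplecticGroup (Fin m) F)) (T := F[X])
    (fun g => orderOf g = r)
    (fun g => (g : Matrix (Fin m ⊕ Fin m) (Fin m ⊕ Fin m) F).charpoly) (SpPrimePred m r)
  · intro g c
    exact (charpoly_eq_of_isConj (isConj_iff.mpr ⟨c, rfl⟩)).symm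
  · intro g h hg hh hc
    have hg' : g ^ r = 1 := by rw [← hg]; exact pow_orderOf_eq_one g
    have hh' : h ^ r = 1 := by rw [← hh]; exact pow_orderOf_eq_one h
    exact isConj_symp_of_charpoly g h r r hrF hrF hg' hh' hc
  · intro g hg
    have hg' : g ^ r = 1 := by rw [← hg]; exact pow_orderOf_eq_one g
    refine ⟨Matrix.charpoly_monic _, ?_, charpoly_reverse_of_mem_symplectic g, ?_, ?_⟩
    · rw [Matrix.charpoly_natDegree_eq_dim, Fintype.card_sum, Fintype.card_fin, two_mul]
    · intro P hPm hPi hP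
      apply dvd_of_dvd_charpoly_gen (g : Matrix (Fin m ⊕ Fin m) (Fin m ⊕ Fin m) F) _
        hsep.squarefree ?_ P hPm hPi hP
      rw [haev, hval g r hg', sub_self]
    · intro hc
      have h1 : (g : Matrix (Fin m ⊕ Fin m) (Fin m ⊕ Fin m) F).charpoly
          = ((1 : ↥(Matrix.symplecticGroup (Fin m) F)) :
            Matrix (Fin m ⊕ Fin m) (Fin m ⊕ Fin m) F).charpoly := by
        rw [hc]
        exact (charpoly_one_sp m).symm
      have hconj := isConj_symp_of_charpoly g 1 r r hrF hrF hg' (one_pow r) h1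
      have hg1 : g = 1 := by
        obtain ⟨c, hc⟩ := isConj_iff.mp hconj.symm
        rw [← hc]; group
      rw [hg1, orderOf_one] at hg
      exact hr.one_lt.ne hg
  · rintro f ⟨hfm, hfd, hfr, hfac, hne⟩
    obtain ⟨h, hhm, hhd, hpal⟩ := exists_pal_eq hfm hfd hfr
    obtain ⟨a, hacop, hach⟩ := exists_semisimple_charpoly p hhm hhd
    rw [hpal] at hach
    have hkF : (orderOf a : F) ≠ 0 := natCast_ne_zero_of_coprime p hacop
    have hAk := hval a (orderOf a) (pow_orderOf_eq_one a)
    have hAr : (a : Matrix (Fin m ⊕ Fin m) (Fin m ⊕ Fin m) F) ^ r = 1 := by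
      have := aeval_eq_zero_of_factors_gen (a : Matrix (Fin m ⊕ Fin m) (Fin m ⊕ Fin m) F)
        (orderOf a) hkF hAk (X ^ r - 1 : F[X]) hX0 (by
          intro P hPm hPi hP
          rw [hach] at hP
          exact hfac P hPm hPi hP)
      rw [haev] at this
      exact sub_eq_zero.mp this
    have har : a ^ r = 1 := by
      apply Subtype.ext
      rw [SubmonoidClass.coe_pow, hAr]
      rfl
    refine ⟨a, ?_, hach⟩
    rcases (Nat.dvd_prime hr).mp (orderOf_dvd_of_pow_eq_one har) with h1' | hr'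
    · exfalso
      rw [orderOf_eq_one_iff] at h1'
      apply hne
      rw [← hach, h1']
      exact charpoly_one_sp m
    · exact hr'

end Cfsg.Agent.Helper43.SpPrime
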