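import Mathlib

set_option autoImplicit false

namespace Cfsg.Agent.Helper43.JT

open Module Matrix

universe u

variable {F : Type u} [Field F] [CharP F 2]

section polar

variable {n : ℕ}

/-- In characteristic two every alternating form is the polar form of a quadratic form. -/
theorem exists_quadratic_polar (B : LinearMap.BilinForm F (Fin n → F)) (halt : B.IsAlt) :
    ∃ Q : QuadraticForm F (Fin n → F), ∀ x y, QuadraticMap.polar Q x y = B x y := by
  set G : Matrix (Fin n) (Fin n) F := LinearMap.BilinForm.toMatrix' B with hG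
  have hGij : ∀ i j, G i j = B (Pi.single i 1) (Pi.single j 1) := fun i j => by
    rw [hG, LinearMap.BilinForm.toMatrix'_apply]
  have hGdiag : ∀ i, G i i = 0 := fun i => by rw [hGij]; exact halt _
  have hGsymm : ∀ i j, G j i = G i j := by
    intro i j
    rw [hGij, hGij, ← halt.neg_eq, CharTwo.neg_eq]
  set U : Matrix (Fin n) (Fin n) F := Matrix.of fun i j => if i < j then G i j else 0 with hU
  have hUG : U + Uᵀ = G := by
    ext i j
    simp only [Matrix.add_apply, Matrix.transpose_apply, hU, Matrix.of_apply]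
    rcases lt_trichotomy i j with h | h | h
    · rw [if_pos h, if_neg (not_lt.mpr h.le), add_zero]
    · subst h
      rw [if_neg (lt_irrefl _), add_zero, hGdiag]
    · rw [if_neg (not_lt.mpr h.le), if_pos h, zero_add, hGsymm]
  refine ⟨LinearMap.BilinMap.toQuadraticMap (Matrix.toBilin' U), ?_⟩
  intro x y
  rw [LinearMap.BilinMap.polar_toQuadraticMap]
  have h1 : Matrix.toBilin' U y x = Matrix.toBilin' Uᵀ x y := by
    rw [Matrix.toBilin'_apply', Matrix.toBilin'_apply', Matrix.dotProduct_mulVec,
      Matrix.mulVec_transpose, dotProduct_comm]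
  rw [h1, ← LinearMap.add_apply, ← LinearMap.add_apply, ← map_add, hUG, hG,
    Matrix.toBilin'_toMatrix']

/-- In characteristic two, over a perfect field, an isometry of an alternating form fixes a
quadratic form polarizing to it. -/
theorem exists_invariant_quadratic [PerfectRing F 2] (B : LinearMap.BilinForm F (Fin n → F))
    (halt : B.IsAlt) (u : Module.End F (Fin n → F)) (hu : ∀ x y, B (u x) (u y) = B x y) :
    ∃ Q : QuadraticForm F (Fin n → F), (∀ x y, QuadraticMap.polar Q x y = B x y) ∧
      ∀ x, Q (u x) = Q x := by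
  obtain ⟨Q₀, hQ₀⟩ := exists_quadratic_polar B halt
  -- the defect
  set δ : (Fin n → F) → F := fun x => Q₀ (u x) - Q₀ x with hδ
  have hδadd : ∀ x y, δ (x + y) = δ x + δ y := by
    intro x y
    simp only [hδ]
    rw [map_add, QuadraticMap.map_add Q₀ (u x) (u y), QuadraticMap.map_add Q₀ x y, hQ₀, hQ₀, hu]
    ring
  have hδsmul : ∀ (a : F) x, δ (a • x) = a ^ 2 * δ x := by
    intro a x
    simp only [hδ]
    rw [map_smul, QuadraticMap.map_smul, QuadraticMap.map_smul, smul_eq_mul, smul_eq_mul]
    ring
  -- its square root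
  let ℓ₀ : (Fin n → F) →ₗ[F] F :=
    { toFun := fun x => (frobeniusEquiv F 2).symm (δ x)
      map_add' := fun x y => by rw [hδadd, map_add]
      map_smul' := fun a x => by
        rw [hδsmul, map_mul, frobeniusEquiv_symm_pow, RingHom.id_apply, smul_eq_mul] }
  have hℓ₀ : ∀ x, ℓ₀ x ^ 2 = δ x := fun x => frobeniusEquiv_symm_pow_p F 2 (δ x)
  set N : Module.End F (Fin n → F) := u - 1 with hN
  have hux : ∀ x, u x = x + N x := fun x => by
    rw [hN, LinearMap.sub_apply, Module.End.one_apply]; abel
  have hann : ℓ₀ ∈ (LinearMap.ker N).dualAnnihilator := by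
    rw [Submodule.mem_dualAnnihilator]
    intro x hx
    rw [LinearMap.mem_ker] at hx
    have h1 : δ x = 0 := by
      simp only [hδ]
      rw [hux, hx, add_zero, sub_self]
    have h2 := hℓ₀ x
    rw [h1] at h2
    exact pow_eq_zero_iff (two_ne_zero) |>.mp h2
  rw [← LinearMap.range_dualMap_eq_dualAnnihilator_ker] at hann
  obtain ⟨lam, hlam⟩ := hann
  have hlam' : ∀ x, lam (N x) = ℓ₀ x := fun x => by
    rw [← hlam]; rfl
  refine ⟨Q₀ + QuadraticMap.linMulLin lam lam, ?_, ?_⟩
  · intro x y
    rw [FunLike.coe_add, QuadraticMap.polar_add, hQ₀]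
    have : QuadraticMap.polar (⇑(QuadraticMap.linMulLin lam lam)) x y = 0 := by
      unfold QuadraticMap.polar
      rw [QuadraticMap.linMulLin_apply, QuadraticMap.linMulLin_apply,
        QuadraticMap.linMulLin_apply, map_add]
      have h2 : (2 : F) = 0 := CharTwo.two_eq_zero
      linear_combination (lam x * lam y) * h2
    rw [this, add_zero]
  · intro x
    rw [FunLike.coe_add, Pi.add_apply, Pi.add_apply, QuadraticMap.linMulLin_apply,
      QuadraticMap.linMulLin_apply]
    have h1 : Q₀ (u x) = Q₀ x + δ x := by simp only [hδ]; ring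
    have h2 : lam (u x) = lam x + ℓ₀ x := by rw [hux, map_add, hlam']
    rw [h1, h2, ← hℓ₀ x]
    have h3 : (2 : F) = 0 := CharTwo.two_eq_zero
    linear_combination (ℓ₀ x ^ 2 + lam x * ℓ₀ x) * h3

end polar

end Cfsg.Agent.Helper43.JT
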