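import Mathlib
import Cfsg.Agent.Helper43.SpSSH
import Cfsg.Agent.Helper45.WittQuad

set_option autoImplicit false

namespace Cfsg.Agent.Helper43.OrthSS

open Polynomial Module QuadraticMap
open Cfsg.Agent.Helper43.SpSS

universe u v

set_option linter.unusedSectionVars false

variable {F : Type u} [Field F] {V : Type v} [AddCommGroup V] [Module F V] [FiniteDimensional F V]

/-- An isometry of a quadratic form (nondegenerate polar form) of finite odd order prime to the
characteristic. -/
structure OData (Q : QuadraticForm F V) (g : Module.End F V) (k : ℕ) : Prop where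
  nondeg : (polarBilin Q).Nondegenerate
  isom : ∀ x, Q (g x) = Q x
  odd : Odd k
  ne : (k : F) ≠ 0
  pow : g ^ k = 1

variable {Q : QuadraticForm F V} {g : Module.End F V} {k : ℕ}

theorem nondeg_restrict_of_refl {B : LinearMap.BilinForm F V} (hrefl : B.IsRefl)
    (W : Submodule F V) (hW : ∀ x ∈ W, (∀ y ∈ W, B x y = 0) → x = 0) :
    (B.restrict W).Nondegenerate := by
  have hrefl' : (B.restrict W).IsRefl := fun x y hxy => hrefl _ _ hxy
  refine (LinearMap.IsRefl.nondegenerate_iff_separatingLeft hrefl').mpr ?_
  intro x hx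
  apply Subtype.ext
  exact hW x x.2 (fun y hy => hx ⟨y, hy⟩)

theorem OData.polar_isom (h : OData Q g k) (x y : V) :
    polarBilin Q (g x) (g y) = polarBilin Q x y := by
  simp only [polarBilin_apply_apply, polar, ← map_add, h.isom]

theorem OData.polar_comm (x y : V) : polarBilin Q x y = polarBilin Q y x := by
  simp only [polarBilin_apply_apply]
  exact QuadraticMap.polar_comm Q x y

theorem OData.pow_apply (h : OData Q g k) (x : V) : (g ^ k) x = x := by
  rw [h.pow, Module.End.one_apply]

theorem OData.pos (h : OData Q g k) : 0 < k := h.odd.pos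

theorem OData.mul_pow_pred (h : OData Q g k) : g * g ^ (k - 1) = 1 := by
  rw [← pow_succ', Nat.sub_add_cancel h.pos, h.pow]

theorem OData.apply_pow_pred (h : OData Q g k) (x : V) : g ((g ^ (k - 1)) x) = x := by
  rw [← Module.End.mul_apply, h.mul_pow_pred, Module.End.one_apply]

theorem OData.pow_pred_apply (h : OData Q g k) (x : V) : (g ^ (k - 1)) (g x) = x := by
  rw [← Module.End.mul_apply, ← pow_succ, Nat.sub_add_cancel h.pos, h.pow, Module.End.one_apply]

theorem OData.isSemisimple (h : OData Q g k) : g.IsSemisimple :=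
  SS.isSemisimple_of_pow_eq_one g k h.ne h.pow

/-- The averaging operator. -/
noncomputable def avg (g : Module.End F V) (k : ℕ) : Module.End F V := ∑ i ∈ Finset.range k, g ^ i

theorem OData.avg_range (h : OData Q g k) {x : V} (hx : x ∈ LinearMap.range (g - 1)) :
    avg g k x = 0 := by
  obtain ⟨y, rfl⟩ := hx
  rw [← Module.End.mul_apply]
  unfold avg
  rw [geom_sum_mul, h.pow, sub_self, LinearMap.zero_apply]

theorem pow_fix {x : V} (hx : g x = x) (i : ℕ) : (g ^ i) x = x := by
  induction i with
  | zero => simp
  | succ i ih => rw [pow_succ, Module.End.mul_apply, hx, ih]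

theorem avg_fix {x : V} (hx : g x = x) : avg g k x = (k : F) • x := by
  unfold avg
  rw [LinearMap.sum_apply]
  simp only [pow_fix hx]
  rw [Finset.sum_const, Finset.card_range, Nat.cast_smul_eq_nsmul]

theorem OData.fix_avg (h : OData Q g k) (x : V) : g (avg g k x) = avg g k x := by
  have : (g - 1) * avg g k = 0 := by
    unfold avg
    rw [mul_geom_sum, h.pow, sub_self]
  have h2 := LinearMap.congr_fun this x
  rw [Module.End.mul_apply, LinearMap.sub_apply, Module.End.one_apply, LinearMap.zero_apply] at h2
  exact sub_eq_zero.mp h2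

theorem sub_avg_mem (g : Module.End F V) (k : ℕ) (x : V) :
    (k : F) • x - avg g k x ∈ LinearMap.range (g - 1) := by
  have h1 : (k : F) • x - avg g k x = ∑ i ∈ Finset.range k, (x - (g ^ i) x) := by
    unfold avg
    rw [Finset.sum_sub_distrib, Finset.sum_const, Finset.card_range, LinearMap.sum_apply,
      Nat.cast_smul_eq_nsmul]
  rw [h1]
  apply Submodule.sum_mem
  intro i _
  have h2 : x - (g ^ i) x = (g - 1) (-(∑ j ∈ Finset.range i, g ^ j) x) := by
    rw [map_neg, ← Module.End.mul_apply, mul_geom_sum, LinearMap.sub_apply, Module.End.one_apply,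
      neg_sub]
  rw [h2]
  exact LinearMap.mem_range_self _ _

/-- Fixed vectors in the range of `g - 1` vanish. -/
theorem OData.fix_range_eq_zero (h : OData Q g k) {x : V} (hx : g x = x)
    (hr : x ∈ LinearMap.range (g - 1)) : x = 0 := by
  have h1 := avg_fix (k := k) hx
  rw [h.avg_range hr] at h1
  rcases smul_eq_zero.mp h1.symm with h0 | h0
  · exact absurd h0 h.ne
  · exact h0

/-- Decomposition into a fixed vector and a vector in the range of `g - 1`. -/
theorem OData.exists_decomp (h : OData Q g k) (x : V) :
    ∃ u r : V, g u = u ∧ r ∈ LinearMap.range (g - 1) ∧ x = u + r := by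
  refine ⟨(k : F)⁻¹ • avg g k x, (k : F)⁻¹ • ((k : F) • x - avg g k x), ?_, ?_, ?_⟩
  · rw [map_smul, h.fix_avg]
  · exact Submodule.smul_mem _ _ (sub_avg_mem g k x)
  · rw [smul_sub, smul_smul, inv_mul_cancel₀ h.ne, one_smul]
    abel

theorem OData.range_mem_invt (g : Module.End F V) : LinearMap.range (g - 1) ∈ g.invtSubmodule := by
  rw [Module.End.mem_invtSubmodule]
  rintro _ ⟨y, rfl⟩
  rw [Submodule.mem_comap]
  refine ⟨g y, ?_⟩
  simp only [LinearMap.sub_apply, Module.End.one_apply, map_sub]

/-- The range of `g - 1` is orthogonal to the fixed vectors. -/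
theorem OData.orth (h : OData Q g k) {u r : V} (hu : g u = u) (hr : r ∈ LinearMap.range (g - 1)) :
    polarBilin Q r u = 0 := by
  obtain ⟨z, rfl⟩ := hr
  rw [LinearMap.sub_apply, Module.End.one_apply, map_sub, LinearMap.sub_apply]
  nth_rewrite 1 [← hu]
  rw [h.polar_isom, sub_self]

theorem OData.sq_fix (h : OData Q g k) {x : V} (hx : g (g x) = x) : g x = x := by
  obtain ⟨j, hj⟩ := h.odd
  have h2 : ∀ i : ℕ, (g ^ (2 * i)) x = x := by
    intro i
    induction i with
    | zero => simp
    | succ i ih =>
      rw [Nat.mul_succ, pow_add, Module.End.mul_apply, pow_two, Module.End.mul_apply, hx, ih]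
  have h3 := h.pow_apply x
  rw [hj, pow_succ', Module.End.mul_apply, h2] at h3
  exact h3

/-- The twisting operator `g - g⁻¹`. -/
noncomputable def delta (g : Module.End F V) (k : ℕ) : Module.End F V := g - g ^ (k - 1)

theorem delta_apply (x : V) : delta g k x = g x - (g ^ (k - 1)) x := rfl

theorem delta_comm (x : V) : delta g k (g x) = g (delta g k x) := by
  rw [delta_apply, delta_apply, map_sub]
  congr 1
  rw [← Module.End.mul_apply, ← Module.End.mul_apply, ← pow_succ, ← pow_succ']

theorem delta_mem_range {x : V} (hx : x ∈ LinearMap.range (g - 1)) :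
    delta g k x ∈ LinearMap.range (g - 1) := by
  have hi := OData.range_mem_invt g
  have h1 : delta g k = aeval g (X - X ^ (k - 1) : F[X]) := by
    unfold delta
    rw [map_sub, map_pow, aeval_X]
  rw [h1]
  exact aeval_mem_of_invt hi _ hx

theorem OData.delta_inj (h : OData Q g k) {x : V} (hx : x ∈ LinearMap.range (g - 1))
    (hd : delta g k x = 0) : x = 0 := by
  apply h.fix_range_eq_zero _ hx
  apply h.sq_fix
  rw [delta_apply, sub_eq_zero] at hd
  rw [hd, h.apply_pow_pred]

/-- The twisted (alternating) form `b((g - g⁻¹) x, y)`. -/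
noncomputable def tw (Q : QuadraticForm F V) (g : Module.End F V) (k : ℕ) :
    LinearMap.BilinForm F V :=
  LinearMap.BilinForm.comp (polarBilin Q) (delta g k) LinearMap.id

theorem tw_apply (x y : V) : tw Q g k x y = polarBilin Q (delta g k x) y := rfl

theorem OData.tw_alt (h : OData Q g k) : (tw Q g k).IsAlt := by
  intro x
  rw [tw_apply, delta_apply, map_sub, LinearMap.sub_apply]
  have h1 : polarBilin Q ((g ^ (k - 1)) x) x = polarBilin Q x (g x) := by
    rw [← h.polar_isom, h.apply_pow_pred]
  rw [h1, OData.polar_comm x (g x), sub_self]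

theorem OData.tw_isom (h : OData Q g k) : IsIsom (tw Q g k) g := by
  intro x y
  rw [tw_apply, tw_apply, delta_comm, h.polar_isom]

theorem OData.tw_nondeg_aux (h : OData Q g k) (x : V) (hx : x ∈ LinearMap.range (g - 1))
    (hxo : ∀ y ∈ LinearMap.range (g - 1), tw Q g k x y = 0) : x = 0 := by
  apply h.delta_inj hx
  apply h.nondeg.1
  intro z
  obtain ⟨u, r, hu, hr, rfl⟩ := h.exists_decomp z
  rw [map_add]
  have h1 := hxo r hr
  rw [tw_apply] at h1
  rw [h1, add_zero]
  exact h.orth hu (delta_mem_range hx)

/-- The symplectic data attached to an orthogonal isometry of odd order. -/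
theorem OData.sympData (h : OData Q g k) :
    SympData ((tw Q g k).restrict (LinearMap.range (g - 1)))
      (rst g (OData.range_mem_invt g)) where
  alt := fun x => h.tw_alt x
  nondeg := nondeg_restrict_of_refl h.tw_alt.isRefl _ h.tw_nondeg_aux
  isom := fun x y => h.tw_isom x y
  ss := h.isSemisimple.restrict _

/-- `delta` is surjective on the range of `g - 1`. -/
theorem OData.delta_surj (h : OData Q g k) (x : V) (hx : x ∈ LinearMap.range (g - 1)) :
    ∃ y ∈ LinearMap.range (g - 1), delta g k y = x := by
  have hi : LinearMap.range (g - 1) ∈ (delta g k).invtSubmodule := by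
    rw [Module.End.mem_invtSubmodule]
    intro y hy
    exact delta_mem_range hy
  have hinj : Function.Injective (rst (delta g k) hi) := by
    rw [← LinearMap.ker_eq_bot, LinearMap.ker_eq_bot']
    intro z hz
    apply Subtype.ext
    exact h.delta_inj z.2 (congrArg Subtype.val hz)
  obtain ⟨y, hy⟩ := (LinearMap.injective_iff_surjective.mp hinj) ⟨x, hx⟩
  exact ⟨y, y.2, congrArg Subtype.val hy⟩

end Cfsg.Agent.Helper43.OrthSS
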