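import Mathlib
import Cfsg.Agent.Helper43.OrthSSA

set_option autoImplicit false

namespace Cfsg.Agent.Helper43.OrthSS

open Polynomial Module QuadraticMap
open Cfsg.Agent.Helper43.SpSS

universe u v

set_option linter.unusedSectionVars false

variable {F : Type u} [Field F] {V : Type v} [AddCommGroup V] [Module F V] [FiniteDimensional F V]
variable {Q : QuadraticForm F V} {g g' : Module.End F V} {k : ℕ}

/-- A vector orthogonal to the range of `g - 1` is fixed by `g`. -/
theorem OData.fix_of_orth (h : OData Q g k) {y : V}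
    (hy : ∀ r ∈ LinearMap.range (g - 1), polarBilin Q y r = 0) : g y = y := by
  rw [← sub_eq_zero]
  apply h.nondeg.1
  intro z
  rw [map_sub, LinearMap.sub_apply]
  have h1 : polarBilin Q (g y) z = polarBilin Q y ((g ^ (k - 1)) z) := by
    rw [← h.polar_isom y, h.apply_pow_pred]
  have h2 : (g ^ (k - 1)) z - z ∈ LinearMap.range (g - 1) := by
    refine ⟨-((g ^ (k - 1)) z), ?_⟩
    rw [map_neg, LinearMap.sub_apply, Module.End.one_apply, h.apply_pow_pred]
    abel
  have h3 := hy _ h2
  rw [map_sub] at h3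
  rw [h1]
  exact h3

theorem delta_eq_aeval (g : Module.End F V) (k : ℕ) :
    delta g k = aeval g (X - X ^ (k - 1) : F[X]) := by
  unfold delta
  rw [map_sub, map_pow, aeval_X]

theorem rst_pow_coe {W : Submodule F V} (hW : W ∈ g.invtSubmodule) (i : ℕ) (x : W) :
    (((rst g hW) ^ i) x : V) = (g ^ i) (x : V) := by
  have h1 := aeval_rst hW (X ^ i : F[X]) x
  rwa [map_pow, map_pow, aeval_X, aeval_X] at h1

/-- Main theorem: two isometries of odd order prime to the characteristic that are conjugate by
a linear automorphism are conjugate by an isometry. -/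
theorem exists_isometry_conj [Fintype F] (h : OData Q g k) (h' : OData Q g' k) (e : V ≃ₗ[F] V)
    (he : ∀ x, e (g x) = g' (e x)) :
    ∃ G : V ≃ₗ[F] V, (∀ x, Q (G x) = Q x) ∧ ∀ x, G (g x) = g' (G x) := by
  set R := LinearMap.range (g - 1) with hRdef
  set R' := LinearMap.range (g' - 1) with hRdef'
  have hR : R ∈ g.invtSubmodule := OData.range_mem_invt g
  have hR' : R' ∈ g'.invtSubmodule := OData.range_mem_invt g'
  -- `e` maps `R` onto `R'`
  have hmap : R.map (e : V →ₗ[F] V) = R' := by
    ext y
    constructor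
    · rintro ⟨x, ⟨z, rfl⟩, rfl⟩
      refine ⟨e z, ?_⟩
      simp only [LinearMap.sub_apply, Module.End.one_apply, LinearEquiv.coe_coe, map_sub, he]
    · rintro ⟨w, rfl⟩
      obtain ⟨z, rfl⟩ := e.surjective w
      refine ⟨(g - 1) z, ⟨z, rfl⟩, ?_⟩
      simp only [LinearMap.sub_apply, Module.End.one_apply, LinearEquiv.coe_coe, map_sub, he]
  let eR : R ≃ₗ[F] R' := e.ofSubmodules R R' hmap
  have heR : ∀ x : R, (eR x : V) = e x := fun x => rfl
  have hch : (rst g hR).charpoly = (rst g' hR').charpoly := by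
    rw [← LinearEquiv.charpoly_conj eR (rst g hR)]
    congr 1
    apply LinearMap.ext
    intro x
    rw [LinearEquiv.conj_apply_apply]
    apply Subtype.ext
    rw [heR]
    show e (g ((eR.symm x : R) : V)) = g' (x : V)
    rw [he, ← heR, LinearEquiv.apply_symm_apply]
  obtain ⟨s₂, hs⟩ := exists_equivIsom h.sympData h'.sympData hch
  -- equivariance for polynomials
  let e' : R →ₗ[F] V := R'.subtype.comp s₂.toLinearMap
  have he' : ∀ x, e' (rst g hR x) = g' (e' x) := by
    intro x
    show ((s₂ (rst g hR x) : R') : V) = g' ((s₂ x : R') : V)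
    rw [hs.equiv]
    rfl
  have hdelta : ∀ z : R, ((s₂ (aeval (rst g hR) (X - X ^ (k - 1) : F[X]) z) : R') : V)
      = delta g' k ((s₂ z : R') : V) := by
    intro z
    have := aeval_equivariant e' he' (X - X ^ (k - 1) : F[X]) z
    rw [delta_eq_aeval]
    exact this
  have hdelta0 : ∀ z : R, ((aeval (rst g hR) (X - X ^ (k - 1) : F[X]) z : R) : V)
      = delta g k (z : V) := by
    intro z
    rw [aeval_rst, delta_eq_aeval]
  -- `s₂` preserves the polar form
  have hpol : ∀ x y : R, polarBilin Q ((s₂ x : R') : V) ((s₂ y : R') : V)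
      = polarBilin Q (x : V) (y : V) := by
    intro x y
    obtain ⟨z, hz, hzx⟩ := h.delta_surj x x.2
    have hx : x = aeval (rst g hR) (X - X ^ (k - 1) : F[X]) ⟨z, hz⟩ := by
      apply Subtype.ext
      rw [hdelta0]
      exact hzx.symm
    have h1 := hs.isom ⟨z, hz⟩ y
    rw [restrict_apply', restrict_apply', tw_apply, tw_apply] at h1
    rw [hx, hdelta, hdelta0]
    exact h1
  -- `s₂` preserves `Q`
  have hQ : ∀ x : R, Q ((s₂ x : R') : V) = Q (x : V) := by
    let D : R →+ F := AddMonoidHom.mk' (fun x => Q ((s₂ x : R') : V) - Q (x : V)) (by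
      intro x y
      have e1 : ((s₂ (x + y) : R') : V) = ((s₂ x : R') : V) + ((s₂ y : R') : V) := by
        rw [map_add]; rfl
      have e2 : ((x + y : R) : V) = (x : V) + (y : V) := rfl
      have e3 := hpol x y
      rw [polarBilin_apply_apply, polarBilin_apply_apply] at e3
      show Q ((s₂ (x + y) : R') : V) - Q ((x + y : R) : V) = _
      rw [e1, e2, QuadraticMap.map_add Q, QuadraticMap.map_add Q, e3]
      ring)
    have hD : ∀ x, D x = Q ((s₂ x : R') : V) - Q (x : V) := fun x => rfl
    have hDg : ∀ x, D (rst g hR x) = D x := by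
      intro x
      rw [hD, hD, hs.equiv]
      show Q (g' ((s₂ x : R') : V)) - Q (g (x : V)) = _
      rw [h'.isom, h.isom]
    have hDpow : ∀ (i : ℕ) (x : R), D (((rst g hR) ^ i) x) = D x := by
      intro i
      induction i with
      | zero => intro x; simp
      | succ i ih =>
        intro x
        rw [pow_succ', Module.End.mul_apply, hDg, ih]
    intro x
    have hsum : ∑ i ∈ Finset.range k, ((rst g hR) ^ i) x = 0 := by
      apply Subtype.ext
      rw [Submodule.coe_sum]
      simp only [rst_pow_coe]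
      have := h.avg_range x.2
      unfold avg at this
      rw [LinearMap.sum_apply] at this
      rw [this]
      rfl
    have h1 : D (∑ i ∈ Finset.range k, ((rst g hR) ^ i) x) = (k : F) * D x := by
      rw [map_sum]
      simp only [hDpow]
      rw [Finset.sum_const, Finset.card_range, nsmul_eq_mul]
    rw [hsum, map_zero] at h1
    rcases mul_eq_zero.mp h1.symm with h0 | h0
    · exact absurd h0 h.ne
    · rw [hD] at h0
      exact sub_eq_zero.mp h0
  -- Witt extension
  obtain ⟨G, hGQ, hGs⟩ := Cfsg.Agent.Helper45.WittQuad.witt Q h.nondeg R R' s₂ hQ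
  refine ⟨G, hGQ, ?_⟩
  have hGpol : ∀ x y, polarBilin Q (G x) (G y) = polarBilin Q x y := by
    intro x y
    rw [polarBilin_apply_apply, polarBilin_apply_apply]
    exact Cfsg.Agent.Helper45.WittQuad.polar_map_of_isom_top Q G.toLinearMap hGQ x y
  intro x
  obtain ⟨u, r, hu, hr, rfl⟩ := h.exists_decomp x
  rw [map_add, map_add, map_add, map_add, hu]
  congr 1
  · -- `G u` is fixed by `g'`
    symm
    apply h'.fix_of_orth
    intro r' hr'
    have h1 : r' = G ((s₂.symm ⟨r', hr'⟩ : R) : V) := by
      rw [hGs, LinearEquiv.apply_symm_apply]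
    rw [h1, hGpol, OData.polar_comm]
    exact h.orth hu (s₂.symm ⟨r', hr'⟩).2
  · have h1 : g r = ((rst g hR ⟨r, hr⟩ : R) : V) := rfl
    rw [h1, hGs, hs.equiv]
    show g' ((s₂ ⟨r, hr⟩ : R') : V) = _
    rw [← hGs]

end Cfsg.Agent.Helper43.OrthSS
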