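import Mathlib
import Cfsg.Agent.Helper13.Symp
import Cfsg.Agent.S0776

set_option autoImplicit false

/-!
# Pairs of complementary totally isotropic subspaces of the standard symplectic space

Basic API: the standard pair `(U0, W0)`, the pointwise action of the symplectic group on
submodules, invariance of the set of such pairs.
-/

namespace Cfsg.Agent.Helper43.Lagr

open Matrix Pointwise
open Cfsg.Agent.Helper13 Cfsg.Agent.S0776

variable {F : Type*} [Field F] {d : ℕ}

/-- totally isotropic subspaces -/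
def TI (U : Submodule F (Fin d ⊕ Fin d → F)) : Prop :=
  ∀ u ∈ U, ∀ v ∈ U, Cfsg.sympForm d F u v = 0

/-- the span of the first `d` basis vectors -/
def U0 (d : ℕ) (F : Type*) [Field F] : Submodule F (Fin d ⊕ Fin d → F) :=
  LinearMap.ker (LinearMap.funLeft F F (Sum.inr : Fin d → Fin d ⊕ Fin d))

/-- the span of the last `d` basis vectors -/
def W0 (d : ℕ) (F : Type*) [Field F] : Submodule F (Fin d ⊕ Fin d → F) :=
  LinearMap.ker (LinearMap.funLeft F F (Sum.inl : Fin d → Fin d ⊕ Fin d))

theorem mem_U0 (v : Fin d ⊕ Fin d → F) : v ∈ U0 d F ↔ ∀ j, v (Sum.inr j) = 0 := by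
  rw [U0, LinearMap.mem_ker]
  constructor
  · intro h j
    exact congrFun h j
  · intro h
    funext j
    exact h j

theorem mem_W0 (v : Fin d ⊕ Fin d → F) : v ∈ W0 d F ↔ ∀ i, v (Sum.inl i) = 0 := by
  rw [W0, LinearMap.mem_ker]
  constructor
  · intro h j
    exact congrFun h j
  · intro h
    funext j
    exact h j

theorem TI_U0 : TI (U0 d F) := by
  intro u hu v hv
  rw [mem_U0] at hu hv
  rw [sympForm_eq_sum]
  apply Finset.sum_eq_zero
  intro i _
  rw [hu i, hv i]
  ring

theorem TI_W0 : TI (W0 d F) := by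
  intro u hu v hv
  rw [mem_W0] at hu hv
  rw [sympForm_eq_sum]
  apply Finset.sum_eq_zero
  intro i _
  rw [hu i, hv i]
  ring

theorem isCompl_U0_W0 : IsCompl (U0 d F) (W0 d F) := by
  constructor
  · rw [Submodule.disjoint_def]
    intro v hU hW
    rw [mem_U0] at hU
    rw [mem_W0] at hW
    funext a
    rcases a with i | j
    · exact hW i
    · exact hU j
  · rw [codisjoint_iff, eq_top_iff]
    intro v _
    rw [Submodule.mem_sup]
    refine ⟨Sum.elim (fun i => v (Sum.inl i)) (fun _ => 0), ?_,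
      Sum.elim (fun _ => 0) (fun j => v (Sum.inr j)), ?_, ?_⟩
    · rw [mem_U0]
      intro j
      rfl
    · rw [mem_W0]
      intro i
      rfl
    · funext a
      rcases a with i | j
      · simp
      · simp

/-- the pointwise action is the image under `toLin'`. -/
theorem smul_eq_map (g : ↥(Matrix.symplecticGroup (Fin d) F))
    (U : Submodule F (Fin d ⊕ Fin d → F)) :
    g • U = U.map (Matrix.toLin' (g : Matrix (Fin d ⊕ Fin d) (Fin d ⊕ Fin d) F)) := by
  ext v
  simp only [Submodule.mem_map]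
  rfl

theorem mem_smul_iff (g : ↥(Matrix.symplecticGroup (Fin d) F))
    (U : Submodule F (Fin d ⊕ Fin d → F)) (v : Fin d ⊕ Fin d → F) :
    v ∈ g • U ↔ ∃ u ∈ U, (g : Matrix (Fin d ⊕ Fin d) (Fin d ⊕ Fin d) F) *ᵥ u = v := by
  rw [smul_eq_map, Submodule.mem_map]
  simp only [Matrix.toLin'_apply]

theorem TI_smul (g : ↥(Matrix.symplecticGroup (Fin d) F))
    {U : Submodule F (Fin d ⊕ Fin d → F)} (hU : TI U) : TI (g • U) := by
  intro u hu v hv
  rw [mem_smul_iff] at hu hv
  obtain ⟨u', hu', rfl⟩ := hu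
  obtain ⟨v', hv', rfl⟩ := hv
  rw [(mem_symplecticGroup_iff_preserves _).mp g.2]
  exact hU u' hu' v' hv'

theorem isCompl_smul (g : ↥(Matrix.symplecticGroup (Fin d) F))
    {U W : Submodule F (Fin d ⊕ Fin d → F)} (h : IsCompl U W) : IsCompl (g • U) (g • W) := by
  have hinj : ∀ u w : Fin d ⊕ Fin d → F, g • u = g • w → u = w := fun u w h => by
    have := congrArg (fun x => g⁻¹ • x) h
    simpa using this
  constructor
  · rw [Submodule.disjoint_def]
    intro v hU hW
    rw [mem_smul_iff] at hU hW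
    obtain ⟨u, hu, rfl⟩ := hU
    obtain ⟨w, hw, hwu⟩ := hW
    have huw : w = u := hinj w u hwu
    subst huw
    have : w = 0 := by
      have := h.disjoint
      rw [Submodule.disjoint_def] at this
      exact this w hu hw
    rw [this, Matrix.mulVec_zero]
  · rw [codisjoint_iff, eq_top_iff]
    intro v _
    have hv : g⁻¹ • v ∈ U ⊔ W := by
      rw [h.sup_eq_top]; trivial
    rw [Submodule.mem_sup] at hv ⊢
    obtain ⟨u, hu, w, hw, huw⟩ := hv
    refine ⟨g • u, ?_, g • w, ?_, ?_⟩
    · rw [mem_smul_iff]; exact ⟨u, hu, rfl⟩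
    · rw [mem_smul_iff]; exact ⟨w, hw, rfl⟩
    · rw [← smul_add, huw, smul_inv_smul]

/-- if `A ≤ U`, `B ≤ W`, `A ⊔ B = ⊤` and `U`, `W` are disjoint then `A = U` and `B = W`. -/
theorem eq_of_le_of_sup_eq_top {A B U W : Submodule F (Fin d ⊕ Fin d → F)} (hA : A ≤ U)
    (hB : B ≤ W) (hAB : A ⊔ B = ⊤) (hd : Disjoint U W) : A = U ∧ B = W := by
  rw [Submodule.disjoint_def] at hd
  constructor
  · apply le_antisymm hA
    intro u hu
    have : u ∈ A ⊔ B := by rw [hAB]; trivial
    rw [Submodule.mem_sup] at this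
    obtain ⟨a, ha, b, hb, hab⟩ := this
    have hbU : b ∈ U := by
      have : b = u - a := by rw [← hab]; abel
      rw [this]
      exact U.sub_mem hu (hA ha)
    have hb0 : b = 0 := hd b hbU (hB hb)
    rw [hb0, add_zero] at hab
    rw [← hab]
    exact ha
  · apply le_antisymm hB
    intro w hw
    have : w ∈ A ⊔ B := by rw [hAB]; trivial
    rw [Submodule.mem_sup] at this
    obtain ⟨a, ha, b, hb, hab⟩ := this
    have haW : a ∈ W := by
      have : a = w - b := by rw [← hab]; abel
      rw [this]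
      exact W.sub_mem hw (hB hb)
    have ha0 : a = 0 := hd a (hA ha) haW
    rw [ha0, zero_add] at hab
    rw [← hab]
    exact hb

end Cfsg.Agent.Helper43.Lagr
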