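import Mathlib
import Cfsg.Agent.Helper43.LagrA

set_option autoImplicit false

/-!
# Transitivity of the symplectic group on pairs of complementary totally isotropic subspaces
-/

namespace Cfsg.Agent.Helper43.Lagr

open Matrix Pointwise Module
open Cfsg.Agent.Helper13 Cfsg.Agent.S0776

variable {F : Type*} [Field F] {d : ℕ}

theorem J_apply_inl_inl (i j : Fin d) : Matrix.J (Fin d) F (Sum.inl i) (Sum.inl j) = 0 := by
  simp [Matrix.J]

theorem J_apply_inr_inr (i j : Fin d) : Matrix.J (Fin d) F (Sum.inr i) (Sum.inr j) = 0 := by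
  simp [Matrix.J]

theorem J_apply_inl_inr (i j : Fin d) :
    Matrix.J (Fin d) F (Sum.inl i) (Sum.inr j) = if i = j then -1 else 0 := by
  simp only [Matrix.J, Matrix.fromBlocks_apply₁₂, Matrix.neg_apply, Matrix.one_apply]
  split_ifs <;> simp

theorem J_apply_inr_inl (i j : Fin d) :
    Matrix.J (Fin d) F (Sum.inr i) (Sum.inl j) = if i = j then 1 else 0 := by
  simp [Matrix.J, Matrix.one_apply]

/-- a matrix whose columns have the Gram matrix `J` is symplectic. -/
theorem mem_symplecticGroup_of_cols (G : Matrix (Fin d ⊕ Fin d) (Fin d ⊕ Fin d) F)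
    (h : ∀ a b, Cfsg.sympForm d F (G.col a) (G.col b) = Matrix.J (Fin d) F a b) :
    G ∈ Matrix.symplecticGroup (Fin d) F := by
  rw [SymplecticGroup.mem_iff']
  ext a b
  have h1 := sympForm_mulVec G (Pi.single a 1) (Pi.single b 1)
  rw [Matrix.mulVec_single_one, Matrix.mulVec_single_one, Matrix.mulVec_single_one,
    single_one_dotProduct] at h1
  rw [← h a b, h1]
  rfl

theorem exists_symp_smul_pair {U W : Submodule F (Fin d ⊕ Fin d → F)} (hc : IsCompl U W)
    (hU : TI U) (hW : TI W) :
    ∃ g : ↥(Matrix.symplecticGroup (Fin d) F), g • U0 d F = U ∧ g • W0 d F = W := by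
  classical
  have hsep2 : ∀ w ∈ W, (∀ u ∈ U, Cfsg.sympForm d F u w = 0) → w = 0 := by
    intro w hw h
    apply (omega_nondegenerate (F := F) d).2 w
    intro y
    have hy : y ∈ U ⊔ W := by rw [hc.sup_eq_top]; trivial
    obtain ⟨a, ha, b, hb, rfl⟩ := Submodule.mem_sup.mp hy
    rw [omega_apply, sympForm_add_left, h a ha, hW b hb w hw, add_zero]
  have hsep1 : ∀ u ∈ U, (∀ w ∈ W, Cfsg.sympForm d F u w = 0) → u = 0 := by
    intro u hu h
    apply (omega_nondegenerate (F := F) d).1 u
    intro y
    have hy : y ∈ U ⊔ W := by rw [hc.sup_eq_top]; trivial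
    obtain ⟨a, ha, b, hb, rfl⟩ := Submodule.mem_sup.mp hy
    rw [omega_apply, sympForm_add_right, hU u hu a ha, h b hb, add_zero]
  -- the two pairings
  let γ : W →ₗ[F] U →ₗ[F] F := (LinearMap.flip (omega d F)).domRestrict₁₂ W U
  let β : U →ₗ[F] W →ₗ[F] F := (omega d F).domRestrict₁₂ U W
  have hγ : ∀ (w : W) (u : U), γ w u = Cfsg.sympForm d F (u : Fin d ⊕ Fin d → F) w := by
    intro w u
    show LinearMap.flip (omega d F) (w : Fin d ⊕ Fin d → F) (u : Fin d ⊕ Fin d → F) = _
    rw [LinearMap.flip_apply, omega_apply]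
  have hβ : ∀ (u : U) (w : W), β u w = Cfsg.sympForm d F (u : Fin d ⊕ Fin d → F) w := by
    intro u w
    show (omega d F) (u : Fin d ⊕ Fin d → F) (w : Fin d ⊕ Fin d → F) = _
    rw [omega_apply]
  have hγinj : Function.Injective γ := by
    rw [injective_iff_map_eq_zero]
    intro w hw0
    apply Subtype.ext
    apply hsep2 w w.2
    intro u hu
    have := LinearMap.congr_fun hw0 ⟨u, hu⟩
    rw [hγ] at this
    exact this
  have hβinj : Function.Injective β := by
    rw [injective_iff_map_eq_zero]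
    intro u hu0
    apply Subtype.ext
    apply hsep1 u u.2
    intro w hw
    have := LinearMap.congr_fun hu0 ⟨w, hw⟩
    rw [hβ] at this
    exact this
  have h1 : finrank F W ≤ finrank F U := by
    have := LinearMap.finrank_le_finrank_of_injective hγinj
    rwa [show finrank F (U →ₗ[F] F) = finrank F U from Subspace.dual_finrank_eq] at this
  have h2 : finrank F U ≤ finrank F W := by
    have := LinearMap.finrank_le_finrank_of_injective hβinj
    rwa [show finrank F (W →ₗ[F] F) = finrank F W from Subspace.dual_finrank_eq] at this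
  have hsum : finrank F U + finrank F W = d + d := by
    rw [Submodule.finrank_add_eq_of_isCompl hc, Module.finrank_fintype_fun_eq_card,
      Fintype.card_sum, Fintype.card_fin]
  have hUd : finrank F U = d := by omega
  have hWd : finrank F W = d := by omega
  let bU : Basis (Fin d) F U := Module.finBasisOfFinrankEq F U hUd
  let γe : W ≃ₗ[F] (U →ₗ[F] F) := LinearMap.linearEquivOfInjective γ hγinj (by
    rw [show finrank F (U →ₗ[F] F) = finrank F U from Subspace.dual_finrank_eq, hUd, hWd])
  let w : Fin d → W := fun j => γe.symm (-(bU.coord j))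
  have hw : ∀ i j, Cfsg.sympForm d F (bU i : Fin d ⊕ Fin d → F) (w j : Fin d ⊕ Fin d → F)
      = if i = j then -1 else 0 := by
    intro i j
    rw [← hγ]
    have : γ (w j) = γe (w j) := rfl
    rw [this]
    show γe (γe.symm (-(bU.coord j))) (bU i) = _
    rw [LinearEquiv.apply_symm_apply, LinearMap.neg_apply, Basis.coord_apply, Basis.repr_self,
      Finsupp.single_apply]
    split_ifs <;> simp
  let c : Fin d ⊕ Fin d → (Fin d ⊕ Fin d → F) :=
    Sum.elim (fun i => (bU i : Fin d ⊕ Fin d → F)) (fun j => (w j : Fin d ⊕ Fin d → F))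
  let G : Matrix (Fin d ⊕ Fin d) (Fin d ⊕ Fin d) F := Matrix.of (fun x a => c a x)
  have hcol : ∀ a, G.col a = c a := fun a => rfl
  have hG : G ∈ Matrix.symplecticGroup (Fin d) F := by
    apply mem_symplecticGroup_of_cols
    intro a b
    rw [hcol, hcol]
    rcases a with i | i <;> rcases b with j | j
    · rw [J_apply_inl_inl]
      exact hU _ (bU i).2 _ (bU j).2
    · rw [J_apply_inl_inr]
      exact hw i j
    · rw [J_apply_inr_inl]
      show Cfsg.sympForm d F (w i : Fin d ⊕ Fin d → F) (bU j : Fin d ⊕ Fin d → F) = _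
      rw [sympForm_swap, hw j i]
      by_cases hij : i = j
      · subst hij; simp
      · rw [if_neg hij, if_neg (Ne.symm hij), neg_zero]
    · rw [J_apply_inr_inr]
      exact hW _ (w i).2 _ (w j).2
  have hmul : ∀ v : Fin d ⊕ Fin d → F, G *ᵥ v
      = ∑ i, v (Sum.inl i) • (bU i : Fin d ⊕ Fin d → F)
        + ∑ j, v (Sum.inr j) • (w j : Fin d ⊕ Fin d → F) := by
    intro v
    rw [Matrix.mulVec_eq_sum, Fintype.sum_sum_type]
    simp only [op_smul_eq_smul]
    rfl
  refine ⟨⟨G, hG⟩, ?_⟩
  apply eq_of_le_of_sup_eq_top _ _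
    (isCompl_smul ⟨G, hG⟩ (isCompl_U0_W0 (d := d) (F := F))).sup_eq_top hc.disjoint
  · intro v hv
    rw [mem_smul_iff] at hv
    obtain ⟨u, hu, rfl⟩ := hv
    rw [mem_U0] at hu
    show G *ᵥ u ∈ U
    rw [hmul]
    have : ∑ j, u (Sum.inr j) • (w j : Fin d ⊕ Fin d → F) = 0 := by
      apply Finset.sum_eq_zero
      intro j _
      rw [hu j, zero_smul]
    rw [this, add_zero]
    exact U.sum_mem (fun i _ => U.smul_mem _ (bU i).2)
  · intro v hv
    rw [mem_smul_iff] at hv
    obtain ⟨u, hu, rfl⟩ := hv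
    rw [mem_W0] at hu
    show G *ᵥ u ∈ W
    rw [hmul]
    have : ∑ i, u (Sum.inl i) • (bU i : Fin d ⊕ Fin d → F) = 0 := by
      apply Finset.sum_eq_zero
      intro j _
      rw [hu j, zero_smul]
    rw [this, zero_add]
    exact W.sum_mem (fun j _ => W.smul_mem _ (w j).2)

end Cfsg.Agent.Helper43.Lagr
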