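import Mathlib
import Cfsg.Agent.Helper43.LagrB

set_option autoImplicit false

/-!
# The stabilizer of the standard pair and the number of pairs
-/

namespace Cfsg.Agent.Helper43.Lagr

open Matrix Pointwise
open Cfsg.Agent.Helper13 Cfsg.Agent.S0776

variable {F : Type*} [Field F] {d : ℕ}

theorem mulVec_single_apply (M : Matrix (Fin d ⊕ Fin d) (Fin d ⊕ Fin d) F) (a b : Fin d ⊕ Fin d) :
    (M *ᵥ Pi.single b 1) a = M a b := by
  rw [Matrix.mulVec_single_one]
  rfl

theorem single_inl_mem_U0 (i : Fin d) : (Pi.single (Sum.inl i) 1 : Fin d ⊕ Fin d → F) ∈ U0 d F := by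
  rw [mem_U0]
  intro j
  simp

theorem single_inr_mem_W0 (j : Fin d) : (Pi.single (Sum.inr j) 1 : Fin d ⊕ Fin d → F) ∈ W0 d F := by
  rw [mem_W0]
  intro i
  simp

theorem mem_stabilizer_iff (g : ↥(Matrix.symplecticGroup (Fin d) F)) :
    g ∈ MulAction.stabilizer ↥(Matrix.symplecticGroup (Fin d) F) (U0 d F, W0 d F) ↔
      (g : Matrix (Fin d ⊕ Fin d) (Fin d ⊕ Fin d) F).toBlocks₁₂ = 0 ∧
      (g : Matrix (Fin d ⊕ Fin d) (Fin d ⊕ Fin d) F).toBlocks₂₁ = 0 := by
  rw [MulAction.mem_stabilizer_iff]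
  constructor
  · intro h
    have hU : g • U0 d F = U0 d F := congrArg Prod.fst h
    have hW : g • W0 d F = W0 d F := congrArg Prod.snd h
    constructor
    · ext i j
      have hmem : (g : Matrix (Fin d ⊕ Fin d) (Fin d ⊕ Fin d) F) *ᵥ Pi.single (Sum.inr j) 1
          ∈ g • W0 d F := by
        rw [mem_smul_iff]
        exact ⟨_, single_inr_mem_W0 j, rfl⟩
      rw [hW, mem_W0] at hmem
      have := hmem i
      rw [mulVec_single_apply] at this
      exact this
    · ext j i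
      have hmem : (g : Matrix (Fin d ⊕ Fin d) (Fin d ⊕ Fin d) F) *ᵥ Pi.single (Sum.inl i) 1
          ∈ g • U0 d F := by
        rw [mem_smul_iff]
        exact ⟨_, single_inl_mem_U0 i, rfl⟩
      rw [hU, mem_U0] at hmem
      have := hmem j
      rw [mulVec_single_apply] at this
      exact this
  · rintro ⟨h12, h21⟩
    have h12' : ∀ i j, (g : Matrix (Fin d ⊕ Fin d) (Fin d ⊕ Fin d) F) (Sum.inl i) (Sum.inr j) = 0 :=
      fun i j => congrFun (congrFun h12 i) j
    have h21' : ∀ j i, (g : Matrix (Fin d ⊕ Fin d) (Fin d ⊕ Fin d) F) (Sum.inr j) (Sum.inl i) = 0 :=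
      fun j i => congrFun (congrFun h21 j) i
    have key : g • U0 d F = U0 d F ∧ g • W0 d F = W0 d F := by
      apply eq_of_le_of_sup_eq_top _ _
        (isCompl_smul g (isCompl_U0_W0 (d := d) (F := F))).sup_eq_top
        (isCompl_U0_W0 (d := d) (F := F)).disjoint
      · intro v hv
        rw [mem_smul_iff] at hv
        obtain ⟨u, hu, rfl⟩ := hv
        rw [mem_U0] at hu ⊢
        intro j
        rw [Matrix.mulVec, dotProduct, Fintype.sum_sum_type]
        simp only [h21', hu, zero_mul, mul_zero, Finset.sum_const_zero, add_zero]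
      · intro v hv
        rw [mem_smul_iff] at hv
        obtain ⟨u, hu, rfl⟩ := hv
        rw [mem_W0] at hu ⊢
        intro j
        rw [Matrix.mulVec, dotProduct, Fintype.sum_sum_type]
        simp only [h12', hu, zero_mul, mul_zero, Finset.sum_const_zero, add_zero]
    exact Prod.ext key.1 key.2

/-- block diagonal symplectic matrices -/
theorem fromBlocks_diag_mem_iff (A D : Matrix (Fin d) (Fin d) F) :
    fromBlocks A 0 0 D ∈ Matrix.symplecticGroup (Fin d) F ↔ A * Dᵀ = 1 := by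
  rw [SymplecticGroup.mem_iff, Matrix.J, fromBlocks_transpose, fromBlocks_multiply,
    fromBlocks_multiply, fromBlocks_inj]
  simp only [Matrix.mul_zero, Matrix.zero_mul, add_zero, zero_add, transpose_zero, Matrix.mul_one,
    Matrix.mul_neg, Matrix.neg_mul, neg_inj, true_and, neg_zero]
  constructor
  · intro h
    exact h.1
  · intro h
    have h2 : Dᵀ * A = 1 := mul_eq_one_comm.mp h
    have := congrArg Matrix.transpose h2
    rw [transpose_mul, transpose_transpose, transpose_one] at this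
    have h3 : D * Aᵀ = 1 := mul_eq_one_comm.mp this
    simp [h, h3]

/-- the block diagonal embedding of `GL_d` into the stabilizer of the standard pair. -/
noncomputable def diagEmb (A : GL (Fin d) F) :
    ↥(MulAction.stabilizer ↥(Matrix.symplecticGroup (Fin d) F) (U0 d F, W0 d F)) :=
  ⟨⟨fromBlocks (A : Matrix (Fin d) (Fin d) F) 0 0
      ((A⁻¹ : GL (Fin d) F) : Matrix (Fin d) (Fin d) F)ᵀ, by
      rw [fromBlocks_diag_mem_iff, transpose_transpose]
      exact Units.mul_inv A⟩, by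
    rw [mem_stabilizer_iff]
    exact ⟨toBlocks_fromBlocks₁₂ _ _ _ _, toBlocks_fromBlocks₂₁ _ _ _ _⟩⟩

theorem diagEmb_coe (A : GL (Fin d) F) :
    (((diagEmb A : ↥(MulAction.stabilizer ↥(Matrix.symplecticGroup (Fin d) F) (U0 d F, W0 d F)))
      : ↥(Matrix.symplecticGroup (Fin d) F)) : Matrix (Fin d ⊕ Fin d) (Fin d ⊕ Fin d) F)
      = fromBlocks (A : Matrix (Fin d) (Fin d) F) 0 0
        ((A⁻¹ : GL (Fin d) F) : Matrix (Fin d) (Fin d) F)ᵀ := rfl

/-- every element of the stabilizer is block diagonal `diag(A, A⁻ᵀ)`. -/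
theorem exists_diag_of_mem_stabilizer (g : ↥(Matrix.symplecticGroup (Fin d) F))
    (hg : g ∈ MulAction.stabilizer ↥(Matrix.symplecticGroup (Fin d) F) (U0 d F, W0 d F)) :
    ∃ A : GL (Fin d) F, (g : Matrix (Fin d ⊕ Fin d) (Fin d ⊕ Fin d) F)
      = fromBlocks (A : Matrix (Fin d) (Fin d) F) 0 0
        ((A⁻¹ : GL (Fin d) F) : Matrix (Fin d) (Fin d) F)ᵀ := by
  rw [mem_stabilizer_iff] at hg
  have hgb : (g : Matrix (Fin d ⊕ Fin d) (Fin d ⊕ Fin d) F)
      = fromBlocks (g : Matrix (Fin d ⊕ Fin d) (Fin d ⊕ Fin d) F).toBlocks₁₁ 0 0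
        (g : Matrix (Fin d ⊕ Fin d) (Fin d ⊕ Fin d) F).toBlocks₂₂ := by
    conv_lhs => rw [← fromBlocks_toBlocks (g : Matrix (Fin d ⊕ Fin d) (Fin d ⊕ Fin d) F)]
    rw [hg.1, hg.2]
  have hmem := g.2
  rw [hgb, fromBlocks_diag_mem_iff] at hmem
  have hmem' := mul_eq_one_comm.mp hmem
  refine ⟨⟨_, _, hmem, hmem'⟩, ?_⟩
  show (g : Matrix (Fin d ⊕ Fin d) (Fin d ⊕ Fin d) F)
      = fromBlocks (g : Matrix (Fin d ⊕ Fin d) (Fin d ⊕ Fin d) F).toBlocks₁₁ 0 0
        ((g : Matrix (Fin d ⊕ Fin d) (Fin d ⊕ Fin d) F).toBlocks₂₂ᵀ)ᵀ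
  rw [transpose_transpose]
  exact hgb

theorem diagEmb_bijective : Function.Bijective (diagEmb (F := F) (d := d)) := by
  constructor
  · intro A A' h
    have := congrArg (fun x : ↥(MulAction.stabilizer ↥(Matrix.symplecticGroup (Fin d) F)
      (U0 d F, W0 d F)) => ((x : ↥(Matrix.symplecticGroup (Fin d) F)) :
        Matrix (Fin d ⊕ Fin d) (Fin d ⊕ Fin d) F)) h
    simp only [diagEmb_coe] at this
    rw [fromBlocks_inj] at this
    exact Units.ext this.1
  · rintro ⟨g, hg⟩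
    obtain ⟨A, hA⟩ := exists_diag_of_mem_stabilizer g hg
    refine ⟨A, ?_⟩
    apply Subtype.ext
    apply Subtype.ext
    rw [diagEmb_coe]
    exact hA.symm

theorem card_stabilizer [Fintype F] :
    Nat.card ↥(MulAction.stabilizer ↥(Matrix.symplecticGroup (Fin d) F) (U0 d F, W0 d F))
      = Nat.card (GL (Fin d) F) :=
  (Nat.card_eq_of_bijective _ diagEmb_bijective).symm

theorem orbit_eq :
    MulAction.orbit ↥(Matrix.symplecticGroup (Fin d) F) (U0 d F, W0 d F)
      = {P : Submodule F (Fin d ⊕ Fin d → F) × Submodule F (Fin d ⊕ Fin d → F) |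
          IsCompl P.1 P.2 ∧ TI P.1 ∧ TI P.2} := by
  ext P
  constructor
  · rintro ⟨g, rfl⟩
    exact ⟨isCompl_smul g isCompl_U0_W0, TI_smul g TI_U0, TI_smul g TI_W0⟩
  · rintro ⟨hc, hU, hW⟩
    obtain ⟨g, h1, h2⟩ := exists_symp_smul_pair hc hU hW
    exact ⟨g, Prod.ext h1 h2⟩

/-- The number of pairs of complementary totally isotropic subspaces times `|GL_d(q)|`
is `|Sp_{2d}(q)|`. -/
theorem card_pairs_mul [Fintype F] :
    Nat.card {P : Submodule F (Fin d ⊕ Fin d → F) × Submodule F (Fin d ⊕ Fin d → F) //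
        IsCompl P.1 P.2 ∧ TI P.1 ∧ TI P.2} * Nat.card (GL (Fin d) F)
      = Nat.card ↥(Matrix.symplecticGroup (Fin d) F) := by
  have h := Subgroup.index_mul_card
    (MulAction.stabilizer ↥(Matrix.symplecticGroup (Fin d) F) (U0 d F, W0 d F))
  rw [MulAction.index_stabilizer, orbit_eq, card_stabilizer, ← Nat.card_coe_set_eq] at h
  exact h

end Cfsg.Agent.Helper43.Lagr
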