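import Mathlib

set_option autoImplicit false

namespace Cfsg.Agent.Helper43.SpPrime

open Polynomial

universe u

variable {F : Type u} [Field F]

/-- The monic reciprocal of a polynomial: roots are inverted. -/
noncomputable def star (f : F[X]) : F[X] := C (f.coeff 0)⁻¹ * f.reverse

theorem star_mul (f g : F[X]) : star (f * g) = star f * star g := by
  unfold star
  rw [mul_coeff_zero, mul_inv, C_mul, reverse_mul_of_domain]
  ring

theorem star_one : star (1 : F[X]) = 1 := by
  unfold star
  rw [coeff_one_zero, inv_one, C_1, one_mul, ← C_1, reverse_C]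

/-- `star` as a monoid homomorphism. -/
noncomputable def starHom : F[X] →* F[X] where
  toFun := star
  map_one' := star_one
  map_mul' := star_mul

theorem starHom_apply (f : F[X]) : starHom f = star f := rfl

theorem star_pow (f : F[X]) (k : ℕ) : star (f ^ k) = star f ^ k := by
  rw [← starHom_apply, map_pow, starHom_apply]

theorem star_dvd {f g : F[X]} (h : f ∣ g) : star f ∣ star g := by
  rw [← starHom_apply, ← starHom_apply]
  exact map_dvd starHom h

theorem star_multiset_prod (s : Multiset F[X]) : star s.prod = (s.map star).prod := by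
  rw [← starHom_apply, map_multiset_prod]
  rfl

theorem star_C {a : F} (ha : a ≠ 0) : star (C a) = 1 := by
  unfold star
  rw [coeff_C_zero, reverse_C, ← C_mul, inv_mul_cancel₀ ha, C_1]

theorem coeff_zero_star (f : F[X]) : (star f).coeff 0 = (f.coeff 0)⁻¹ * f.leadingCoeff := by
  unfold star
  rw [coeff_C_mul, coeff_zero_reverse]

theorem star_coeff_zero_ne {f : F[X]} (hf : f ≠ 0) (hf0 : f.coeff 0 ≠ 0) :
    (star f).coeff 0 ≠ 0 := by
  rw [coeff_zero_star]
  exact mul_ne_zero (inv_ne_zero hf0) (leadingCoeff_ne_zero.mpr hf)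

theorem natTrailingDegree_eq_zero_of_coeff {f : F[X]} (hf0 : f.coeff 0 ≠ 0) :
    f.natTrailingDegree = 0 :=
  natTrailingDegree_eq_zero.mpr (Or.inr hf0)

theorem natDegree_reverse_of_coeff {f : F[X]} (hf0 : f.coeff 0 ≠ 0) :
    f.reverse.natDegree = f.natDegree := by
  rw [reverse_natDegree, natTrailingDegree_eq_zero_of_coeff hf0, Nat.sub_zero]

theorem reverse_reverse_of_coeff {f : F[X]} (hf0 : f.coeff 0 ≠ 0) : f.reverse.reverse = f := by
  have h1 : f.reverse.reverse = (f.reflect f.natDegree).reflect f.natDegree := by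
    conv_lhs => rw [reverse, natDegree_reverse_of_coeff hf0]
    rfl
  rw [h1, reflect_reflect]

theorem natDegree_star {f : F[X]} (hf0 : f.coeff 0 ≠ 0) : (star f).natDegree = f.natDegree := by
  unfold star
  rw [natDegree_C_mul (inv_ne_zero hf0), natDegree_reverse_of_coeff hf0]

theorem star_monic {f : F[X]} (hf0 : f.coeff 0 ≠ 0) : (star f).Monic := by
  unfold star Monic
  rw [leadingCoeff_mul, leadingCoeff_C, reverse_leadingCoeff, trailingCoeff,
    natTrailingDegree_eq_zero_of_coeff hf0, inv_mul_cancel₀ hf0]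

theorem star_star {f : F[X]} (hfm : f.Monic) (hf0 : f.coeff 0 ≠ 0) : star (star f) = f := by
  have h1 : star f = C (f.coeff 0)⁻¹ * f.reverse := rfl
  rw [h1, star_mul, star_C (inv_ne_zero hf0), one_mul]
  unfold star
  rw [coeff_zero_reverse, hfm.leadingCoeff, inv_one, C_1, one_mul, reverse_reverse_of_coeff hf0]

theorem star_ne_zero {f : F[X]} (hf0 : f.coeff 0 ≠ 0) : star f ≠ 0 :=
  (star_monic hf0).ne_zero

theorem star_irreducible {f : F[X]} (hfm : f.Monic) (hfi : Irreducible f) (hf0 : f.coeff 0 ≠ 0) :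
    Irreducible (star f) := by
  have hsm := star_monic hf0
  have hs0 : (star f).coeff 0 ≠ 0 := star_coeff_zero_ne hfm.ne_zero hf0
  constructor
  · intro hu
    have h1 := natDegree_eq_zero_of_isUnit hu
    rw [natDegree_star hf0] at h1
    have h2 : f = 1 := hfm.natDegree_eq_zero.mp h1
    exact hfi.not_isUnit (h2 ▸ isUnit_one)
  · intro a b hab
    have ha0 : a.coeff 0 ≠ 0 := by
      intro h
      apply hs0
      rw [hab, mul_coeff_zero, h, zero_mul]
    have hb0 : b.coeff 0 ≠ 0 := by
      intro h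
      apply hs0
      rw [hab, mul_coeff_zero, h, mul_zero]
    have h1 : f = star a * star b := by
      rw [← star_mul, ← hab, star_star hfm hf0]
    have hdeg : ∀ c : F[X], c.coeff 0 ≠ 0 → IsUnit (star c) → IsUnit c := by
      intro c hc0 hu
      have h2 := natDegree_eq_zero_of_isUnit hu
      rw [natDegree_star hc0] at h2
      have hc : c ≠ 0 := by
        intro h
        apply hc0
        rw [h, coeff_zero]
      rw [eq_C_of_natDegree_eq_zero h2]
      apply isUnit_C.mpr
      rw [isUnit_iff_ne_zero]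
      exact hc0
    rcases hfi.isUnit_or_isUnit h1 with h | h
    · left; exact hdeg a ha0 h
    · right; exact hdeg b hb0 h

theorem star_X_pow_sub_one {r : ℕ} (hr : 0 < r) : star (X ^ r - 1 : F[X]) = X ^ r - 1 := by
  have h1 : (X ^ r - 1 : F[X]) = X ^ r + C (-1) := by
    rw [C_neg, C_1]; ring
  have hc : (X ^ r - 1 : F[X]).coeff 0 = -1 := by
    rw [coeff_sub, coeff_X_pow, coeff_one_zero, if_neg hr.ne]
    ring
  unfold star
  rw [hc, h1, reverse_add_C, natDegree_X_pow]
  have h2 : (X ^ r : F[X]).reverse = 1 := by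
    have := reverse_X_pow_mul (1 : F[X]) r
    rw [mul_one] at this
    rw [this, ← C_1, reverse_C]
  rw [h2, C_neg, C_1]
  have h3 : ((-1 : F))⁻¹ = -1 := by
    rw [inv_neg, inv_one]
  rw [h3, C_neg, C_1]
  ring

theorem star_X_sub_one : star (X - 1 : F[X]) = X - 1 := by
  have := star_X_pow_sub_one (F := F) (r := 1) one_pos
  rwa [pow_one] at this

theorem star_eq_self_of_reverse {f : F[X]} (hfm : f.Monic) (hrev : f.reverse = f) :
    star f = f := by
  have h0 : f.coeff 0 = 1 := by
    rw [← hfm.leadingCoeff, ← coeff_zero_reverse, hrev]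
  unfold star
  rw [h0, inv_one, C_1, one_mul, hrev]

theorem reverse_eq_self_of_star {f : F[X]} (h0 : f.coeff 0 = 1) (hs : star f = f) :
    f.reverse = f := by
  unfold star at hs
  rw [h0, inv_one, C_1, one_mul] at hs
  exact hs

theorem coeff_zero_ne_of_dvd_X_pow_sub_one {r : ℕ} (hr : 0 < r) {P : F[X]}
    (hP : P ∣ (X ^ r - 1 : F[X])) : P.coeff 0 ≠ 0 := by
  intro h0
  have hXP : (X : F[X]) ∣ P := Polynomial.X_dvd_iff.mpr h0
  have h2 := Polynomial.X_dvd_iff.mp (hXP.trans hP)
  rw [coeff_sub, coeff_X_pow, coeff_one_zero, if_neg hr.ne] at h2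
  simp at h2

end Cfsg.Agent.Helper43.SpPrime
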