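import Mathlib
import Cfsg.Agent.Helper43.LagrC
import Cfsg.Agent.Helper43.SpPrimeD
import Cfsg.Agent.Helper43.SpPrimeB

set_option autoImplicit false

/-!
# Elements of the symplectic group fixing a pair of complementary totally isotropic subspaces
-/

namespace Cfsg.Agent.Helper43.Lagr

open Matrix Pointwise Polynomial
open Cfsg.Agent.Helper13 Cfsg.Agent.S0776 Cfsg.Agent.Helper43.SpPrime
open Cfsg.Agent.Helper43.SpSS Cfsg.Agent.Helper43.SpCount

variable {F : Type*} [Field F] {d : ℕ}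

theorem charpoly_coeff_zero_ne (A : GL (Fin d) F) :
    (A : Matrix (Fin d) (Fin d) F).charpoly.coeff 0 ≠ 0 := by
  intro h0
  have h1 := Matrix.det_eq_sign_charpoly_coeff (A : Matrix (Fin d) (Fin d) F)
  rw [h0, mul_zero] at h1
  have h2 : IsUnit (A : Matrix (Fin d) (Fin d) F).det :=
    (Matrix.isUnit_iff_isUnit_det _).mp A.isUnit
  rw [h1] at h2
  exact not_isUnit_zero h2

theorem charpoly_inv_eq_star (A : GL (Fin d) F) :
    ((A⁻¹ : GL (Fin d) F) : Matrix (Fin d) (Fin d) F).charpoly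
      = star (A : Matrix (Fin d) (Fin d) F).charpoly := by
  have hunit : IsUnit (A : Matrix (Fin d) (Fin d) F) := A.isUnit
  rw [Matrix.coe_units_inv, Matrix.charpoly_inv _ hunit, ← Matrix.reverse_charpoly, SpPrime.star]
  congr 1
  have h1 := Matrix.det_eq_sign_charpoly_coeff (A : Matrix (Fin d) (Fin d) F)
  have hdet : (A : Matrix (Fin d) (Fin d) F).det ≠ 0 := by
    intro h
    have h2 : IsUnit (A : Matrix (Fin d) (Fin d) F).det :=
      (Matrix.isUnit_iff_isUnit_det _).mp hunit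
    rw [h] at h2
    exact not_isUnit_zero h2
  have hs : ((-1 : F) ^ Fintype.card (Fin d)) * ((-1 : F) ^ Fintype.card (Fin d)) = 1 := by
    rw [← mul_pow]; simp
  have h2 : (A : Matrix (Fin d) (Fin d) F).charpoly.coeff 0
      = (-1) ^ Fintype.card (Fin d) * (A : Matrix (Fin d) (Fin d) F).det := by
    rw [h1, ← mul_assoc, hs, one_mul]
  rw [h2, Ring.inverse_eq_inv', mul_inv, map_mul]
  congr 1
  have : ((-1 : F) ^ Fintype.card (Fin d))⁻¹ = (-1 : F) ^ Fintype.card (Fin d) :=
    inv_eq_of_mul_eq_one_left hs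
  rw [this, map_pow, map_neg, map_one]

/-- an element of the symplectic group fixing a pair of complementary totally isotropic
subspaces has characteristic polynomial `c * star c`. -/
theorem charpoly_of_fix_pair (x : ↥(Matrix.symplecticGroup (Fin d) F))
    {U W : Submodule F (Fin d ⊕ Fin d → F)} (hc : IsCompl U W) (hU : TI U) (hW : TI W)
    (hxU : x • U = U) (hxW : x • W = W) :
    ∃ c : F[X], c.Monic ∧ c.coeff 0 ≠ 0 ∧
      (x : Matrix (Fin d ⊕ Fin d) (Fin d ⊕ Fin d) F).charpoly = c * star c := by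
  obtain ⟨g, hgU, hgW⟩ := exists_symp_smul_pair hc hU hW
  have h1 : g • (U0 d F, W0 d F) = (U, W) := Prod.ext hgU hgW
  have h2 : x • (U, W) = (U, W) := Prod.ext hxU hxW
  have hy : g⁻¹ * x * g ∈
      MulAction.stabilizer ↥(Matrix.symplecticGroup (Fin d) F) (U0 d F, W0 d F) := by
    rw [MulAction.mem_stabilizer_iff, mul_smul, mul_smul, h1, h2, ← h1, inv_smul_smul]
  obtain ⟨A, hA⟩ := exists_diag_of_mem_stabilizer _ hy
  refine ⟨(A : Matrix (Fin d) (Fin d) F).charpoly, Matrix.charpoly_monic _,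
    charpoly_coeff_zero_ne A, ?_⟩
  have hconj : ((g⁻¹ * x * g : ↥(Matrix.symplecticGroup (Fin d) F)) :
      Matrix (Fin d ⊕ Fin d) (Fin d ⊕ Fin d) F).charpoly
      = (x : Matrix (Fin d ⊕ Fin d) (Fin d ⊕ Fin d) F).charpoly := by
    have : ((g⁻¹ * x * g : ↥(Matrix.symplecticGroup (Fin d) F)) :
        Matrix (Fin d ⊕ Fin d) (Fin d ⊕ Fin d) F)
        = ((g⁻¹ * x : ↥(Matrix.symplecticGroup (Fin d) F)) :
          Matrix (Fin d ⊕ Fin d) (Fin d ⊕ Fin d) F)
          * (g : Matrix (Fin d ⊕ Fin d) (Fin d ⊕ Fin d) F) := rfl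
    rw [this, Matrix.charpoly_mul_comm]
    have h3 : (g : Matrix (Fin d ⊕ Fin d) (Fin d ⊕ Fin d) F)
        * ((g⁻¹ * x : ↥(Matrix.symplecticGroup (Fin d) F)) :
          Matrix (Fin d ⊕ Fin d) (Fin d ⊕ Fin d) F)
        = ((g * (g⁻¹ * x) : ↥(Matrix.symplecticGroup (Fin d) F)) :
          Matrix (Fin d ⊕ Fin d) (Fin d ⊕ Fin d) F) := rfl
    rw [h3, mul_inv_cancel_left]
  rw [← hconj, hA, Matrix.charpoly_fromBlocks_zero₁₂, Matrix.charpoly_transpose,
    charpoly_inv_eq_star]

theorem X_sub_one_irreducible : Irreducible (X - 1 : F[X]) := by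
  have : (X - 1 : F[X]) = X - C 1 := by rw [map_one]
  rw [this]
  exact irreducible_X_sub_C 1

theorem X_sub_one_monic : (X - 1 : F[X]).Monic := by
  have : (X - 1 : F[X]) = X - C 1 := by rw [map_one]
  rw [this]
  exact monic_X_sub_C 1

/-- if the characteristic polynomial is `P * (X - 1) ^ k` with `P ≠ X - 1` irreducible and
self-reciprocal, no pair of complementary totally isotropic subspaces is fixed. -/
theorem no_fixed_pair (x : ↥(Matrix.symplecticGroup (Fin d) F)) (P : F[X]) (hPm : P.Monic)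
    (hPi : Irreducible P) (hP1 : P ≠ X - 1) (hPs : star P = P) (k : ℕ)
    (hx : (x : Matrix (Fin d ⊕ Fin d) (Fin d ⊕ Fin d) F).charpoly = P * (X - 1) ^ k)
    {U W : Submodule F (Fin d ⊕ Fin d → F)} (hc : IsCompl U W) (hU : TI U) (hW : TI W)
    (hxU : x • U = U) (hxW : x • W = W) : False := by
  obtain ⟨c, hcm, hc0, hch⟩ := charpoly_of_fix_pair x hc hU hW hxU hxW
  have hdvd : P ∣ c * star c := by
    rw [← hch, hx]
    exact dvd_mul_right _ _
  have hboth : P ∣ c ∧ P ∣ star c := by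
    rcases hPi.prime.dvd_or_dvd hdvd with h | h
    · refine ⟨h, ?_⟩
      have := star_dvd h
      rwa [hPs] at this
    · refine ⟨?_, h⟩
      have := star_dvd h
      rwa [hPs, star_star hcm hc0] at this
  have h2 : P * P ∣ P * (X - 1) ^ k := by
    rw [← hx, hch]
    exact mul_dvd_mul hboth.1 hboth.2
  have h3 : P ∣ (X - 1) ^ k := (mul_dvd_mul_iff_left hPm.ne_zero).mp h2
  have h4 : P ∣ X - 1 := hPi.prime.dvd_of_dvd_pow h3
  exact hP1 (eq_of_monic_of_associated hPm X_sub_one_monic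
    (hPi.associated_of_dvd X_sub_one_irreducible h4))

/-- an element of odd order cannot swap two complementary subspaces. -/
theorem no_swapped_pair (x : ↥(Matrix.symplecticGroup (Fin d) F)) (r : ℕ) (hr : Odd r)
    (hxr : x ^ r = 1) (hd : 0 < d) {U W : Submodule F (Fin d ⊕ Fin d → F)} (hc : IsCompl U W)
    (hxU : x • U = W) (hxW : x • W = U) : False := by
  have key : ∀ k : ℕ, x ^ (2 * k + 1) • U = W := by
    intro k
    induction k with
    | zero => simpa using hxU
    | succ k ih =>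
      have : 2 * (k + 1) + 1 = (2 * k + 1) + 1 + 1 := by ring
      rw [this, pow_succ, pow_succ, mul_smul, mul_smul, hxU, hxW, ih]
  obtain ⟨k, hk⟩ := hr
  have h1 := key k
  rw [← hk, hxr, one_smul] at h1
  subst h1
  have hbot : U = ⊥ := disjoint_self.mp hc.disjoint
  have htop : U = ⊤ := codisjoint_self.mp hc.codisjoint
  have hmem : (Pi.single (Sum.inl ⟨0, hd⟩) 1 : Fin d ⊕ Fin d → F) ∈ U := by
    rw [htop]; trivial
  rw [hbot, Submodule.mem_bot] at hmem
  have := congrFun hmem (Sum.inl ⟨0, hd⟩)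
  simp at this

/-- existence of an element of prime order with a prescribed characteristic polynomial. -/
theorem exists_prime_order_charpoly [Fintype F] (p : ℕ) [Fact p.Prime] [CharP F p] (m r : ℕ)
    (hr : r.Prime) (hrp : r ≠ p) (f : F[X]) (hf : SpPrimePred m r f) :
    ∃ a : ↥(Matrix.symplecticGroup (Fin m) F), orderOf a = r ∧
      (a : Matrix (Fin m ⊕ Fin m) (Fin m ⊕ Fin m) F).charpoly = f := by
  have hp : p.Prime := Fact.out
  have hrF : (r : F) ≠ 0 := by
    intro h0
    rw [CharP.cast_eq_zero_iff F p r] at h0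
    exact hrp ((Nat.prime_dvd_prime_iff_eq hp hr).mp h0).symm
  have hsep : (X ^ r - 1 : F[X]).Separable := by
    have := Polynomial.separable_X_pow_sub_C (1 : F) hrF one_ne_zero
    simpa using this
  have hX0 : (X ^ r - 1 : F[X]) ≠ 0 := hsep.ne_zero
  have haev : ∀ A : Matrix (Fin m ⊕ Fin m) (Fin m ⊕ Fin m) F,
      aeval A (X ^ r - 1 : F[X]) = A ^ r - 1 := by
    intro A
    rw [map_sub, map_pow, aeval_X, map_one]
  have hval : ∀ (g : ↥(Matrix.symplecticGroup (Fin m) F)) (k : ℕ), g ^ k = 1 →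
      (g : Matrix (Fin m ⊕ Fin m) (Fin m ⊕ Fin m) F) ^ k = 1 := by
    intro g k hg
    rw [← SubmonoidClass.coe_pow, hg]
    rfl
  obtain ⟨hfm, hfd, hfr, hfac, hne⟩ := hf
  obtain ⟨h, hhm, hhd, hpal⟩ := exists_pal_eq hfm hfd hfr
  obtain ⟨a, hacop, hach⟩ := exists_semisimple_charpoly p hhm hhd
  rw [hpal] at hach
  have hkF : (orderOf a : F) ≠ 0 := natCast_ne_zero_of_coprime p hacop
  have hAk := hval a (orderOf a) (pow_orderOf_eq_one a)
  have hAr : (a : Matrix (Fin m ⊕ Fin m) (Fin m ⊕ Fin m) F) ^ r = 1 := by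
    have := aeval_eq_zero_of_factors_gen (a : Matrix (Fin m ⊕ Fin m) (Fin m ⊕ Fin m) F)
      (orderOf a) hkF hAk (X ^ r - 1 : F[X]) hX0 (by
        intro P hPm hPi hP
        rw [hach] at hP
        exact hfac P hPm hPi hP)
    rw [haev] at this
    exact sub_eq_zero.mp this
  have har : a ^ r = 1 := by
    apply Subtype.ext
    rw [SubmonoidClass.coe_pow, hAr]
    rfl
  refine ⟨a, ?_, hach⟩
  rcases (Nat.dvd_prime hr).mp (orderOf_dvd_of_pow_eq_one har) with h1' | hr'
  · exfalso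
    rw [orderOf_eq_one_iff] at h1'
    apply hne
    rw [← hach, h1']
    exact charpoly_one_sp m
  · exact hr'

end Cfsg.Agent.Helper43.Lagr
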