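import Mathlib

set_option autoImplicit false

namespace Cfsg.Agent.Helper43.SS

open Polynomial UniqueFactorizationMonoid

universe u

variable {F : Type u} [Field F]

section count

/-- Tuples of naturals with bounded sum. -/
theorem card_tuples_sum_le (T : Type*) [Fintype T] (N : ℕ) :
    Nat.card {a : T → ℕ // ∑ P, a P ≤ N} = Nat.choose (N + Fintype.card T) (Fintype.card T) := by
  classical
  -- slack variable
  let e : {a : T → ℕ // ∑ P, a P ≤ N} ≃ {b : Option T → ℕ // ∑ x, b x = N} :=
    { toFun := fun a => ⟨fun x => Option.elim x (N - ∑ P, a.1 P) a.1, by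
        rw [Fintype.sum_option]
        simp only [Option.elim]
        have := a.2
        omega⟩
      invFun := fun b => ⟨fun P => b.1 (some P), by
        have := b.2
        rw [Fintype.sum_option] at this
        show ∑ P, b.1 (some P) ≤ N
        omega⟩
      left_inv := fun a => by
        apply Subtype.ext
        funext P
        rfl
      right_inv := fun b => by
        apply Subtype.ext
        funext x
        cases x with
        | none =>
          have := b.2
          rw [Fintype.sum_option] at this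
          show N - ∑ P, b.1 (some P) = b.1 none
          omega
        | some P => rfl }
  rw [Nat.card_congr e, Nat.card_congr (Sym.equivNatSumOfFintype (Option T) N).symm,
    Nat.card_eq_fintype_card, Sym.card_sym_eq_multichoose, Fintype.card_option, Nat.multichoose_eq]
  have h1 : Fintype.card T + 1 + N - 1 = N + Fintype.card T := by omega
  rw [h1]
  exact Nat.choose_symm_add

end count

section factor

open Classical in
/-- The multiset with prescribed multiplicities on a finset of polynomials. -/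
noncomputable def mOf (𝔉 : Finset F[X]) (a : 𝔉 → ℕ) : Multiset F[X] :=
  ∑ P : 𝔉, a P • ({(P : F[X])} : Multiset F[X])

theorem mem_mOf (𝔉 : Finset F[X]) (a : 𝔉 → ℕ) (Q : F[X]) (hQ : Q ∈ mOf 𝔉 a) : Q ∈ 𝔉 := by
  unfold mOf at hQ
  rw [Multiset.mem_sum] at hQ
  obtain ⟨P, _, hP⟩ := hQ
  have h1 := Multiset.mem_of_mem_nsmul hP
  rw [Multiset.mem_singleton] at h1
  rw [h1]
  exact P.2

theorem card_mOf (𝔉 : Finset F[X]) (a : 𝔉 → ℕ) : Multiset.card (mOf 𝔉 a) = ∑ P, a P := by
  unfold mOf
  rw [Multiset.card_sum]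
  apply Finset.sum_congr rfl
  intro P _
  rw [Multiset.card_nsmul, Multiset.card_singleton, mul_one]

open Classical in
theorem count_mOf (𝔉 : Finset F[X]) (a : 𝔉 → ℕ) (Q : 𝔉) :
    Multiset.count (Q : F[X]) (mOf 𝔉 a) = a Q := by
  unfold mOf
  rw [Multiset.count_sum']
  rw [Finset.sum_eq_single Q]
  · rw [Multiset.count_nsmul, Multiset.count_singleton_self, mul_one]
  · intro P _ hPQ
    rw [Multiset.count_nsmul, Multiset.count_singleton, if_neg, mul_zero]
    intro h
    exact hPQ (Subtype.ext h.symm)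
  · intro h; exact absurd (Finset.mem_univ Q) h

theorem count_mOf_of_notMem (𝔉 : Finset F[X]) (a : 𝔉 → ℕ) [DecidableEq F[X]] (P : F[X])
    (hP : P ∉ 𝔉) : Multiset.count P (mOf 𝔉 a) = 0 :=
  Multiset.count_eq_zero_of_notMem (fun h => hP (mem_mOf 𝔉 a P h))

/-- Counting monic polynomials of degree `n` whose irreducible factors lie in a given finite set
of polynomials of degree `i`, or equal a given linear polynomial. -/
theorem card_factor_polys (𝔉 : Finset F[X]) (i : ℕ) (hi : 0 < i) (L : F[X]) (hLm : L.Monic)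
    (hLi : Irreducible L) (hLd : L.natDegree = 1) (hL𝔉 : L ∉ 𝔉)
    (h𝔉 : ∀ P ∈ 𝔉, P.Monic ∧ Irreducible P ∧ P.natDegree = i) (n : ℕ) :
    Nat.card {f : F[X] // f.Monic ∧ f.natDegree = n ∧
      ∀ P : F[X], P.Monic → Irreducible P → P ∣ f → P ∈ 𝔉 ∨ P = L}
      = Nat.choose (n / i + 𝔉.card) 𝔉.card := by
  classical
  rw [← Fintype.card_coe 𝔉, ← card_tuples_sum_le 𝔉 (n / i)]
  symm
  have hmemM : ∀ (a : 𝔉 → ℕ) (Q : F[X]), Q ∈ mOf 𝔉 a → Q.Monic ∧ Irreducible Q ∧ Q.natDegree = i :=
    fun a Q hQ => h𝔉 Q (mem_mOf 𝔉 a Q hQ)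
  have hmonic : ∀ a : 𝔉 → ℕ, (mOf 𝔉 a).prod.Monic := by
    intro a
    have := monic_multiset_prod_of_monic (mOf 𝔉 a) id (fun Q hQ => (hmemM a Q hQ).1)
    rwa [Multiset.map_id] at this
  have hdegM : ∀ a : 𝔉 → ℕ, (mOf 𝔉 a).prod.natDegree = i * ∑ P, a P := by
    intro a
    rw [natDegree_multiset_prod_of_monic _ (fun Q hQ => (hmemM a Q hQ).1),
      Multiset.map_congr rfl (fun Q hQ => (hmemM a Q hQ).2.2), Multiset.map_const',
      Multiset.sum_replicate, card_mOf, smul_eq_mul, mul_comm]
  have hnorm : ∀ Q : F[X], Q.Monic → normalize Q = Q := fun Q hQ => hQ.normalize_eq_self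
  have hnF : ∀ (k : ℕ) (a : 𝔉 → ℕ), normalizedFactors (L ^ k * (mOf 𝔉 a).prod)
      = Multiset.replicate k L + mOf 𝔉 a := by
    intro k a
    rw [normalizedFactors_mul (pow_ne_zero _ hLm.ne_zero) (hmonic a).ne_zero,
      normalizedFactors_pow, normalizedFactors_irreducible hLi, hnorm L hLm,
      Multiset.nsmul_singleton, normalizedFactors_prod_eq _ (fun Q hQ => (hmemM a Q hQ).2.1),
      Multiset.map_congr rfl (fun Q hQ => hnorm Q (hmemM a Q hQ).1), Multiset.map_id']
  have hL𝔉' : ∀ Q : 𝔉, (Q : F[X]) ≠ L := fun Q h => hL𝔉 (h ▸ Q.2)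
  let Θ : {a : 𝔉 → ℕ // ∑ P, a P ≤ n / i} → {f : F[X] // f.Monic ∧ f.natDegree = n ∧
      ∀ P : F[X], P.Monic → Irreducible P → P ∣ f → P ∈ 𝔉 ∨ P = L} :=
    fun a => ⟨L ^ (n - i * ∑ P, a.1 P) * (mOf 𝔉 a.1).prod, (hLm.pow _).mul (hmonic a.1), by
      rw [(hLm.pow _).natDegree_mul (hmonic a.1), hLm.natDegree_pow, hLd, mul_one, hdegM]
      have := (Nat.le_div_iff_mul_le hi).mp a.2
      rw [mul_comm] at this
      omega, by
      intro P hPm hPi hP
      have hmem : P ∈ normalizedFactors (L ^ (n - i * ∑ P, a.1 P) * (mOf 𝔉 a.1).prod) := by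
        rw [Polynomial.mem_normalizedFactors_iff ((hLm.pow _).mul (hmonic a.1)).ne_zero]
        exact ⟨hPi, hPm, hP⟩
      rw [hnF, Multiset.mem_add] at hmem
      rcases hmem with h | h
      · right; exact Multiset.eq_of_mem_replicate h
      · left; exact mem_mOf 𝔉 a.1 P h⟩
  apply Nat.card_eq_of_bijective Θ
  constructor
  · intro a a' h
    have h1 : L ^ (n - i * ∑ P, a.1 P) * (mOf 𝔉 a.1).prod
        = L ^ (n - i * ∑ P, a'.1 P) * (mOf 𝔉 a'.1).prod := congrArg Subtype.val h
    have h2 := congrArg normalizedFactors h1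
    rw [hnF, hnF] at h2
    apply Subtype.ext
    funext Q
    have h3 := congrArg (Multiset.count (Q : F[X])) h2
    rw [Multiset.count_add, Multiset.count_add, count_mOf, count_mOf,
      Multiset.count_replicate, Multiset.count_replicate] at h3
    simp only [if_neg (hL𝔉' Q).symm, zero_add] at h3
    exact h3
  · rintro ⟨f, hfm, hfd, hfac⟩
    let a : 𝔉 → ℕ := fun Q => Multiset.count (Q : F[X]) (normalizedFactors f)
    have hnFf : normalizedFactors f
        = Multiset.replicate (Multiset.count L (normalizedFactors f)) L + mOf 𝔉 a := by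
      ext P
      rw [Multiset.count_add, Multiset.count_replicate]
      by_cases hPL : P = L
      · subst hPL
        rw [if_pos rfl, count_mOf_of_notMem 𝔉 a P hL𝔉, add_zero]
      · rw [if_neg (fun h => hPL h.symm), zero_add]
        by_cases hP𝔉 : P ∈ 𝔉
        · exact (count_mOf 𝔉 a ⟨P, hP𝔉⟩).symm
        · rw [count_mOf_of_notMem 𝔉 a P hP𝔉]
          apply Multiset.count_eq_zero_of_notMem
          intro hmem
          rw [Polynomial.mem_normalizedFactors_iff hfm.ne_zero] at hmem
          rcases hfac P hmem.2.1 hmem.1 hmem.2.2 with h | h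
          · exact hP𝔉 h
          · exact hPL h
    have hf : f = L ^ (Multiset.count L (normalizedFactors f)) * (mOf 𝔉 a).prod := by
      have h1 := prod_normalizedFactors_eq hfm.ne_zero
      rw [hnorm f hfm] at h1
      rw [← Multiset.prod_replicate, ← Multiset.prod_add, ← hnFf, h1]
    have hdeg : n = Multiset.count L (normalizedFactors f) + i * ∑ P, a P := by
      rw [← hfd]
      conv_lhs => rw [hf]
      rw [(hLm.pow _).natDegree_mul (hmonic a), hLm.natDegree_pow, hLd, mul_one, hdegM]
    have hle : ∑ P, a P ≤ n / i := by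
      rw [Nat.le_div_iff_mul_le hi, mul_comm]
      omega
    refine ⟨⟨a, hle⟩, ?_⟩
    apply Subtype.ext
    show L ^ (n - i * ∑ P, a P) * (mOf 𝔉 a).prod = f
    have : n - i * ∑ P, a P = Multiset.count L (normalizedFactors f) := by omega
    rw [this, ← hf]

end factor

end Cfsg.Agent.Helper43.SS
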