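import Mathlib

set_option autoImplicit false

namespace Cfsg.Agent.Helper43

open Module

theorem natCard_subtype_ne {α : Type*} [Finite α] (a : α) :
    Nat.card {x : α // x ≠ a} = Nat.card α - 1 := by
  classical
  have := Fintype.ofFinite α
  rw [Nat.card_eq_fintype_card, Nat.card_eq_fintype_card,
    Fintype.card_subtype_compl (fun x => x = a), Fintype.card_subtype_eq]

section General

variable {F : Type*} [Field F] {V : Type*} [AddCommGroup V] [Module F V]

/-- Pairs `(v, φ)` of a nonzero vector and a nonzero functional vanishing on it. -/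
abbrev TPairs (F : Type*) [Field F] (V : Type*) [AddCommGroup V] [Module F V] : Type _ :=
  {p : V × Module.Dual F V // p.1 ≠ 0 ∧ p.2 ≠ 0 ∧ p.2 p.1 = 0}

/-- Rank-one square-zero endomorphisms. -/
abbrev TEnds (F : Type*) [Field F] (V : Type*) [AddCommGroup V] [Module F V] : Type _ :=
  {A : Module.End F V // finrank F (LinearMap.range A) = 1 ∧ A * A = 0}

theorem smulRight_mul_self {φ : Module.Dual F V} {v : V} (h : φ v = 0) :
    (φ.smulRight v : Module.End F V) * φ.smulRight v = 0 := by
  apply LinearMap.ext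
  intro x
  simp [Module.End.mul_apply, LinearMap.smulRight_apply, h]

theorem range_smulRight {φ : Module.Dual F V} {v : V} (hφ : φ ≠ 0) :
    LinearMap.range (φ.smulRight v : Module.End F V) = Submodule.span F {v} := by
  apply le_antisymm
  · rintro _ ⟨x, rfl⟩
    rw [LinearMap.smulRight_apply]
    exact Submodule.smul_mem _ _ (Submodule.mem_span_singleton_self v)
  · rw [Submodule.span_le, Set.singleton_subset_iff]
    obtain ⟨x, hx⟩ : ∃ x, φ x ≠ 0 := by
      by_contra hcon
      push Not at hcon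
      exact hφ (LinearMap.ext hcon)
    refine ⟨(φ x)⁻¹ • x, ?_⟩
    rw [LinearMap.smulRight_apply, map_smul, smul_eq_mul, inv_mul_cancel₀ hx, one_smul]

theorem finrank_range_smulRight {φ : Module.Dual F V} {v : V} (hφ : φ ≠ 0) (hv : v ≠ 0) :
    finrank F (LinearMap.range (φ.smulRight v : Module.End F V)) = 1 := by
  rw [range_smulRight hφ, finrank_span_singleton hv]

/-- The map from pairs to rank-one square-zero endomorphisms. -/
def toTEnds (p : TPairs F V) : TEnds F V :=
  ⟨p.1.2.smulRight p.1.1, finrank_range_smulRight p.2.2.1 p.2.1, smulRight_mul_self p.2.2.2⟩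

theorem toTEnds_surjective : Function.Surjective (toTEnds (F := F) (V := V)) := by
  rintro ⟨A, hr, hA⟩
  -- pick a nonzero vector in the range
  have hne : LinearMap.range A ≠ ⊥ := by
    intro h
    rw [h, finrank_bot] at hr
    omega
  obtain ⟨v, hvmem, hv0⟩ := (Submodule.ne_bot_iff _).mp hne
  obtain ⟨w, rfl⟩ := hvmem
  set v := A w with hv
  have hrange : ∀ z : V, A z ∈ Submodule.span F {v} := by
    intro z
    have h1 := (finrank_eq_one_iff_of_nonzero' (⟨v, ⟨w, rfl⟩⟩ : LinearMap.range A)
      (fun h => hv0 (congrArg Subtype.val h))).mp hr ⟨A z, ⟨z, rfl⟩⟩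
    obtain ⟨c, hc⟩ := h1
    rw [Submodule.mem_span_singleton]
    exact ⟨c, congrArg Subtype.val hc⟩
  let φ : Module.Dual F V :=
    ((LinearEquiv.toSpanNonzeroSingleton F V v hv0).symm : _ →ₗ[F] F) ∘ₗ
      (A.codRestrict (Submodule.span F {v}) hrange)
  have hφA : ∀ z, φ z • v = A z := by
    intro z
    have := LinearEquiv.toSpanNonzeroSingleton_symm_apply_smul F V v hv0
      (A.codRestrict (Submodule.span F {v}) hrange z)
    simpa [φ] using this
  have hAv : A v = 0 := by
    rw [hv, ← Module.End.mul_apply, hA]; rfl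
  have hφv : φ v = 0 := by
    have := hφA v
    rw [hAv] at this
    rcases smul_eq_zero.mp this with h | h
    · exact h
    · exact absurd h hv0
  have hφ0 : φ ≠ 0 := by
    intro h
    have := hφA w
    rw [h, LinearMap.zero_apply, zero_smul] at this
    exact hv0 this.symm
  refine ⟨⟨(v, φ), hv0, hφ0, hφv⟩, ?_⟩
  apply Subtype.ext
  apply LinearMap.ext
  intro z
  simp only [toTEnds, LinearMap.smulRight_apply]
  exact hφA z

theorem card_fiber_toTEnds [Finite F] (A : TEnds F V) :
    Nat.card {p : TPairs F V // toTEnds p = A} = Nat.card Fˣ := by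
  obtain ⟨⟨⟨v, φ⟩, hv0, hφ0, hφv⟩, rfl⟩ := toTEnds_surjective A
  symm
  apply Nat.card_congr
  simp only at hv0 hφ0 hφv
  refine Equiv.ofBijective (fun c : Fˣ => ⟨⟨((c : F) • v, ((c⁻¹ : Fˣ) : F) • φ), ?_, ?_, ?_⟩, ?_⟩)
    ⟨?_, ?_⟩
  · exact smul_ne_zero c.ne_zero hv0
  · exact smul_ne_zero (c⁻¹).ne_zero hφ0
  · simp [hφv]
  · apply Subtype.ext
    apply LinearMap.ext
    intro z
    simp only [toTEnds, LinearMap.smulRight_apply, LinearMap.smul_apply, smul_eq_mul]
    rw [smul_smul, mul_comm, ← mul_assoc, Units.mul_inv, one_mul]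
  · intro c c' h
    have h1 : (c : F) • v = (c' : F) • v := by
      have := congrArg (fun p : {p : TPairs F V // toTEnds p = _} => p.1.1.1) h
      exact this
    have h2 : ((c : F) - (c' : F)) • v = 0 := by rw [sub_smul, h1, sub_self]
    rcases smul_eq_zero.mp h2 with h3 | h3
    · exact Units.ext (sub_eq_zero.mp h3)
    · exact absurd h3 hv0
  · rintro ⟨⟨⟨v', φ'⟩, hv'0, hφ'0, hφ'v'⟩, hp⟩
    simp only at hv'0 hφ'0 hφ'v'
    have hall : ∀ x, φ' x • v' = φ x • v := by
      intro x
      have := congrArg (fun B : TEnds F V => (B : Module.End F V) x) hp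
      simpa [toTEnds, LinearMap.smulRight_apply] using this
    obtain ⟨x1, hx1⟩ : ∃ x, φ' x ≠ 0 := by
      by_contra hcon
      push Not at hcon
      exact hφ'0 (LinearMap.ext hcon)
    set c : F := (φ' x1)⁻¹ * φ x1 with hc
    have hv' : v' = c • v := by
      rw [hc, mul_smul, ← hall x1, smul_smul, inv_mul_cancel₀ hx1, one_smul]
    have hc0 : c ≠ 0 := by
      intro h
      rw [h, zero_smul] at hv'
      exact hv'0 hv'
    have hφ' : φ' = c⁻¹ • φ := by
      apply LinearMap.ext
      intro x
      have h1 := hall x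
      rw [hv', smul_smul] at h1
      have h2 : (φ' x * c - φ x) • v = 0 := by rw [sub_smul, h1, sub_self]
      rcases smul_eq_zero.mp h2 with h3 | h3
      · have h4 : φ x = φ' x * c := (sub_eq_zero.mp h3).symm
        rw [LinearMap.smul_apply, smul_eq_mul, h4]
        field_simp
      · exact absurd h3 hv0
    refine ⟨Units.mk0 c hc0, ?_⟩
    apply Subtype.ext
    apply Subtype.ext
    simp only [Units.val_mk0]
    rw [Prod.mk.injEq]
    refine ⟨hv'.symm, ?_⟩
    rw [hφ']
    simp

end General

section Finite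

variable {F : Type*} [Field F] [Finite F] {V : Type*} [AddCommGroup V] [Module F V]
  [FiniteDimensional F V]

theorem card_ker_dual_eval {v : V} (hv : v ≠ 0) :
    Nat.card {φ : Module.Dual F V // φ v = 0} = Nat.card F ^ (finrank F V - 1) := by
  let ev : Module.Dual F V →ₗ[F] F := Module.Dual.eval F V v
  have hev : ∀ φ, ev φ = φ v := fun φ => rfl
  have hsurj : LinearMap.range ev = ⊤ := by
    obtain ⟨φ, hφ⟩ : ∃ φ : Module.Dual F V, φ v ≠ 0 := by
      by_contra hcon
      push Not at hcon
      exact hv ((Module.forall_dual_apply_eq_zero_iff F v).mp hcon)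
    rw [LinearMap.range_eq_top]
    intro a
    refine ⟨(a * (φ v)⁻¹) • φ, ?_⟩
    rw [hev, LinearMap.smul_apply, smul_eq_mul, mul_assoc, inv_mul_cancel₀ hφ, mul_one]
  have h1 := LinearMap.finrank_range_add_finrank_ker ev
  rw [hsurj, finrank_top, Module.finrank_self, Subspace.dual_finrank_eq] at h1
  have h2 : finrank F (LinearMap.ker ev) = finrank F V - 1 := by omega
  have h3 : Nat.card (LinearMap.ker ev) = Nat.card F ^ (finrank F V - 1) := by
    rw [Module.natCard_eq_pow_finrank (K := F), h2]
  rw [← h3]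
  apply Nat.card_congr
  exact Equiv.subtypeEquivRight (fun φ => by rw [LinearMap.mem_ker, hev])

theorem card_TPairs :
    Nat.card (TPairs F V)
      = (Nat.card F ^ finrank F V - 1) * (Nat.card F ^ (finrank F V - 1) - 1) := by
  have hfinV : Finite V := Module.finite_of_finite F
  have hfinD : Finite (Module.Dual F V) := Module.finite_of_finite F
  let e : TPairs F V ≃ Σ v : {v : V // v ≠ 0}, {φ : Module.Dual F V // φ ≠ 0 ∧ φ v.1 = 0} :=
    { toFun := fun p => ⟨⟨p.1.1, p.2.1⟩, ⟨p.1.2, p.2.2.1, p.2.2.2⟩⟩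
      invFun := fun s => ⟨(s.1.1, s.2.1), s.1.2, s.2.2.1, s.2.2.2⟩
      left_inv := fun p => rfl
      right_inv := fun s => rfl }
  have := Fintype.ofFinite {v : V // v ≠ 0}
  rw [Nat.card_congr e, Nat.card_sigma]
  have : ∀ v : {v : V // v ≠ 0},
      Nat.card {φ : Module.Dual F V // φ ≠ 0 ∧ φ v.1 = 0}
        = Nat.card F ^ (finrank F V - 1) - 1 := by
    intro v
    let z : {φ : Module.Dual F V // φ v.1 = 0} := ⟨0, by simp⟩
    have e2 : {φ : Module.Dual F V // φ ≠ 0 ∧ φ v.1 = 0}
        ≃ {ψ : {φ : Module.Dual F V // φ v.1 = 0} // ψ ≠ z} :=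
      { toFun := fun φ => ⟨⟨φ.1, φ.2.2⟩, fun h => φ.2.1 (congrArg Subtype.val h)⟩
        invFun := fun ψ => ⟨ψ.1.1, fun h => ψ.2 (Subtype.ext h), ψ.1.2⟩
        left_inv := fun φ => rfl
        right_inv := fun ψ => rfl }
    rw [Nat.card_congr e2, natCard_subtype_ne, card_ker_dual_eval v.2]
  rw [Finset.sum_congr rfl (fun v _ => this v), Finset.sum_const, Finset.card_univ, smul_eq_mul,
    ← Nat.card_eq_fintype_card, natCard_subtype_ne, Module.natCard_eq_pow_finrank (K := F)]

theorem card_TEnds_mul :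
    Nat.card (TEnds F V) * (Nat.card F - 1)
      = (Nat.card F ^ finrank F V - 1) * (Nat.card F ^ (finrank F V - 1) - 1) := by
  have hfinV : Finite V := Module.finite_of_finite F
  have hfinD : Finite (Module.Dual F V) := Module.finite_of_finite F
  have hfinE : Finite (Module.End F V) := Module.finite_of_finite F
  have := Fintype.ofFinite (TEnds F V)
  rw [← card_TPairs, Nat.card_congr (Equiv.sigmaFiberEquiv (toTEnds (F := F) (V := V))).symm,
    Nat.card_sigma]
  rw [Finset.sum_congr rfl (fun A _ => card_fiber_toTEnds A), Finset.sum_const, Finset.card_univ,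
    smul_eq_mul, ← Nat.card_eq_fintype_card, Nat.card_units]

end Finite

end Cfsg.Agent.Helper43
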