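import Mathlib
import Cfsg.Agent.Helper43.SpPrimeB
import Cfsg.Agent.S2568

set_option autoImplicit false

namespace Cfsg.Agent.Helper43.SpPrime

open Polynomial Module Matrix
open Cfsg.Agent.Helper43.SpSS Cfsg.Agent.Helper43.SpCount Cfsg.Agent.Helper43.SS

universe u

variable {F : Type u} [Field F] [Fintype F]

/-- If the order of `q` modulo `r` is even, `q ^ (i / 2) ≡ -1 (mod r)`. -/
theorem dvd_pow_half_add_one {q r i : ℕ} (hr : r.Prime) (hi : i = orderOf (q : ZMod r))
    (hieven : Even i) (hipos : 0 < i) : r ∣ q ^ (i / 2) + 1 := by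
  haveI : Fact r.Prime := ⟨hr⟩
  obtain ⟨j, hj⟩ := hieven
  have hj0 : j ≠ 0 := by omega
  have hij : i / 2 = j := by omega
  set x : ZMod r := (q : ZMod r) ^ j with hx
  have hx2 : x * x = 1 := by
    rw [hx, ← pow_add, ← hj, hi]
    exact pow_orderOf_eq_one _
  have hx1 : x ≠ 1 := by
    rw [hx]
    apply pow_ne_one_of_lt_orderOf hj0
    rw [← hi]
    omega
  have h0 : (x - 1) * (x + 1) = 0 := by
    calc (x - 1) * (x + 1) = x * x - 1 := by ring
      _ = 0 := by rw [hx2, sub_self]
  have hx' : x + 1 = 0 := by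
    rcases mul_eq_zero.mp h0 with h | h
    · exact absurd (sub_eq_zero.mp h) hx1
    · exact h
  rw [← ZMod.natCast_eq_zero_iff, hij]
  push_cast
  exact hx'

/-- In the even case every polynomial of `GL`-type is self-reciprocal. -/
theorem reverse_eq_of_even (p : ℕ) [Fact p.Prime] [CharP F p] {q : ℕ} (hF : Fintype.card F = q)
    (m r i : ℕ) (hr : r.Prime) (hrp : r ≠ p) (hi : i = orderOf (q : ZMod r)) (hieven : Even i)
    (hipos : 0 < i) {f : F[X]} (hf : PrimePred (2 * m) r f) : f.reverse = f := by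
  have hp : p.Prime := Fact.out
  obtain ⟨hfm, hfd, hfac, -⟩ := hf
  have hrF : (r : F) ≠ 0 := by
    intro h0
    rw [CharP.cast_eq_zero_iff F p r] at h0
    exact hrp ((Nat.prime_dvd_prime_iff_eq hp hr).mp h0).symm
  have hsep : (X ^ r - 1 : F[X]).Separable := by
    have := Polynomial.separable_X_pow_sub_C (1 : F) hrF one_ne_zero
    simpa using this
  have hX0 : (X ^ r - 1 : F[X]) ≠ 0 := hsep.ne_zero
  have hf0 : f.coeff 0 ≠ 0 := by
    intro h0
    have hXf : (X : F[X]) ∣ f := Polynomial.X_dvd_iff.mpr h0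
    have hX := hfac X monic_X irreducible_X hXf
    have h2 := Polynomial.X_dvd_iff.mp hX
    rw [coeff_sub, coeff_X_pow, coeff_one_zero, if_neg hr.ne_zero.symm] at h2
    simp at h2
  obtain ⟨A, hA, k, hk0, hkp, hAk⟩ := exists_matrix_charpoly p (2 * m) f hfm hfd hf0
  have hkF : (k : F) ≠ 0 := natCast_ne_zero_of_coprime p hkp
  have hAr : A ^ r = 1 := by
    have := aeval_eq_zero_of_factors A k hkF hAk (X ^ r - 1 : F[X]) hX0 (by
      intro P hPm hPi hP
      rw [hA] at hP
      exact hfac P hPm hPi hP)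
    rw [map_sub, map_pow, aeval_X, map_one] at this
    exact sub_eq_zero.mp this
  -- the Frobenius power inverting `A`
  obtain ⟨c, hc⟩ := dvd_pow_half_add_one hr hi hieven hipos
  set N := q ^ (i / 2) with hN
  have hAN : A * A ^ N = 1 := by
    rw [← pow_succ', hc, pow_mul, hAr, one_pow]
  have hinv : A⁻¹ = A ^ N := Matrix.inv_eq_right_inv hAN
  have hunit : IsUnit A := (Matrix.isUnit_iff_isUnit_det A).mpr (Matrix.isUnit_det_of_right_inverse hAN)
  have hchN : (A ^ N).charpoly = f := by
    rw [hN, ← hF, charpoly_pow_card_pow', hA]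
  -- the determinant is one
  have hdet : A.det = 1 := by
    have hd0 : A.det ≠ 0 := (Matrix.isUnit_det_of_right_inverse hAN).ne_zero
    have h1 : A.det ^ r = 1 := by rw [← Matrix.det_pow, hAr, Matrix.det_one]
    have h2 : A.det ^ (q - 1) = 1 := by
      rw [← hF]
      exact FiniteField.pow_card_sub_one_eq_one _ hd0
    have hcop : Nat.Coprime r (q - 1) := by
      rw [Nat.Prime.coprime_iff_not_dvd hr]
      intro hdvd
      have hq1 : 1 ≤ q := by rw [← hF]; exact Fintype.card_pos
      have h3 : (q : ZMod r) = 1 := by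
        have : q = (q - 1) + 1 := by omega
        rw [this]
        push_cast
        rw [(ZMod.natCast_eq_zero_iff (q - 1) r).mpr hdvd, zero_add]
      rw [h3, orderOf_one] at hi
      rw [hi] at hieven
      exact absurd hieven (by decide)
    have h3 : A.det ^ Nat.gcd r (q - 1) = 1 := pow_gcd_eq_one.mpr ⟨h1, h2⟩
    rw [hcop, pow_one] at h3
    exact h3
  have h1 := Matrix.charpoly_inv A hunit
  rw [hinv, hchN, hdet, Ring.inverse_one, map_one, mul_one, Fintype.card_fin, pow_mul,
    neg_one_sq, one_pow, one_mul, ← Matrix.reverse_charpoly, hA] at h1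
  exact h1.symm

theorem card_spPrimePred_even (p : ℕ) [Fact p.Prime] [CharP F p] {q : ℕ}
    (hF : Fintype.card F = q) (m r i t : ℕ) (hr : r.Prime) (hrp : r ≠ p)
    (hi : i = orderOf (q : ZMod r)) (ht : t * i = r - 1) (hieven : Even i) :
    Nat.card {f : F[X] // SpPrimePred m r f} = Nat.choose (2 * m / i + t) t - 1 := by
  have hipos : 0 < i := by
    rcases Nat.eq_zero_or_pos i with h0 | h0
    · rw [h0, mul_zero] at ht
      have := hr.two_le
      omega
    · exact h0
  rw [← Cfsg.Agent.S2568.result (p := p) hF (2 * m) r i t hr hrp hi ht,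
    card_classes_prime_order p (2 * m) r hr hrp]
  apply Nat.card_congr
  apply Equiv.subtypeEquivRight
  intro f
  constructor
  · rintro ⟨h1, h2, -, h4, h5⟩
    exact ⟨h1, h2, h4, h5⟩
  · intro hf
    have hrev := reverse_eq_of_even p hF m r i hr hrp hi hieven hipos hf
    obtain ⟨h1, h2, h4, h5⟩ := hf
    exact ⟨h1, h2, hrev, h4, h5⟩

end Cfsg.Agent.Helper43.SpPrime
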