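import Mathlib
import Cfsg.Agent.Helper45.OrthInvol
import Cfsg.Agent.Helper45.OrthInSp
import Cfsg.Agent.Helper36.SympInv
import Cfsg.Agent.S2166

set_option autoImplicit false

/-!
# Involutions of orthogonal groups in characteristic two: conjugacy criterion
-/

namespace Cfsg.Agent.Helper43.OrthInv

open Matrix QuadraticMap Module Cfsg.Agent.Helper45.WittQuad

variable {ι : Type} [Fintype ι] [DecidableEq ι] {F : Type*} [Field F]

/-- The type invariant of an orthogonal involution. -/
def tauQ (Q : (ι → F) → F) (A : Matrix ι ι F) : Prop := ∀ v, Q (v + A *ᵥ v) = 0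

theorem tauQ_of_conj {Q : (ι → F) → F} {A B C : Matrix ι ι F}
    (hC : ∀ x, Q (C *ᵥ x) = Q x) (h : C * A = B * C) (hB : tauQ Q B) : tauQ Q A := by
  intro v
  have := hB (C *ᵥ v)
  rwa [Matrix.mulVec_mulVec, ← h, ← Matrix.mulVec_mulVec, ← Matrix.mulVec_add, hC] at this

theorem rank_eq_of_conj' {A B C : Matrix ι ι F} (hdet : IsUnit C.det) (h : C * A = B * C) :
    (A - 1).rank = (B - 1).rank := by
  have hm2 : C * (A - 1) = (B - 1) * C := by
    rw [mul_sub, sub_mul, h, Matrix.mul_one, Matrix.one_mul]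
  rw [← Matrix.rank_mul_eq_right_of_isUnit_det C _ hdet, hm2,
    Matrix.rank_mul_eq_left_of_isUnit_det C _ hdet]

theorem isUnit_det_GL (g : GL ι F) : IsUnit (g : Matrix ι ι F).det :=
  (Matrix.isUnit_iff_isUnit_det _).mp g.isUnit

theorem coe_mul_self {Q : (ι → F) → F} (t : Cfsg.isometryGroup F Q) (ht2 : t * t = 1) :
    ((t : GL ι F) : Matrix ι ι F) * ((t : GL ι F) : Matrix ι ι F) = 1 := by
  have h1 : (t : GL ι F) * (t : GL ι F) = 1 := by
    have := congrArg (fun z : Cfsg.isometryGroup F Q => (z : GL ι F)) ht2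
    exact this
  have h2 := congrArg (fun z : GL ι F => (z : Matrix ι ι F)) h1
  exact h2

/-- In characteristic two, `B(v, (t - 1) v) = Q(v + t v)` for an isometry `t`. -/
theorem polar_sub_one [CharP F 2] (Q : QuadraticForm F (ι → F)) (T : Matrix ι ι F)
    (hT : ∀ x, Q (T *ᵥ x) = Q x) (v : ι → F) :
    polarBilin Q v ((T - 1).mulVecLin v) = Q (v + T *ᵥ v) := by
  rw [polarBilin_apply_apply, Matrix.mulVecLin_apply, Matrix.sub_mulVec, Matrix.one_mulVec,
    polar_sub_right, polar_self]
  unfold polar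
  rw [hT]
  have h3 : Q v + Q v = 0 := CharTwo.add_self_eq_zero _
  rw [two_smul, h3, sub_zero, sub_sub, h3, sub_zero]

/-- The conjugacy criterion for involutions of `O(Q)`, `Q` a quadratic form with nondegenerate
polar form over a finite field of characteristic two. -/
theorem isConj_iff_invariants [Fintype F] [CharP F 2] (Q : QuadraticForm F (ι → F))
    (hQ : (polarBilin Q).Nondegenerate) (t s : Cfsg.isometryGroup F ⇑Q) (ht2 : t * t = 1)
    (hs2 : s * s = 1) :
    IsConj t s ↔
      (((t : GL ι F) : Matrix ι ι F) - 1).rank = (((s : GL ι F) : Matrix ι ι F) - 1).rank ∧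
      (tauQ ⇑Q ((t : GL ι F) : Matrix ι ι F) ↔ tauQ ⇑Q ((s : GL ι F) : Matrix ι ι F)) := by
  have htQ := (mem_isometryGroup_iff (⇑Q) (t : GL ι F)).1 t.2
  have hsQ := (mem_isometryGroup_iff (⇑Q) (s : GL ι F)).1 s.2
  constructor
  · intro h
    obtain ⟨c, hc⟩ := isConj_iff.mp h
    have hc' : c * t = s * c := by rw [← hc]; group
    have hm' : ((c : GL ι F) : Matrix ι ι F) * ((t : GL ι F) : Matrix ι ι F)
        = ((s : GL ι F) : Matrix ι ι F) * ((c : GL ι F) : Matrix ι ι F) := by
      have h1 := congrArg (fun z : Cfsg.isometryGroup F ⇑Q => ((z : GL ι F) : Matrix ι ι F)) hc'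
      exact h1
    obtain ⟨d, hd⟩ := isConj_iff.mp h.symm
    have hd' : d * s = t * d := by rw [← hd]; group
    have hm'' : ((d : GL ι F) : Matrix ι ι F) * ((s : GL ι F) : Matrix ι ι F)
        = ((t : GL ι F) : Matrix ι ι F) * ((d : GL ι F) : Matrix ι ι F) := by
      have h1 := congrArg (fun z : Cfsg.isometryGroup F ⇑Q => ((z : GL ι F) : Matrix ι ι F)) hd'
      exact h1
    have hcQ := (mem_isometryGroup_iff (⇑Q) (c : GL ι F)).1 c.2
    have hdQ := (mem_isometryGroup_iff (⇑Q) (d : GL ι F)).1 d.2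
    exact ⟨rank_eq_of_conj' (isUnit_det_GL _) hm', tauQ_of_conj hdQ hm'', tauQ_of_conj hcQ hm'⟩
  · rintro ⟨hrank, htau⟩
    set T : Matrix ι ι F := ((t : GL ι F) : Matrix ι ι F) with hT
    set S : Matrix ι ι F := ((s : GL ι F) : Matrix ι ι F) with hS
    have hT2 : T * T = 1 := coe_mul_self t ht2
    have hS2 : S * S = 1 := coe_mul_self s hs2
    have hsq : ∀ d : F, ∃ μ : F, μ * μ = d := by
      intro d
      obtain ⟨r, hr⟩ := FiniteField.isSquare_of_char_two (ringChar.eq F 2) d
      exact ⟨r, hr.symm⟩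
    have halt : (polarBilin Q).IsAlt := by
      intro x
      rw [polarBilin_apply_apply, polar_self, two_smul]
      exact CharTwo.add_self_eq_zero _
    have hsqz : ∀ (A : Matrix ι ι F), A * A = 1 → ∀ x, (A - 1).mulVecLin ((A - 1).mulVecLin x) = 0 := by
      intro A hA x
      rw [Matrix.mulVecLin_apply, Matrix.mulVecLin_apply, Matrix.mulVec_mulVec,
        Cfsg.Agent.S2166.sub_one_sq A hA, Matrix.zero_mulVec]
    have hadj : ∀ (A : Matrix ι ι F), A * A = 1 → (∀ x, Q (A *ᵥ x) = Q x) → ∀ x y,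
        polarBilin Q ((A - 1).mulVecLin x) y = polarBilin Q x ((A - 1).mulVecLin y) := by
      intro A hA hAQ x y
      have hpres : ∀ u v, polar ⇑Q (A *ᵥ u) (A *ᵥ v) = polar ⇑Q u v := by
        intro u v
        unfold polar
        rw [← Matrix.mulVec_add, hAQ, hAQ, hAQ]
      rw [polarBilin_apply_apply, polarBilin_apply_apply, Matrix.mulVecLin_apply,
        Matrix.mulVecLin_apply, Matrix.sub_mulVec, Matrix.sub_mulVec, Matrix.one_mulVec,
        Matrix.one_mulVec, polar_sub_left, polar_sub_right]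
      congr 1
      have := hpres (A *ᵥ x) y
      rw [Matrix.mulVec_mulVec, hA, Matrix.one_mulVec] at this
      exact this.symm
    have htype : (∀ v, polarBilin Q v ((T - 1).mulVecLin v) = 0) ↔
        (∀ v, polarBilin Q v ((S - 1).mulVecLin v) = 0) := by
      simp only [polar_sub_one Q T htQ, polar_sub_one Q S hsQ]
      exact htau
    obtain ⟨g, hgiso, hgconj⟩ := Cfsg.Agent.Helper36.exists_isometry_conj_of_invariants hsq
      (polarBilin Q) halt hQ (T - 1).mulVecLin (S - 1).mulVecLin (hsqz T hT2) (hadj T hT2 htQ)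
      (hsqz S hS2) (hadj S hS2 hsQ) hrank htype
    have hgT : ∀ x, g (T *ᵥ x) = S *ᵥ (g x) := by
      intro x
      have h1 := hgconj x
      rw [Matrix.mulVecLin_apply, Matrix.mulVecLin_apply, Matrix.sub_mulVec, Matrix.sub_mulVec,
        Matrix.one_mulVec, Matrix.one_mulVec, map_sub] at h1
      exact sub_left_injective h1
    refine isConj_of_polar_conj Q hQ t s ht2 (glOfLin g) ?_ ?_
    · intro u v
      show Q ((glOfLin g : GL ι F) *ᵥ u + ((glOfLin g : GL ι F) : Matrix ι ι F) *ᵥ v)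
        - Q (((glOfLin g : GL ι F) : Matrix ι ι F) *ᵥ u)
        - Q (((glOfLin g : GL ι F) : Matrix ι ι F) *ᵥ v) = Q (u + v) - Q u - Q v
      rw [glOfLin_mulVec, glOfLin_mulVec]
      have := hgiso u v
      rw [polarBilin_apply_apply, polarBilin_apply_apply] at this
      exact this
    · rw [mul_inv_eq_iff_eq_mul]
      apply Units.ext
      show ((glOfLin g : GL ι F) : Matrix ι ι F) * T = S * ((glOfLin g : GL ι F) : Matrix ι ι F)
      rw [Matrix.ext_iff_mulVec]
      intro x
      rw [← Matrix.mulVec_mulVec, ← Matrix.mulVec_mulVec, glOfLin_mulVec, glOfLin_mulVec]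
      exact hgT x

end Cfsg.Agent.Helper43.OrthInv
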