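import Mathlib
import Cfsg.Agent.Helper43.OrthInvA
import Cfsg.Agent.Helper36.AltForm

set_option autoImplicit false

/-!
# Involutions of orthogonal groups in characteristic two: bounds and class counting
-/

namespace Cfsg.Agent.Helper43.OrthInv

open Matrix QuadraticMap Module Cfsg.Agent.Helper45.WittQuad

/-- Counting classes by a complete invariant and a family of representatives. -/
theorem card_classes_of_reps {G : Type*} [Group G] {I J : Type*} (P : G → Prop) (inv : G → J)
    (T : I → G) (hP : ∀ i, P (T i))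
    (hconj : ∀ g h, P g → P h → (IsConj g h ↔ inv g = inv h))
    (hinj : ∀ i i', inv (T i) = inv (T i') → i = i')
    (hsurj : ∀ g, P g → ∃ i, inv (T i) = inv g) :
    Nat.card {C : ConjClasses G // ∃ g : G, ConjClasses.mk g = C ∧ P g} = Nat.card I := by
  symm
  apply Nat.card_congr
  refine Equiv.ofBijective (fun i => ⟨ConjClasses.mk (T i), T i, rfl, hP i⟩) ⟨?_, ?_⟩
  · intro i i' hii
    have h1 : ConjClasses.mk (T i) = ConjClasses.mk (T i') := congrArg Subtype.val hii
    rw [ConjClasses.mk_eq_mk_iff_isConj, hconj _ _ (hP i) (hP i')] at h1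
    exact hinj i i' h1
  · rintro ⟨C, g, rfl, hg⟩
    obtain ⟨i, hi⟩ := hsurj g hg
    refine ⟨i, ?_⟩
    apply Subtype.ext
    show ConjClasses.mk (T i) = ConjClasses.mk g
    rw [ConjClasses.mk_eq_mk_iff_isConj, hconj _ _ (hP i) hg]
    exact hi

variable {ι : Type} [Fintype ι] [DecidableEq ι] {F : Type*} [Field F]

theorem mul_self_of_orderOf {G : Type*} [Group G] (t : G) (ht : orderOf t = 2) : t * t = 1 := by
  have h1 := pow_orderOf_eq_one t
  rw [ht, _root_.sq] at h1
  exact h1

theorem orderOf_eq_two_of {G : Type*} [Group G] (t : G) (h2 : t * t = 1) (h1 : t ≠ 1) :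
    orderOf t = 2 := by
  have : Fact (Nat.Prime 2) := ⟨Nat.prime_two⟩
  apply orderOf_eq_prime
  · rw [pow_two]; exact h2
  · exact h1

/-- The rank of `t - 1` for an involution `t` is at least one and at most half the dimension. -/
theorem rank_bounds [CharP F 2] {Q : (ι → F) → F} (t : Cfsg.isometryGroup F Q)
    (ht : orderOf t = 2) :
    1 ≤ (((t : GL ι F) : Matrix ι ι F) - 1).rank ∧
      2 * (((t : GL ι F) : Matrix ι ι F) - 1).rank ≤ Fintype.card ι := by
  have hT2 := coe_mul_self t (mul_self_of_orderOf t ht)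
  constructor
  · rw [Nat.one_le_iff_ne_zero]
    intro h0
    unfold Matrix.rank at h0
    rw [Submodule.finrank_eq_zero, LinearMap.range_eq_bot] at h0
    have h2 : ((t : GL ι F) : Matrix ι ι F) - 1 = 0 := by
      rw [Matrix.ext_iff_mulVec]
      intro v
      have := congrArg (fun f : (ι → F) →ₗ[F] (ι → F) => f v) h0
      simp only [Matrix.mulVecLin_apply, LinearMap.zero_apply] at this
      rw [this, Matrix.zero_mulVec]
    have h3 : t = 1 := by
      apply Subtype.ext
      apply Units.ext
      exact sub_eq_zero.mp h2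
    rw [h3, orderOf_one] at ht
    omega
  · have h0 := Cfsg.Agent.S2166.sub_one_sq ((t : GL ι F) : Matrix ι ι F) hT2
    have := Matrix.rank_add_rank_le_card_of_mul_eq_zero h0
    omega

/-- An involution of type `tauQ` has `t - 1` of even rank. -/
theorem even_rank_of_tauQ [CharP F 2] (Q : QuadraticForm F (ι → F)) (G : Matrix ι ι F)
    (hG : polarBilin Q = Matrix.toBilin' G) (hGdet : IsUnit G.det) (T : Matrix ι ι F)
    (hT : ∀ x, Q (T *ᵥ x) = Q x) (htau : tauQ ⇑Q T) : Even (T - 1).rank := by
  have halt : ∀ v : ι → F, v ⬝ᵥ ((G * (T - 1)) *ᵥ v) = 0 := by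
    intro v
    have h1 := polar_sub_one Q T hT v
    rw [hG, Matrix.toBilin'_apply', Matrix.mulVecLin_apply, Matrix.mulVec_mulVec] at h1
    rw [h1]
    exact htau v
  have hev := Cfsg.Agent.Helper36.even_rank_of_alternating _ halt
  rw [Matrix.rank_mul_eq_right_of_isUnit_det _ _ hGdet] at hev
  exact hev

/-- An involution matrix as an element of `GL`. -/
def glOfInv (A : Matrix ι ι F) (hA : A * A = 1) : GL ι F := ⟨A, A, hA, hA⟩

theorem glOfInv_coe (A : Matrix ι ι F) (hA : A * A = 1) :
    ((glOfInv A hA : GL ι F) : Matrix ι ι F) = A := rfl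

theorem glOfInv_mul_self (A : Matrix ι ι F) (hA : A * A = 1) :
    glOfInv A hA * glOfInv A hA = 1 := by
  apply Units.ext
  exact hA

end Cfsg.Agent.Helper43.OrthInv
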