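import Mathlib
import Cfsg.Agent.S2166
import Cfsg.Agent.Helper36.AltForm

set_option autoImplicit false

namespace Cfsg.Agent.Helper43.SpInv

open Matrix Module Cfsg.Agent.S2166

variable {F : Type*} [Field F] {m : ℕ}

/-- The type invariant of a symplectic involution. -/
def tau (A : Matrix (Fin m ⊕ Fin m) (Fin m ⊕ Fin m) F) : Prop :=
  ∀ v, Cfsg.sympForm m F v (A *ᵥ v) = 0

theorem even_rank_of_tau {A : Matrix (Fin m ⊕ Fin m) (Fin m ⊕ Fin m) F} (hall : tau A) :
    Even (A - 1).rank := by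
  have halt : ∀ v : Fin m ⊕ Fin m → F, v ⬝ᵥ ((Matrix.J (Fin m) F * (A - 1)) *ᵥ v) = 0 := by
    intro v
    rw [← Matrix.mulVec_mulVec, Matrix.sub_mulVec, Matrix.one_mulVec, Matrix.mulVec_sub, dotProduct_sub]
    have h1 : v ⬝ᵥ (Matrix.J (Fin m) F *ᵥ (A *ᵥ v)) = 0 := hall v
    have h2 : v ⬝ᵥ (Matrix.J (Fin m) F *ᵥ v) = 0 := Cfsg.Agent.S2167.symp_self v
    rw [h1, h2, sub_zero]
  have hev := Cfsg.Agent.Helper36.even_rank_of_alternating _ halt
  rw [Matrix.rank_mul_eq_right_of_isUnit_det _ _ (Matrix.isUnit_det_J (Fin m) F)] at hev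
  exact hev

theorem tau_of_conj {A B C : Matrix (Fin m ⊕ Fin m) (Fin m ⊕ Fin m) F}
    (hC : C ∈ Matrix.symplecticGroup (Fin m) F) (h : C * A = B * C) (hB : tau B) : tau A := by
  intro v
  have := hB (C *ᵥ v)
  rwa [Matrix.mulVec_mulVec, ← h, ← Matrix.mulVec_mulVec, Cfsg.Agent.S2167.symp_pres hC] at this

theorem rank_eq_of_conj {A B C : Matrix (Fin m ⊕ Fin m) (Fin m ⊕ Fin m) F}
    (hC : C ∈ Matrix.symplecticGroup (Fin m) F) (h : C * A = B * C) :
    (A - 1).rank = (B - 1).rank := by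
  have hdet : IsUnit C.det := SymplecticGroup.symplectic_det hC
  have hm2 : C * (A - 1) = (B - 1) * C := by
    rw [mul_sub, sub_mul, h, Matrix.mul_one, Matrix.one_mul]
  rw [← Matrix.rank_mul_eq_right_of_isUnit_det C _ hdet, hm2,
    Matrix.rank_mul_eq_left_of_isUnit_det C _ hdet]

/-- The conjugacy criterion for involutions of `Sp_2m(F)`, `F` finite of characteristic two. -/
theorem isConj_iff_invariants [Fintype F] [CharP F 2]
    (a b : ↥(Matrix.symplecticGroup (Fin m) F)) (ha : orderOf a = 2) (hb : orderOf b = 2) :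
    IsConj a b ↔
      ((a : Matrix (Fin m ⊕ Fin m) (Fin m ⊕ Fin m) F) - 1).rank
        = ((b : Matrix (Fin m ⊕ Fin m) (Fin m ⊕ Fin m) F) - 1).rank ∧
      (tau (a : Matrix (Fin m ⊕ Fin m) (Fin m ⊕ Fin m) F) ↔
        tau (b : Matrix (Fin m ⊕ Fin m) (Fin m ⊕ Fin m) F)) := by
  have hA2 := coe_sq_of_orderOf a ha
  have hB2 := coe_sq_of_orderOf b hb
  constructor
  · intro h
    obtain ⟨c, hc⟩ := isConj_iff.mp h
    have hc' : c * a = b * c := by rw [← hc]; group
    have hm' : (c : Matrix (Fin m ⊕ Fin m) (Fin m ⊕ Fin m) F) * a = b * c := congrArg Subtype.val hc'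
    obtain ⟨d, hd⟩ := isConj_iff.mp h.symm
    have hd' : d * b = a * d := by rw [← hd]; group
    have hm'' : (d : Matrix (Fin m ⊕ Fin m) (Fin m ⊕ Fin m) F) * b = a * d := congrArg Subtype.val hd'
    exact ⟨rank_eq_of_conj c.2 hm', tau_of_conj d.2 hm'', tau_of_conj c.2 hm'⟩
  · rintro ⟨hrank, htau⟩
    obtain ⟨A, hA⟩ := a
    obtain ⟨B, hB⟩ := b
    simp only at hA2 hB2 hrank htau ⊢
    obtain ⟨hA_sq, hA_adj, hA_type⟩ := data_of_involution A hA hA2
    obtain ⟨hB_sq, hB_adj, hB_type⟩ := data_of_involution B hB hB2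
    have hsq : ∀ d : F, ∃ μ : F, μ * μ = d := by
      intro d
      obtain ⟨r, hr⟩ := FiniteField.isSquare_of_char_two (ringChar.eq F 2) d
      exact ⟨r, hr.symm⟩
    have htype : (∀ v, Bf m F v ((A - 1).mulVecLin v) = 0) ↔
        (∀ v, Bf m F v ((B - 1).mulVecLin v) = 0) := by
      simp only [hA_type, hB_type]
      exact htau
    obtain ⟨g, hgiso, hgconj⟩ := Cfsg.Agent.Helper36.exists_isometry_conj_of_invariants hsq (Bf m F)
      Bf_alt Bf_nondeg (A - 1).mulVecLin (B - 1).mulVecLin hA_sq hA_adj hB_sq hB_adj hrank htype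
    let G : Matrix (Fin m ⊕ Fin m) (Fin m ⊕ Fin m) F :=
      LinearMap.toMatrix' (g : (Fin m ⊕ Fin m → F) →ₗ[F] (Fin m ⊕ Fin m → F))
    have hGv : ∀ v, G *ᵥ v = g v := by
      intro v
      show (LinearMap.toMatrix' (g : (Fin m ⊕ Fin m → F) →ₗ[F] (Fin m ⊕ Fin m → F))) *ᵥ v = g v
      rw [← Matrix.toLin'_apply, Matrix.toLin'_toMatrix']
      rfl
    have hGmem : G ∈ Matrix.symplecticGroup (Fin m) F := by
      rw [SymplecticGroup.mem_iff']
      apply Matrix.toBilin'.injective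
      apply LinearMap.ext
      intro x
      apply LinearMap.ext
      intro y
      rw [Matrix.toBilin'_apply', Matrix.toBilin'_apply']
      have := hgiso x y
      rw [Bf_apply, Bf_apply, ← hGv, ← hGv] at this
      unfold Cfsg.sympForm at this
      rw [← this, Matrix.mulVec_mulVec, Matrix.dotProduct_mulVec, Matrix.dotProduct_mulVec,
        Matrix.vecMul_mulVec, ← Matrix.mul_assoc]
    have hlin : (g : (Fin m ⊕ Fin m → F) →ₗ[F] (Fin m ⊕ Fin m → F)) ∘ₗ (A - 1).mulVecLin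
        = (B - 1).mulVecLin ∘ₗ (g : (Fin m ⊕ Fin m → F) →ₗ[F] (Fin m ⊕ Fin m → F)) := by
      refine LinearMap.ext fun x => ?_
      exact hgconj x
    have hGN : G * (A - 1) = (B - 1) * G := by
      have := congrArg LinearMap.toMatrix' hlin
      rw [LinearMap.toMatrix'_comp, LinearMap.toMatrix'_comp, ← Matrix.toLin'_apply',
        ← Matrix.toLin'_apply', LinearMap.toMatrix'_toLin', LinearMap.toMatrix'_toLin'] at this
      exact this
    have hGA : G * A = B * G := by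
      rw [mul_sub, sub_mul, Matrix.mul_one, Matrix.one_mul] at hGN
      exact sub_left_injective hGN
    rw [isConj_iff]
    let c : ↥(Matrix.symplecticGroup (Fin m) F) := ⟨G, hGmem⟩
    refine ⟨c, ?_⟩
    rw [mul_inv_eq_iff_eq_mul]
    apply Subtype.ext
    show G * A = B * G
    exact hGA

/-- The rank of `t - 1` for an involution `t` lies between `1` and `m`. -/
theorem rank_bounds [CharP F 2] (a : ↥(Matrix.symplecticGroup (Fin m) F)) (ha : orderOf a = 2) :
    1 ≤ ((a : Matrix (Fin m ⊕ Fin m) (Fin m ⊕ Fin m) F) - 1).rank ∧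
      ((a : Matrix (Fin m ⊕ Fin m) (Fin m ⊕ Fin m) F) - 1).rank ≤ m := by
  have hA2 := coe_sq_of_orderOf a ha
  constructor
  · rw [Nat.one_le_iff_ne_zero]
    intro h0
    unfold Matrix.rank at h0
    rw [Submodule.finrank_eq_zero, LinearMap.range_eq_bot] at h0
    have h1 : Matrix.toLin' ((a : Matrix (Fin m ⊕ Fin m) (Fin m ⊕ Fin m) F) - 1) = 0 := h0
    have h2 : (a : Matrix (Fin m ⊕ Fin m) (Fin m ⊕ Fin m) F) - 1 = 0 :=
      (Matrix.toLin' (R := F)).injective (h1.trans (map_zero _).symm)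
    have h3 : a = 1 := Subtype.ext (sub_eq_zero.mp h2)
    rw [h3, orderOf_one] at ha
    omega
  · have h0 := sub_one_sq (a : Matrix (Fin m ⊕ Fin m) (Fin m ⊕ Fin m) F) hA2
    have := Matrix.rank_add_rank_le_card_of_mul_eq_zero h0
    rw [Fintype.card_sum, Fintype.card_fin] at this
    omega

end Cfsg.Agent.Helper43.SpInv
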