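import Mathlib
import Cfsg.Agent.Helper43.SpInvA

set_option autoImplicit false

namespace Cfsg.Agent.Helper43.SpInv

open Matrix Module

variable {F : Type*} [Field F] {m : ℕ}

section rk

variable {l : Type*} [Fintype l] [DecidableEq l]

/-- The rank of a block matrix with only the upper right block nonzero. -/
theorem rank_fromBlocks_upper (S : Matrix l l F) :
    (fromBlocks (0 : Matrix l l F) S (0 : Matrix l l F) (0 : Matrix l l F)).rank = S.rank := by
  let ι : (l → F) →ₗ[F] (l ⊕ l → F) :=
    { toFun := fun w => Sum.elim w 0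
      map_add' := by
        intro x y
        funext i
        cases i <;> simp
      map_smul' := by
        intro c x
        funext i
        cases i <;> simp }
  have hι : Function.Injective ι := by
    intro x y hxy
    funext i
    exact congrFun hxy (Sum.inl i)
  have hrange : LinearMap.range
      (fromBlocks (0 : Matrix l l F) S (0 : Matrix l l F) (0 : Matrix l l F)).mulVecLin
      = Submodule.map ι (LinearMap.range S.mulVecLin) := by
    ext v
    constructor
    · rintro ⟨x, rfl⟩
      refine ⟨S *ᵥ (x ∘ Sum.inr), ⟨x ∘ Sum.inr, rfl⟩, ?_⟩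
      rw [Matrix.mulVecLin_apply, fromBlocks_mulVec]
      funext i
      cases i <;> simp [ι]
    · rintro ⟨w, ⟨y, rfl⟩, rfl⟩
      refine ⟨Sum.elim 0 y, ?_⟩
      rw [Matrix.mulVecLin_apply, fromBlocks_mulVec, Matrix.mulVecLin_apply]
      funext i
      cases i <;> simp [ι]
  unfold Matrix.rank
  rw [hrange]
  exact (Submodule.equivMapOfInjective ι hι _).finrank_eq.symm

theorem mat_add_self [CharP F 2] (A : Matrix l l F) : A + A = 0 := by
  ext i j
  simp only [Matrix.add_apply, Matrix.zero_apply]
  exact CharTwo.add_self_eq_zero _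

end rk

section ex

/-- Indicator vector of the first `s` coordinates. -/
def wv (F : Type*) [Field F] (m s : ℕ) : Fin m → F := fun i => if i.val < s then 1 else 0

theorem wv_mul_self (s : ℕ) (i : Fin m) : wv F m s i * wv F m s i = wv F m s i := by
  unfold wv
  split_ifs <;> simp

/-- The symmetric matrices giving the two kinds of involutions. -/
def Sm (F : Type*) [Field F] (m s : ℕ) (b : Bool) : Matrix (Fin m) (Fin m) F :=
  Matrix.diagonal (wv F m s) + (if b then vecMulVec (wv F m s) (wv F m s) else 0)

theorem Sm_transpose (s : ℕ) (b : Bool) : (Sm F m s b)ᵀ = Sm F m s b := by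
  unfold Sm
  rw [transpose_add, diagonal_transpose]
  cases b
  · simp
  · simp [transpose_vecMulVec]

open scoped Classical in
theorem rank_diagonal_wv {s : ℕ} (hs : s ≤ m) : (Matrix.diagonal (wv F m s)).rank = s := by
  rw [Matrix.rank_diagonal]
  have : ∀ i : Fin m, wv F m s i ≠ 0 ↔ i.val < s := by
    intro i
    unfold wv
    split_ifs with h
    · simp [h]
    · simp [h]
  rw [Fintype.card_subtype]
  simp only [this]
  rw [Fin.card_filter_val_lt]
  exact min_eq_right hs

theorem dot_wv_self [CharP F 2] {s : ℕ} (hs : s ≤ m) (hev : Even s) :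
    wv F m s ⬝ᵥ wv F m s = 0 := by
  classical
  unfold dotProduct
  simp only [wv_mul_self]
  unfold wv
  rw [Finset.sum_ite, Finset.sum_const_zero, add_zero, Finset.sum_const, nsmul_eq_mul, mul_one,
    Fin.card_filter_val_lt, min_eq_right hs]
  obtain ⟨r, rfl⟩ := hev
  rw [Nat.cast_add, CharTwo.add_self_eq_zero]

theorem rank_Sm [CharP F 2] {s : ℕ} (hs : s ≤ m) (b : Bool) (hb : b = true → Even s) :
    (Sm F m s b).rank = s := by
  cases b
  · unfold Sm
    simp only [Bool.false_eq_true, if_false, add_zero]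
    exact rank_diagonal_wv hs
  · have hev := hb rfl
    set w := wv F m s with hw
    set K : Matrix (Fin m) (Fin m) F := 1 + vecMulVec w w with hK
    have hKK : K * K = 1 := by
      rw [hK, mul_add, add_mul, add_mul, one_mul, mul_one, one_mul, vecMulVec_mul_vecMulVec,
        dot_wv_self hs hev, zero_smul]
      have h0 : vecMulVec w (0 : Fin m → F) = 0 := by
        ext i j
        simp [vecMulVec_apply]
      rw [h0, add_zero, add_assoc, mat_add_self, add_zero]
    have hdet : IsUnit K.det := by
      have := congrArg Matrix.det hKK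
      rw [Matrix.det_mul, Matrix.det_one] at this
      exact IsUnit.of_mul_eq_one _ this
    have hDw : Matrix.diagonal w *ᵥ w = w := by
      funext i
      rw [mulVec_diagonal, hw, wv_mul_self]
    have hS : Sm F m s true = Matrix.diagonal w * K := by
      unfold Sm
      simp only [if_true]
      rw [hK, mul_add, mul_one, mul_vecMulVec, hDw]
    rw [hS, Matrix.rank_mul_eq_left_of_isUnit_det _ _ hdet]
    exact rank_diagonal_wv hs

/-- The involution attached to a symmetric matrix. -/
def tS (S : Matrix (Fin m) (Fin m) F) : Matrix (Fin m ⊕ Fin m) (Fin m ⊕ Fin m) F :=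
  fromBlocks 1 S 0 1

theorem tS_mem {S : Matrix (Fin m) (Fin m) F} (hS : Sᵀ = S) :
    tS S ∈ Matrix.symplecticGroup (Fin m) F := by
  unfold tS
  rw [SymplecticGroup.fromBlocks_mem_iff]
  refine ⟨by simp, by simp [hS], by simp⟩

theorem tS_mul_self [CharP F 2] (S : Matrix (Fin m) (Fin m) F) : tS S * tS S = 1 := by
  unfold tS
  rw [fromBlocks_multiply]
  simp only [mul_one, mul_zero, add_zero, one_mul, zero_add, zero_mul]
  rw [mat_add_self, fromBlocks_one]

theorem tS_sub_one (S : Matrix (Fin m) (Fin m) F) :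
    tS S - 1 = fromBlocks (0 : Matrix (Fin m) (Fin m) F) S (0 : Matrix (Fin m) (Fin m) F)
      (0 : Matrix (Fin m) (Fin m) F) := by
  unfold tS
  rw [← fromBlocks_one, sub_eq_add_neg, fromBlocks_neg, fromBlocks_add]
  simp

theorem rank_tS_sub_one (S : Matrix (Fin m) (Fin m) F) : (tS S - 1).rank = S.rank := by
  rw [tS_sub_one, rank_fromBlocks_upper]

theorem sympForm_tS (S : Matrix (Fin m) (Fin m) F) (v : Fin m ⊕ Fin m → F) :
    Cfsg.sympForm m F v (tS S *ᵥ v) = (v ∘ Sum.inr) ⬝ᵥ (S *ᵥ (v ∘ Sum.inr)) := by
  have h1 : tS S *ᵥ v = v + (tS S - 1) *ᵥ v := by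
    rw [Matrix.sub_mulVec, Matrix.one_mulVec]; abel
  have h2 : Cfsg.sympForm m F v (v + (tS S - 1) *ᵥ v)
      = Cfsg.sympForm m F v v + Cfsg.sympForm m F v ((tS S - 1) *ᵥ v) := by
    unfold Cfsg.sympForm
    rw [Matrix.mulVec_add, dotProduct_add]
  rw [h1, h2, Cfsg.Agent.S2167.symp_self, zero_add, tS_sub_one]
  unfold Cfsg.sympForm
  rw [fromBlocks_mulVec, Matrix.J, fromBlocks_mulVec]
  simp [dotProduct, Fintype.sum_sum_type]

theorem tau_tS_iff (S : Matrix (Fin m) (Fin m) F) :
    tau (tS S) ↔ ∀ y : Fin m → F, y ⬝ᵥ (S *ᵥ y) = 0 := by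
  constructor
  · intro h y
    have := h (Sum.elim 0 y)
    rw [sympForm_tS] at this
    exact this
  · intro h v
    rw [sympForm_tS]
    exact h _

theorem tau_tS_Sm [CharP F 2] {s : ℕ} (hs1 : 1 ≤ s) (hs : s ≤ m) (b : Bool) :
    tau (tS (Sm F m s b)) ↔ b = true := by
  rw [tau_tS_iff]
  cases b
  · simp only [Bool.false_eq_true, iff_false]
    intro h
    have h0 : 0 < m := by omega
    have := h (Pi.single ⟨0, h0⟩ 1)
    unfold Sm at this
    simp only [Bool.false_eq_true, if_false, add_zero] at this
    rw [diagonal_mulVec_single, single_dotProduct, mul_one, one_mul, Pi.single_eq_same] at this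
    unfold wv at this
    rw [if_pos (by simp; omega)] at this
    exact one_ne_zero this
  · simp only [iff_true]
    intro y
    have : Fact (Nat.Prime 2) := ⟨Nat.prime_two⟩
    unfold Sm
    simp only [if_true]
    rw [Matrix.add_mulVec, dotProduct_add, vecMulVec_mulVec]
    have h1 : y ⬝ᵥ (MulOpposite.op (wv F m s ⬝ᵥ y) • wv F m s) = (wv F m s ⬝ᵥ y) ^ 2 := by
      rw [dotProduct_smul]
      simp only [MulOpposite.smul_eq_mul_unop, MulOpposite.unop_op]
      rw [dotProduct_comm y, pow_two]
    have h2 : y ⬝ᵥ (Matrix.diagonal (wv F m s) *ᵥ y) = ∑ i, (wv F m s i * y i) ^ 2 := by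
      unfold dotProduct
      apply Finset.sum_congr rfl
      intro i _
      rw [mulVec_diagonal, mul_pow, pow_two (wv F m s i), wv_mul_self]
      ring
    rw [h1, h2]
    unfold dotProduct
    rw [sum_pow_char 2]
    exact CharTwo.add_self_eq_zero _

end ex

end Cfsg.Agent.Helper43.SpInv
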