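import Mathlib
import Cfsg.Agent.Helper43.OrthInvB
import Cfsg.Agent.Helper43.SpInvB
import Cfsg.Agent.Helper44.StdNondeg

set_option autoImplicit false

/-!
# Representatives of the involution classes of `O⁺_2m(F)` in characteristic two
-/

namespace Cfsg.Agent.Helper43.OrthInv

open Matrix QuadraticMap Module Cfsg.Agent.Helper45.WittQuad Cfsg.Agent.Helper43.SpInv
open Cfsg.Agent.Helper44

variable {F : Type*} [Field F] {m : ℕ}

theorem tS_mulVec_inl (S : Matrix (Fin m) (Fin m) F) (v : Fin m ⊕ Fin m → F) (i : Fin m) :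
    (tS S *ᵥ v) (Sum.inl i) = v (Sum.inl i) + (S *ᵥ (v ∘ Sum.inr)) i := by
  unfold tS
  rw [fromBlocks_mulVec]
  simp

theorem tS_mulVec_inr (S : Matrix (Fin m) (Fin m) F) (v : Fin m ⊕ Fin m → F) (i : Fin m) :
    (tS S *ᵥ v) (Sum.inr i) = v (Sum.inr i) := by
  unfold tS
  rw [fromBlocks_mulVec]
  simp

theorem quadFormPlus_tS (S : Matrix (Fin m) (Fin m) F) (v : Fin m ⊕ Fin m → F) :
    Cfsg.quadFormPlus m F (tS S *ᵥ v)
      = Cfsg.quadFormPlus m F v + (v ∘ Sum.inr) ⬝ᵥ (S *ᵥ (v ∘ Sum.inr)) := by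
  unfold Cfsg.quadFormPlus dotProduct
  rw [← Finset.sum_add_distrib]
  apply Finset.sum_congr rfl
  intro i _
  rw [tS_mulVec_inl, tS_mulVec_inr]
  simp only [Function.comp_apply]
  ring

theorem tauQ_tS [CharP F 2] (S : Matrix (Fin m) (Fin m) F) :
    tauQ (Cfsg.quadFormPlus m F) (tS S) := by
  intro v
  unfold Cfsg.quadFormPlus
  apply Finset.sum_eq_zero
  intro i _
  rw [Pi.add_apply, Pi.add_apply, tS_mulVec_inr, CharTwo.add_self_eq_zero, mul_zero]

/-- The swap of the first `s` hyperbolic pairs. -/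
def Ps (F : Type*) [Field F] (m s : ℕ) : Matrix (Fin m ⊕ Fin m) (Fin m ⊕ Fin m) F :=
  fromBlocks (1 - Matrix.diagonal (wv F m s)) (Matrix.diagonal (wv F m s))
    (Matrix.diagonal (wv F m s)) (1 - Matrix.diagonal (wv F m s))

theorem diag_wv_mul_self (s : ℕ) :
    Matrix.diagonal (wv F m s) * Matrix.diagonal (wv F m s) = Matrix.diagonal (wv F m s) := by
  rw [Matrix.diagonal_mul_diagonal]
  congr 1
  funext i
  exact wv_mul_self s i

theorem Ps_mul_self (s : ℕ) : Ps F m s * Ps F m s = 1 := by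
  unfold Ps
  rw [fromBlocks_multiply, ← fromBlocks_one]
  have hD := diag_wv_mul_self (F := F) (m := m) s
  congr 1
  · rw [sub_mul, mul_sub, mul_sub, one_mul, mul_one, one_mul, hD]; abel
  · rw [sub_mul, mul_sub, one_mul, mul_one, hD]; abel
  · rw [sub_mul, mul_sub, one_mul, mul_one, hD]; abel
  · rw [sub_mul, mul_sub, mul_sub, one_mul, mul_one, one_mul, hD]; abel

theorem Ps_mulVec_inl (s : ℕ) (v : Fin m ⊕ Fin m → F) (i : Fin m) :
    (Ps F m s *ᵥ v) (Sum.inl i)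
      = v (Sum.inl i) - wv F m s i * v (Sum.inl i) + wv F m s i * v (Sum.inr i) := by
  unfold Ps
  rw [fromBlocks_mulVec]
  simp only [Sum.elim_inl, Pi.add_apply, Matrix.sub_mulVec, Matrix.one_mulVec, Pi.sub_apply,
    mulVec_diagonal, Function.comp_apply]

theorem Ps_mulVec_inr (s : ℕ) (v : Fin m ⊕ Fin m → F) (i : Fin m) :
    (Ps F m s *ᵥ v) (Sum.inr i)
      = wv F m s i * v (Sum.inl i) + (v (Sum.inr i) - wv F m s i * v (Sum.inr i)) := by
  unfold Ps
  rw [fromBlocks_mulVec]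
  simp only [Sum.elim_inr, Pi.add_apply, Matrix.sub_mulVec, Matrix.one_mulVec, Pi.sub_apply,
    mulVec_diagonal, Function.comp_apply]

theorem quadFormPlus_Ps (s : ℕ) (v : Fin m ⊕ Fin m → F) :
    Cfsg.quadFormPlus m F (Ps F m s *ᵥ v) = Cfsg.quadFormPlus m F v := by
  unfold Cfsg.quadFormPlus
  apply Finset.sum_congr rfl
  intro i _
  rw [Ps_mulVec_inl, Ps_mulVec_inr]
  unfold wv
  split_ifs <;> ring

theorem not_tauQ_Ps {s : ℕ} (hs1 : 1 ≤ s) (hs : s ≤ m) :
    ¬ tauQ (Cfsg.quadFormPlus m F) (Ps F m s) := by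
  classical
  intro h
  have h0 : 0 < m := by omega
  have := h (Pi.single (M := fun _ => F) (Sum.inl ⟨0, h0⟩ : Fin m ⊕ Fin m) (1 : F))
  unfold Cfsg.quadFormPlus at this
  rw [Finset.sum_eq_single ⟨0, h0⟩] at this
  · rw [Pi.add_apply, Pi.add_apply, Ps_mulVec_inl, Ps_mulVec_inr] at this
    have hw : wv F m s ⟨0, h0⟩ = 1 := by
      unfold wv
      rw [if_pos (by simp; omega)]
    rw [hw] at this
    simp at this
  · intro i _ hi
    rw [Pi.add_apply, Pi.add_apply, Ps_mulVec_inl, Ps_mulVec_inr]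
    have h1 : (Pi.single (M := fun _ => F) (Sum.inl ⟨0, h0⟩ : Fin m ⊕ Fin m) (1 : F)) (Sum.inl i) = 0 := by
      rw [Pi.single_apply, if_neg]
      intro h2
      exact hi (Sum.inl_injective h2)
    have h2 : (Pi.single (M := fun _ => F) (Sum.inl ⟨0, h0⟩ : Fin m ⊕ Fin m) (1 : F)) (Sum.inr i) = 0 := by
      rw [Pi.single_apply, if_neg]
      intro h2
      exact Sum.inr_ne_inl h2
    rw [h1, h2]
    simp
  · intro h1
    exact absurd (Finset.mem_univ _) h1

theorem Ps_sub_one [CharP F 2] (s : ℕ) :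
    Ps F m s - 1 = fromBlocks (1 : Matrix (Fin m) (Fin m) F) (0 : Matrix (Fin m) (Fin m) F)
        (1 : Matrix (Fin m) (Fin m) F) (1 : Matrix (Fin m) (Fin m) F)
      * (tS (Matrix.diagonal (wv F m s)) - 1)
      * fromBlocks (1 : Matrix (Fin m) (Fin m) F) (0 : Matrix (Fin m) (Fin m) F)
        (1 : Matrix (Fin m) (Fin m) F) (1 : Matrix (Fin m) (Fin m) F) := by
  rw [tS_sub_one, fromBlocks_multiply, fromBlocks_multiply]
  unfold Ps
  have hneg : ∀ A : Matrix (Fin m) (Fin m) F, -A = A := by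
    intro A
    rw [neg_eq_iff_add_eq_zero]
    exact SpInv.mat_add_self A
  have h11 : ∀ A : Matrix (Fin m) (Fin m) F, 1 - A + 1 = A := by
    intro A
    have h1 : (1 : Matrix (Fin m) (Fin m) F) + 1 = 0 := SpInv.mat_add_self 1
    calc 1 - A + 1 = (1 + 1) - A := by abel
      _ = A := by rw [h1, zero_sub, hneg]
  rw [← fromBlocks_one, sub_eq_add_neg, fromBlocks_neg, fromBlocks_add]
  congr 1 <;> simp [hneg, h11]

theorem rank_Ps_sub_one [CharP F 2] {s : ℕ} (hs : s ≤ m) : (Ps F m s - 1).rank = s := by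
  have hdet : IsUnit (fromBlocks (1 : Matrix (Fin m) (Fin m) F) (0 : Matrix (Fin m) (Fin m) F)
      (1 : Matrix (Fin m) (Fin m) F) (1 : Matrix (Fin m) (Fin m) F)).det := by
    rw [Matrix.det_fromBlocks_zero₁₂, Matrix.det_one, one_mul]
    exact isUnit_one
  rw [Ps_sub_one, Matrix.rank_mul_eq_left_of_isUnit_det _ _ hdet,
    Matrix.rank_mul_eq_right_of_isUnit_det _ _ hdet, rank_tS_sub_one, rank_diagonal_wv hs]

end Cfsg.Agent.Helper43.OrthInv
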