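import Mathlib
import Cfsg.Agent.Helper43.OrthInvC
import Cfsg.Agent.S2593

set_option autoImplicit false

/-!
# The involution classes of `O⁺_2m(F)` in characteristic two
-/

namespace Cfsg.Agent.Helper43.OrthInv

open Matrix QuadraticMap Module Cfsg.Agent.Helper45.WittQuad Cfsg.Agent.Helper43.SpInv
open Cfsg.Agent.Helper44

variable {F : Type*} [Field F] {m : ℕ}

/-- The representative matrices. -/
def Rep (F : Type*) [Field F] (m s : ℕ) (b : Bool) : Matrix (Fin m ⊕ Fin m) (Fin m ⊕ Fin m) F :=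
  if b then tS (Sm F m s true) else Ps F m s

theorem Rep_mul_self [CharP F 2] (s : ℕ) (b : Bool) : Rep F m s b * Rep F m s b = 1 := by
  unfold Rep
  cases b
  · simp only [Bool.false_eq_true, if_false]
    exact Ps_mul_self s
  · simp only [if_true]
    exact tS_mul_self _

theorem Rep_isometry [CharP F 2] {s : ℕ} (hs1 : 1 ≤ s) (hs : s ≤ m) (b : Bool)
    (v : Fin m ⊕ Fin m → F) :
    Cfsg.quadFormPlus m F (Rep F m s b *ᵥ v) = Cfsg.quadFormPlus m F v := by
  unfold Rep
  cases b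
  · simp only [Bool.false_eq_true, if_false]
    exact quadFormPlus_Ps s v
  · simp only [if_true]
    rw [quadFormPlus_tS]
    have h1 := (tau_tS_iff (Sm F m s true)).mp ((tau_tS_Sm hs1 hs true).mpr rfl) (v ∘ Sum.inr)
    rw [h1, add_zero]

theorem rank_Rep_sub_one [CharP F 2] {s : ℕ} (hs : s ≤ m) (b : Bool) (hb : b = true → Even s) :
    (Rep F m s b - 1).rank = s := by
  unfold Rep
  cases b
  · simp only [Bool.false_eq_true, if_false]
    exact rank_Ps_sub_one hs
  · simp only [if_true]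
    rw [rank_tS_sub_one, rank_Sm hs true (fun _ => hb rfl)]

theorem tauQ_Rep_iff [CharP F 2] {s : ℕ} (hs1 : 1 ≤ s) (hs : s ≤ m) (b : Bool) :
    tauQ (Cfsg.quadFormPlus m F) (Rep F m s b) ↔ b = true := by
  unfold Rep
  cases b
  · simp only [Bool.false_eq_true, if_false, iff_false]
    exact not_tauQ_Ps hs1 hs
  · simp only [if_true, iff_true]
    exact tauQ_tS _

/-- The number of classes of involutions of `O⁺_2m(F)`. -/
theorem card_involution_classes_plus [Fintype F] [CharP F 2] (m : ℕ) :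
    Nat.card {C : ConjClasses ↥(Cfsg.isometryGroup F (Cfsg.quadFormPlus m F)) //
      ∃ g : ↥(Cfsg.isometryGroup F (Cfsg.quadFormPlus m F)), ConjClasses.mk g = C ∧ orderOf g = 2}
      = m + m / 2 := by
  classical
  rw [← Cfsg.Agent.S2593.card_idx m]
  set Q : QuadraticForm F (Fin m ⊕ Fin m → F) := plusForm m F with hQdef
  have hQ : (polarBilin Q).Nondegenerate := nondegenerate_plusForm m
  have hGdet : IsUnit (gramPlus m F).det := by
    rw [det_gramPlus]
    exact (isUnit_one.neg).pow m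
  -- the representatives
  let T : {p : Fin m × Bool // p.2 = true → Even (p.1.val + 1)} →
      ↥(Cfsg.isometryGroup F (Cfsg.quadFormPlus m F)) :=
    fun p => ⟨glOfInv (Rep F m (p.1.1.val + 1) p.1.2) (Rep_mul_self _ _), by
      rw [Cfsg.Agent.Helper45.WittQuad.mem_isometryGroup_iff]
      intro x
      exact Rep_isometry (by omega) (by have := p.1.1.2; omega) p.1.2 x⟩
  have hTcoe : ∀ p, (((T p : ↥(Cfsg.isometryGroup F (Cfsg.quadFormPlus m F))) :
      GL (Fin m ⊕ Fin m) F) : Matrix (Fin m ⊕ Fin m) (Fin m ⊕ Fin m) F)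
      = Rep F m (p.1.1.val + 1) p.1.2 := fun p => rfl
  have hTrank : ∀ p, ((((T p : ↥(Cfsg.isometryGroup F (Cfsg.quadFormPlus m F))) :
      GL (Fin m ⊕ Fin m) F) : Matrix (Fin m ⊕ Fin m) (Fin m ⊕ Fin m) F) - 1).rank
      = p.1.1.val + 1 := by
    intro p
    rw [hTcoe, rank_Rep_sub_one (by have := p.1.1.2; omega) p.1.2 p.2]
  have hTtau : ∀ p, tauQ (Cfsg.quadFormPlus m F)
      (((T p : ↥(Cfsg.isometryGroup F (Cfsg.quadFormPlus m F))) :
      GL (Fin m ⊕ Fin m) F) : Matrix (Fin m ⊕ Fin m) (Fin m ⊕ Fin m) F) ↔ p.1.2 = true := by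
    intro p
    rw [hTcoe]
    exact tauQ_Rep_iff (by omega) (by have := p.1.1.2; omega) p.1.2
  have hTord : ∀ p, orderOf (T p) = 2 := by
    intro p
    apply orderOf_eq_two_of
    · apply Subtype.ext
      exact glOfInv_mul_self _ _
    · intro h1
      have h2 := hTrank p
      rw [h1] at h2
      simp at h2
  refine card_classes_of_reps (J := ℕ × Prop) (fun g => orderOf g = 2)
    (fun g : ↥(Cfsg.isometryGroup F (Cfsg.quadFormPlus m F)) =>
      ((((g : GL (Fin m ⊕ Fin m) F) : Matrix (Fin m ⊕ Fin m) (Fin m ⊕ Fin m) F) - 1).rank,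
      tauQ (Cfsg.quadFormPlus m F)
        ((g : GL (Fin m ⊕ Fin m) F) : Matrix (Fin m ⊕ Fin m) (Fin m ⊕ Fin m) F)))
    T hTord ?_ ?_ ?_
  · intro g h hg hh
    have := isConj_iff_invariants Q hQ g h (mul_self_of_orderOf g hg) (mul_self_of_orderOf h hh)
    rw [Prod.ext_iff, eq_iff_iff]
    exact this
  · intro p p' hpp
    rw [Prod.ext_iff, eq_iff_iff] at hpp
    obtain ⟨h2, h3⟩ := hpp
    simp only at h2 h3
    rw [hTrank, hTrank] at h2
    rw [hTtau, hTtau] at h3
    apply Subtype.ext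
    apply Prod.ext
    · apply Fin.ext
      omega
    · exact Bool.eq_iff_iff.mpr h3
  · intro g hg
    obtain ⟨hr1, hr2⟩ := rank_bounds g hg
    rw [Fintype.card_sum, Fintype.card_fin] at hr2
    set A : Matrix (Fin m ⊕ Fin m) (Fin m ⊕ Fin m) F :=
      (((g : ↥(Cfsg.isometryGroup F (Cfsg.quadFormPlus m F))) :
      GL (Fin m ⊕ Fin m) F) : Matrix (Fin m ⊕ Fin m) (Fin m ⊕ Fin m) F) with hA
    have hgQ := (Cfsg.Agent.Helper45.WittQuad.mem_isometryGroup_iff (Cfsg.quadFormPlus m F) (g : GL (Fin m ⊕ Fin m) F)).1 g.2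
    let s : Fin m := ⟨(A - 1).rank - 1, by omega⟩
    let b : Bool := decide (tauQ (Cfsg.quadFormPlus m F) A)
    have hs : s.val + 1 = (A - 1).rank := by
      show (A - 1).rank - 1 + 1 = _
      omega
    have hb : b = true ↔ tauQ (Cfsg.quadFormPlus m F) A := by
      simp [b]
    have hidx : b = true → Even (s.val + 1) := by
      intro hbt
      rw [hs]
      exact even_rank_of_tauQ Q (gramPlus m F) (polarBilin_plusForm m) hGdet A hgQ (hb.mp hbt)
    refine ⟨⟨(s, b), hidx⟩, ?_⟩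
    rw [Prod.ext_iff, eq_iff_iff]
    refine ⟨?_, ?_⟩
    · simp only
      rw [hTrank]
      exact hs
    · simp only
      rw [hTtau]
      exact hb

end Cfsg.Agent.Helper43.OrthInv
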