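import Mathlib
import Cfsg.Agent.Helper43.OrthInvD
import Cfsg.Agent.Helper45.OmegaFamilies

set_option autoImplicit false

/-!
# Conjugacy of involutions under `Ω` in characteristic two (plus type)
-/

namespace Cfsg.Agent.Helper43.OrthInv

open Matrix QuadraticMap Module Cfsg.Agent.Helper45.OmegaParity

section General

variable {F : Type*} [Field F] {ι : Type} [Fintype ι] [DecidableEq ι]
variable (Q : QuadraticForm F (ι → F))

/-- Conjugacy of isometries by an element of `Ω`. -/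
def OmConj (t s : Cfsg.isometryGroup F ⇑Q) : Prop :=
  ∃ w ∈ Cfsg.Omega F ⇑Q, w * t * w⁻¹ = s

theorem OmConj.refl (t : Cfsg.isometryGroup F ⇑Q) : OmConj Q t t :=
  ⟨1, one_mem _, by group⟩

theorem OmConj.symm {t s : Cfsg.isometryGroup F ⇑Q} (h : OmConj Q t s) : OmConj Q s t := by
  obtain ⟨w, hw, rfl⟩ := h
  exact ⟨w⁻¹, inv_mem hw, by group⟩

theorem OmConj.trans {t s r : Cfsg.isometryGroup F ⇑Q} (h1 : OmConj Q t s) (h2 : OmConj Q s r) :
    OmConj Q t r := by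
  obtain ⟨w, hw, rfl⟩ := h1
  obtain ⟨w', hw', rfl⟩ := h2
  exact ⟨w' * w, mul_mem hw' hw, by group⟩

theorem OmConj.isConj {t s : Cfsg.isometryGroup F ⇑Q} (h : OmConj Q t s) : IsConj t s := by
  obtain ⟨w, _, hw⟩ := h
  exact isConj_iff.2 ⟨w, hw⟩

theorem isConj_Omega_iff (g k : ↥(Cfsg.Omega F ⇑Q)) : IsConj g k ↔ OmConj Q g.1 k.1 := by
  rw [isConj_iff]
  constructor
  · rintro ⟨c, hc⟩
    exact ⟨c.1, c.2, congrArg Subtype.val hc⟩
  · rintro ⟨w, hw, hwc⟩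
    exact ⟨⟨w, hw⟩, Subtype.ext hwc⟩

variable [Fintype F] [CharP F 2]

/-- `Ω` has index at most two in `O`. -/
theorem mul_inv_mem_Omega (hQ : (QuadraticMap.polarBilin Q).Nondegenerate)
    (h : Fintype.card F ≠ 2 ∨ Fintype.card ι ≠ 4) (a b : Cfsg.isometryGroup F ⇑Q)
    (ha : a ∉ Cfsg.Omega F ⇑Q) (hb : b ∉ Cfsg.Omega F ⇑Q) : b * a⁻¹ ∈ Cfsg.Omega F ⇑Q := by
  rw [mem_Omega_iff_parityHom Q hQ h] at ha hb ⊢
  rw [map_mul, map_inv]
  have key : ∀ x y : Multiplicative (ZMod 2), x ≠ 1 → y ≠ 1 → y * x⁻¹ = 1 := by decide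
  exact key _ _ ha hb

/-- Criterion for a conjugating element of an involution of type `(m, τ)` to lie in `Ω`. -/
theorem mem_Omega_iff_of_conj (hQ : (QuadraticMap.polarBilin Q).Nondegenerate)
    (h : Fintype.card F ≠ 2 ∨ Fintype.card ι ≠ 4) (m : ℕ) (hV : Fintype.card ι = 2 * m)
    (t s g : Cfsg.isometryGroup F ⇑Q)
    (hrk : ((t.1 : Matrix ι ι F) - 1).rank = m) (hsing : tauQ ⇑Q (t.1 : Matrix ι ι F))
    (hmeven : Even m) (hg : g * t * g⁻¹ = s) :
    g ∈ Cfsg.Omega F ⇑Q ↔ Even (finrank F ↥(LinearMap.range (comm Q t) ⊓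
          LinearMap.range (comm Q s) : Submodule F (ι → F))) := by
  set U := LinearMap.range (comm Q t) with hU
  have hUm : finrank F U = m := by
    rw [← hrk, Matrix.rank, mulVecLin_sub_one]
  have hU0 : ∀ w ∈ U, Q w = 0 := by
    rintro _ ⟨v, rfl⟩
    rw [← add_mulVec_eq]
    exact hsing v
  rw [range_sub_one_conj Q t s g hg, ← hU, mem_Omega_iff_parityHom Q hQ h,
    parityHom_eq_codim Q hQ h m hV U hUm hU0 g]
  have hle : finrank F ↥(U ⊓ U.map (lin Q g) : Submodule F (ι → F)) ≤ m := by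
    rw [← hUm]
    exact Submodule.finrank_mono inf_le_left
  have e1 : (Multiplicative.ofAdd
      (((m - finrank F ↥(U ⊓ U.map (lin Q g) : Submodule F (ι → F)) : ℕ) : ℕ) : ZMod 2) = 1)
      ↔ (((m - finrank F ↥(U ⊓ U.map (lin Q g) : Submodule F (ι → F)) : ℕ) : ℕ) : ZMod 2)
        = 0 := by
    constructor
    · intro h1
      exact congrArg Multiplicative.toAdd h1
    · intro h1
      exact congrArg Multiplicative.ofAdd h1
  rw [e1, ZMod.natCast_eq_zero_iff_even]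
  constructor
  · intro h1
    have h2 : Even (m - (m - finrank F ↥(U ⊓ U.map (lin Q g) : Submodule F (ι → F)))) :=
      (Nat.even_sub (Nat.sub_le _ _)).2 ⟨fun _ => h1, fun _ => hmeven⟩
    rwa [Nat.sub_sub_self hle] at h2
  · intro h1
    exact (Nat.even_sub hle).2 ⟨fun _ => h1, fun _ => hmeven⟩

/-- The centraliser of an involution of type `(m, τ)` lies in `Ω`. -/
theorem mem_Omega_of_commute (hQ : (QuadraticMap.polarBilin Q).Nondegenerate)
    (h : Fintype.card F ≠ 2 ∨ Fintype.card ι ≠ 4) (m : ℕ) (hV : Fintype.card ι = 2 * m)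
    (t g : Cfsg.isometryGroup F ⇑Q)
    (hrk : ((t.1 : Matrix ι ι F) - 1).rank = m) (hsing : tauQ ⇑Q (t.1 : Matrix ι ι F))
    (hmeven : Even m) (hg : g * t * g⁻¹ = t) : g ∈ Cfsg.Omega F ⇑Q := by
  rw [mem_Omega_iff_of_conj Q hQ h m hV t t g hrk hsing hmeven hg, inf_idem]
  have hUm : finrank F (LinearMap.range (comm Q t)) = m := by
    rw [← hrk, Matrix.rank, mulVecLin_sub_one]
  rw [hUm]
  exact hmeven

/-- **Ω-conjugacy of involutions of Ω.** -/
theorem omConj_iff (hQ : (QuadraticMap.polarBilin Q).Nondegenerate)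
    (h : Fintype.card F ≠ 2 ∨ Fintype.card ι ≠ 4) (m : ℕ) (hV : Fintype.card ι = 2 * m)
    (t₀ : Cfsg.isometryGroup F ⇑Q)
    (ht₀ : Even m → t₀ * t₀ = 1 ∧ ((t₀.1 : Matrix ι ι F) - 1).rank = m ∧
      tauQ ⇑Q (t₀.1 : Matrix ι ι F))
    (g k : Cfsg.isometryGroup F ⇑Q) (hg2 : g * g = 1) (hk2 : k * k = 1)
    (hgO : g ∈ Cfsg.Omega F ⇑Q) :
    OmConj Q g k ↔
      ((((g.1 : Matrix ι ι F) - 1).rank = ((k.1 : Matrix ι ι F) - 1).rank ∧
        (tauQ ⇑Q (g.1 : Matrix ι ι F) ↔ tauQ ⇑Q (k.1 : Matrix ι ι F))) ∧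
      ((((g.1 : Matrix ι ι F) - 1).rank = m ∧ tauQ ⇑Q (g.1 : Matrix ι ι F) ∧ ¬ OmConj Q t₀ g) ↔
        (((k.1 : Matrix ι ι F) - 1).rank = m ∧ tauQ ⇑Q (k.1 : Matrix ι ι F) ∧
          ¬ OmConj Q t₀ k))) := by
  constructor
  · intro hgk
    have h1 := (isConj_iff_invariants Q hQ g k hg2 hk2).1 hgk.isConj
    refine ⟨h1, ?_⟩
    rw [h1.1, h1.2]
    have h2 : OmConj Q t₀ g ↔ OmConj Q t₀ k :=
      ⟨fun h3 => h3.trans Q hgk, fun h3 => h3.trans Q (hgk.symm Q)⟩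
    rw [h2]
  · rintro ⟨h1, h2⟩
    have hconj : IsConj g k := (isConj_iff_invariants Q hQ g k hg2 hk2).2 h1
    by_cases hty : ((g.1 : Matrix ι ι F) - 1).rank = m ∧ tauQ ⇑Q (g.1 : Matrix ι ι F)
    · have hmeven : Even m := by
        rw [← hty.1]
        exact (mem_Omega_iff_even_rank Q hQ h g).1 hgO
      obtain ⟨ht2, htrk, httau⟩ := ht₀ hmeven
      have htyk : ((k.1 : Matrix ι ι F) - 1).rank = m ∧ tauQ ⇑Q (k.1 : Matrix ι ι F) :=
        ⟨h1.1 ▸ hty.1, h1.2.1 hty.2⟩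
      by_cases hc : OmConj Q t₀ g
      · have hck : OmConj Q t₀ k := by
          by_contra hck
          exact (h2.2 ⟨htyk.1, htyk.2, hck⟩).2.2 hc
        exact (hc.symm Q).trans Q hck
      · have hck : ¬ OmConj Q t₀ k := (h2.1 ⟨hty.1, hty.2, hc⟩).2.2
        have hcg : IsConj t₀ g := (isConj_iff_invariants Q hQ t₀ g ht2 hg2).2
          ⟨htrk.trans hty.1.symm, ⟨fun _ => hty.2, fun _ => httau⟩⟩
        have hck' : IsConj t₀ k := (isConj_iff_invariants Q hQ t₀ k ht2 hk2).2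
          ⟨htrk.trans htyk.1.symm, ⟨fun _ => htyk.2, fun _ => httau⟩⟩
        obtain ⟨a, ha⟩ := isConj_iff.1 hcg
        obtain ⟨b, hb⟩ := isConj_iff.1 hck'
        have haO : a ∉ Cfsg.Omega F ⇑Q := fun haO => hc ⟨a, haO, ha⟩
        have hbO : b ∉ Cfsg.Omega F ⇑Q := fun hbO => hck ⟨b, hbO, hb⟩
        refine ⟨b * a⁻¹, mul_inv_mem_Omega Q hQ h a b haO hbO, ?_⟩
        rw [← ha, ← hb]
        group
    · exact (omega_conj_dichotomy Q hQ h m hV g k hg2 hgO hconj).1 hty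

end General

end Cfsg.Agent.Helper43.OrthInv
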