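import Mathlib
import Cfsg.Agent.Helper43.OrthInvH

set_option autoImplicit false

/-!
# The involution classes of `Ω⁺_2m(F)` in characteristic two
-/

namespace Cfsg.Agent.Helper43.OrthInv

open Matrix QuadraticMap Module Cfsg.Agent.Helper45.OmegaParity
open Cfsg.Agent.Helper44

variable {F : Type*} [Field F] {m : ℕ}

/-- The representatives as elements of the orthogonal group. -/
def RepO [CharP F 2] (m s : ℕ) (hs1 : 1 ≤ s) (hs : s ≤ m) (b : Bool) :
    ↥(Cfsg.isometryGroup F (Cfsg.quadFormPlus m F)) :=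
  ⟨glOfInv (Rep F m s b) (Rep_mul_self _ _), by
    rw [Cfsg.Agent.Helper45.WittQuad.mem_isometryGroup_iff]
    intro x
    exact Rep_isometry hs1 hs b x⟩

theorem RepO_coe [CharP F 2] (s : ℕ) (hs1 : 1 ≤ s) (hs : s ≤ m) (b : Bool) :
    (((RepO (F := F) m s hs1 hs b).1 : GL (Fin m ⊕ Fin m) F) :
      Matrix (Fin m ⊕ Fin m) (Fin m ⊕ Fin m) F) = Rep F m s b := rfl

theorem RepO_mul_self [CharP F 2] (s : ℕ) (hs1 : 1 ≤ s) (hs : s ≤ m) (b : Bool) :
    RepO (F := F) m s hs1 hs b * RepO m s hs1 hs b = 1 := by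
  apply Subtype.ext
  exact glOfInv_mul_self _ _

/-- the index type of the classes -/
def idxOmegaEquiv (m : ℕ) : {p : Fin m × Bool // Even (p.1.val + 1)} ≃
    {s : Fin m // Even (s.val + 1)} × Bool where
  toFun p := (⟨p.1.1, p.2⟩, p.1.2)
  invFun x := ⟨(x.1.1, x.2), x.1.2⟩
  left_inv p := rfl
  right_inv x := rfl

theorem card_idxOmega (m : ℕ) :
    Nat.card ({p : Fin m × Bool // Even (p.1.val + 1)} ⊕ {u : Unit // Even m})
      = 2 * (m / 2) + (if Even m then 1 else 0) := by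
  rw [Nat.card_sum, Nat.card_congr (idxOmegaEquiv m), Nat.card_prod,
    Nat.card_congr (Cfsg.Agent.S2593.oddEquiv m), Nat.card_fin, Nat.card_eq_fintype_card (α := Bool),
    Fintype.card_bool, mul_comm]
  congr 1
  split_ifs with hm
  · have : Unique {u : Unit // Even m} := ⟨⟨⟨(), hm⟩⟩, fun u => Subtype.ext rfl⟩
    exact Nat.card_unique
  · have : IsEmpty {u : Unit // Even m} := ⟨fun u => hm u.2⟩
    exact Nat.card_of_isEmpty

end Cfsg.Agent.Helper43.OrthInv
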