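import Cfsg.Agent.Helper43.JordanPiQ

set_option autoImplicit false

namespace Cfsg.Agent.Helper43.SS

open Polynomial Module

universe u v w

variable {F : Type u} [Field F]

theorem le_of_kills_PiQ (l : List ℕ) (j : ℕ) (h : Kills F (PiQ F l) j) : ∀ a ∈ l, a ≤ j := by
  classical
  intro a ha
  obtain ⟨i, rfl⟩ := List.mem_iff_get.mp ha
  rw [← kills_Qr_iff (F := F)]
  intro q
  have h1 := congrFun (h (Pi.single i q)) i
  rw [Pi.smul_apply, Pi.single_eq_same] at h1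
  exact h1

theorem kills_AEval_iff {V : Type v} [AddCommGroup V] [Module F V] (φ : Module.End F V) (k : ℕ) :
    Kills F (AEval' φ) k ↔ φ ^ k = 0 := by
  constructor
  · intro h
    apply LinearMap.ext
    intro v
    have := h (AEval'.of φ v)
    rw [AEval'.X_pow_smul_of] at this
    have h2 := (AEval'.of φ).injective (this.trans (map_zero _).symm)
    exact h2
  · intro h m
    obtain ⟨v, rfl⟩ := (AEval'.of φ).surjective m
    rw [AEval'.X_pow_smul_of, h]
    simp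

section mat

variable {n : ℕ}

/-- `l` is the Jordan type of the nilpotent matrix `N`. -/
def IsJType (l : List ℕ) (N : Matrix (Fin n) (Fin n) F) : Prop :=
  l.Pairwise (· ≥ ·) ∧ (∀ a ∈ l, 0 < a) ∧
    Nonempty (AEval' (Matrix.toLin' N) ≃ₗ[F[X]] PiQ F l)

theorem kills_AEval_toLin'_iff (N : Matrix (Fin n) (Fin n) F) (k : ℕ) :
    Kills F (AEval' (Matrix.toLin' N)) k ↔ N ^ k = 0 := by
  rw [kills_AEval_iff, ← Matrix.toLin'_pow]
  constructor
  · intro h
    apply (Matrix.toLin' (R := F)).injective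
    rw [h, map_zero]
  · intro h
    rw [h, map_zero]

theorem IsJType.sum_eq {l : List ℕ} {N : Matrix (Fin n) (Fin n) F} (h : IsJType l N) :
    l.sum = n := by
  obtain ⟨_, _, ⟨E⟩⟩ := h
  have h1 := (E.restrictScalars F).finrank_eq
  have h2 := (AEval'.of (Matrix.toLin' N)).finrank_eq
  rw [finrank_PiQ] at h1
  rw [Module.finrank_fin_fun] at h2
  omega

theorem exists_isJType (N : Matrix (Fin n) (Fin n) F) (k : ℕ) (hN : N ^ k = 0) :
    ∃ l : List ℕ, IsJType l N := by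
  have hnilp : IsNilp F (AEval' (Matrix.toLin' N)) := ⟨k, (kills_AEval_toLin'_iff N k).mpr hN⟩
  obtain ⟨l, h1, h2, -, h4⟩ := exists_PiQ _ (AEval' (Matrix.toLin' N)) rfl hnilp
  exact ⟨l, h1, h2, h4⟩

theorem IsJType.pow_eq_zero_iff {l : List ℕ} {N : Matrix (Fin n) (Fin n) F} (h : IsJType l N)
    (j : ℕ) : N ^ j = 0 ↔ ∀ a ∈ l, a ≤ j := by
  obtain ⟨_, _, ⟨E⟩⟩ := h
  rw [← kills_AEval_toLin'_iff]
  constructor
  · intro hk
    exact le_of_kills_PiQ l j (hk.of_equiv E)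
  · intro hl
    exact (kills_PiQ l j hl).of_equiv E.symm

theorem IsJType.eq_of_equiv {l l' : List ℕ} {N N' : Matrix (Fin n) (Fin n) F} (h : IsJType l N)
    (h' : IsJType l' N') (e : (Fin n → F) ≃ₗ[F] (Fin n → F))
    (he : ∀ x, e (Matrix.toLin' N x) = Matrix.toLin' N' (e x)) : l = l' := by
  obtain ⟨hs, hp, ⟨E⟩⟩ := h
  obtain ⟨hs', hp', ⟨E'⟩⟩ := h'
  let E2 : AEval' (Matrix.toLin' N) ≃ₗ[F[X]] AEval' (Matrix.toLin' N') :=
    LinearEquiv.ofAEval (Matrix.toLin' N) (e.trans (AEval'.of (Matrix.toLin' N'))) (by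
      intro m
      show AEval'.of (Matrix.toLin' N') (e (Matrix.toLin' N m)) = X • AEval'.of (Matrix.toLin' N') (e m)
      rw [he, AEval'.X_smul_of])
  exact list_eq_of_equiv l l' hs hs' hp hp' ⟨E.symm.trans (E2.trans E')⟩

theorem IsJType.exists_equiv {l : List ℕ} {N N' : Matrix (Fin n) (Fin n) F} (h : IsJType l N)
    (h' : IsJType l N') : ∃ e : (Fin n → F) ≃ₗ[F] (Fin n → F),
      ∀ x, e (Matrix.toLin' N x) = Matrix.toLin' N' (e x) := by
  obtain ⟨_, _, ⟨E⟩⟩ := h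
  obtain ⟨_, _, ⟨E'⟩⟩ := h'
  let E2 := E.trans E'.symm
  refine ⟨(AEval'.of (Matrix.toLin' N)).trans ((E2.restrictScalars F).trans
    (AEval'.of (Matrix.toLin' N')).symm), ?_⟩
  intro v
  show (AEval'.of (Matrix.toLin' N')).symm (E2 (AEval'.of (Matrix.toLin' N) (Matrix.toLin' N v)))
    = Matrix.toLin' N' ((AEval'.of (Matrix.toLin' N')).symm (E2 (AEval'.of (Matrix.toLin' N) v)))
  rw [← AEval'.X_smul_of, map_smul, AEval'.of_symm_X_smul]

theorem exists_matrix_isJType (l : List ℕ) (hs : l.Pairwise (· ≥ ·)) (hp : ∀ a ∈ l, 0 < a)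
    (hsum : l.sum = n) : ∃ N : Matrix (Fin n) (Fin n) F, N ^ n = 0 ∧ IsJType l N := by
  have hfr : finrank F (PiQ F l) = finrank F (Fin n → F) := by
    rw [finrank_PiQ, Module.finrank_fin_fun, hsum]
  let b : PiQ F l ≃ₗ[F] (Fin n → F) := LinearEquiv.ofFinrankEq _ _ hfr
  let φ : Module.End F (Fin n → F) := b.conj (xEnd F (PiQ F l))
  let N : Matrix (Fin n) (Fin n) F := LinearMap.toMatrix' φ
  have hN : Matrix.toLin' N = φ := Matrix.toLin'_toMatrix' φ
  let E : AEval' (Matrix.toLin' N) ≃ₗ[F[X]] PiQ F l :=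
    LinearEquiv.ofAEval (Matrix.toLin' N) b.symm (by
      intro m
      show b.symm (Matrix.toLin' N m) = X • b.symm m
      rw [hN]
      show b.symm (b (xEnd F (PiQ F l) (b.symm m))) = X • b.symm m
      rw [LinearEquiv.symm_apply_apply]
      rfl)
  have hJ : IsJType l N := ⟨hs, hp, ⟨E⟩⟩
  refine ⟨N, ?_, hJ⟩
  rw [hJ.pow_eq_zero_iff]
  intro a ha
  rw [← hsum]
  exact List.single_le_sum (fun _ _ => Nat.zero_le _) _ ha

end mat

end Cfsg.Agent.Helper43.SS
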