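import Mathlib

set_option autoImplicit false

namespace Cfsg.Agent.Helper43

open Module

variable {F : Type*} [Field F] {V : Type*} [AddCommGroup V] [Module F V] [FiniteDimensional F V]

/-- Sylvester-type inequality for kernels: `dim ker (f ∘ g) ≤ dim ker f + dim ker g`. -/
theorem finrank_ker_comp_le (f g : V →ₗ[F] V) :
    finrank F (LinearMap.ker (f ∘ₗ g)) ≤ finrank F (LinearMap.ker f) + finrank F (LinearMap.ker g) := by
  set K := LinearMap.ker (f ∘ₗ g) with hK
  let g' : K →ₗ[F] V := g.domRestrict K
  have h1 := LinearMap.finrank_range_add_finrank_ker g'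
  have h2 : finrank F (LinearMap.range g') ≤ finrank F (LinearMap.ker f) := by
    apply Submodule.finrank_mono
    rintro _ ⟨⟨x, hx⟩, rfl⟩
    simpa [g', hK] using hx
  have h3 : finrank F (LinearMap.ker g') ≤ finrank F (LinearMap.ker g) := by
    let ι : LinearMap.ker g' →ₗ[F] LinearMap.ker g :=
      { toFun := fun x => ⟨(x : K), by
          have h := x.2
          rw [LinearMap.mem_ker] at h ⊢
          exact h⟩
        map_add' := by intro x y; rfl
        map_smul' := by intro c x; rfl }
    apply LinearMap.finrank_le_finrank_of_injective (f := ι)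
    intro x y hxy
    have : ((x : K) : V) = ((y : K) : V) := congrArg (fun z : LinearMap.ker g => (z : V)) hxy
    exact Subtype.ext (Subtype.ext this)
  omega

theorem finrank_ker_pow_le (N : Module.End F V) (j : ℕ) :
    finrank F (LinearMap.ker (N ^ j)) ≤ j * finrank F (LinearMap.ker N) := by
  induction j with
  | zero => simp [Module.End.one_eq_id]
  | succ j ih =>
    have h := finrank_ker_comp_le (N ^ j) N
    have e : N ^ (j + 1) = (N ^ j) ∘ₗ N := by
      rw [pow_succ]; rfl
    rw [e]
    calc _ ≤ _ := h
      _ ≤ j * finrank F (LinearMap.ker N) + finrank F (LinearMap.ker N) := by omega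
      _ = _ := by ring

/-- An invariant subspace `W` of a nilpotent endomorphism `N` lies in `ker N ^ (dim W)`. -/
theorem le_ker_pow_finrank_of_nilpotent (N : Module.End F V) (hN : IsNilpotent N)
    (W : Submodule F V) (hW : ∀ v ∈ W, N v ∈ W) :
    W ≤ LinearMap.ker (N ^ finrank F W) := by
  obtain ⟨n, hn⟩ := hN
  let NW : Module.End F W := N.restrict hW
  have hpow : ∀ k : ℕ, ∀ w : W, ((NW ^ k) w : V) = (N ^ k) (w : V) := by
    intro k
    induction k with
    | zero => intro w; simp
    | succ k ih =>
      intro w
      rw [pow_succ, pow_succ, Module.End.mul_apply, Module.End.mul_apply, ih]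
      rfl
  have hNWn : NW ^ (max n (finrank F W)) = 0 := by
    ext w
    rw [hpow]
    have : N ^ (max n (finrank F W)) = 0 := by
      rw [← Nat.sub_add_cancel (le_max_left n (finrank F W)), pow_add, hn, mul_zero]
    simp [this]
  have hker := Module.End.ker_pow_eq_ker_pow_finrank_of_le (f := NW) (le_max_right n (finrank F W))
  rw [hNWn, LinearMap.ker_zero] at hker
  intro w hw
  have : (⟨w, hw⟩ : W) ∈ LinearMap.ker (NW ^ finrank F W) := by rw [← hker]; trivial
  have h2 := hpow (finrank F W) ⟨w, hw⟩
  rw [LinearMap.mem_ker] at this ⊢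
  rw [this] at h2
  simpa using h2.symm

/-- An invariant subspace of a nilpotent endomorphism with one-dimensional kernel is the
kernel of a power. -/
theorem eq_ker_pow_finrank_of_nilpotent (N : Module.End F V) (hN : IsNilpotent N)
    (h1 : finrank F (LinearMap.ker N) ≤ 1)
    (W : Submodule F V) (hW : ∀ v ∈ W, N v ∈ W) :
    W = LinearMap.ker (N ^ finrank F W) := by
  apply Submodule.eq_of_le_of_finrank_le (le_ker_pow_finrank_of_nilpotent N hN W hW)
  calc _ ≤ finrank F W * finrank F (LinearMap.ker N) := finrank_ker_pow_le N _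
    _ ≤ finrank F W * 1 := Nat.mul_le_mul_left _ h1
    _ = _ := by simp

end Cfsg.Agent.Helper43
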