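import Mathlib
import Cfsg.Agent.Helper43.RegUnip

set_option autoImplicit false

namespace Cfsg.Agent.Helper43

open Module

variable {F : Type*} [Field F] {V : Type*} [AddCommGroup V] [Module F V] [FiniteDimensional F V]

omit [FiniteDimensional F V] in
theorem ker_pow_mono (N : Module.End F V) {a b : ℕ} (hab : a ≤ b) :
    LinearMap.ker (N ^ a) ≤ LinearMap.ker (N ^ b) := by
  intro v hv
  rw [LinearMap.mem_ker] at hv ⊢
  rw [← Nat.sub_add_cancel hab, pow_add, Module.End.mul_apply, hv, map_zero]

/-- If `T` preserves a nondegenerate bilinear form, `T - 1` is nilpotent with at most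
one-dimensional kernel, then every `T`-invariant subspace of at most half the dimension is
totally isotropic. -/
theorem isotropic_of_invariant_regular_unipotent (B : LinearMap.BilinForm F V)
    (hB : B.Nondegenerate) (T : Module.End F V) (hT : ∀ x y, B (T x) (T y) = B x y)
    (hN : IsNilpotent (T - 1)) (h1 : finrank F (LinearMap.ker (T - 1)) ≤ 1)
    (W : Submodule F V) (hW : ∀ v ∈ W, T v ∈ W) (hdim : 2 * finrank F W ≤ finrank F V) :
    ∀ v ∈ W, ∀ w ∈ W, B v w = 0 := by
  -- T is injective
  have hinj : Function.Injective T := by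
    rw [← LinearMap.ker_eq_bot, Submodule.eq_bot_iff]
    intro x hx
    rw [LinearMap.mem_ker] at hx
    apply hB.1 x
    intro y
    -- B x y = B (T x) (T y) = 0
    rw [← hT x y, hx]
    simp
  -- T maps W onto W
  have hmap : W.map T = W := by
    apply Submodule.eq_of_le_of_finrank_le
    · rintro _ ⟨w, hw, rfl⟩
      exact hW w hw
    · rw [← LinearEquiv.finrank_eq (Submodule.equivMapOfInjective T hinj W)]
  -- W^⊥ is T-invariant
  have hWperp : ∀ v ∈ B.orthogonal W, T v ∈ B.orthogonal W := by
    intro v hv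
    rw [LinearMap.BilinForm.mem_orthogonal_iff] at hv ⊢
    intro w hw
    have : w ∈ W.map T := by rw [hmap]; exact hw
    obtain ⟨w', hw', rfl⟩ := this
    have := hv w' hw'
    rw [hT]; exact this
  have hNW : ∀ (U : Submodule F V), (∀ v ∈ U, T v ∈ U) → ∀ v ∈ U, (T - 1) v ∈ U := by
    intro U hU v hv
    rw [LinearMap.sub_apply]
    exact U.sub_mem (hU v hv) hv
  have e1 := eq_ker_pow_finrank_of_nilpotent (T - 1) hN h1 W (hNW W hW)
  have e2 := eq_ker_pow_finrank_of_nilpotent (T - 1) hN h1 _ (hNW _ hWperp)
  have hle : W ≤ B.orthogonal W := by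
    rw [e2]
    conv_lhs => rw [e1]
    apply ker_pow_mono
    rw [LinearMap.BilinForm.finrank_orthogonal hB]
    omega
  intro v hv w hw
  have := hle hw
  rw [LinearMap.BilinForm.mem_orthogonal_iff] at this
  exact this v hv

end Cfsg.Agent.Helper43
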