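import Mathlib
import Cfsg.Agent.Helper43.RegUnipForm

set_option autoImplicit false

namespace Cfsg.Agent.Helper43

open Module

variable {F : Type*} [Field F] {V : Type*} [AddCommGroup V] [Module F V] [FiniteDimensional F V]

/-- Data of a "regular nilpotent" endomorphism: `N ^ (finrank V) = 0` and `dim ker N ≤ 1`. -/
structure IsRegNilp (N : Module.End F V) : Prop where
  pow_eq_zero : N ^ finrank F V = 0
  ker_le_one : finrank F (LinearMap.ker N) ≤ 1

namespace IsRegNilp

variable {N : Module.End F V}

theorem isNilpotent (h : IsRegNilp N) : IsNilpotent N := ⟨_, h.pow_eq_zero⟩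

theorem commute_pow {g : Module.End F V} (hg : g * N = N * g) (k : ℕ) : g * N ^ k = N ^ k * g := by
  have : Commute g N := hg
  exact (this.pow_right k)

theorem finrank_ker_pow_le' (h : IsRegNilp N) (k : ℕ) : finrank F (LinearMap.ker (N ^ k)) ≤ k := by
  calc finrank F (LinearMap.ker (N ^ k)) ≤ k * finrank F (LinearMap.ker N) := finrank_ker_pow_le N k
    _ ≤ k * 1 := Nat.mul_le_mul_left _ h.ker_le_one
    _ = k := mul_one k

/-- There is a cyclic vector. -/
theorem exists_cyclic (h : IsRegNilp N) (hpos : 0 < finrank F V) :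
    ∃ v0 : V, (N ^ (finrank F V - 1)) v0 ≠ 0 := by
  by_contra hcon
  push_neg at hcon
  have : LinearMap.ker (N ^ (finrank F V - 1)) = ⊤ := by
    rw [LinearMap.ker_eq_top]
    exact LinearMap.ext hcon
  have h1 := h.finrank_ker_pow_le' (finrank F V - 1)
  rw [this, finrank_top] at h1
  omega

/-- An invariant subspace containing a cyclic vector is everything. -/
theorem eq_top_of_cyclic_mem (h : IsRegNilp N) {v0 : V} (hv0 : (N ^ (finrank F V - 1)) v0 ≠ 0)
    (W : Submodule F V) (hW : ∀ v ∈ W, N v ∈ W) (hmem : v0 ∈ W) : W = ⊤ := by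
  have hWeq := eq_ker_pow_finrank_of_nilpotent N h.isNilpotent h.ker_le_one W hW
  apply Submodule.eq_top_of_finrank_eq
  by_contra hne
  have hlt : finrank F W < finrank F V := lt_of_le_of_ne (Submodule.finrank_le W) hne
  have h1 : v0 ∈ LinearMap.ker (N ^ finrank F W) := by rw [← hWeq]; exact hmem
  have h2 := ker_pow_mono N (show finrank F W ≤ finrank F V - 1 by omega) h1
  exact hv0 (LinearMap.mem_ker.mp h2)

/-- An endomorphism commuting with `N` and killing the cyclic vector is zero. -/
theorem eq_zero_of_commute_of_apply_cyclic (h : IsRegNilp N) {v0 : V}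
    (hv0 : (N ^ (finrank F V - 1)) v0 ≠ 0) {g : Module.End F V} (hg : g * N = N * g)
    (h0 : g v0 = 0) : g = 0 := by
  have : LinearMap.ker g = ⊤ := by
    apply h.eq_top_of_cyclic_mem hv0
    · intro v hv
      rw [LinearMap.mem_ker] at hv ⊢
      have : g (N v) = N (g v) := by
        have := congrArg (fun f : Module.End F V => f v) hg
        simpa using this
      rw [this, hv, map_zero]
    · exact LinearMap.mem_ker.mpr h0
  exact LinearMap.ker_eq_top.mp this

/-- Every vector is the image of the cyclic vector under something commuting with `N`. -/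
theorem exists_commute_apply_cyclic (h : IsRegNilp N) {v0 : V}
    (hv0 : (N ^ (finrank F V - 1)) v0 ≠ 0) (w : V) :
    ∃ g : Module.End F V, g * N = N * g ∧ g v0 = w := by
  let W : Submodule F V :=
    { carrier := {w | ∃ g : Module.End F V, g * N = N * g ∧ g v0 = w}
      add_mem' := by
        rintro a b ⟨g, hg, rfl⟩ ⟨g', hg', rfl⟩
        exact ⟨g + g', by rw [add_mul, mul_add, hg, hg'], rfl⟩
      zero_mem' := ⟨0, by simp, by simp⟩
      smul_mem' := by
        rintro c a ⟨g, hg, rfl⟩
        exact ⟨c • g, by rw [smul_mul_assoc, mul_smul_comm, hg], rfl⟩ }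
  have hW : W = ⊤ := by
    apply h.eq_top_of_cyclic_mem hv0
    · rintro _ ⟨g, hg, rfl⟩
      exact ⟨N * g, by rw [mul_assoc, hg], rfl⟩
    · exact ⟨1, by simp, rfl⟩
  have : w ∈ W := by rw [hW]; trivial
  exact this

/-- Among the endomorphisms commuting with `N`, the units are those mapping the cyclic vector
to a cyclic vector. -/
theorem isUnit_iff_of_commute (h : IsRegNilp N) (hpos : 0 < finrank F V) {v0 : V}
    (hv0 : (N ^ (finrank F V - 1)) v0 ≠ 0) {g : Module.End F V} (hg : g * N = N * g) :
    IsUnit g ↔ (N ^ (finrank F V - 1)) (g v0) ≠ 0 := by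
  have hcomm : ∀ v, (N ^ (finrank F V - 1)) (g v) = g ((N ^ (finrank F V - 1)) v) := by
    intro v
    have := congrArg (fun f : Module.End F V => f v) (commute_pow hg (finrank F V - 1))
    simpa using this.symm
  constructor
  · intro hu
    rw [hcomm]
    have hinj : Function.Injective g := by
      rw [← LinearMap.ker_eq_bot]
      exact LinearMap.isUnit_iff_ker_eq_bot g |>.mp hu
    intro h0
    apply hv0
    apply hinj
    rw [h0, map_zero]
  · intro hne
    rw [LinearMap.isUnit_iff_ker_eq_bot]
    -- ker g is invariant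
    have hinv : ∀ v ∈ LinearMap.ker g, N v ∈ LinearMap.ker g := by
      intro v hv
      rw [LinearMap.mem_ker] at hv ⊢
      have : g (N v) = N (g v) := by
        have := congrArg (fun f : Module.End F V => f v) hg
        simpa using this
      rw [this, hv, map_zero]
    have hk := eq_ker_pow_finrank_of_nilpotent N h.isNilpotent h.ker_le_one _ hinv
    by_contra hbot
    have hd : 1 ≤ finrank F (LinearMap.ker g) := by
      by_contra hlt
      have : finrank F (LinearMap.ker g) = 0 := by omega
      exact hbot (Submodule.finrank_eq_zero.mp this)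
    -- z = N^(n-1) v0 ∈ ker N ≤ ker g
    have hz : (N ^ (finrank F V - 1)) v0 ∈ LinearMap.ker g := by
      rw [hk]
      apply ker_pow_mono N hd
      rw [pow_one, LinearMap.mem_ker, ← Module.End.mul_apply, ← pow_succ',
        Nat.sub_add_cancel hpos, h.pow_eq_zero]
      simp
    apply hne
    rw [hcomm]
    exact LinearMap.mem_ker.mp hz

/-- `ker N^(n-1)` has dimension exactly `n - 1`. -/
theorem finrank_ker_pow_pred (h : IsRegNilp N) (hpos : 0 < finrank F V) :
    finrank F (LinearMap.ker (N ^ (finrank F V - 1))) = finrank F V - 1 := by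
  apply le_antisymm (h.finrank_ker_pow_le' _)
  have h1 := LinearMap.finrank_range_add_finrank_ker (N ^ (finrank F V - 1))
  have h2 : finrank F (LinearMap.range (N ^ (finrank F V - 1))) ≤ finrank F (LinearMap.ker N) := by
    apply Submodule.finrank_mono
    rintro _ ⟨x, rfl⟩
    rw [LinearMap.mem_ker, ← Module.End.mul_apply, ← pow_succ', Nat.sub_add_cancel hpos, h.pow_eq_zero]
    simp
  have := h.ker_le_one
  omega

end IsRegNilp

end Cfsg.Agent.Helper43

namespace Cfsg.Agent.Helper43

open Module

namespace IsRegNilp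

variable {F : Type*} [Field F] [Fintype F] {V : Type*} [AddCommGroup V] [Module F V]
  [FiniteDimensional F V] [Fintype V] {N : Module.End F V}

open Classical in
/-- The number of vectors outside `ker N^(n-1)`. -/
theorem card_cyclic_vectors (h : IsRegNilp N) (hpos : 0 < finrank F V) :
    Nat.card {w : V // (N ^ (finrank F V - 1)) w ≠ 0}
      = (Fintype.card F - 1) * Fintype.card F ^ (finrank F V - 1) := by
  have hK : Fintype.card (LinearMap.ker (N ^ (finrank F V - 1))) = Fintype.card F ^ (finrank F V - 1) := by
    rw [Module.card_eq_pow_finrank (K := F), h.finrank_ker_pow_pred hpos]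
  have hV : Fintype.card V = Fintype.card F ^ finrank F V := Module.card_eq_pow_finrank (K := F)
  rw [Nat.card_eq_fintype_card]
  have e : {w : V // (N ^ (finrank F V - 1)) w ≠ 0}
      ≃ {w : V // ¬ w ∈ LinearMap.ker (N ^ (finrank F V - 1))} :=
    Equiv.subtypeEquivRight (fun w => by rw [LinearMap.mem_ker])
  rw [Fintype.card_congr e, Fintype.card_subtype_compl, hV]
  have : Fintype.card {x // x ∈ LinearMap.ker (N ^ (finrank F V - 1))}
      = Fintype.card (LinearMap.ker (N ^ (finrank F V - 1))) := by
    apply Fintype.card_congr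
    exact Equiv.refl _
  rw [this, hK]
  obtain ⟨d, hd⟩ : ∃ d, finrank F V = d + 1 := ⟨finrank F V - 1, by omega⟩
  rw [hd, Nat.add_sub_cancel, pow_succ, Nat.sub_mul, one_mul, mul_comm]

/-- The units commuting with a regular nilpotent endomorphism number `(q - 1) q^(n-1)`. -/
theorem card_units_commuting (h : IsRegNilp N) (hpos : 0 < finrank F V) :
    Nat.card {G : (Module.End F V)ˣ // (G : Module.End F V) * N = N * G}
      = (Fintype.card F - 1) * Fintype.card F ^ (finrank F V - 1) := by
  obtain ⟨v0, hv0⟩ := h.exists_cyclic hpos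
  rw [← h.card_cyclic_vectors hpos]
  apply Nat.card_congr
  refine Equiv.ofBijective (fun G => ⟨(G.1 : Module.End F V) v0,
    (h.isUnit_iff_of_commute hpos hv0 G.2).mp G.1.isUnit⟩) ⟨?_, ?_⟩
  · rintro ⟨G, hG⟩ ⟨G', hG'⟩ heq
    have h1 : (G : Module.End F V) v0 = (G' : Module.End F V) v0 := congrArg Subtype.val heq
    have h2 : ((G : Module.End F V) - (G' : Module.End F V)) * N
        = N * ((G : Module.End F V) - (G' : Module.End F V)) := by
      rw [sub_mul, mul_sub, hG, hG']
    have h3 := h.eq_zero_of_commute_of_apply_cyclic hv0 h2 (by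
      rw [LinearMap.sub_apply, h1, sub_self])
    apply Subtype.ext
    apply Units.ext
    exact sub_eq_zero.mp h3
  · rintro ⟨w, hw⟩
    obtain ⟨g, hg, hgw⟩ := h.exists_commute_apply_cyclic hv0 w
    have hu : IsUnit g := (h.isUnit_iff_of_commute hpos hv0 hg).mpr (by rw [hgw]; exact hw)
    refine ⟨⟨hu.unit, by simpa using hg⟩, ?_⟩
    apply Subtype.ext
    simpa using hgw

end IsRegNilp

end Cfsg.Agent.Helper43
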