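import Mathlib
import Cfsg.Agent.Helper43.RegUnipCent

set_option autoImplicit false

namespace Cfsg.Agent.Helper43

open Module

section Shift

variable (F : Type*) [Field F] (m : ℕ)

/-- The shift endomorphism of `Fin (m+1) → F`: `(x₀, …, x_m) ↦ (0, x₀, …, x_{m-1})`. -/
def shiftEnd : Module.End F (Fin (m + 1) → F) where
  toFun x := Fin.cons (0 : F) (fun j : Fin m => x j.castSucc)
  map_add' x y := by
    funext i
    refine Fin.cases ?_ (fun j => ?_) i <;> simp
  map_smul' c x := by
    funext i
    refine Fin.cases ?_ (fun j => ?_) i <;> simp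

theorem shiftEnd_apply_zero (x : Fin (m + 1) → F) : shiftEnd F m x 0 = 0 := by
  simp [shiftEnd]

theorem shiftEnd_apply_succ (x : Fin (m + 1) → F) (j : Fin m) :
    shiftEnd F m x j.succ = x j.castSucc := by
  simp [shiftEnd]

theorem shiftEnd_pow_apply_of_lt (k : ℕ) :
    ∀ (x : Fin (m + 1) → F) (i : Fin (m + 1)), (i : ℕ) < k → ((shiftEnd F m) ^ k) x i = 0 := by
  induction k with
  | zero => intro x i hi; omega
  | succ k ih =>
    intro x i hi
    rw [pow_succ', Module.End.mul_apply]
    refine Fin.cases ?_ (fun j hj => ?_) i hi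
    · intro _; exact shiftEnd_apply_zero F m _
    · rw [shiftEnd_apply_succ]
      apply ih
      simp only [Fin.val_succ] at hj
      simp only [Fin.val_castSucc]
      omega

theorem isRegNilp_shiftEnd : IsRegNilp (shiftEnd F m) where
  pow_eq_zero := by
    rw [Module.finrank_fin_fun]
    apply LinearMap.ext
    intro x
    funext i
    exact shiftEnd_pow_apply_of_lt F m (m + 1) x i i.2
  ker_le_one := by
    let φ : LinearMap.ker (shiftEnd F m) →ₗ[F] F :=
      (LinearMap.proj (Fin.last m)).comp (LinearMap.ker (shiftEnd F m)).subtype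
    have hφ : Function.Injective φ := by
      rw [← LinearMap.ker_eq_bot, LinearMap.ker_eq_bot']
      rintro ⟨x, hx⟩ h0
      rw [LinearMap.mem_ker] at hx
      apply Subtype.ext
      funext i
      refine Fin.lastCases ?_ (fun j => ?_) i
      · exact h0
      · have := congrFun hx j.succ
        rw [shiftEnd_apply_succ] at this
        exact this
    have := LinearMap.finrank_le_finrank_of_injective hφ
    rwa [Module.finrank_self] at this

end Shift

section Det

variable {F : Type*} [Field F] {V : Type*} [AddCommGroup V] [Module F V] [FiniteDimensional F V]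

/-- `det (a + M) = a ^ n` for nilpotent `M`. -/
theorem det_algebraMap_add_of_isNilpotent {M : Module.End F V} (hM : IsNilpotent M) (a : F) :
    LinearMap.det (algebraMap F (Module.End F V) a + M) = a ^ finrank F V := by
  have h1 : IsNilpotent (-M) := hM.neg
  have h2 := LinearMap.eval_charpoly (-M) a
  rw [h1.charpoly_eq_X_pow_finrank, Polynomial.eval_pow, Polynomial.eval_X, sub_neg_eq_add] at h2
  exact h2.symm

variable {N : Module.End F V}

/-- Range of a regular nilpotent is the kernel of its `(n-1)`-st power. -/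
theorem IsRegNilp.range_eq_ker_pow_pred (h : IsRegNilp N) (hpos : 0 < finrank F V) :
    LinearMap.range N = LinearMap.ker (N ^ (finrank F V - 1)) := by
  apply Submodule.eq_of_le_of_finrank_le
  · rintro _ ⟨x, rfl⟩
    rw [LinearMap.mem_ker, ← Module.End.mul_apply, ← pow_succ, Nat.sub_add_cancel hpos,
      h.pow_eq_zero]
    rfl
  · rw [h.finrank_ker_pow_pred hpos]
    have h1 := LinearMap.finrank_range_add_finrank_ker N
    have := h.ker_le_one
    omega

/-- An endomorphism commuting with a regular nilpotent `N` is a scalar plus a nilpotent. -/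
theorem IsRegNilp.exists_scalar_add_nilpotent (h : IsRegNilp N) (hpos : 0 < finrank F V)
    {g : Module.End F V} (hg : g * N = N * g) :
    ∃ a : F, IsNilpotent (g - algebraMap F (Module.End F V) a) := by
  obtain ⟨v0, hv0⟩ := h.exists_cyclic hpos
  set w0 := (N ^ (finrank F V - 1)) v0 with hw0
  have hNw0 : N w0 = 0 := by
    rw [hw0, ← Module.End.mul_apply, ← pow_succ', Nat.sub_add_cancel hpos, h.pow_eq_zero]
    rfl
  have hgN : ∀ x, g (N x) = N (g x) := by
    intro x
    have := congrArg (fun f : Module.End F V => f x) hg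
    simpa using this
  -- g w0 ∈ ker N which is spanned by w0
  have hgw0 : g w0 ∈ LinearMap.ker N := by
    rw [LinearMap.mem_ker, ← hgN, hNw0, map_zero]
  have hw0mem : w0 ∈ LinearMap.ker N := LinearMap.mem_ker.mpr hNw0
  obtain ⟨a, ha⟩ : ∃ a : F, a • w0 = g w0 := by
    have h1 : finrank F (LinearMap.ker N) ≤ 1 := h.ker_le_one
    rw [finrank_le_one_iff] at h1
    obtain ⟨z, hz⟩ := h1
    obtain ⟨c, hc⟩ := hz ⟨w0, hw0mem⟩
    obtain ⟨d, hd⟩ := hz ⟨g w0, hgw0⟩
    have hc0 : c ≠ 0 := by
      rintro rfl
      rw [zero_smul] at hc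
      exact hv0 (congrArg Subtype.val hc).symm
    refine ⟨d * c⁻¹, ?_⟩
    have hc' : (w0 : V) = c • (z : V) := (congrArg Subtype.val hc).symm
    have hd' : g w0 = d • (z : V) := (congrArg Subtype.val hd).symm
    rw [hd', hc', smul_smul, mul_assoc, inv_mul_cancel₀ hc0, mul_one]
  refine ⟨a, ?_⟩
  set M := g - algebraMap F (Module.End F V) a with hM
  have hMN : M * N = N * M := by
    rw [hM, sub_mul, mul_sub, hg, Algebra.commutes]
  have hMw0 : M w0 = 0 := by
    rw [hM, LinearMap.sub_apply, Module.algebraMap_end_apply, ha, sub_self]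
  -- M v0 ∈ ker N^(n-1) = range N
  have hMv0 : M v0 ∈ LinearMap.range N := by
    rw [h.range_eq_ker_pow_pred hpos, LinearMap.mem_ker]
    have := congrArg (fun f : Module.End F V => f v0) (IsRegNilp.commute_pow hMN (finrank F V - 1))
    simp only [Module.End.mul_apply] at this
    rw [← this, ← hw0, hMw0]
  obtain ⟨y, hy⟩ := hMv0
  obtain ⟨k, hk, hkv⟩ := h.exists_commute_apply_cyclic hv0 y
  have hMeq : M = N * k := by
    have h2 : (M - N * k) * N = N * (M - N * k) := by
      rw [sub_mul, mul_sub, hMN, mul_assoc, hk]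
    have h3 := h.eq_zero_of_commute_of_apply_cyclic hv0 h2 (by
      rw [LinearMap.sub_apply, Module.End.mul_apply, hkv, hy, sub_self])
    exact sub_eq_zero.mp h3
  refine ⟨finrank F V, ?_⟩
  have hc : Commute N k := hk.symm
  rw [hMeq, hc.mul_pow, h.pow_eq_zero, zero_mul]

/-- Determinant of an endomorphism commuting with a regular nilpotent is an `n`-th power. -/
theorem IsRegNilp.exists_det_eq_pow (h : IsRegNilp N) (hpos : 0 < finrank F V)
    {g : Module.End F V} (hg : g * N = N * g) :
    ∃ a : F, LinearMap.det g = a ^ finrank F V := by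
  obtain ⟨a, ha⟩ := h.exists_scalar_add_nilpotent hpos hg
  refine ⟨a, ?_⟩
  have := det_algebraMap_add_of_isNilpotent ha a
  rwa [add_sub_cancel] at this

end Det

end Cfsg.Agent.Helper43
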