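import Mathlib
import Cfsg.Agent.Helper43.JordanMat
import Cfsg.Agent.Helper43.RegNilpDet

set_option autoImplicit false

namespace Cfsg.Agent.Helper43.JT

open Module Polynomial
open Cfsg.Agent.Helper43 Cfsg.Agent.Helper43.SS

universe u v w

variable {F : Type u} [Field F]

section basic

variable {V : Type v} [AddCommGroup V] [Module F V]
  {V' : Type w} [AddCommGroup V'] [Module F V']

/-- The dimension of the kernel of the `l`-th power. -/
noncomputable def kdim (N : Module.End F V) (l : ℕ) : ℕ := finrank F (LinearMap.ker (N ^ l))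

theorem pow_intertwine {N : Module.End F V} {N' : Module.End F V'} (e : V →ₗ[F] V')
    (he : ∀ x, e (N x) = N' (e x)) (l : ℕ) (x : V) : e ((N ^ l) x) = (N' ^ l) (e x) := by
  induction l generalizing x with
  | zero => simp
  | succ l ih => rw [pow_succ, pow_succ, Module.End.mul_apply, Module.End.mul_apply, ih, he]

theorem kdim_conj {N : Module.End F V} {N' : Module.End F V'} (e : V ≃ₗ[F] V')
    (he : ∀ x, e (N x) = N' (e x)) (l : ℕ) : kdim N l = kdim N' l := by
  unfold kdim
  have h : (LinearMap.ker (N ^ l)).map e.toLinearMap = LinearMap.ker (N' ^ l) := by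
    ext y
    rw [Submodule.mem_map, LinearMap.mem_ker]
    constructor
    · rintro ⟨x, hx, rfl⟩
      rw [LinearMap.mem_ker] at hx
      have h1 := pow_intertwine e.toLinearMap he l x
      rw [hx, map_zero] at h1
      exact h1.symm
    · intro hy
      refine ⟨e.symm y, ?_, e.apply_symm_apply y⟩
      rw [LinearMap.mem_ker]
      apply e.injective
      have h1 := pow_intertwine e.toLinearMap he l (e.symm y)
      rw [map_zero]
      refine h1.trans ?_
      show (N' ^ l) (e (e.symm y)) = 0
      rw [e.apply_symm_apply, hy]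
  rw [← h]
  exact (LinearEquiv.finrank_map_eq e _).symm

theorem kdim_eq_dk (N : Module.End F V) (l : ℕ) : kdim N l = dk F (AEval' N) l := by
  unfold kdim dk
  have h : (LinearMap.ker (N ^ l)).map (AEval'.of N).toLinearMap
      = LinearMap.ker ((xEnd F (AEval' N)) ^ l) := by
    ext y
    rw [Submodule.mem_map, mem_ker_xEnd_pow]
    constructor
    · rintro ⟨x, hx, rfl⟩
      rw [LinearMap.mem_ker] at hx
      show (X : F[X]) ^ l • AEval'.of N x = 0
      rw [AEval'.X_pow_smul_of]
      show (AEval'.of N) ((N ^ l) x) = 0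
      rw [hx, map_zero]
    · intro hy
      obtain ⟨x, rfl⟩ := (AEval'.of N).surjective y
      refine ⟨x, ?_, rfl⟩
      rw [AEval'.X_pow_smul_of] at hy
      rw [LinearMap.mem_ker]
      exact (AEval'.of N).injective (hy.trans (map_zero _).symm)
  rw [← h]
  exact (LinearEquiv.finrank_map_eq (AEval'.of N) _).symm

/-- Nilpotent endomorphisms with the same kernel dimensions are conjugate. -/
theorem exists_equiv_of_kdim_eq [FiniteDimensional F V] [FiniteDimensional F V']
    (N : Module.End F V) (N' : Module.End F V') (hN : IsNilpotent N) (hN' : IsNilpotent N')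
    (h : ∀ l, kdim N l = kdim N' l) : ∃ e : V ≃ₗ[F] V', ∀ x, e (N x) = N' (e x) := by
  obtain ⟨k, hk⟩ := hN
  obtain ⟨k', hk'⟩ := hN'
  have h1 : IsNilp F (AEval' N) := ⟨k, (kills_AEval_iff N k).mpr hk⟩
  have h2 : IsNilp F (AEval' N') := ⟨k', (kills_AEval_iff N' k').mpr hk'⟩
  obtain ⟨E⟩ := nonempty_equiv_of_dk_eq (finrank F (AEval' N)) (AEval' N) (AEval' N') rfl h1 h2
    (fun l => by rw [← kdim_eq_dk, ← kdim_eq_dk, h])
  refine ⟨(AEval'.of N).trans ((E.restrictScalars F).trans (AEval'.of N').symm), ?_⟩
  intro v
  show (AEval'.of N').symm (E (AEval'.of N (N v)))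
    = N' ((AEval'.of N').symm (E (AEval'.of N v)))
  rw [← AEval'.X_smul_of, map_smul, AEval'.of_symm_X_smul]

end basic

section prod

variable {V : Type v} [AddCommGroup V] [Module F V]
  {V' : Type w} [AddCommGroup V'] [Module F V']

theorem prodMap_pow (N : Module.End F V) (N' : Module.End F V') (l : ℕ) :
    (N.prodMap N') ^ l = (N ^ l).prodMap (N' ^ l) := by
  induction l with
  | zero =>
    apply LinearMap.ext
    rintro ⟨a, b⟩
    simp
  | succ l ih =>
    rw [pow_succ, ih, pow_succ, pow_succ]
    apply LinearMap.ext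
    rintro ⟨a, b⟩
    simp [Module.End.mul_apply]

theorem kdim_prodMap [FiniteDimensional F V] [FiniteDimensional F V'] (N : Module.End F V)
    (N' : Module.End F V') (l : ℕ) : kdim (N.prodMap N') l = kdim N l + kdim N' l := by
  unfold kdim
  rw [prodMap_pow, ← Module.finrank_prod]
  let e : LinearMap.ker ((N ^ l).prodMap (N' ^ l))
      ≃ₗ[F] (LinearMap.ker (N ^ l) × LinearMap.ker (N' ^ l)) :=
    { toFun := fun z => (⟨z.1.1, by
          have := LinearMap.mem_ker.mp z.2
          rw [LinearMap.mem_ker]
          exact congrArg Prod.fst this⟩, ⟨z.1.2, by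
          have := LinearMap.mem_ker.mp z.2
          rw [LinearMap.mem_ker]
          exact congrArg Prod.snd this⟩)
      map_add' := fun _ _ => rfl
      map_smul' := fun _ _ => rfl
      invFun := fun w => ⟨(w.1.1, w.2.1), by
          rw [LinearMap.mem_ker]
          have h1 := LinearMap.mem_ker.mp w.1.2
          have h2 := LinearMap.mem_ker.mp w.2.2
          exact Prod.ext h1 h2⟩
      left_inv := fun _ => rfl
      right_inv := fun _ => rfl }
  exact e.finrank_eq

end prod

section pi

variable {ι : Type*} [Fintype ι] {W : ι → Type v} [∀ k, AddCommGroup (W k)]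
  [∀ k, Module F (W k)]

/-- The product of a family of endomorphisms. -/
def piEnd (N : ∀ k, Module.End F (W k)) : Module.End F (∀ k, W k) :=
  LinearMap.pi fun k => (N k).comp (LinearMap.proj k)

theorem piEnd_apply (N : ∀ k, Module.End F (W k)) (x : ∀ k, W k) (k : ι) :
    piEnd N x k = N k (x k) := rfl

theorem piEnd_pow (N : ∀ k, Module.End F (W k)) (l : ℕ) :
    (piEnd N) ^ l = piEnd (fun k => N k ^ l) := by
  induction l with
  | zero =>
    apply LinearMap.ext
    intro x
    funext k
    simp [piEnd_apply]
  | succ l ih =>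
    rw [pow_succ, ih]
    apply LinearMap.ext
    intro x
    funext k
    rw [Module.End.mul_apply, piEnd_apply, piEnd_apply, piEnd_apply, pow_succ,
      Module.End.mul_apply]

theorem kdim_piEnd [∀ k, FiniteDimensional F (W k)] (N : ∀ k, Module.End F (W k)) (l : ℕ) :
    kdim (piEnd N) l = ∑ k, kdim (N k) l := by
  unfold kdim
  rw [piEnd_pow, ← Module.finrank_pi_fintype]
  let e : LinearMap.ker (piEnd (fun k => N k ^ l))
      ≃ₗ[F] (∀ k, LinearMap.ker (N k ^ l)) :=
    { toFun := fun z k => ⟨z.1 k, by
          have := LinearMap.mem_ker.mp z.2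
          rw [LinearMap.mem_ker]
          exact congrFun this k⟩
      map_add' := fun _ _ => rfl
      map_smul' := fun _ _ => rfl
      invFun := fun w => ⟨fun k => (w k).1, by
          rw [LinearMap.mem_ker]
          funext k
          exact LinearMap.mem_ker.mp (w k).2⟩
      left_inv := fun _ => rfl
      right_inv := fun _ => rfl }
  exact e.finrank_eq

end pi

section reg

variable {V : Type v} [AddCommGroup V] [Module F V] [FiniteDimensional F V]

theorem kdim_succ_le (N : Module.End F V) (l : ℕ) :
    kdim N (l + 1) ≤ kdim N l + kdim N 1 := by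
  unfold kdim
  have h := finrank_ker_comp_le (N ^ l) N
  have e : N ^ (l + 1) = (N ^ l) ∘ₗ N := by
    rw [pow_succ]; rfl
  rw [e, pow_one]
  exact h

theorem kdim_of_pow_eq_zero {N : Module.End F V} {l : ℕ} (h : N ^ l = 0) :
    kdim N l = finrank F V := by
  unfold kdim
  rw [h, LinearMap.ker_zero, finrank_top]

theorem kdim_mono (N : Module.End F V) {l l' : ℕ} (h : l ≤ l') : kdim N l ≤ kdim N l' := by
  unfold kdim
  apply Submodule.finrank_mono
  intro x hx
  rw [LinearMap.mem_ker] at hx ⊢
  obtain ⟨c, rfl⟩ := Nat.exists_eq_add_of_le h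
  rw [add_comm, pow_add, Module.End.mul_apply, hx, map_zero]

theorem kdim_le_finrank (N : Module.End F V) (l : ℕ) : kdim N l ≤ finrank F V :=
  Submodule.finrank_le _

/-- Kernel dimensions of a regular nilpotent endomorphism. -/
theorem kdim_of_isRegNilp {N : Module.End F V} (h : IsRegNilp N) (l : ℕ) :
    kdim N l = min l (finrank F V) := by
  have hup : ∀ j, kdim N j ≤ j := fun j => h.finrank_ker_pow_le' j
  have h1 : kdim N 1 ≤ 1 := hup 1
  -- lower bound by descending induction
  have hlow : ∀ c, c ≤ finrank F V → finrank F V - c ≤ kdim N (finrank F V - c) := by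
    intro c
    induction c with
    | zero =>
      intro _
      rw [Nat.sub_zero, kdim_of_pow_eq_zero h.pow_eq_zero]
    | succ c ih =>
      intro hc
      have h2 := ih (by omega)
      have h3 := kdim_succ_le N (finrank F V - (c + 1))
      have h4 : finrank F V - (c + 1) + 1 = finrank F V - c := by omega
      rw [h4] at h3
      omega
  rcases le_total l (finrank F V) with hl | hl
  · rw [min_eq_left hl]
    have := hlow (finrank F V - l) (by omega)
    have h5 : finrank F V - (finrank F V - l) = l := by omega
    rw [h5] at this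
    exact le_antisymm (hup l) this
  · rw [min_eq_right hl]
    apply le_antisymm (kdim_le_finrank N l)
    calc finrank F V = kdim N (finrank F V) := (kdim_of_pow_eq_zero h.pow_eq_zero).symm
      _ ≤ kdim N l := kdim_mono N hl

end reg

end Cfsg.Agent.Helper43.JT
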