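import Mathlib
import Cfsg.Agent.Helper43.JTKer
import Cfsg.Agent.Helper36.AltForm

set_option autoImplicit false

namespace Cfsg.Agent.Helper43.JT

open Module
open Cfsg.Agent.Helper43

universe u v w

variable {F : Type u} [Field F]

section parity

variable {V : Type v} [AddCommGroup V] [Module F V] [FiniteDimensional F V]

/-- If `(x, y) ↦ B x (G y)` is alternating and `B` is nondegenerate, `G` has even rank. -/
theorem even_finrank_range_of_alt (B : LinearMap.BilinForm F V) (hB : B.Nondegenerate)
    (G : Module.End F V) (hG : ∀ x, B x (G x) = 0) : Even (finrank F (LinearMap.range G)) := by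
  set γ : LinearMap.BilinForm F V := B.compRight G with hγ
  have hγa : ∀ x y, γ x y = B x (G y) := fun x y => rfl
  have hγalt : γ.IsAlt := fun x => hG x
  obtain ⟨C, hC⟩ := Submodule.exists_isCompl (LinearMap.ker G)
  have hnd : (γ.restrict C).Nondegenerate := by
    have halt' : (γ.restrict C).IsAlt := fun x => hγalt x
    refine (LinearMap.IsRefl.nondegenerate_iff_separatingLeft halt'.isRefl).mpr ?_
    intro c hc
    -- `c` is in the kernel of `G`
    have h1 : ∀ v : V, γ c v = 0 := by
      intro v
      obtain ⟨k, c', rfl⟩ : ∃ (k : LinearMap.ker G) (c' : C), (k : V) + (c' : V) = v := by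
        have := Submodule.mem_sup.mp (show v ∈ LinearMap.ker G ⊔ C by
          rw [hC.sup_eq_top]; trivial)
        obtain ⟨k, hk, c', hc', rfl⟩ := this
        exact ⟨⟨k, hk⟩, ⟨c', hc'⟩, rfl⟩
      rw [map_add, hγa, LinearMap.mem_ker.mp k.2, map_zero, zero_add]
      exact hc c'
    have h2 : ∀ v : V, B v (G c) = 0 := by
      intro v
      have := h1 v
      rw [← hγa, ← neg_eq_zero, hγalt.neg_eq]
      exact this
    have h3 : G c = 0 := hB.2 (G c) h2
    have h4 : (c : V) ∈ LinearMap.ker G ⊓ C := ⟨LinearMap.mem_ker.mpr h3, c.2⟩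
    rw [hC.inf_eq_bot] at h4
    exact Subtype.ext ((Submodule.mem_bot F).mp h4)
  have heven := Cfsg.Agent.Helper36.even_finrank_of_isAlt_nondegenerate (finrank F C)
    (γ.restrict C) (fun x => hγalt x) hnd rfl
  have h5 := Submodule.finrank_add_eq_of_isCompl hC
  have h6 := LinearMap.finrank_range_add_finrank_ker G
  have h7 : finrank F (LinearMap.range G) = finrank F C := by omega
  rw [h7]
  exact heven

/-- If `1 + N` preserves a nondegenerate alternating form, the even powers of `N` have even
rank. -/
theorem even_finrank_range_pow_of_isom (B : LinearMap.BilinForm F V) (halt : B.IsAlt)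
    (hB : B.Nondegenerate) (N : Module.End F V)
    (hiso : ∀ x y, B (x + N x) (y + N y) = B x y) (k : ℕ) :
    Even (finrank F (LinearMap.range (N ^ (2 * k)))) := by
  set u : Module.End F V := 1 + N with hu
  have hux : ∀ x, u x = x + N x := fun x => rfl
  have huiso : ∀ x y, B (u x) (u y) = B x y := fun x y => hiso x y
  have hinj : Function.Injective u := by
    rw [← LinearMap.ker_eq_bot, LinearMap.ker_eq_bot']
    intro x hx
    apply hB.1 x
    intro y
    rw [← huiso, hx, map_zero, LinearMap.zero_apply]
  set ue : V ≃ₗ[F] V := LinearEquiv.ofInjectiveEndo u hinj with hue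
  set v : Module.End F V := ue.symm.toLinearMap with hv
  have huv : ∀ x, u (v x) = x := fun x => ue.apply_symm_apply x
  have hvu : ∀ x, v (u x) = x := fun x => ue.symm_apply_apply x
  have hNx : ∀ x, N x = u x - x := fun x => by rw [hux]; abel
  set T : Module.End F V := N * N * v with hT
  have hTx : ∀ x, T x = u x + v x - (x + x) := by
    intro x
    show N (N (v x)) = _
    rw [hNx (v x), huv, map_sub, hNx x, hNx (v x), huv]
    abel
  have hadj' : ∀ x y, B (u x) y = B x (v y) := by
    intro x y
    conv_lhs => rw [← huv y]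
    exact huiso x (v y)
  have hadj : ∀ x y, B (v x) y = B x (u y) := by
    intro x y
    conv_rhs => rw [← huv x]
    exact (huiso (v x) y).symm
  have hTself : ∀ x y, B (T x) y = B x (T y) := by
    intro x y
    rw [hTx, hTx]
    simp only [map_sub, map_add, LinearMap.sub_apply, LinearMap.add_apply]
    rw [hadj', hadj]
    abel
  have hT1 : ∀ x, B x (T x) = 0 := by
    intro x
    rw [hTx]
    simp only [map_sub, map_add]
    rw [← hadj' x x, halt x, add_zero, sub_zero, ← halt.neg_eq x (u x)]
    abel
  have hTk : ∀ k x, B x ((T ^ k) x) = 0 := by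
    intro k
    induction k using Nat.strong_induction_on with
    | _ k ih =>
      intro x
      match k, ih with
      | 0, _ => rw [pow_zero, Module.End.one_apply]; exact halt x
      | 1, _ => rw [pow_one]; exact hT1 x
      | (k + 2), ih =>
        have h1 : (T ^ (k + 2)) x = T ((T ^ k) (T x)) := by
          rw [pow_succ, pow_succ', Module.End.mul_apply, Module.End.mul_apply]
        rw [h1, ← hTself]
        exact ih k (by omega) (T x)
  have hcomm : Commute (N * N) v := by
    have h1 : Commute N v := by
      apply LinearMap.ext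
      intro x
      show N (v x) = v (N x)
      rw [hNx (v x), huv, hNx x, map_sub, hvu]
    exact h1.mul_left h1
  have hTpow : T ^ k = N ^ (2 * k) * v ^ k := by
    rw [hT, hcomm.mul_pow, ← pow_two, ← pow_mul]
  have hvk : ∀ (j : ℕ) (y : V), (v ^ j) ((u ^ j) y) = y := by
    intro j
    induction j with
    | zero => intro y; simp
    | succ j ih =>
      intro y
      rw [pow_succ, pow_succ', Module.End.mul_apply, Module.End.mul_apply, hvu, ih]
  have hrange : LinearMap.range (N ^ (2 * k)) = LinearMap.range (T ^ k) := by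
    apply le_antisymm
    · rintro _ ⟨y, rfl⟩
      refine ⟨(u ^ k) y, ?_⟩
      rw [hTpow, Module.End.mul_apply, hvk]
    · rintro _ ⟨y, rfl⟩
      refine ⟨(v ^ k) y, ?_⟩
      rw [hTpow, Module.End.mul_apply]
  rw [hrange]
  exact even_finrank_range_of_alt B hB (T ^ k) (hTk k)

end parity

section spreal

variable {V : Type v} [AddCommGroup V] [Module F V]
  {V' : Type w} [AddCommGroup V'] [Module F V']

/-- `1 + N` preserves some nondegenerate alternating form. -/
def SpReal (N : Module.End F V) : Prop :=
  ∃ B : LinearMap.BilinForm F V, B.IsAlt ∧ B.Nondegenerate ∧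
    ∀ x y, B (x + N x) (y + N y) = B x y

theorem SpReal.conj {N : Module.End F V} {N' : Module.End F V'} (e : V ≃ₗ[F] V')
    (he : ∀ x, e (N x) = N' (e x)) (h : SpReal N) : SpReal N' := by
  obtain ⟨B, halt, hnd, hiso⟩ := h
  set B' : LinearMap.BilinForm F V' :=
    LinearMap.BilinForm.comp B e.symm.toLinearMap e.symm.toLinearMap with hB'
  have hB'a : ∀ x y, B' x y = B (e.symm x) (e.symm y) := fun x y => rfl
  have halt' : B'.IsAlt := fun x => halt (e.symm x)
  have hsymm : ∀ x, e.symm (N' x) = N (e.symm x) := by
    intro x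
    apply e.injective
    rw [e.apply_symm_apply, he, e.apply_symm_apply]
  refine ⟨B', halt', ?_, ?_⟩
  · refine (LinearMap.IsRefl.nondegenerate_iff_separatingLeft halt'.isRefl).mpr ?_
    intro x hx
    have h1 : e.symm x = 0 := by
      apply hnd.1
      intro y
      have := hx (e y)
      rwa [hB'a, e.symm_apply_apply] at this
    exact e.symm.map_eq_zero_iff.mp h1
  · intro x y
    rw [hB'a, hB'a]
    have h1 : e.symm (x + N' x) = e.symm x + N (e.symm x) := by rw [map_add, hsymm]
    have h2 : e.symm (y + N' y) = e.symm y + N (e.symm y) := by rw [map_add, hsymm]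
    rw [h1, h2]
    exact hiso _ _

theorem SpReal.prod {N : Module.End F V} {N' : Module.End F V'} (h : SpReal N)
    (h' : SpReal N') : SpReal (N.prodMap N') := by
  obtain ⟨B, halt, hnd, hiso⟩ := h
  obtain ⟨B', halt', hnd', hiso'⟩ := h'
  set C : LinearMap.BilinForm F (V × V') :=
    LinearMap.BilinForm.comp B (LinearMap.fst F V V') (LinearMap.fst F V V')
      + LinearMap.BilinForm.comp B' (LinearMap.snd F V V') (LinearMap.snd F V V') with hC
  have hCa : ∀ x y : V × V', C x y = B x.1 y.1 + B' x.2 y.2 := fun x y => rfl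
  have haltC : C.IsAlt := by
    intro x
    rw [hCa, halt, halt', add_zero]
  refine ⟨C, haltC, ?_, ?_⟩
  · refine (LinearMap.IsRefl.nondegenerate_iff_separatingLeft haltC.isRefl).mpr ?_
    rintro ⟨x1, x2⟩ hx
    have h1 : x1 = 0 := by
      apply hnd.1
      intro y
      have := hx (y, 0)
      rwa [hCa, map_zero, add_zero] at this
    have h2 : x2 = 0 := by
      apply hnd'.1
      intro y
      have := hx (0, y)
      rwa [hCa, map_zero, zero_add] at this
    rw [h1, h2]
    rfl
  · rintro ⟨x1, x2⟩ ⟨y1, y2⟩
    rw [hCa, hCa]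
    show B (x1 + N x1) (y1 + N y1) + B' (x2 + N' x2) (y2 + N' y2) = _
    rw [hiso, hiso']

theorem SpReal.of_subsingleton [Subsingleton V] (N : Module.End F V) : SpReal N := by
  refine ⟨0, fun x => rfl, ?_, fun x y => rfl⟩
  refine (LinearMap.IsRefl.nondegenerate_iff_separatingLeft (B := (0 : LinearMap.BilinForm F V))
    (fun x y _ => rfl)).mpr ?_
  intro x _
  exact Subsingleton.elim _ _

end spreal

section good

/-- A kernel dimension function is realised by a nilpotent `N` with `1 + N` symplectic. -/
def Good (F : Type u) [Field F] (κ : ℕ → ℕ) : Prop :=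
  ∃ (V : Type u) (_ : AddCommGroup V) (_ : Module F V) (_ : FiniteDimensional F V)
    (N : Module.End F V), IsNilpotent N ∧ (∀ l, kdim N l = κ l) ∧ SpReal N

theorem good_zero : Good F (fun _ => 0) := by
  refine ⟨PUnit, inferInstance, inferInstance, inferInstance, 0, IsNilpotent.zero, ?_,
    SpReal.of_subsingleton _⟩
  intro l
  have h1 := kdim_le_finrank (0 : Module.End F PUnit.{u + 1}) l
  have h2 : finrank F PUnit.{u + 1} = 0 := Module.finrank_zero_of_subsingleton
  show kdim (0 : Module.End F PUnit.{u + 1}) l = 0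
  omega

theorem good_congr {κ κ' : ℕ → ℕ} (h : ∀ l, κ l = κ' l) (hg : Good F κ) : Good F κ' := by
  have : κ = κ' := funext h
  rwa [← this]

theorem good_add {κ κ' : ℕ → ℕ} (h : Good F κ) (h' : Good F κ') :
    Good F (fun l => κ l + κ' l) := by
  obtain ⟨V, _, _, _, N, hN, hk, hs⟩ := h
  obtain ⟨V', _, _, _, N', hN', hk', hs'⟩ := h'
  refine ⟨V × V', inferInstance, inferInstance, inferInstance, N.prodMap N', ?_, ?_,
    hs.prod hs'⟩
  · obtain ⟨a, ha⟩ := hN
    obtain ⟨b, hb⟩ := hN'
    refine ⟨a + b, ?_⟩
    rw [prodMap_pow, pow_add, ha, zero_mul, pow_add, hb, mul_zero]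
    apply LinearMap.ext
    rintro ⟨x, y⟩
    rfl
  · intro l
    rw [kdim_prodMap, hk, hk']

theorem good_nsmul {κ : ℕ → ℕ} (c : ℕ) (h : Good F κ) : Good F (fun l => c * κ l) := by
  induction c with
  | zero =>
    apply good_congr _ good_zero
    intro l
    rw [zero_mul]
  | succ c ih =>
    apply good_congr _ (good_add ih h)
    intro l
    ring

theorem good_sum {ι : Type*} (s : Finset ι) (κ : ι → ℕ → ℕ) (h : ∀ i ∈ s, Good F (κ i)) :
    Good F (fun l => ∑ i ∈ s, κ i l) := by
  classical
  induction s using Finset.induction_on with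
  | empty =>
    apply good_congr _ good_zero
    intro l
    rw [Finset.sum_empty]
  | insert a s ha ih =>
    have h1 := ih (fun i hi => h i (Finset.mem_insert_of_mem hi))
    have h2 := h a (Finset.mem_insert_self a s)
    apply good_congr _ (good_add h2 h1)
    intro l
    rw [Finset.sum_insert ha]

theorem spReal_of_good {V : Type v} [AddCommGroup V] [Module F V] [FiniteDimensional F V]
    {N : Module.End F V} (hN : IsNilpotent N) {κ : ℕ → ℕ} (hk : ∀ l, kdim N l = κ l)
    (hg : Good F κ) : SpReal N := by
  obtain ⟨V', _, _, _, N', hN', hk', hs'⟩ := hg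
  obtain ⟨e, he⟩ := exists_equiv_of_kdim_eq N' N hN' hN (fun l => by rw [hk, hk'])
  exact hs'.conj e he

end good

end Cfsg.Agent.Helper43.JT
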