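import Mathlib
import Cfsg.Prelude.Def_JordanBlocks
import Cfsg.Agent.Helper43.JTKer

set_option autoImplicit false

namespace Cfsg.Agent.Helper43.JT

open Module Matrix
open Cfsg.Agent.Helper43

universe u

variable {F : Type u} [Field F]

theorem jordanBlock_sub_one_apply (k : ℕ) (i j : Fin k) :
    (Cfsg.jordanBlock k F - 1) i j = if (i : ℕ) = (j : ℕ) + 1 then 1 else 0 := by
  simp only [Cfsg.jordanBlock, Matrix.sub_apply, Matrix.of_apply, Matrix.one_apply]
  by_cases h : i = j
  · subst h
    simp
  · have h1 : ¬ (i : ℕ) = (j : ℕ) := fun h' => h (Fin.ext h')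
    rw [if_neg h1, if_neg h, sub_zero]

/-- The nilpotent part of a Jordan block as a linear map is the shift. -/
theorem toLin'_jordanBlock_sub_one (m : ℕ) :
    Matrix.toLin' (Cfsg.jordanBlock (m + 1) F - 1) = shiftEnd F m := by
  apply LinearMap.ext
  intro x
  funext i
  rw [Matrix.toLin'_apply]
  simp only [Matrix.mulVec, dotProduct, jordanBlock_sub_one_apply]
  refine Fin.cases ?_ (fun j => ?_) i
  · rw [shiftEnd_apply_zero]
    apply Finset.sum_eq_zero
    intro j _
    rw [if_neg, zero_mul]
    simp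
  · rw [shiftEnd_apply_succ, Finset.sum_eq_single j.castSucc]
    · rw [if_pos, one_mul]
      simp
    · intro b _ hb
      rw [if_neg, zero_mul]
      intro h'
      apply hb
      apply Fin.ext
      simp only [Fin.val_succ] at h'
      simp only [Fin.val_castSucc]
      omega
    · intro h; exact absurd (Finset.mem_univ _) h

theorem isRegNilp_jordanBlock (k : ℕ) :
    IsRegNilp (Matrix.toLin' (Cfsg.jordanBlock k F - 1)) := by
  cases k with
  | zero =>
    constructor
    · apply LinearMap.ext
      intro x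
      exact Subsingleton.elim _ _
    · have : finrank F (LinearMap.ker (Matrix.toLin' (Cfsg.jordanBlock 0 F - 1)))
          ≤ finrank F (Fin 0 → F) := Submodule.finrank_le _
      rw [Module.finrank_fin_fun] at this
      omega
  | succ m =>
    rw [toLin'_jordanBlock_sub_one]
    exact isRegNilp_shiftEnd F m

/-- The nilpotent part of the Jordan type matrix. -/
noncomputable def Nd {t : ℕ} (d : Fin t → ℕ) (F : Type u) [Field F] :
    Module.End F (((k : Fin t) × Fin (d k)) → F) :=
  Matrix.toLin' (Cfsg.jordanTypeMatrix d F - 1)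

theorem jordanTypeMatrix_sub_one {t : ℕ} (d : Fin t → ℕ) :
    Cfsg.jordanTypeMatrix d F - 1
      = Matrix.blockDiagonal' fun k => (Cfsg.jordanBlock (d k) F - 1) := by
  rw [Cfsg.jordanTypeMatrix, ← Matrix.blockDiagonal'_one, ← Matrix.blockDiagonal'_sub]
  rfl

theorem Nd_apply {t : ℕ} (d : Fin t → ℕ) (x : ((k : Fin t) × Fin (d k)) → F) (k : Fin t)
    (i : Fin (d k)) :
    Nd d F x ⟨k, i⟩ = Matrix.toLin' (Cfsg.jordanBlock (d k) F - 1) (fun j => x ⟨k, j⟩) i := by
  unfold Nd
  rw [jordanTypeMatrix_sub_one, Matrix.toLin'_apply, Matrix.toLin'_apply]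
  simp only [Matrix.mulVec, dotProduct]
  rw [Fintype.sum_sigma, Finset.sum_eq_single k]
  · apply Finset.sum_congr rfl
    intro j _
    rw [Matrix.blockDiagonal'_apply_eq]
  · intro k' _ hk'
    apply Finset.sum_eq_zero
    intro j _
    rw [Matrix.blockDiagonal'_apply_ne _ _ _ (Ne.symm hk'), zero_mul]
  · intro h; exact absurd (Finset.mem_univ _) h

theorem kdim_Nd {t : ℕ} (d : Fin t → ℕ) (l : ℕ) : kdim (Nd d F) l = ∑ k, min l (d k) := by
  have h1 := kdim_conj (N := Nd d F)
    (N' := piEnd (fun k => Matrix.toLin' (Cfsg.jordanBlock (d k) F - 1)))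
    (LinearEquiv.piCurry F (fun (k : Fin t) (_ : Fin (d k)) => F)) (by
      intro x
      funext k i
      rw [piEnd_apply]
      exact Nd_apply d x k i) l
  rw [h1, kdim_piEnd]
  apply Finset.sum_congr rfl
  intro k _
  rw [kdim_of_isRegNilp (isRegNilp_jordanBlock (d k)), Module.finrank_fin_fun]

theorem isNilpotent_Nd {t : ℕ} (d : Fin t → ℕ) : IsNilpotent (Nd d F) := by
  refine ⟨Finset.univ.sup d + 1, ?_⟩
  have h1 : kdim (Nd d F) (Finset.univ.sup d + 1) = finrank F (((k : Fin t) × Fin (d k)) → F) := by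
    rw [kdim_Nd, Module.finrank_fintype_fun_eq_card, Fintype.card_sigma]
    apply Finset.sum_congr rfl
    intro k _
    rw [Fintype.card_fin]
    apply min_eq_right
    have : d k ≤ Finset.univ.sup d := Finset.le_sup (f := d) (Finset.mem_univ k)
    omega
  unfold kdim at h1
  have h2 := Submodule.eq_top_of_finrank_eq h1
  exact LinearMap.ker_eq_top.mp h2

end Cfsg.Agent.Helper43.JT
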