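import Mathlib
import Cfsg.Agent.Helper43.RegNilpDet

set_option autoImplicit false

namespace Cfsg.Agent.Helper43.SpReg

open Module Matrix

section blocks

variable {F : Type*} [Field F] {l : Type*} [Fintype l] [DecidableEq l]

theorem fromBlocks_upper_pow (A B D : Matrix l l F) (j : ℕ) :
    ∃ B' : Matrix l l F, (fromBlocks A B 0 D) ^ j = fromBlocks (A ^ j) B' 0 (D ^ j) := by
  induction j with
  | zero => exact ⟨0, by rw [pow_zero, pow_zero, pow_zero, fromBlocks_one]⟩
  | succ j ih =>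
    obtain ⟨B', hB'⟩ := ih
    refine ⟨A ^ j * B + B' * D, ?_⟩
    rw [pow_succ, hB', fromBlocks_multiply, pow_succ, pow_succ]
    simp

theorem fromBlocks_upper_nilpotent (A B D : Matrix l l F) (j : ℕ) (hA : A ^ j = 0)
    (hD : D ^ j = 0) : (fromBlocks A B 0 D) ^ (2 * j) = 0 := by
  obtain ⟨B', hB'⟩ := fromBlocks_upper_pow A B D j
  rw [two_mul, pow_add, hB', hA, hD, fromBlocks_multiply]
  simp

end blocks

section shift

variable (F : Type*) [Field F] (k : ℕ)

theorem shiftEnd_single (j : Fin k) :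
    shiftEnd F k (Pi.single j.castSucc 1) = Pi.single j.succ 1 := by
  funext i
  refine Fin.cases ?_ (fun i' => ?_) i
  · rw [shiftEnd_apply_zero, Pi.single_apply, if_neg (Fin.succ_ne_zero j).symm]
  · rw [shiftEnd_apply_succ, Pi.single_apply, Pi.single_apply]
    simp only [Fin.castSucc_inj, Fin.succ_inj]

/-- The nilpotent Jordan block as a matrix. -/
noncomputable def Nm : Matrix (Fin (k + 1)) (Fin (k + 1)) F := LinearMap.toMatrix' (shiftEnd F k)

theorem Nm_mulVec (x : Fin (k + 1) → F) : Nm F k *ᵥ x = shiftEnd F k x := by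
  rw [← Matrix.toLin'_apply, Nm, Matrix.toLin'_toMatrix']

theorem Nm_pow : Nm F k ^ (k + 1) = 0 := by
  apply (Matrix.toLin' (R := F)).injective
  rw [Matrix.toLin'_pow, Nm, Matrix.toLin'_toMatrix', map_zero]
  have := (isRegNilp_shiftEnd F k).pow_eq_zero
  rwa [Module.finrank_fin_fun] at this

/-- The unipotent Jordan block and its inverse. -/
theorem exists_inv_one_add_Nm : ∃ Q : Matrix (Fin (k + 1)) (Fin (k + 1)) F,
    Q * (1 + Nm F k) = 1 ∧ (1 + Nm F k) * Q = 1 ∧ (Q - 1) ^ (k + 1) = 0 := by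
  have hu : IsUnit (1 + Nm F k) := IsNilpotent.isUnit_one_add ⟨k + 1, Nm_pow F k⟩
  obtain ⟨P, hP⟩ := hu
  refine ⟨((P⁻¹ : (Matrix (Fin (k + 1)) (Fin (k + 1)) F)ˣ) : Matrix (Fin (k + 1)) (Fin (k + 1)) F), ?_, ?_, ?_⟩
  · rw [← hP]; exact Units.inv_mul P
  · rw [← hP]; exact Units.mul_inv P
  · set Q : Matrix (Fin (k + 1)) (Fin (k + 1)) F :=
      ((P⁻¹ : (Matrix (Fin (k + 1)) (Fin (k + 1)) F)ˣ) : Matrix (Fin (k + 1)) (Fin (k + 1)) F) with hQ
    have h1 : Q * (1 + Nm F k) = 1 := by rw [← hP]; exact Units.inv_mul P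
    have h2 : (1 + Nm F k) * Q = 1 := by rw [← hP]; exact Units.mul_inv P
    have h3 : Q - 1 = -(Q * Nm F k) := by
      have : Q + Q * Nm F k = 1 := by rw [← h1, mul_add, mul_one]
      rw [← this]; abel
    have hcomm : Commute Q (Nm F k) := by
      have hc : Commute (1 + Nm F k) (Nm F k) := (Commute.one_left _).add_left (Commute.refl _)
      have : Commute ((P : Matrix (Fin (k + 1)) (Fin (k + 1)) F)) (Nm F k) := by rw [hP]; exact hc
      exact (this.units_inv_left)
    rw [h3, neg_pow, hcomm.mul_pow, Nm_pow, mul_zero, mul_zero]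

end shift


section exist

variable (F : Type*) [Field F] (k : ℕ)

/-- There is a regular unipotent element in the symplectic group. -/
theorem exists_regUnip_sp :
    ∃ u : Matrix (Fin (k + 1) ⊕ Fin (k + 1)) (Fin (k + 1) ⊕ Fin (k + 1)) F,
      u ∈ symplecticGroup (Fin (k + 1)) F ∧ (u - 1) ^ (2 * (k + 1)) = 0 ∧
        (u - 1).rank = 2 * (k + 1) - 1 := by
  obtain ⟨Q, hQ1, hQ2, hQ3⟩ := exists_inv_one_add_Nm F k
  set P : Matrix (Fin (k + 1)) (Fin (k + 1)) F := 1 + Nm F k with hP
  set S : Matrix (Fin (k + 1)) (Fin (k + 1)) F := Matrix.single 0 0 1 with hS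
  have hSt : Sᵀ = S := by
    ext i j
    simp only [hS, transpose_apply, Matrix.single_apply]
    by_cases h1 : (0 : Fin (k + 1)) = i <;> by_cases h2 : (0 : Fin (k + 1)) = j <;> simp [h1, h2]
  have hmem : fromBlocks P (P * S) 0 Qᵀ ∈ symplecticGroup (Fin (k + 1)) F := by
    rw [SymplecticGroup.fromBlocks_mem_iff]
    refine ⟨by simp, ?_, ?_⟩
    · rw [transpose_transpose, transpose_mul, hSt, mul_assoc, ← transpose_mul, hQ1, transpose_one,
        mul_one, ← mul_assoc, hQ1, one_mul]
    · rw [transpose_zero, zero_mul, sub_zero, ← transpose_mul, hQ1, transpose_one]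
  have hsub : fromBlocks P (P * S) 0 Qᵀ - 1 = fromBlocks (Nm F k) (P * S) 0 (Qᵀ - 1) := by
    rw [← fromBlocks_one, sub_eq_add_neg, fromBlocks_neg, fromBlocks_add]
    congr 1
    · rw [hP]; abel
    · simp
    · simp
    · rw [sub_eq_add_neg]
  set M : Matrix (Fin (k + 1) ⊕ Fin (k + 1)) (Fin (k + 1) ⊕ Fin (k + 1)) F :=
    fromBlocks (Nm F k) (P * S) 0 (Qᵀ - 1) with hM
  have hD : (Qᵀ - 1) ^ (k + 1) = 0 := by
    have : Qᵀ - 1 = (Q - 1)ᵀ := by rw [transpose_sub, transpose_one]
    rw [this, ← transpose_pow, hQ3, transpose_zero]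
  have hnil : M ^ (2 * (k + 1)) = 0 := fromBlocks_upper_nilpotent _ _ _ (k + 1) (Nm_pow F k) hD
  have hker : ∀ v : Fin (k + 1) ⊕ Fin (k + 1) → F, M *ᵥ v = 0 → v (Sum.inl (Fin.last k)) = 0 →
      v = 0 := by
    intro v hv hlast
    set x : Fin (k + 1) → F := v ∘ Sum.inl with hx
    set y : Fin (k + 1) → F := v ∘ Sum.inr with hy
    rw [hM, fromBlocks_mulVec] at hv
    have h1 : Nm F k *ᵥ x + (P * S) *ᵥ y = 0 := by
      funext i
      have := congrFun hv (Sum.inl i)
      simpa using this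
    have h2 : (Qᵀ - 1) *ᵥ y = 0 := by
      funext i
      have := congrFun hv (Sum.inr i)
      simpa using this
    have h3 : Qᵀ *ᵥ y = y := by
      rw [Matrix.sub_mulVec, Matrix.one_mulVec] at h2
      exact sub_eq_zero.mp h2
    have h4 : (Nm F k)ᵀ *ᵥ y = 0 := by
      have h5 : Pᵀ *ᵥ (Qᵀ *ᵥ y) = y := by
        rw [Matrix.mulVec_mulVec, ← transpose_mul, hQ1, transpose_one, Matrix.one_mulVec]
      rw [h3, hP, transpose_add, transpose_one, Matrix.add_mulVec, Matrix.one_mulVec] at h5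
      exact add_left_cancel (a := y) (by rw [h5, add_zero])
    have h5 : ∀ j : Fin k, y j.succ = 0 := by
      intro j
      have h6 : y ⬝ᵥ (Nm F k *ᵥ Pi.single j.castSucc 1) = 0 := by
        rw [Matrix.dotProduct_mulVec, ← Matrix.mulVec_transpose, h4, zero_dotProduct]
      rwa [Nm_mulVec, shiftEnd_single, dotProduct_single_one] at h6
    have h6 : S *ᵥ y = y 0 • Pi.single 0 1 := by rw [hS, Matrix.single_mulVec_eq, one_mul]
    have h7 : y 0 = 0 := by
      have := congrFun h1 0
      rw [Pi.add_apply, Nm_mulVec, shiftEnd_apply_zero, zero_add, ← Matrix.mulVec_mulVec, h6, hP,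
        Matrix.add_mulVec, Matrix.one_mulVec, Pi.add_apply, Nm_mulVec, shiftEnd_apply_zero, add_zero,
        Pi.smul_apply, Pi.single_eq_same, smul_eq_mul, mul_one] at this
      exact this
    have hy0 : y = 0 := by
      funext i
      refine Fin.cases h7 h5 i
    have h8 : Nm F k *ᵥ x = 0 := by
      rw [hy0, Matrix.mulVec_zero, add_zero] at h1
      exact h1
    have hx0 : x = 0 := by
      funext i
      refine Fin.lastCases hlast (fun j => ?_) i
      have := congrFun h8 j.succ
      rwa [Nm_mulVec, shiftEnd_apply_succ] at this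
    funext i
    cases i with
    | inl i => exact congrFun hx0 i
    | inr i => exact congrFun hy0 i
  have hfin : finrank F (Fin (k + 1) ⊕ Fin (k + 1) → F) = 2 * (k + 1) := by
    rw [Module.finrank_fintype_fun_eq_card, Fintype.card_sum, Fintype.card_fin, two_mul]
  have hR : IsRegNilp (Matrix.toLin' M) :=
    { pow_eq_zero := by rw [hfin, ← Matrix.toLin'_pow, hnil, map_zero]
      ker_le_one := by
        let φ : LinearMap.ker (Matrix.toLin' M) →ₗ[F] F :=
          (LinearMap.proj (Sum.inl (Fin.last k))).comp (LinearMap.ker (Matrix.toLin' M)).subtype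
        have hφ : Function.Injective φ := by
          rw [← LinearMap.ker_eq_bot, LinearMap.ker_eq_bot']
          rintro ⟨v, hv⟩ h0
          rw [LinearMap.mem_ker, Matrix.toLin'_apply] at hv
          apply Subtype.ext
          exact hker v hv h0
        have := LinearMap.finrank_le_finrank_of_injective hφ
        rwa [Module.finrank_self] at this }
  have hpos : 0 < finrank F (Fin (k + 1) ⊕ Fin (k + 1) → F) := by rw [hfin]; omega
  refine ⟨_, hmem, ?_, ?_⟩
  · rw [hsub]; exact hnil
  · rw [hsub, Matrix.rank, ← Matrix.toLin'_apply', hR.range_eq_ker_pow_pred hpos,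
      hR.finrank_ker_pow_pred hpos, hfin]

end exist

end Cfsg.Agent.Helper43.SpReg
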