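import Mathlib
import Cfsg.Agent.Helper43.JTMat
import Cfsg.Agent.Helper43.JTForm
import Cfsg.Agent.Helper43.SpRegEx
import Cfsg.Agent.Helper43.SpSSM

set_option autoImplicit false

namespace Cfsg.Agent.Helper43.JT

open Module Matrix
open Cfsg.Agent.Helper43 Cfsg.Agent.Helper43.SpSS Cfsg.Agent.Helper43.SpReg

universe u

variable {F : Type u} [Field F]

theorem spReal_of_mem_symplectic {m : ℕ} {A : Matrix (Fin m ⊕ Fin m) (Fin m ⊕ Fin m) F}
    (hA : A ∈ Matrix.symplecticGroup (Fin m) F) : SpReal (Matrix.toLin' (A - 1)) := by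
  refine ⟨Bn m F, Bn_alt, Bn_nondeg, ?_⟩
  intro x y
  have h1 : ∀ z : Fin m ⊕ Fin m → F, z + Matrix.toLin' (A - 1) z = A *ᵥ z := by
    intro z
    rw [Matrix.toLin'_apply, Matrix.sub_mulVec, Matrix.one_mulVec]
    abel
  rw [h1, h1]
  exact symp_preserves hA x y

section rank

variable {n : Type} [Fintype n] [DecidableEq n]

theorem kdim_toLin'_add_rank (M : Matrix n n F) (l : ℕ) :
    kdim (Matrix.toLin' M) l + (M ^ l).rank = Fintype.card n := by
  unfold kdim
  rw [← Matrix.toLin'_pow]
  have h := LinearMap.finrank_range_add_finrank_ker (Matrix.toLin' (M ^ l))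
  rw [Module.finrank_fintype_fun_eq_card] at h
  rw [Matrix.rank, ← Matrix.toLin'_apply']
  omega

theorem rank_inv_transpose_sub_one_pow (P : Matrix n n F) (hP : IsUnit P.det) (l : ℕ) :
    ((P⁻¹ᵀ - 1) ^ l).rank = ((P - 1) ^ l).rank := by
  have h1 : P⁻¹ᵀ - 1 = (P⁻¹ - 1)ᵀ := by rw [transpose_sub, transpose_one]
  have h2 : P⁻¹ - 1 = (-P⁻¹) * (P - 1) := by
    rw [mul_sub, mul_one, neg_mul, Matrix.nonsing_inv_mul P hP]
    abel
  have hcomm : Commute (-P⁻¹) (P - 1) := by
    have h3 : Commute P⁻¹ P := by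
      show P⁻¹ * P = P * P⁻¹
      rw [Matrix.nonsing_inv_mul P hP, Matrix.mul_nonsing_inv P hP]
    exact ((h3.sub_right (Commute.one_right _))).neg_left
  rw [h1, ← transpose_pow, rank_transpose, h2, hcomm.mul_pow]
  apply rank_mul_eq_right_of_isUnit_det
  rw [det_pow]
  apply IsUnit.pow
  rw [det_neg, Matrix.det_nonsing_inv]
  exact ((isUnit_one.neg).pow _).mul (Ring.inverse_unit hP.unit ▸ hP.unit⁻¹.isUnit)

end rank

section blocks

theorem good_even_block (k : ℕ) : Good F (fun l => min l (2 * (k + 1))) := by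
  obtain ⟨u, hu, hpow, hrank⟩ := exists_regUnip_sp F k
  have hfr : finrank F (Fin (k + 1) ⊕ Fin (k + 1) → F) = 2 * (k + 1) := by
    rw [Module.finrank_fintype_fun_eq_card, Fintype.card_sum, Fintype.card_fin, two_mul]
  have hreg : IsRegNilp (Matrix.toLin' (u - 1)) := by
    constructor
    · rw [hfr, ← Matrix.toLin'_pow, hpow, map_zero]
    · have h1 := kdim_toLin'_add_rank (u - 1) 1
      rw [pow_one, hrank, Fintype.card_sum, Fintype.card_fin] at h1
      unfold kdim at h1
      rw [pow_one] at h1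
      omega
  refine ⟨(Fin (k + 1) ⊕ Fin (k + 1) → F), inferInstance, inferInstance, inferInstance,
    Matrix.toLin' (u - 1), hreg.isNilpotent, ?_, spReal_of_mem_symplectic hu⟩
  intro l
  rw [kdim_of_isRegNilp hreg, hfr]

theorem good_pair (j : ℕ) : Good F (fun l => 2 * min l j) := by
  set P : Matrix (Fin j) (Fin j) F := Cfsg.jordanBlock j F with hP
  have hreg := isRegNilp_jordanBlock (F := F) j
  have hnil : (P - 1) ^ j = 0 := by
    have := hreg.pow_eq_zero
    rw [Module.finrank_fin_fun, ← Matrix.toLin'_pow] at this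
    exact (Matrix.toLin' (R := F)).injective (this.trans (map_zero _).symm)
  have hPu : IsUnit P := by
    have h1 : IsUnit (1 + (P - 1)) := IsNilpotent.isUnit_one_add ⟨j, hnil⟩
    rwa [add_sub_cancel] at h1
  have hdet : IsUnit P.det := (Matrix.isUnit_iff_isUnit_det P).mp hPu
  set D : Matrix (Fin j) (Fin j) F := P⁻¹ᵀ with hD
  have hmem : fromBlocks P 0 0 D ∈ Matrix.symplecticGroup (Fin j) F := by
    rw [SymplecticGroup.fromBlocks_mem_iff]
    refine ⟨by simp, by simp, ?_⟩
    rw [transpose_zero, zero_mul, sub_zero, hD, ← transpose_mul, Matrix.nonsing_inv_mul P hdet,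
      transpose_one]
  have hsub : fromBlocks P 0 0 D - 1 = fromBlocks (P - 1) 0 0 (D - 1) := by
    rw [← fromBlocks_one, sub_eq_add_neg, fromBlocks_neg, fromBlocks_add]
    congr 1
    · exact (sub_eq_add_neg _ _).symm
    · simp
    · simp
    · exact (sub_eq_add_neg _ _).symm
  set N' : Module.End F (Fin j ⊕ Fin j → F) := Matrix.toLin' (fromBlocks P 0 0 D - 1) with hN'
  have hconj : ∀ l, kdim N' l
      = kdim ((Matrix.toLin' (P - 1)).prodMap (Matrix.toLin' (D - 1))) l := by
    intro l
    apply kdim_conj (LinearEquiv.sumArrowLequivProdArrow (Fin j) (Fin j) F F)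
    intro x
    rw [hN', hsub, Matrix.toLin'_apply, fromBlocks_mulVec, LinearMap.prodMap_apply]
    have hx1 : (LinearEquiv.sumArrowLequivProdArrow (Fin j) (Fin j) F F x).1 = x ∘ Sum.inl := rfl
    have hx2 : (LinearEquiv.sumArrowLequivProdArrow (Fin j) (Fin j) F F x).2 = x ∘ Sum.inr := rfl
    apply Prod.ext
    · funext i
      rw [LinearEquiv.sumArrowLequivProdArrow_apply_fst, Sum.elim_inl, hx1,
        Matrix.zero_mulVec, add_zero]
      show _ = (Matrix.toLin' (P - 1)) (x ∘ Sum.inl) i
      rw [Matrix.toLin'_apply]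
    · funext i
      rw [LinearEquiv.sumArrowLequivProdArrow_apply_snd, Sum.elim_inr, hx2,
        Matrix.zero_mulVec, zero_add]
      show _ = (Matrix.toLin' (D - 1)) (x ∘ Sum.inr) i
      rw [Matrix.toLin'_apply]
  have hkD : ∀ l, kdim (Matrix.toLin' (D - 1)) l = kdim (Matrix.toLin' (P - 1)) l := by
    intro l
    have h1 := kdim_toLin'_add_rank (D - 1) l
    have h2 := kdim_toLin'_add_rank (P - 1) l
    have h3 := rank_inv_transpose_sub_one_pow P hdet l
    rw [← hD] at h3
    rw [h3] at h1
    omega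
  have hk : ∀ l, kdim N' l = 2 * min l j := by
    intro l
    rw [hconj, kdim_prodMap, hkD, kdim_of_isRegNilp hreg, Module.finrank_fin_fun]
    ring
  refine ⟨(Fin j ⊕ Fin j → F), inferInstance, inferInstance, inferInstance, N', ?_, hk,
    spReal_of_mem_symplectic hmem⟩
  -- nilpotent
  refine ⟨j, ?_⟩
  have h1 : kdim N' j = finrank F (Fin j ⊕ Fin j → F) := by
    rw [hk, Module.finrank_fintype_fun_eq_card, Fintype.card_sum, Fintype.card_fin, min_self,
      two_mul]
  unfold kdim at h1
  exact LinearMap.ker_eq_top.mp (Submodule.eq_top_of_finrank_eq h1)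

theorem sum_min_fiberwise {t : ℕ} (d : Fin t → ℕ) (l : ℕ) :
    ∑ k, min l (d k) = ∑ j ∈ Finset.range (Finset.univ.sup d + 1),
      (Finset.univ.filter (fun k : Fin t => d k = j)).card * min l j := by
  rw [← Finset.sum_fiberwise_of_maps_to (s := Finset.univ)
    (t := Finset.range (Finset.univ.sup d + 1)) (g := d) (f := fun k => min l (d k))]
  · apply Finset.sum_congr rfl
    intro j _
    rw [Finset.sum_congr rfl (g := fun _ => min l j), Finset.sum_const, smul_eq_mul]
    intro k hk
    rw [(Finset.mem_filter.mp hk).2]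
  · intro k _
    rw [Finset.mem_range]
    have : d k ≤ Finset.univ.sup d := Finset.le_sup (f := d) (Finset.mem_univ k)
    omega

theorem good_of_even {t : ℕ} (d : Fin t → ℕ)
    (h : ∀ j : ℕ, Odd j → Even (Finset.univ.filter (fun k : Fin t => d k = j)).card) :
    Good F (fun l => ∑ k, min l (d k)) := by
  apply good_congr (fun l => (sum_min_fiberwise d l).symm)
  apply good_sum
  intro j _
  rcases Nat.even_or_odd j with hj | hj
  · obtain ⟨c, hc⟩ := hj
    rcases Nat.eq_zero_or_pos c with h0 | h0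
    · have hj0 : j = 0 := by omega
      apply good_congr _ good_zero
      intro l
      rw [hj0, Nat.min_zero, mul_zero]
    · obtain ⟨k, hk⟩ : ∃ k, c = k + 1 := ⟨c - 1, by omega⟩
      have hj' : j = 2 * (k + 1) := by omega
      rw [hj']
      exact good_nsmul _ (good_even_block k)
  · obtain ⟨c, hc⟩ := h j hj
    apply good_congr _ (good_nsmul c (good_pair (F := F) j))
    intro l
    rw [hc]
    ring

end blocks

end Cfsg.Agent.Helper43.JT
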