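import Mathlib
import Cfsg.Agent.Helper43.JTSp

set_option autoImplicit false

namespace Cfsg.Agent.Helper43.JT

open Module Matrix
open Cfsg.Agent.Helper43 Cfsg.Agent.Helper43.SpSS

universe u

variable {F : Type u} [Field F]

theorem finrank_range_Nd_pow {t : ℕ} (d : Fin t → ℕ) (l : ℕ) :
    finrank F (LinearMap.range ((Nd d F) ^ l)) = ∑ k, (d k - l) := by
  have h1 := LinearMap.finrank_range_add_finrank_ker ((Nd d F) ^ l)
  have h2 : finrank F (LinearMap.ker ((Nd d F) ^ l)) = ∑ k, min l (d k) := kdim_Nd d l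
  have h3 : finrank F (((k : Fin t) × Fin (d k)) → F) = ∑ k, d k := by
    rw [Module.finrank_fintype_fun_eq_card, Fintype.card_sigma]
    apply Finset.sum_congr rfl
    intro k _
    rw [Fintype.card_fin]
  have h4 : ∑ k, (d k - l) + ∑ k, min l (d k) = ∑ k, d k := by
    rw [← Finset.sum_add_distrib]
    apply Finset.sum_congr rfl
    intro k _
    omega
  omega

/-- If the even powers of the nilpotent part have even rank, odd block sizes have even
multiplicity. -/
theorem even_card_of_even_ranks {t : ℕ} (d : Fin t → ℕ)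
    (hrank : ∀ c, Even (finrank F (LinearMap.range ((Nd d F) ^ (2 * c))))) (j : ℕ) (hj : Odd j) :
    Even (Finset.univ.filter (fun k : Fin t => d k = j)).card := by
  obtain ⟨c, hc⟩ := hj
  have h1 := hrank c
  have h2 := hrank (c + 1)
  rw [finrank_range_Nd_pow] at h1 h2
  have h3 : (Finset.univ.filter (fun k : Fin t => d k = j)).card + 2 * ∑ k, (d k - j)
      = ∑ k, (d k - 2 * c) + ∑ k, (d k - 2 * (c + 1)) := by
    rw [Finset.card_filter, Finset.mul_sum, ← Finset.sum_add_distrib, ← Finset.sum_add_distrib]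
    apply Finset.sum_congr rfl
    intro k _
    split_ifs with h <;> omega
  obtain ⟨r, hr⟩ := h1
  obtain ⟨r', hr'⟩ := h2
  refine ⟨r + r' - ∑ k, (d k - j), ?_⟩
  omega

end Cfsg.Agent.Helper43.JT
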