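import Mathlib
import Cfsg.Agent.Helper43.JTForm

set_option autoImplicit false

namespace Cfsg.Agent.Helper43.JT

open Module
open Cfsg.Agent.Helper43

universe u v w

variable {F : Type u} [Field F]

section oreal

variable {V : Type v} [AddCommGroup V] [Module F V]
  {V' : Type w} [AddCommGroup V'] [Module F V']

/-- `1 + N` preserves some nondegenerate symmetric bilinear form. -/
def OReal (N : Module.End F V) : Prop :=
  ∃ B : LinearMap.BilinForm F V, (∀ x y, B x y = B y x) ∧ B.Nondegenerate ∧
    ∀ x y, B (x + N x) (y + N y) = B x y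

theorem isRefl_of_symm {B : LinearMap.BilinForm F V} (h : ∀ x y, B x y = B y x) : B.IsRefl := by
  intro x y hxy
  rw [← h]
  exact hxy

theorem OReal.conj {N : Module.End F V} {N' : Module.End F V'} (e : V ≃ₗ[F] V')
    (he : ∀ x, e (N x) = N' (e x)) (h : OReal N) : OReal N' := by
  obtain ⟨B, hsym, hnd, hiso⟩ := h
  set B' : LinearMap.BilinForm F V' :=
    LinearMap.BilinForm.comp B e.symm.toLinearMap e.symm.toLinearMap with hB'
  have hB'a : ∀ x y, B' x y = B (e.symm x) (e.symm y) := fun x y => rfl
  have hsym' : ∀ x y, B' x y = B' y x := fun x y => hsym _ _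
  have hsymm : ∀ x, e.symm (N' x) = N (e.symm x) := by
    intro x
    apply e.injective
    rw [e.apply_symm_apply, he, e.apply_symm_apply]
  refine ⟨B', hsym', ?_, ?_⟩
  · refine (LinearMap.IsRefl.nondegenerate_iff_separatingLeft (isRefl_of_symm hsym')).mpr ?_
    intro x hx
    have h1 : e.symm x = 0 := by
      apply hnd.1
      intro y
      have := hx (e y)
      rwa [hB'a, e.symm_apply_apply] at this
    exact e.symm.map_eq_zero_iff.mp h1
  · intro x y
    rw [hB'a, hB'a]
    have h1 : e.symm (x + N' x) = e.symm x + N (e.symm x) := by rw [map_add, hsymm]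
    have h2 : e.symm (y + N' y) = e.symm y + N (e.symm y) := by rw [map_add, hsymm]
    rw [h1, h2]
    exact hiso _ _

theorem OReal.prod {N : Module.End F V} {N' : Module.End F V'} (h : OReal N)
    (h' : OReal N') : OReal (N.prodMap N') := by
  obtain ⟨B, hsym, hnd, hiso⟩ := h
  obtain ⟨B', hsym', hnd', hiso'⟩ := h'
  set C : LinearMap.BilinForm F (V × V') :=
    LinearMap.BilinForm.comp B (LinearMap.fst F V V') (LinearMap.fst F V V')
      + LinearMap.BilinForm.comp B' (LinearMap.snd F V V') (LinearMap.snd F V V') with hC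
  have hCa : ∀ x y : V × V', C x y = B x.1 y.1 + B' x.2 y.2 := fun x y => rfl
  have hsymC : ∀ x y, C x y = C y x := by
    intro x y
    rw [hCa, hCa, hsym, hsym']
  refine ⟨C, hsymC, ?_, ?_⟩
  · refine (LinearMap.IsRefl.nondegenerate_iff_separatingLeft (isRefl_of_symm hsymC)).mpr ?_
    rintro ⟨x1, x2⟩ hx
    have h1 : x1 = 0 := by
      apply hnd.1
      intro y
      have := hx (y, 0)
      rwa [hCa, map_zero, add_zero] at this
    have h2 : x2 = 0 := by
      apply hnd'.1
      intro y
      have := hx (0, y)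
      rwa [hCa, map_zero, zero_add] at this
    rw [h1, h2]
    rfl
  · rintro ⟨x1, x2⟩ ⟨y1, y2⟩
    rw [hCa, hCa]
    show B (x1 + N x1) (y1 + N y1) + B' (x2 + N' x2) (y2 + N' y2) = _
    rw [hiso, hiso']

theorem OReal.of_subsingleton [Subsingleton V] (N : Module.End F V) : OReal N := by
  refine ⟨0, fun x y => rfl, ?_, fun x y => rfl⟩
  refine (LinearMap.IsRefl.nondegenerate_iff_separatingLeft (B := (0 : LinearMap.BilinForm F V))
    (fun x y _ => rfl)).mpr ?_
  intro x _
  exact Subsingleton.elim _ _

end oreal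

section ogood

/-- A kernel dimension function is realised by a nilpotent `N` with `1 + N` orthogonal. -/
def OGood (F : Type u) [Field F] (κ : ℕ → ℕ) : Prop :=
  ∃ (V : Type u) (_ : AddCommGroup V) (_ : Module F V) (_ : FiniteDimensional F V)
    (N : Module.End F V), IsNilpotent N ∧ (∀ l, kdim N l = κ l) ∧ OReal N

theorem ogood_zero : OGood F (fun _ => 0) := by
  refine ⟨PUnit, inferInstance, inferInstance, inferInstance, 0, IsNilpotent.zero, ?_,
    OReal.of_subsingleton _⟩
  intro l
  have h1 := kdim_le_finrank (0 : Module.End F PUnit.{u + 1}) l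
  have h2 : finrank F PUnit.{u + 1} = 0 := Module.finrank_zero_of_subsingleton
  show kdim (0 : Module.End F PUnit.{u + 1}) l = 0
  omega

theorem ogood_congr {κ κ' : ℕ → ℕ} (h : ∀ l, κ l = κ' l) (hg : OGood F κ) : OGood F κ' := by
  have : κ = κ' := funext h
  rwa [← this]

theorem ogood_add {κ κ' : ℕ → ℕ} (h : OGood F κ) (h' : OGood F κ') :
    OGood F (fun l => κ l + κ' l) := by
  obtain ⟨V, _, _, _, N, hN, hk, hs⟩ := h
  obtain ⟨V', _, _, _, N', hN', hk', hs'⟩ := h'
  refine ⟨V × V', inferInstance, inferInstance, inferInstance, N.prodMap N', ?_, ?_,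
    hs.prod hs'⟩
  · obtain ⟨a, ha⟩ := hN
    obtain ⟨b, hb⟩ := hN'
    refine ⟨a + b, ?_⟩
    rw [prodMap_pow, pow_add, ha, zero_mul, pow_add, hb, mul_zero]
    apply LinearMap.ext
    rintro ⟨x, y⟩
    rfl
  · intro l
    rw [kdim_prodMap, hk, hk']

theorem ogood_nsmul {κ : ℕ → ℕ} (c : ℕ) (h : OGood F κ) : OGood F (fun l => c * κ l) := by
  induction c with
  | zero =>
    apply ogood_congr _ ogood_zero
    intro l
    rw [zero_mul]
  | succ c ih =>
    apply ogood_congr _ (ogood_add ih h)
    intro l
    ring

theorem ogood_sum {ι : Type*} (s : Finset ι) (κ : ι → ℕ → ℕ) (h : ∀ i ∈ s, OGood F (κ i)) :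
    OGood F (fun l => ∑ i ∈ s, κ i l) := by
  classical
  induction s using Finset.induction_on with
  | empty =>
    apply ogood_congr _ ogood_zero
    intro l
    rw [Finset.sum_empty]
  | insert a s ha ih =>
    have h1 := ih (fun i hi => h i (Finset.mem_insert_of_mem hi))
    have h2 := h a (Finset.mem_insert_self a s)
    apply ogood_congr _ (ogood_add h2 h1)
    intro l
    rw [Finset.sum_insert ha]

theorem oReal_of_good {V : Type v} [AddCommGroup V] [Module F V] [FiniteDimensional F V]
    {N : Module.End F V} (hN : IsNilpotent N) {κ : ℕ → ℕ} (hk : ∀ l, kdim N l = κ l)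
    (hg : OGood F κ) : OReal N := by
  obtain ⟨V', _, _, _, N', hN', hk', hs'⟩ := hg
  obtain ⟨e, he⟩ := exists_equiv_of_kdim_eq N' N hN' hN (fun l => by rw [hk, hk'])
  exact hs'.conj e he

end ogood

theorem comm_factor {M : Type*} [Monoid M] (a b c : M) (hab : Commute a b) (hac : Commute a c)
    (k : ℕ) : (a * b * c) * (a * a * c) ^ k = a ^ (2 * k + 1) * (b * c ^ (k + 1)) := by
  induction k with
  | zero => simp [mul_assoc]
  | succ k ih =>
    have h1 : Commute (b * c ^ (k + 1)) (a * a) :=
      ((hab.symm.mul_right hab.symm)).mul_left ((hac.symm.mul_right hac.symm).pow_left _)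
    calc (a * b * c) * (a * a * c) ^ (k + 1)
        = ((a * b * c) * (a * a * c) ^ k) * (a * a * c) := by rw [pow_succ]; simp only [mul_assoc]
      _ = a ^ (2 * k + 1) * (b * c ^ (k + 1)) * (a * a * c) := by rw [ih]
      _ = a ^ (2 * k + 1) * ((b * c ^ (k + 1)) * (a * a)) * c := by simp only [mul_assoc]
      _ = a ^ (2 * k + 1) * ((a * a) * (b * c ^ (k + 1))) * c := by rw [h1.eq]
      _ = (a ^ (2 * k + 1) * (a * a)) * (b * (c ^ (k + 1) * c)) := by simp only [mul_assoc]
      _ = a ^ (2 * (k + 1) + 1) * (b * c ^ (k + 1 + 1)) := by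
        rw [← pow_succ c, ← pow_two, ← pow_add]
        congr 2

section parity

variable {V : Type v} [AddCommGroup V] [Module F V] [FiniteDimensional F V]

/-- If `1 + N` (`N` nilpotent) preserves a nondegenerate symmetric form in characteristic not two,
the odd powers of `N` have even rank. -/
theorem even_finrank_range_odd_pow_of_isom (h2 : (2 : F) ≠ 0) (B : LinearMap.BilinForm F V)
    (hsym : ∀ x y, B x y = B y x) (hB : B.Nondegenerate) (N : Module.End F V)
    (hnil : IsNilpotent N) (hiso : ∀ x y, B (x + N x) (y + N y) = B x y) (k : ℕ) :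
    Even (finrank F (LinearMap.range (N ^ (2 * k + 1)))) := by
  set u : Module.End F V := 1 + N with hu
  have hux : ∀ x, u x = x + N x := fun x => rfl
  have huiso : ∀ x y, B (u x) (u y) = B x y := fun x y => hiso x y
  have hinj : Function.Injective u := by
    rw [← LinearMap.ker_eq_bot, LinearMap.ker_eq_bot']
    intro x hx
    apply hB.1 x
    intro y
    rw [← huiso, hx, map_zero, LinearMap.zero_apply]
  set ue : V ≃ₗ[F] V := LinearEquiv.ofInjectiveEndo u hinj with hue
  set v : Module.End F V := ue.symm.toLinearMap with hv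
  have huv : ∀ x, u (v x) = x := fun x => ue.apply_symm_apply x
  have hvu : ∀ x, v (u x) = x := fun x => ue.symm_apply_apply x
  have hNx : ∀ x, N x = u x - x := fun x => by rw [hux]; abel
  have hadj' : ∀ x y, B (u x) y = B x (v y) := by
    intro x y
    conv_lhs => rw [← huv y]
    exact huiso x (v y)
  have hadj : ∀ x y, B (v x) y = B x (u y) := by
    intro x y
    conv_rhs => rw [← huv x]
    exact (huiso (v x) y).symm
  have hNv : Commute N v := by
    apply LinearMap.ext
    intro x
    show N (v x) = v (N x)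
    rw [hNx (v x), huv, hNx x, map_sub, hvu]
  -- the unit `N + 2`
  set K : Module.End F V := N + (2 : F) • (1 : Module.End F V) with hK
  have hKu : IsUnit K := by
    have h2u : IsUnit ((2 : F) • (1 : Module.End F V)) := by
      refine ⟨⟨(2 : F) • 1, (2 : F)⁻¹ • 1, ?_, ?_⟩, rfl⟩
      · rw [smul_mul_smul_comm, mul_one, mul_inv_cancel₀ h2, one_smul]
      · rw [smul_mul_smul_comm, mul_one, inv_mul_cancel₀ h2, one_smul]
    rw [hK, add_comm]
    apply hnil.isUnit_add_left_of_commute h2u
    show N * ((2 : F) • (1 : Module.End F V)) = ((2 : F) • (1 : Module.End F V)) * N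
    rw [mul_smul_comm, smul_mul_assoc, mul_one, one_mul]
  have hNK : Commute N K := by
    show N * K = K * N
    rw [hK, mul_add, add_mul, mul_smul_comm, smul_mul_assoc, mul_one, one_mul]
  have hvK : Commute v K := by
    show v * K = K * v
    rw [hK, mul_add, add_mul, mul_smul_comm, smul_mul_assoc, mul_one, one_mul, hNv.eq]
  -- the operators `T` and `s`
  set T : Module.End F V := N * N * v with hT
  set s : Module.End F V := N * K * v with hs
  have hTx : ∀ x, T x = u x + v x - (x + x) := by
    intro x
    show N (N (v x)) = _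
    rw [hNx (v x), huv, map_sub, hNx x, hNx (v x), huv]
    abel
  have hsx : ∀ x, s x = u x - v x := by
    intro x
    show N (K (v x)) = _
    have h1 : K (v x) = N (v x) + (2 : F) • v x := rfl
    rw [h1, hNx (v x), huv, map_add, map_sub, map_smul, hNx x, hNx (v x), huv, two_smul]
    abel
  have hTself : ∀ x y, B (T x) y = B x (T y) := by
    intro x y
    rw [hTx, hTx]
    simp only [map_sub, map_add, LinearMap.sub_apply, LinearMap.add_apply]
    rw [hadj', hadj]
    abel
  have hsskew : ∀ x y, B (s x) y = -B x (s y) := by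
    intro x y
    rw [hsx, hsx]
    simp only [map_sub, LinearMap.sub_apply]
    rw [hadj', hadj]
    abel
  have hTkself : ∀ (j : ℕ) x y, B ((T ^ j) x) y = B x ((T ^ j) y) := by
    intro j
    induction j with
    | zero => intro x y; simp
    | succ j ih =>
      intro x y
      have hpow : ∀ z, (T ^ (j + 1)) z = (T ^ j) (T z) := fun z => by rw [pow_succ]; rfl
      have hpow' : ∀ z, (T ^ (j + 1)) z = T ((T ^ j) z) := fun z => by rw [pow_succ']; rfl
      rw [hpow, hpow', ih, hTself]
  have hN_T : Commute N T := ((Commute.refl N).mul_right (Commute.refl N)).mul_right hNv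
  have hK_T : Commute K T := ((hNK.symm).mul_right hNK.symm).mul_right hvK.symm
  have hv_T : Commute v T := ((hNv.symm).mul_right hNv.symm).mul_right (Commute.refl v)
  have hsT : Commute s T := (hN_T.mul_left hK_T).mul_left hv_T
  set G : Module.End F V := s * T ^ k with hG
  have hGx : ∀ x, G x = s ((T ^ k) x) := fun x => rfl
  have hGx' : ∀ x, G x = (T ^ k) (s x) := by
    intro x
    have := (hsT.pow_right k).eq
    rw [hG, this]
    rfl
  have hGskew : ∀ x y, B (G x) y = -B x (G y) := by
    intro x y
    rw [hGx, hsskew, hTkself, ← hGx']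
  have hG0 : ∀ x, B x (G x) = 0 := by
    intro x
    have h1 := hGskew x x
    rw [hsym (G x) x] at h1
    have h3 : (2 : F) * B x (G x) = 0 := by linear_combination h1
    rcases mul_eq_zero.mp h3 with h | h
    · exact absurd h h2
    · exact h
  have hfac : G = N ^ (2 * k + 1) * (K * v ^ (k + 1)) := comm_factor N K v hNK hNv k
  have hvunit : IsUnit v := by
    refine ⟨⟨v, u, ?_, ?_⟩, rfl⟩
    · apply LinearMap.ext; intro x; exact hvu x
    · apply LinearMap.ext; intro x; exact huv x
  have hWu : IsUnit (K * v ^ (k + 1)) := hKu.mul (hvunit.pow _)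
  have hrange : LinearMap.range (N ^ (2 * k + 1)) = LinearMap.range G := by
    rw [hfac]
    have hsurj : LinearMap.range (K * v ^ (k + 1)) = ⊤ := by
      rw [LinearMap.range_eq_top]
      obtain ⟨w, hw⟩ := hWu
      intro y
      refine ⟨(↑w⁻¹ : Module.End F V) y, ?_⟩
      rw [← hw, ← Module.End.mul_apply, Units.mul_inv, Module.End.one_apply]
    exact (LinearMap.range_comp_of_range_eq_top (N ^ (2 * k + 1)) hsurj).symm
  rw [hrange]
  exact even_finrank_range_of_alt B hB G hG0

end parity

end Cfsg.Agent.Helper43.JT
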