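import Mathlib
import Cfsg.Agent.Helper43.JTOrthA
import Cfsg.Agent.Helper43.JTSp
import Cfsg.Agent.Helper43.JTCount

set_option autoImplicit false

namespace Cfsg.Agent.Helper43.JT

open Module Matrix
open Cfsg.Agent.Helper43

universe u v

variable {F : Type u} [Field F]

section pair

/-- The hyperbolic pair of Jordan blocks is orthogonal. -/
theorem ogood_pair (j : ℕ) : OGood F (fun l => 2 * min l j) := by
  set P : Matrix (Fin j) (Fin j) F := Cfsg.jordanBlock j F with hP
  have hreg := isRegNilp_jordanBlock (F := F) j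
  have hnil : (P - 1) ^ j = 0 := by
    have := hreg.pow_eq_zero
    rw [Module.finrank_fin_fun, ← Matrix.toLin'_pow] at this
    exact (Matrix.toLin' (R := F)).injective (this.trans (map_zero _).symm)
  have hPu : IsUnit P := by
    have h1 : IsUnit (1 + (P - 1)) := IsNilpotent.isUnit_one_add ⟨j, hnil⟩
    rwa [add_sub_cancel] at h1
  have hdet : IsUnit P.det := (Matrix.isUnit_iff_isUnit_det P).mp hPu
  set D : Matrix (Fin j) (Fin j) F := P⁻¹ᵀ with hD
  set M : Matrix (Fin j ⊕ Fin j) (Fin j ⊕ Fin j) F := fromBlocks P 0 0 D with hM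
  set H : Matrix (Fin j ⊕ Fin j) (Fin j ⊕ Fin j) F := fromBlocks 0 1 1 0 with hH
  have hPD : Pᵀ * D = 1 := by
    rw [hD, ← transpose_mul, Matrix.nonsing_inv_mul P hdet, transpose_one]
  have hDP : Dᵀ * P = 1 := by
    rw [hD, transpose_transpose, Matrix.nonsing_inv_mul P hdet]
  have hMHM : Mᵀ * H * M = H := by
    rw [hM, hH, fromBlocks_transpose, fromBlocks_multiply, fromBlocks_multiply]
    simp only [transpose_zero, mul_zero, zero_mul, add_zero, zero_add, mul_one]
    rw [hPD, hDP]
  have hHH : H * H = 1 := by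
    rw [hH, fromBlocks_multiply]
    simp only [mul_zero, mul_one, zero_add, add_zero]
    exact fromBlocks_one
  have hHt : Hᵀ = H := by
    rw [hH, fromBlocks_transpose]
    simp
  have hsub : M - 1 = fromBlocks (P - 1) 0 0 (D - 1) := by
    rw [hM, ← fromBlocks_one, sub_eq_add_neg, fromBlocks_neg, fromBlocks_add]
    congr 1
    · exact (sub_eq_add_neg _ _).symm
    · simp
    · simp
    · exact (sub_eq_add_neg _ _).symm
  set N' : Module.End F (Fin j ⊕ Fin j → F) := Matrix.toLin' (M - 1) with hN'
  have hconj : ∀ l, kdim N' l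
      = kdim ((Matrix.toLin' (P - 1)).prodMap (Matrix.toLin' (D - 1))) l := by
    intro l
    apply kdim_conj (LinearEquiv.sumArrowLequivProdArrow (Fin j) (Fin j) F F)
    intro x
    rw [hN', hsub, Matrix.toLin'_apply, fromBlocks_mulVec, LinearMap.prodMap_apply]
    have hx1 : (LinearEquiv.sumArrowLequivProdArrow (Fin j) (Fin j) F F x).1 = x ∘ Sum.inl := rfl
    have hx2 : (LinearEquiv.sumArrowLequivProdArrow (Fin j) (Fin j) F F x).2 = x ∘ Sum.inr := rfl
    apply Prod.ext
    · funext i
      rw [LinearEquiv.sumArrowLequivProdArrow_apply_fst, Sum.elim_inl, hx1,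
        Matrix.zero_mulVec, add_zero]
      show _ = (Matrix.toLin' (P - 1)) (x ∘ Sum.inl) i
      rw [Matrix.toLin'_apply]
    · funext i
      rw [LinearEquiv.sumArrowLequivProdArrow_apply_snd, Sum.elim_inr, hx2,
        Matrix.zero_mulVec, zero_add]
      show _ = (Matrix.toLin' (D - 1)) (x ∘ Sum.inr) i
      rw [Matrix.toLin'_apply]
  have hkD : ∀ l, kdim (Matrix.toLin' (D - 1)) l = kdim (Matrix.toLin' (P - 1)) l := by
    intro l
    have h1 := kdim_toLin'_add_rank (D - 1) l
    have h2 := kdim_toLin'_add_rank (P - 1) l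
    have h3 := rank_inv_transpose_sub_one_pow P hdet l
    rw [← hD] at h3
    rw [h3] at h1
    omega
  have hk : ∀ l, kdim N' l = 2 * min l j := by
    intro l
    rw [hconj, kdim_prodMap, hkD, kdim_of_isRegNilp hreg, Module.finrank_fin_fun]
    ring
  have hOR : OReal N' := by
    refine ⟨Matrix.toBilin' H, ?_, ?_, ?_⟩
    · intro x y
      rw [Matrix.toBilin'_apply', Matrix.toBilin'_apply', Matrix.dotProduct_mulVec,
        ← Matrix.mulVec_transpose, hHt, dotProduct_comm]
    · rw [Matrix.nondegenerate_toBilin'_iff]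
      apply Matrix.nondegenerate_of_det_ne_zero
      intro h0
      have := congrArg Matrix.det hHH
      rw [Matrix.det_mul, h0, mul_zero, Matrix.det_one] at this
      exact zero_ne_one this
    · intro x y
      have h1 : ∀ z : Fin j ⊕ Fin j → F, z + N' z = M *ᵥ z := by
        intro z
        rw [hN', Matrix.toLin'_apply, Matrix.sub_mulVec, Matrix.one_mulVec]
        abel
      rw [h1, h1, Matrix.toBilin'_apply', Matrix.toBilin'_apply', Matrix.mulVec_mulVec,
        Matrix.dotProduct_mulVec, Matrix.vecMul_mulVec, ← Matrix.dotProduct_mulVec,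
        ← Matrix.mul_assoc, hMHM]
  refine ⟨(Fin j ⊕ Fin j → F), inferInstance, inferInstance, inferInstance, N', ?_, hk, hOR⟩
  refine ⟨j, ?_⟩
  have h1 : kdim N' j = finrank F (Fin j ⊕ Fin j → F) := by
    rw [hk, Module.finrank_fintype_fun_eq_card, Fintype.card_sum, Fintype.card_fin, min_self,
      two_mul]
  unfold kdim at h1
  exact LinearMap.ker_eq_top.mp (Submodule.eq_top_of_finrank_eq h1)

end pair

section unitmul

variable {V : Type v} [AddCommGroup V] [Module F V] [FiniteDimensional F V]

/-- Multiplying by a commuting unit does not change the kernel dimensions. -/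
theorem kdim_mul_unit (S W : Module.End F V) (hSW : Commute S W) (hW : IsUnit W) (l : ℕ) :
    kdim (S * W) l = kdim S l := by
  unfold kdim
  rw [hSW.mul_pow]
  obtain ⟨w, hw⟩ := hW.pow l
  let e : V ≃ₗ[F] V := LinearMap.GeneralLinearGroup.generalLinearEquiv F V w
  have he : ∀ x, e x = (W ^ l) x := by
    intro x
    rw [← hw]
    rfl
  have h : (LinearMap.ker (S ^ l * W ^ l)).map e.toLinearMap = LinearMap.ker (S ^ l) := by
    ext y
    rw [Submodule.mem_map, LinearMap.mem_ker]
    constructor
    · rintro ⟨x, hx, rfl⟩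
      rw [LinearMap.mem_ker, Module.End.mul_apply] at hx
      show (S ^ l) (e x) = 0
      rw [he]
      exact hx
    · intro hy
      refine ⟨e.symm y, ?_, e.apply_symm_apply y⟩
      rw [LinearMap.mem_ker, Module.End.mul_apply, ← he, e.apply_symm_apply, hy]
  rw [← h]
  exact (LinearEquiv.finrank_map_eq e _).symm

end unitmul

section cayley

variable (F) (m : ℕ)

/-- The form `Σ (-1)^i x_i y_{m-i}`. -/
noncomputable def revForm : LinearMap.BilinForm F (Fin (m + 1) → F) :=
  Matrix.toBilin' (Matrix.of fun i j : Fin (m + 1) => if j = Fin.rev i then (-1 : F) ^ (i : ℕ) else 0)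

variable {F m}

theorem revForm_apply (x y : Fin (m + 1) → F) :
    revForm F m x y = ∑ i : Fin (m + 1), (-1 : F) ^ (i : ℕ) * x i * y (Fin.rev i) := by
  unfold revForm
  rw [Matrix.toBilin'_apply]
  apply Finset.sum_congr rfl
  intro i _
  rw [Finset.sum_eq_single (Fin.rev i)]
  · rw [Matrix.of_apply, if_pos rfl]
    ring
  · intro j _ hj
    rw [Matrix.of_apply, if_neg hj, mul_zero, zero_mul]
  · intro h; exact absurd (Finset.mem_univ _) h

theorem revForm_skew (x y : Fin (m + 1) → F) :
    revForm F m (shiftEnd F m x) y = -revForm F m x (shiftEnd F m y) := by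
  rw [revForm_apply, revForm_apply, Fin.sum_univ_succ, Fin.sum_univ_castSucc (n := m)]
  rw [shiftEnd_apply_zero, Fin.rev_last, shiftEnd_apply_zero]
  simp only [mul_zero, zero_mul, zero_add, add_zero]
  rw [← Finset.sum_neg_distrib]
  apply Finset.sum_congr rfl
  intro i _
  rw [shiftEnd_apply_succ, Fin.rev_succ, Fin.rev_castSucc, shiftEnd_apply_succ, Fin.val_succ,
    Fin.val_castSucc, pow_succ]
  ring

theorem revForm_symm (hm : Even m) (x y : Fin (m + 1) → F) : revForm F m x y = revForm F m y x := by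
  rw [revForm_apply, revForm_apply, ← Equiv.sum_comp Fin.revPerm]
  apply Finset.sum_congr rfl
  intro i _
  rw [Fin.revPerm_apply, Fin.rev_rev, Fin.val_rev]
  have h1 : (-1 : F) ^ (m + 1 - ((i : ℕ) + 1)) = (-1 : F) ^ (i : ℕ) := by
    have hi : (i : ℕ) ≤ m := Nat.lt_succ_iff.mp i.2
    have h2 : m + 1 - ((i : ℕ) + 1) = m - i := by omega
    rw [h2]
    have h3 : (-1 : F) ^ (m - (i : ℕ)) * (-1 : F) ^ (i : ℕ) = 1 := by
      rw [← pow_add, Nat.sub_add_cancel hi]
      exact hm.neg_one_pow
    have h4 : (-1 : F) ^ (i : ℕ) * (-1 : F) ^ (i : ℕ) = 1 := by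
      rw [← pow_add, ← two_mul]
      exact (even_two_mul _).neg_one_pow
    calc (-1 : F) ^ (m - (i : ℕ)) = (-1 : F) ^ (m - (i : ℕ)) * ((-1 : F) ^ (i : ℕ) * (-1 : F) ^ (i : ℕ)) := by
          rw [h4, mul_one]
      _ = (-1 : F) ^ (i : ℕ) := by rw [← mul_assoc, h3, one_mul]
  rw [h1]
  ring

theorem revForm_nondeg (hm : Even m) : (revForm F m).Nondegenerate := by
  have hrefl : (revForm F m).IsRefl := isRefl_of_symm (revForm_symm hm)
  refine (LinearMap.IsRefl.nondegenerate_iff_separatingLeft hrefl).mpr ?_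
  intro x hx
  funext i
  have h1 := hx (Pi.single (Fin.rev i) 1)
  rw [revForm_apply, Finset.sum_eq_single i] at h1
  · rw [Pi.single_eq_same, mul_one] at h1
    rcases mul_eq_zero.mp h1 with h | h
    · exact absurd h (pow_ne_zero _ (neg_ne_zero.mpr one_ne_zero))
    · exact h
  · intro j _ hj
    rw [Pi.single_eq_of_ne, mul_zero]
    intro h
    exact hj (Fin.rev_injective h)
  · intro h; exact absurd (Finset.mem_univ _) h

/-- A single Jordan block of odd size is orthogonal in odd characteristic (Cayley transform). -/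
theorem ogood_odd_block (h2 : (2 : F) ≠ 0) (k : ℕ) : OGood F (fun l => min l (2 * k + 1)) := by
  set m := 2 * k with hm
  have hmeven : Even m := even_two_mul k
  set S : Module.End F (Fin (m + 1) → F) := shiftEnd F m with hS
  have hreg : IsRegNilp S := isRegNilp_shiftEnd F m
  have hSnil : IsNilpotent S := hreg.isNilpotent
  have hbu : IsUnit (1 - S) := hSnil.isUnit_one_sub
  obtain ⟨bu, hbu'⟩ := hbu
  set binv : Module.End F (Fin (m + 1) → F) := ((bu⁻¹ : (Module.End F (Fin (m + 1) → F))ˣ) :
    Module.End F (Fin (m + 1) → F)) with hbinv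
  have hb1 : binv * (1 - S) = 1 := by rw [← hbu', hbinv, Units.inv_mul]
  have hb2 : (1 - S) * binv = 1 := by rw [← hbu', hbinv, Units.mul_inv]
  have hSb : Commute S (1 - S) := (Commute.one_right S).sub_right (Commute.refl S)
  have hSbinv : Commute S binv := by
    have h1 : Commute S (bu : Module.End F (Fin (m + 1) → F)) := by rw [hbu']; exact hSb
    exact h1.units_inv_right
  set W : Module.End F (Fin (m + 1) → F) := (2 : F) • binv with hW
  have hWu : IsUnit W := by
    refine ⟨⟨W, (2 : F)⁻¹ • (1 - S), ?_, ?_⟩, rfl⟩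
    · rw [hW, smul_mul_smul_comm, mul_inv_cancel₀ h2, one_smul, hb1]
    · rw [hW, smul_mul_smul_comm, inv_mul_cancel₀ h2, one_smul, hb2]
  have hSW : Commute S W := hSbinv.smul_right 2
  set N' : Module.End F (Fin (m + 1) → F) := S * W with hN'
  have hk : ∀ l, kdim N' l = min l (m + 1) := by
    intro l
    rw [hN', kdim_mul_unit S W hSW hWu, kdim_of_isRegNilp hreg, Module.finrank_fin_fun]
  -- the Cayley identity `(1 + N') (1 - S) = 1 + S`
  have hcay : (1 + N') * (1 - S) = 1 + S := by
    have h1 : W * (1 - S) = (2 : F) • 1 := by rw [hW, smul_mul_assoc, hb1]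
    rw [add_mul, one_mul, hN', mul_assoc, h1, mul_smul_comm, mul_one, two_smul]
    abel
  have hkey : ∀ x y : Fin (m + 1) → F,
      revForm F m (x + S x) (y + S y) = revForm F m (x - S x) (y - S y) := by
    intro x y
    simp only [map_add, map_sub, LinearMap.add_apply, LinearMap.sub_apply]
    rw [hS, revForm_skew x y]
    ring
  have hOR : OReal N' := by
    refine ⟨revForm F m, revForm_symm hmeven, revForm_nondeg hmeven, ?_⟩
    intro x y
    have hx : ∀ z : Fin (m + 1) → F, z + N' z = (binv z) + S (binv z) := by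
      intro z
      have h0 : (1 - S) (binv z) = z := by
        rw [← Module.End.mul_apply, hb2, Module.End.one_apply]
      have h1 : (1 + N') ((1 - S) (binv z)) = (1 + S) (binv z) := by
        rw [← Module.End.mul_apply, hcay]
      rw [h0] at h1
      exact h1
    have hz : ∀ z : Fin (m + 1) → F, binv z - S (binv z) = z := by
      intro z
      have h1 : (1 - S) (binv z) = z := by
        rw [← Module.End.mul_apply, hb2, Module.End.one_apply]
      exact h1
    rw [hx, hx, hkey, hz, hz]
  refine ⟨(Fin (m + 1) → F), inferInstance, inferInstance, inferInstance, N', ?_, hk, hOR⟩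
  refine ⟨m + 1, ?_⟩
  have h1 : kdim N' (m + 1) = finrank F (Fin (m + 1) → F) := by
    rw [hk, Module.finrank_fin_fun, min_self]
  unfold kdim at h1
  exact LinearMap.ker_eq_top.mp (Submodule.eq_top_of_finrank_eq h1)

end cayley

section assemble

theorem ogood_of_even (h2 : (2 : F) ≠ 0) {t : ℕ} (d : Fin t → ℕ)
    (h : ∀ j : ℕ, Even j → 0 < j → Even (Finset.univ.filter (fun k : Fin t => d k = j)).card) :
    OGood F (fun l => ∑ k, min l (d k)) := by
  apply ogood_congr (fun l => (sum_min_fiberwise d l).symm)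
  apply ogood_sum
  intro j _
  rcases Nat.even_or_odd j with hj | hj
  · rcases Nat.eq_zero_or_pos j with h0 | h0
    · apply ogood_congr _ ogood_zero
      intro l
      rw [h0, Nat.min_zero, mul_zero]
    · obtain ⟨c, hc⟩ := h j hj h0
      apply ogood_congr _ (ogood_nsmul c (ogood_pair (F := F) j))
      intro l
      rw [hc]
      ring
  · obtain ⟨c, hc⟩ := hj
    rw [hc]
    exact ogood_nsmul _ (ogood_odd_block h2 c)

/-- If the odd powers of the nilpotent part have even rank, even block sizes have even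
multiplicity. -/
theorem even_card_of_even_ranks_odd {t : ℕ} (d : Fin t → ℕ)
    (hrank : ∀ c, Even (finrank F (LinearMap.range ((Nd d F) ^ (2 * c + 1))))) (j : ℕ)
    (hj : Even j) (hj0 : 0 < j) :
    Even (Finset.univ.filter (fun k : Fin t => d k = j)).card := by
  obtain ⟨c', hc'⟩ := hj
  obtain ⟨c, hc⟩ : ∃ c, c' = c + 1 := ⟨c' - 1, by omega⟩
  have h1 := hrank c
  have h2 := hrank (c + 1)
  rw [finrank_range_Nd_pow] at h1 h2
  have h3 : (Finset.univ.filter (fun k : Fin t => d k = j)).card + 2 * ∑ k, (d k - j)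
      = ∑ k, (d k - (2 * c + 1)) + ∑ k, (d k - (2 * (c + 1) + 1)) := by
    rw [Finset.card_filter, Finset.mul_sum, ← Finset.sum_add_distrib, ← Finset.sum_add_distrib]
    apply Finset.sum_congr rfl
    intro k _
    split_ifs with h <;> omega
  obtain ⟨r, hr⟩ := h1
  obtain ⟨r', hr'⟩ := h2
  refine ⟨r + r' - ∑ k, (d k - j), ?_⟩
  omega

end assemble

end Cfsg.Agent.Helper43.JT
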