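import Mathlib
import Cfsg.Prelude.Def_GeometricClasses
import Cfsg.Prelude.Def_Classical
import Cfsg.Agent.Helper13.Symp
import Cfsg.Agent.Helper13.SpMax1
import Cfsg.Agent.Helper13.Isom
import Cfsg.Agent.Helper5.SpCard
import Cfsg.Agent.Helper44.OrthRealizeC
import Cfsg.Agent.S0287
import Cfsg.Agent.S0288

/-!
# Orthogonal groups inside symplectic groups in characteristic two: orders and index

`O(Q) = Sp ⊓ (similarities of Q)` when the polar form of `Q` is the standard alternating form, and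
the index of `O^±_{2d}(q)` in `Sp_{2d}(q)` is `q^d (q^d ± 1) / 2`.
-/

set_option autoImplicit false

namespace Cfsg.Agent.Helper43.SpOrth

open Matrix Cfsg Cfsg.Geo

variable {F : Type*} [Field F] {d : ℕ}

theorem mem_spGL_iff_mem_symp (g : GL (Fin d ⊕ Fin d) F) :
    g ∈ Cfsg.spGL d F ↔
      (g : Matrix (Fin d ⊕ Fin d) (Fin d ⊕ Fin d) F) ∈ Matrix.symplecticGroup (Fin d) F := by
  rw [Cfsg.Agent.Helper13.mem_spGL_iff, Cfsg.Agent.Helper13.mem_symplecticGroup_iff_preserves]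

/-- the symplectic group as a subgroup of `GL` -/
noncomputable def sympToGL :
    ↥(Matrix.symplecticGroup (Fin d) F) →* GL (Fin d ⊕ Fin d) F :=
  (Matrix.symplecticGroup (Fin d) F).subtype.toHomUnits

theorem sympToGL_coe (a : ↥(Matrix.symplecticGroup (Fin d) F)) :
    ((sympToGL a : GL (Fin d ⊕ Fin d) F) : Matrix (Fin d ⊕ Fin d) (Fin d ⊕ Fin d) F)
      = (a : Matrix (Fin d ⊕ Fin d) (Fin d ⊕ Fin d) F) := rfl

theorem sympToGL_mem (a : ↥(Matrix.symplecticGroup (Fin d) F)) :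
    sympToGL a ∈ Cfsg.spGL d F := by
  rw [mem_spGL_iff_mem_symp, sympToGL_coe]
  exact a.2

/-- the two versions of the symplectic group are in bijection -/
noncomputable def spEquiv : ↥(Cfsg.spGL d F) ≃ ↥(Matrix.symplecticGroup (Fin d) F) where
  toFun g := ⟨((g : GL (Fin d ⊕ Fin d) F) : Matrix (Fin d ⊕ Fin d) (Fin d ⊕ Fin d) F),
    (mem_spGL_iff_mem_symp g.1).mp g.2⟩
  invFun a := ⟨sympToGL a, sympToGL_mem a⟩
  left_inv g := by
    apply Subtype.ext
    apply Units.ext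
    rfl
  right_inv a := by
    apply Subtype.ext
    rfl

theorem card_spGL [Fintype F] (d : ℕ) :
    Nat.card ↥(Cfsg.spGL d F) =
      Fintype.card F ^ (d ^ 2) * ∏ i ∈ Finset.range d, (Fintype.card F ^ (2 * (i + 1)) - 1) := by
  rw [Nat.card_congr spEquiv, Cfsg.Agent.Helper5.card_sp]

/-- an isometry of `Q` lies in the symplectic group of the polar form -/
theorem isometry_mem_spGL {Q : (Fin d ⊕ Fin d → F) → F}
    (hQf : ∀ u v, QuadraticMap.polar Q u v = Cfsg.sympForm d F u v)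
    {g : GL (Fin d ⊕ Fin d) F} (hg : g ∈ Cfsg.isometryGroup F Q) : g ∈ Cfsg.spGL d F := by
  rw [Cfsg.Agent.Helper13.mem_spGL_iff]
  rw [Cfsg.Agent.Helper13.mem_isometryGroup_iff] at hg
  intro u v
  rw [← hQf, ← hQf]
  unfold QuadraticMap.polar
  rw [← Matrix.mulVec_add, hg, hg, hg]

theorem isometry_mem_sim {Q : (Fin d ⊕ Fin d → F) → F}
    {g : GL (Fin d ⊕ Fin d) F} (hg : g ∈ Cfsg.isometryGroup F Q) :
    g ∈ Cfsg.Geo.quadSimilarityGroup Q := by
  rw [Cfsg.Agent.Helper13.mem_isometryGroup_iff] at hg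
  refine ⟨1, fun v => ?_⟩
  rw [hg, Units.val_one, one_mul]

/-- a similarity of `Q` lying in the symplectic group of the polar form is an isometry -/
theorem isometry_of_sim_sp (hd : 1 ≤ d) {Q : (Fin d ⊕ Fin d → F) → F}
    (hQ : Cfsg.Geo.IsNondegenerateQuadraticForm Q)
    (hQf : ∀ u v, QuadraticMap.polar Q u v = Cfsg.sympForm d F u v)
    {g : GL (Fin d ⊕ Fin d) F} (hg : g ∈ Cfsg.Geo.quadSimilarityGroup Q)
    (hsp : g ∈ Cfsg.spGL d F) : g ∈ Cfsg.isometryGroup F Q := by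
  classical
  obtain ⟨c, hc⟩ := hg
  rw [Cfsg.Agent.Helper13.mem_spGL_iff] at hsp
  rw [Cfsg.Agent.Helper13.mem_isometryGroup_iff]
  -- a pair with non-zero form value
  set x : Fin d ⊕ Fin d → F := Pi.single (Sum.inl ⟨0, hd⟩) 1 with hx
  have hx0 : x ≠ 0 := by
    intro h
    have := congrFun h (Sum.inl ⟨0, hd⟩)
    rw [hx, Pi.single_eq_same, Pi.zero_apply] at this
    exact one_ne_zero this
  obtain ⟨-, ⟨z, hz⟩⟩ := hQ.nondegenerate x hx0
  have h1 : QuadraticMap.polar Q ((g : Matrix (Fin d ⊕ Fin d) (Fin d ⊕ Fin d) F) *ᵥ x)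
      ((g : Matrix (Fin d ⊕ Fin d) (Fin d ⊕ Fin d) F) *ᵥ z)
      = (c : F) * QuadraticMap.polar Q x z := by
    unfold QuadraticMap.polar
    rw [← Matrix.mulVec_add, hc, hc, hc]
    ring
  rw [hQf, hQf, hsp] at h1
  have hc1 : (c : F) = 1 := by
    rw [hQf] at hz
    have : ((c : F) - 1) * Cfsg.sympForm d F x z = 0 := by
      rw [sub_mul, one_mul, ← h1, sub_self]
    rcases mul_eq_zero.mp this with h | h
    · exact sub_eq_zero.mp h
    · exact absurd h hz
  intro u
  rw [hc, hc1, one_mul]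

theorem sim_inf_sp_eq (hd : 1 ≤ d) {Q : (Fin d ⊕ Fin d → F) → F}
    (hQ : Cfsg.Geo.IsNondegenerateQuadraticForm Q)
    (hQf : ∀ u v, QuadraticMap.polar Q u v = Cfsg.sympForm d F u v) :
    Cfsg.Geo.quadSimilarityGroup Q ⊓ Cfsg.spGL d F = Cfsg.isometryGroup F Q := by
  ext g
  rw [Subgroup.mem_inf]
  constructor
  · rintro ⟨h1, h2⟩
    exact isometry_of_sim_sp hd hQ hQf h1 h2
  · intro h
    exact ⟨isometry_mem_sim h, isometry_mem_spGL hQf h⟩

/-- the order of the symplectic group is the index times the order of the orthogonal group -/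
theorem card_isometry_mul_relIndex (hd : 1 ≤ d) {Q : (Fin d ⊕ Fin d → F) → F}
    (hQ : Cfsg.Geo.IsNondegenerateQuadraticForm Q)
    (hQf : ∀ u v, QuadraticMap.polar Q u v = Cfsg.sympForm d F u v) :
    Nat.card ↥(Cfsg.isometryGroup F Q) * (Cfsg.Geo.quadSimilarityGroup Q).relIndex (Cfsg.spGL d F)
      = Nat.card ↥(Cfsg.spGL d F) := by
  rw [← Subgroup.inf_relIndex_right, sim_inf_sp_eq hd hQ hQf, ← Subgroup.relIndex_bot_left,
    ← Subgroup.relIndex_bot_left]
  exact Subgroup.relIndex_mul_relIndex _ _ _ bot_le (fun g hg => isometry_mem_spGL hQf hg)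

/-- isometric forms have isometry groups of the same order -/
theorem card_isometryGroup_congr [Finite F] {ι κ : Type} [Fintype ι] [DecidableEq ι] [Fintype κ]
    [DecidableEq κ] (Q₁ : (ι → F) → F) (Q₂ : (κ → F) → F) (C : (ι → F) ≃ₗ[F] (κ → F))
    (hC : ∀ w, Q₂ (C w) = Q₁ w) :
    Nat.card ↥(Cfsg.isometryGroup F Q₁) = Nat.card ↥(Cfsg.isometryGroup F Q₂) := by
  have hC' : ∀ w, Q₁ (C.symm w) = Q₂ w := by
    intro w
    rw [← hC, LinearEquiv.apply_symm_apply]
  have : Fintype F := Fintype.ofFinite F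
  apply le_antisymm
  · exact Nat.card_le_card_of_injective _
      (Cfsg.Agent.Helper44.QType.isoTransport_injective Q₁ Q₂ C hC)
  · exact Nat.card_le_card_of_injective _
      (Cfsg.Agent.Helper44.QType.isoTransport_injective Q₂ Q₁ C.symm hC')

end Cfsg.Agent.Helper43.SpOrth
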