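import Mathlib

set_option autoImplicit false

namespace Cfsg.Agent.Helper43.SpReg

section abs

variable {F : Type*} [Field F] {A : Type*} [CommRing A] [Algebra F A]

/-- A commutative `F`-algebra with an augmentation `ε` detecting units and an involution `σ`. -/
structure InvData (ε : A →ₐ[F] F) (σ : A ≃ₐ[F] A) : Prop where
  unit_of_ne : ∀ x, ε x ≠ 0 → IsUnit x
  invol : ∀ x, σ (σ x) = x
  two_ne : (2 : F) ≠ 0

variable {ε : A →ₐ[F] F} {σ : A ≃ₐ[F] A} (h : InvData ε σ)

include h

omit h in
theorem InvData.ne_of_unit {x : A} (hx : IsUnit x) : ε x ≠ 0 := by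
  obtain ⟨u, rfl⟩ := hx
  intro h0
  have : ε (u : A) * ε ((u⁻¹ : Aˣ) : A) = 1 := by rw [← map_mul, Units.mul_inv, map_one]
  rw [h0, zero_mul] at this
  exact zero_ne_one this

theorem InvData.eps_sigma (x : A) : ε (σ x) = ε x := by
  by_contra hne
  set b : A := x - algebraMap F A (ε x) with hb
  have hb0 : ε b = 0 := by rw [hb, map_sub, AlgHom.commutes, Algebra.algebraMap_self_apply, sub_self]
  have hb1 : ε (σ b) ≠ 0 := by
    rw [hb, map_sub, map_sub, AlgEquiv.commutes, AlgHom.commutes, Algebra.algebraMap_self_apply]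
    exact sub_ne_zero.mpr hne
  have hu : IsUnit (σ b) := h.unit_of_ne _ hb1
  have hu' : IsUnit (σ (σ b)) := hu.map σ
  rw [h.invol] at hu'
  exact InvData.ne_of_unit hu' hb0

theorem InvData.isUnit_two : IsUnit (2 : A) := by
  apply h.unit_of_ne
  rw [map_ofNat]
  exact h.two_ne

/-- Skew elements have augmentation zero. -/
theorem InvData.eps_skew {c : A} (hc : σ c = -c) : ε c = 0 := by
  have h1 := h.eps_sigma c
  rw [hc, map_neg] at h1
  have h2 : (2 : F) * ε c = 0 := by
    rw [two_mul]
    nth_rewrite 1 [← h1]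
    exact neg_add_cancel _
  rcases mul_eq_zero.mp h2 with h3 | h3
  · exact absurd h3 h.two_ne
  · exact h3

omit h in
/-- The Cayley transform `(1 - x) / (1 + x)`. -/
noncomputable def cay (x : A) : A := (1 - x) * Ring.inverse (1 + x)

omit h in
theorem one_add_cay {x : A} (hx : IsUnit (1 + x)) : 1 + cay x = 2 * Ring.inverse (1 + x) := by
  unfold cay
  have h1 : (1 + x) * Ring.inverse (1 + x) = 1 := Ring.mul_inverse_cancel _ hx
  calc 1 + (1 - x) * Ring.inverse (1 + x)
      = (1 + x) * Ring.inverse (1 + x) + (1 - x) * Ring.inverse (1 + x) := by rw [h1]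
    _ = 2 * Ring.inverse (1 + x) := by ring

omit h in
theorem one_sub_cay {x : A} (hx : IsUnit (1 + x)) : 1 - cay x = 2 * x * Ring.inverse (1 + x) := by
  unfold cay
  have h1 : (1 + x) * Ring.inverse (1 + x) = 1 := Ring.mul_inverse_cancel _ hx
  calc 1 - (1 - x) * Ring.inverse (1 + x)
      = (1 + x) * Ring.inverse (1 + x) - (1 - x) * Ring.inverse (1 + x) := by rw [h1]
    _ = 2 * x * Ring.inverse (1 + x) := by ring

theorem InvData.isUnit_one_add_cay {x : A} (hx : IsUnit (1 + x)) : IsUnit (1 + cay x) := by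
  rw [one_add_cay hx]
  exact h.isUnit_two.mul (by
    obtain ⟨u, hu⟩ := hx
    rw [← hu, Ring.inverse_unit]
    exact (u⁻¹).isUnit)

theorem InvData.cay_cay {x : A} (hx : IsUnit (1 + x)) : cay (cay x) = x := by
  have hu := h.isUnit_one_add_cay hx
  have h1 : (1 + x) * Ring.inverse (1 + x) = 1 := Ring.mul_inverse_cancel _ hx
  show (1 - cay x) * Ring.inverse (1 + cay x) = x
  symm
  rw [Ring.eq_mul_inverse_iff_mul_eq _ _ _ hu, one_add_cay hx, one_sub_cay hx]
  ring

omit h in
theorem sigma_inverse {y : A} (hy : IsUnit y) : σ (Ring.inverse y) = Ring.inverse (σ y) := by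
  have h1 : σ y * σ (Ring.inverse y) = 1 := by
    rw [← map_mul, Ring.mul_inverse_cancel _ hy, map_one]
  have hu : IsUnit (σ y) := hy.map σ
  calc σ (Ring.inverse y) = Ring.inverse (σ y) * (σ y * σ (Ring.inverse y)) := by
        rw [← mul_assoc, Ring.inverse_mul_cancel _ hu, one_mul]
    _ = Ring.inverse (σ y) := by rw [h1, mul_one]

omit h in
theorem sigma_cay {x : A} (hx : IsUnit (1 + x)) : σ (cay x) = cay (σ x) := by
  unfold cay
  rw [map_mul, map_sub, map_one, sigma_inverse hx, map_add, map_one]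

/-- The Cayley transform of a norm-one element with augmentation one is skew. -/
theorem InvData.cay_skew_of_norm {a : A} (ha : a * σ a = 1) (hε : ε a = 1) : σ (cay a) = -cay a := by
  have hu : IsUnit (1 + a) := h.unit_of_ne _ (by
    rw [map_add, map_one, hε, one_add_one_eq_two]; exact h.two_ne)
  have hu' : IsUnit (1 + σ a) := by
    have := hu.map σ
    rwa [map_add, map_one] at this
  rw [sigma_cay hu]
  unfold cay
  have h1 : (1 + a) * Ring.inverse (1 + a) = 1 := Ring.mul_inverse_cancel _ hu
  have h2 : (1 + σ a) * Ring.inverse (1 + σ a) = 1 := Ring.mul_inverse_cancel _ hu'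
  -- multiply out
  have key : (1 - σ a) * (1 + a) = -((1 - a) * (1 + σ a)) := by
    have : (1 - σ a) * (1 + a) + (1 - a) * (1 + σ a) = 2 - 2 * (a * σ a) := by ring
    rw [ha] at this
    have h3 : (1 - σ a) * (1 + a) + (1 - a) * (1 + σ a) = 0 := by rw [this]; ring
    exact eq_neg_of_add_eq_zero_left h3
  calc (1 - σ a) * Ring.inverse (1 + σ a)
      = ((1 - σ a) * (1 + a)) * (Ring.inverse (1 + a) * Ring.inverse (1 + σ a)) := by
        rw [mul_assoc, ← mul_assoc (1 + a), h1, one_mul]
    _ = -((1 - a) * (1 + σ a)) * (Ring.inverse (1 + a) * Ring.inverse (1 + σ a)) := by rw [key]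
    _ = -((1 - a) * Ring.inverse (1 + a)) * ((1 + σ a) * Ring.inverse (1 + σ a)) := by ring
    _ = -((1 - a) * Ring.inverse (1 + a)) := by rw [h2, mul_one]

/-- The Cayley transform of a skew element has norm one and augmentation one. -/
theorem InvData.cay_norm_of_skew {c : A} (hc : σ c = -c) :
    cay c * σ (cay c) = 1 ∧ ε (cay c) = 1 := by
  have hε0 := h.eps_skew hc
  have hu : IsUnit (1 + c) := h.unit_of_ne _ (by rw [map_add, map_one, hε0, add_zero]; exact one_ne_zero)
  have hu' : IsUnit (1 - c) := h.unit_of_ne _ (by rw [map_sub, map_one, hε0, sub_zero]; exact one_ne_zero)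
  have h1 : (1 + c) * Ring.inverse (1 + c) = 1 := Ring.mul_inverse_cancel _ hu
  have h2 : (1 - c) * Ring.inverse (1 - c) = 1 := Ring.mul_inverse_cancel _ hu'
  constructor
  · rw [sigma_cay hu, hc]
    unfold cay
    rw [sub_neg_eq_add, ← sub_eq_add_neg]
    calc (1 - c) * Ring.inverse (1 + c) * ((1 + c) * Ring.inverse (1 - c))
        = ((1 - c) * Ring.inverse (1 - c)) * ((1 + c) * Ring.inverse (1 + c)) := by ring
      _ = 1 := by rw [h1, h2, mul_one]
  · have h3 : ε (cay c) * ε (1 + c) = ε (1 - c) := by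
      rw [← map_mul]
      unfold cay
      rw [mul_assoc, Ring.inverse_mul_cancel _ hu, mul_one]
    rw [map_add, map_sub, map_one, hε0, add_zero, sub_zero, mul_one] at h3
    exact h3

/-- Norm-one elements have augmentation `±1`. -/
theorem InvData.eps_of_norm {a : A} (ha : a * σ a = 1) : ε a = 1 ∨ ε a = -1 := by
  have h1 : ε a * ε a = 1 := by
    have := congrArg ε ha
    rw [map_mul, h.eps_sigma, map_one] at this
    exact this
  exact mul_self_eq_one_iff.mp h1

/-- Cayley bijection between norm-one elements of augmentation one and skew elements. -/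
noncomputable def InvData.cayEquiv :
    {a : A // a * σ a = 1 ∧ ε a = 1} ≃ {c : A // σ c = -c} where
  toFun a := ⟨cay a.1, h.cay_skew_of_norm a.2.1 a.2.2⟩
  invFun c := ⟨cay c.1, h.cay_norm_of_skew c.2⟩
  left_inv a := by
    apply Subtype.ext
    have hu : IsUnit (1 + a.1) := h.unit_of_ne _ (by
      rw [map_add, map_one, a.2.2, one_add_one_eq_two]; exact h.two_ne)
    exact h.cay_cay hu
  right_inv c := by
    apply Subtype.ext
    have hu : IsUnit (1 + c.1) := h.unit_of_ne _ (by
      rw [map_add, map_one, h.eps_skew c.2, add_zero]; exact one_ne_zero)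
    exact h.cay_cay hu

omit h in
/-- Negation swaps the two augmentation classes of norm-one elements. -/
def InvData.negEquiv :
    {a : A // a * σ a = 1 ∧ ε a = 1} ≃ {a : A // a * σ a = 1 ∧ ε a = -1} where
  toFun a := ⟨-a.1, by rw [map_neg, neg_mul_neg]; exact a.2.1, by rw [map_neg, a.2.2]⟩
  invFun a := ⟨-a.1, by rw [map_neg, neg_mul_neg]; exact a.2.1, by rw [map_neg, a.2.2, neg_neg]⟩
  left_inv a := Subtype.ext (neg_neg _)
  right_inv a := Subtype.ext (neg_neg _)

theorem InvData.card_norm_one [Finite A] :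
    Nat.card {a : A // a * σ a = 1} = 2 * Nat.card {c : A // σ c = -c} := by
  classical
  have hne : (1 : F) ≠ -1 := by
    intro h1
    have : (2 : F) = 0 := by
      rw [← one_add_one_eq_two]
      nth_rewrite 2 [h1]
      exact add_neg_cancel _
    exact h.two_ne this
  have e : {a : A // a * σ a = 1} ≃
      {a : A // a * σ a = 1 ∧ ε a = 1} ⊕ {a : A // a * σ a = 1 ∧ ε a = -1} :=
    { toFun := fun a => if h1 : ε a.1 = 1 then Sum.inl ⟨a.1, a.2, h1⟩
        else Sum.inr ⟨a.1, a.2, (h.eps_of_norm a.2).resolve_left h1⟩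
      invFun := fun s => Sum.elim (fun a => ⟨a.1, a.2.1⟩) (fun a => ⟨a.1, a.2.1⟩) s
      left_inv := by
        intro a
        by_cases h1 : ε a.1 = 1
        · simp [h1]
        · simp [h1]
      right_inv := by
        rintro (a | a)
        · simp [a.2.2]
        · have h1 : ¬ ε a.1 = 1 := by rw [a.2.2]; exact fun h2 => hne h2.symm
          simp [h1] }
  rw [Nat.card_congr e, Nat.card_sum, ← Nat.card_congr (InvData.negEquiv (ε := ε) (σ := σ)),
    Nat.card_congr h.cayEquiv]
  ring


/-- In a finite algebra every symmetric element of augmentation one is the square of such an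
element. -/
theorem InvData.exists_sq [Finite A] {d : A} (hd : σ d = d) (hε : ε d = 1) :
    ∃ y : A, σ y = y ∧ ε y = 1 ∧ y * y = d := by
  let S := {x : A // σ x = x ∧ ε x = 1}
  let sq : S → S := fun x => ⟨x.1 * x.1, by rw [map_mul, x.2.1], by rw [map_mul, x.2.2, mul_one]⟩
  have hinj : Function.Injective sq := by
    intro x y hxy
    have h1 : x.1 * x.1 = y.1 * y.1 := congrArg Subtype.val hxy
    have h2 : (x.1 + y.1) * (x.1 - y.1) = 0 := by
      have : (x.1 + y.1) * (x.1 - y.1) = x.1 * x.1 - y.1 * y.1 := by ring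
      rw [this, h1, sub_self]
    have hu : IsUnit (x.1 + y.1) := h.unit_of_ne _ (by
      rw [map_add, x.2.2, y.2.2, one_add_one_eq_two]; exact h.two_ne)
    have h3 : x.1 - y.1 = 0 := by
      have := congrArg (fun z => Ring.inverse (x.1 + y.1) * z) h2
      simp only [mul_zero] at this
      rwa [← mul_assoc, Ring.inverse_mul_cancel _ hu, one_mul] at this
    exact Subtype.ext (sub_eq_zero.mp h3)
  have hsurj : Function.Surjective sq := Finite.injective_iff_surjective.mp hinj
  obtain ⟨y, hy⟩ := hsurj ⟨d, hd, hε⟩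
  exact ⟨y.1, y.2.1, y.2.2, congrArg Subtype.val hy⟩

/-- Norm surjectivity: a symmetric element whose augmentation is a nonzero square is a norm. -/
theorem InvData.exists_norm [Finite A] {d : A} (hd : σ d = d) {t : F} (ht : t ≠ 0)
    (hε : ε d = t * t) : ∃ a : A, a * σ a = d := by
  set d' : A := (t * t)⁻¹ • d with hd'
  have h1 : σ d' = d' := by rw [hd', map_smul, hd]
  have h2 : ε d' = 1 := by
    rw [hd', map_smul, hε, smul_eq_mul, inv_mul_cancel₀ (mul_ne_zero ht ht)]
  obtain ⟨y, hy1, _, hy3⟩ := h.exists_sq h1 h2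
  refine ⟨t • y, ?_⟩
  rw [map_smul, hy1, smul_mul_smul_comm, hy3, hd', smul_smul, mul_inv_cancel₀ (mul_ne_zero ht ht),
    one_smul]

end abs

end Cfsg.Agent.Helper43.SpReg
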