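import Mathlib
import Cfsg.Agent.Helper43.RegUnipCent

set_option autoImplicit false

namespace Cfsg.Agent.Helper43.SpReg

open Module Matrix

section vec

variable {F : Type*} [Field F] {n : Type*} [Fintype n] [DecidableEq n]

/-- A regular nilpotent matrix together with a chosen cyclic vector. -/
structure CycData (N : Matrix n n F) (v0 : n → F) : Prop where
  reg : IsRegNilp (Matrix.toLin' N)
  pos : 0 < finrank F (n → F)
  cyc : (Matrix.toLin' N ^ (finrank F (n → F) - 1)) v0 ≠ 0

variable {N : Matrix n n F} {v0 : n → F}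

theorem toLin'_commute {g : Matrix n n F} (hg : g * N = N * g) :
    Matrix.toLin' g * Matrix.toLin' N = Matrix.toLin' N * Matrix.toLin' g := by
  rw [Module.End.mul_eq_comp, Module.End.mul_eq_comp, ← Matrix.toLin'_mul, ← Matrix.toLin'_mul, hg]

theorem CycData.eq_zero_of_commute (h : CycData N v0) {g : Matrix n n F} (hg : g * N = N * g)
    (h0 : g *ᵥ v0 = 0) : g = 0 := by
  have := h.reg.eq_zero_of_commute_of_apply_cyclic h.cyc (toLin'_commute hg)
    (by rw [Matrix.toLin'_apply]; exact h0)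
  exact (Matrix.toLin' (R := F)).injective (by rw [this, map_zero])

theorem commute_of_mem_adjoin {a : Matrix n n F} (ha : a ∈ Algebra.adjoin F {N}) :
    a * N = N * a :=
  ((Algebra.commute_of_mem_adjoin_singleton_of_commute ha (Commute.refl N)).eq).symm

theorem CycData.exists_adjoin_apply (h : CycData N v0) (w : n → F) :
    ∃ a ∈ Algebra.adjoin F {N}, a *ᵥ v0 = w := by
  let W : Submodule F (n → F) :=
    { carrier := {w | ∃ a ∈ Algebra.adjoin F {N}, a *ᵥ v0 = w}
      add_mem' := by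
        rintro x y ⟨a, ha, rfl⟩ ⟨b, hb, rfl⟩
        exact ⟨a + b, add_mem ha hb, Matrix.add_mulVec _ _ _⟩
      zero_mem' := ⟨0, zero_mem _, Matrix.zero_mulVec _⟩
      smul_mem' := by
        rintro c x ⟨a, ha, rfl⟩
        exact ⟨c • a, Subalgebra.smul_mem _ ha c, Matrix.smul_mulVec _ _ _⟩ }
  have hW : W = ⊤ := by
    apply h.reg.eq_top_of_cyclic_mem h.cyc W
    · rintro _ ⟨a, ha, rfl⟩
      exact ⟨N * a, mul_mem (Algebra.self_mem_adjoin_singleton F N) ha, by
        rw [Matrix.toLin'_apply, Matrix.mulVec_mulVec]⟩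
    · exact ⟨1, one_mem _, Matrix.one_mulVec _⟩
  have : w ∈ W := by rw [hW]; trivial
  exact this

/-- The centraliser of a regular nilpotent matrix is the algebra it generates. -/
theorem CycData.mem_adjoin_iff (h : CycData N v0) {g : Matrix n n F} :
    g ∈ Algebra.adjoin F {N} ↔ g * N = N * g := by
  constructor
  · exact commute_of_mem_adjoin
  · intro hg
    obtain ⟨a, ha, hav⟩ := h.exists_adjoin_apply (g *ᵥ v0)
    have hcomm : (g - a) * N = N * (g - a) := by
      rw [sub_mul, mul_sub, hg, commute_of_mem_adjoin ha]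
    have h0 : (g - a) *ᵥ v0 = 0 := by rw [Matrix.sub_mulVec, hav, sub_self]
    have := h.eq_zero_of_commute hcomm h0
    rw [sub_eq_zero.mp this]
    exact ha

/-- The socle vector. -/
noncomputable def x0 (N : Matrix n n F) (v0 : n → F) : n → F :=
  (Matrix.toLin' N ^ (finrank F (n → F) - 1)) v0

theorem CycData.x0_ne (h : CycData N v0) : x0 N v0 ≠ 0 := h.cyc

theorem CycData.N_x0 (h : CycData N v0) : N *ᵥ x0 N v0 = 0 := by
  unfold x0
  rw [← Matrix.toLin'_apply, ← Module.End.mul_apply, ← pow_succ', Nat.sub_add_cancel h.pos,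
    h.reg.pow_eq_zero]
  rfl

theorem CycData.exists_smul (h : CycData N v0) {a : Matrix n n F} (ha : a * N = N * a) :
    ∃ c : F, a *ᵥ x0 N v0 = c • x0 N v0 := by
  obtain ⟨v, hv⟩ := finrank_le_one_iff.mp h.reg.ker_le_one
  have hx : x0 N v0 ∈ LinearMap.ker (Matrix.toLin' N) := by
    rw [LinearMap.mem_ker, Matrix.toLin'_apply]; exact h.N_x0
  have hax : a *ᵥ x0 N v0 ∈ LinearMap.ker (Matrix.toLin' N) := by
    rw [LinearMap.mem_ker, Matrix.toLin'_apply, Matrix.mulVec_mulVec, ← ha, ← Matrix.mulVec_mulVec,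
      h.N_x0, Matrix.mulVec_zero]
  obtain ⟨c0, hc0⟩ := hv ⟨_, hx⟩
  obtain ⟨c1, hc1⟩ := hv ⟨_, hax⟩
  have hc0' : c0 • (v : n → F) = x0 N v0 := congrArg Subtype.val hc0
  have hc1' : c1 • (v : n → F) = a *ᵥ x0 N v0 := congrArg Subtype.val hc1
  have hne : c0 ≠ 0 := by
    intro h0
    rw [h0, zero_smul] at hc0'
    exact h.x0_ne hc0'.symm
  refine ⟨c1 * c0⁻¹, ?_⟩
  rw [← hc1', ← hc0', smul_smul, mul_assoc, inv_mul_cancel₀ hne, mul_one]

/-- The augmentation: the eigenvalue on the socle. -/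
theorem CycData.exists_eps (h : CycData N v0) :
    ∃ ε : (Algebra.adjoin F {N}) →ₐ[F] F,
      ∀ a : Algebra.adjoin F {N}, (a : Matrix n n F) *ᵥ x0 N v0 = ε a • x0 N v0 := by
  obtain ⟨i, hi⟩ : ∃ i, x0 N v0 i ≠ 0 := by
    by_contra hcon
    push Not at hcon
    exact h.x0_ne (funext hcon)
  let lin : (Algebra.adjoin F {N}) →ₗ[F] F :=
    { toFun := fun a => (x0 N v0 i)⁻¹ * ((a : Matrix n n F) *ᵥ x0 N v0) i
      map_add' := by
        intro a b
        rw [Subalgebra.coe_add, Matrix.add_mulVec, Pi.add_apply, mul_add]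
      map_smul' := by
        intro c a
        rw [Subalgebra.coe_smul, Matrix.smul_mulVec, Pi.smul_apply, smul_eq_mul, RingHom.id_apply,
          smul_eq_mul]
        ring }
  have hlin : ∀ a : Algebra.adjoin F {N}, (a : Matrix n n F) *ᵥ x0 N v0 = lin a • x0 N v0 := by
    intro a
    obtain ⟨c, hc⟩ := h.exists_smul (commute_of_mem_adjoin a.2)
    have : lin a = c := by
      show (x0 N v0 i)⁻¹ * ((a : Matrix n n F) *ᵥ x0 N v0) i = c
      rw [hc, Pi.smul_apply, smul_eq_mul, mul_comm c, ← mul_assoc, inv_mul_cancel₀ hi, one_mul]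
    rw [this, hc]
  have hinj : ∀ c c' : F, c • x0 N v0 = c' • x0 N v0 → c = c' := by
    intro c c' hcc
    exact smul_left_injective F h.x0_ne hcc
  refine ⟨AlgHom.ofLinearMap lin ?_ ?_, hlin⟩
  · apply hinj
    rw [← hlin, Subalgebra.coe_one, Matrix.one_mulVec, one_smul]
  · intro a b
    apply hinj
    rw [← hlin, Subalgebra.coe_mul, ← Matrix.mulVec_mulVec, hlin b, Matrix.mulVec_smul, hlin a,
      smul_smul, mul_comm]

/-- Elements of nonzero augmentation are units. -/
theorem CycData.isUnit_of_eps_ne (h : CycData N v0) (ε : (Algebra.adjoin F {N}) →ₐ[F] F)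
    (hε : ∀ a : Algebra.adjoin F {N}, (a : Matrix n n F) *ᵥ x0 N v0 = ε a • x0 N v0)
    (a : Algebra.adjoin F {N}) (ha : ε a ≠ 0) : IsUnit a := by
  have hcomm := commute_of_mem_adjoin a.2
  have hu : IsUnit (Matrix.toLin' (a : Matrix n n F)) := by
    rw [h.reg.isUnit_iff_of_commute h.pos h.cyc (toLin'_commute hcomm)]
    have hc := IsRegNilp.commute_pow (toLin'_commute hcomm) (finrank F (n → F) - 1)
    have h2 : (Matrix.toLin' N ^ (finrank F (n → F) - 1)) (Matrix.toLin' (a : Matrix n n F) v0)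
        = (a : Matrix n n F) *ᵥ x0 N v0 := by
      have := congrArg (fun f : Module.End F (n → F) => f v0) hc
      simp only [Module.End.mul_apply] at this
      rw [← this, Matrix.toLin'_apply]
      rfl
    rw [h2, hε]
    exact smul_ne_zero ha h.x0_ne
  have hu' : IsUnit (a : Matrix n n F) := by
    have := hu.map (Matrix.toLinAlgEquiv' (R := F) (n := n)).symm
    simpa using this
  obtain ⟨b, hb⟩ := hu'
  have hbi : ((b⁻¹ : (Matrix n n F)ˣ) : Matrix n n F) ∈ Algebra.adjoin F {N} := by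
    rw [h.mem_adjoin_iff]
    have h1 : (b : Matrix n n F) * N = N * b := by rw [hb]; exact hcomm
    calc ((b⁻¹ : (Matrix n n F)ˣ) : Matrix n n F) * N
        = ((b⁻¹ : (Matrix n n F)ˣ) : Matrix n n F) * (N * b) * ((b⁻¹ : (Matrix n n F)ˣ) : Matrix n n F) := by
          rw [mul_assoc, mul_assoc, Units.mul_inv, mul_one]
      _ = N * ((b⁻¹ : (Matrix n n F)ˣ) : Matrix n n F) := by
          rw [← h1, ← mul_assoc, Units.inv_mul, one_mul]
  rw [isUnit_iff_exists_inv]
  refine ⟨⟨_, hbi⟩, ?_⟩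
  apply Subtype.ext
  rw [Subalgebra.coe_mul, Subalgebra.coe_one, ← hb]
  exact Units.mul_inv b

end vec

end Cfsg.Agent.Helper43.SpReg
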