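import Mathlib
import Cfsg.Agent.Helper43.SpRegVec
import Cfsg.Agent.Helper43.SpRegAbs

set_option autoImplicit false

namespace Cfsg.Agent.Helper43.SpReg

open Module Matrix
open scoped IsMulCommutative

section adj

variable {F : Type*} [Field F] {l : Type*} [Fintype l] [DecidableEq l]

/-- The adjoint with respect to the standard alternating form. -/
def adj (g : Matrix (l ⊕ l) (l ⊕ l) F) : Matrix (l ⊕ l) (l ⊕ l) F :=
  -(Matrix.J l F) * gᵀ * Matrix.J l F

theorem adj_add (g h : Matrix (l ⊕ l) (l ⊕ l) F) : adj (g + h) = adj g + adj h := by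
  unfold adj
  rw [transpose_add, mul_add, add_mul]

theorem adj_sub (g h : Matrix (l ⊕ l) (l ⊕ l) F) : adj (g - h) = adj g - adj h := by
  unfold adj
  rw [transpose_sub, mul_sub, sub_mul]

theorem adj_smul (c : F) (g : Matrix (l ⊕ l) (l ⊕ l) F) : adj (c • g) = c • adj g := by
  unfold adj
  rw [transpose_smul, mul_smul_comm, smul_mul_assoc]

theorem adj_one : adj (1 : Matrix (l ⊕ l) (l ⊕ l) F) = 1 := by
  unfold adj
  rw [transpose_one, mul_one, neg_mul, Matrix.J_squared, neg_neg]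

theorem adj_mul (g h : Matrix (l ⊕ l) (l ⊕ l) F) : adj (g * h) = adj h * adj g := by
  unfold adj
  rw [transpose_mul]
  have hJ := Matrix.J_squared l F
  calc -(Matrix.J l F) * (hᵀ * gᵀ) * Matrix.J l F
      = (Matrix.J l F) * hᵀ * (-1) * gᵀ * Matrix.J l F := by
        simp only [mul_neg, neg_mul, mul_one, mul_assoc]
    _ = -(Matrix.J l F) * hᵀ * Matrix.J l F * (-(Matrix.J l F) * gᵀ * Matrix.J l F) := by
        rw [← hJ]
        simp only [mul_neg, neg_mul, neg_neg, mul_assoc]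

theorem adj_adj (g : Matrix (l ⊕ l) (l ⊕ l) F) : adj (adj g) = g := by
  unfold adj
  rw [transpose_mul, transpose_mul, transpose_neg, Matrix.J_transpose, transpose_transpose, neg_neg]
  have hJ := Matrix.J_squared l F
  calc -(Matrix.J l F) * (-(Matrix.J l F) * (g * Matrix.J l F)) * Matrix.J l F
      = (Matrix.J l F * Matrix.J l F) * g * (Matrix.J l F * Matrix.J l F) := by
        simp only [mul_neg, neg_mul, neg_neg, mul_assoc]
    _ = g := by rw [hJ]; simp

theorem adj_mul_self_of_mem {g : Matrix (l ⊕ l) (l ⊕ l) F} (hg : g ∈ symplecticGroup l F) :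
    adj g * g = 1 := by
  have := SymplecticGroup.inv_left_mul_aux hg
  unfold adj
  rw [← this]
  simp only [neg_mul, mul_assoc]

theorem mem_of_adj_mul_self {g : Matrix (l ⊕ l) (l ⊕ l) F} (hg : adj g * g = 1) :
    g ∈ symplecticGroup l F := by
  rw [SymplecticGroup.mem_iff']
  have hJ := Matrix.J_squared l F
  have h1 : Matrix.J l F * (adj g * g) = gᵀ * Matrix.J l F * g := by
    unfold adj
    calc Matrix.J l F * (-(Matrix.J l F) * gᵀ * Matrix.J l F * g)
        = -(Matrix.J l F * Matrix.J l F) * gᵀ * Matrix.J l F * g := by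
          simp only [mul_neg, neg_mul, mul_assoc]
      _ = gᵀ * Matrix.J l F * g := by rw [hJ, neg_neg, one_mul]
  rw [← h1, hg, mul_one]

theorem mem_symp_iff {g : Matrix (l ⊕ l) (l ⊕ l) F} :
    g ∈ symplecticGroup l F ↔ adj g * g = 1 :=
  ⟨adj_mul_self_of_mem, mem_of_adj_mul_self⟩

theorem coe_inv_eq_adj (s : symplecticGroup l F) :
    ((s⁻¹ : symplecticGroup l F) : Matrix (l ⊕ l) (l ⊕ l) F) = adj (s : Matrix (l ⊕ l) (l ⊕ l) F) :=
  rfl

end adj


section sigma

variable {F : Type*} [Field F] {l : Type*} [Fintype l] [DecidableEq l]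
variable {u0 : Matrix (l ⊕ l) (l ⊕ l) F} {v0 : l ⊕ l → F}

/-- Standing hypotheses: a regular unipotent symplectic matrix with a cyclic vector, in odd
characteristic. -/
structure SpData (u0 : Matrix (l ⊕ l) (l ⊕ l) F) (v0 : l ⊕ l → F) : Prop where
  mem : u0 ∈ symplecticGroup l F
  cyc : CycData (u0 - 1) v0
  two_ne : (2 : F) ≠ 0

omit [Fintype l] [DecidableEq l] in
theorem commute_sub_one_iff {n : Type*} [Fintype n] [DecidableEq n] {g u : Matrix n n F} :
    g * (u - 1) = (u - 1) * g ↔ g * u = u * g := by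
  rw [mul_sub, sub_mul, mul_one, one_mul, sub_left_inj]

theorem SpData.adj_mul_self (h : SpData u0 v0) : adj u0 * u0 = 1 := adj_mul_self_of_mem h.mem

theorem SpData.self_mul_adj (h : SpData u0 v0) : u0 * adj u0 = 1 :=
  mul_eq_one_comm.mp h.adj_mul_self

theorem SpData.adj_commute (h : SpData u0 v0) {a : Matrix (l ⊕ l) (l ⊕ l) F}
    (ha : a * u0 = u0 * a) : adj a * u0 = u0 * adj a := by
  have h1 : adj u0 * adj a = adj a * adj u0 := by rw [← adj_mul, ← adj_mul, ha]
  calc adj a * u0 = (u0 * adj u0) * adj a * u0 := by rw [h.self_mul_adj, one_mul]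
    _ = u0 * (adj u0 * adj a) * u0 := by simp only [mul_assoc]
    _ = u0 * (adj a * adj u0) * u0 := by rw [h1]
    _ = u0 * adj a * (adj u0 * u0) := by simp only [mul_assoc]
    _ = u0 * adj a := by rw [h.adj_mul_self, mul_one]

theorem SpData.mem_iff (h : SpData u0 v0) {a : Matrix (l ⊕ l) (l ⊕ l) F} :
    a ∈ Algebra.adjoin F {u0 - 1} ↔ a * u0 = u0 * a := by
  rw [h.cyc.mem_adjoin_iff, commute_sub_one_iff]

theorem SpData.adj_mem (h : SpData u0 v0) {a : Matrix (l ⊕ l) (l ⊕ l) F}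
    (ha : a ∈ Algebra.adjoin F {u0 - 1}) : adj a ∈ Algebra.adjoin F {u0 - 1} := by
  rw [h.mem_iff] at ha ⊢
  exact h.adj_commute ha

/-- The involution induced by the adjoint on the commutative algebra `F[u0 - 1]`. -/
noncomputable def SpData.sigma₀ (h : SpData u0 v0) :
    (Algebra.adjoin F {u0 - 1}) →ₐ[F] (Algebra.adjoin F {u0 - 1}) :=
  AlgHom.ofLinearMap
    { toFun := fun a => ⟨adj (a : Matrix (l ⊕ l) (l ⊕ l) F), h.adj_mem a.2⟩
      map_add' := fun a b => Subtype.ext (adj_add _ _)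
      map_smul' := fun c a => Subtype.ext (adj_smul _ _) }
    (Subtype.ext adj_one)
    (fun a b => Subtype.ext (by
      show adj ((a : Matrix (l ⊕ l) (l ⊕ l) F) * (b : Matrix (l ⊕ l) (l ⊕ l) F))
        = adj (a : Matrix (l ⊕ l) (l ⊕ l) F) * adj (b : Matrix (l ⊕ l) (l ⊕ l) F)
      rw [adj_mul]
      have := mul_comm (⟨adj (b : Matrix (l ⊕ l) (l ⊕ l) F), h.adj_mem b.2⟩ : Algebra.adjoin F {u0 - 1})
        ⟨adj (a : Matrix (l ⊕ l) (l ⊕ l) F), h.adj_mem a.2⟩
      exact congrArg Subtype.val this))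

theorem SpData.sigma₀_coe (h : SpData u0 v0) (a : Algebra.adjoin F {u0 - 1}) :
    ((h.sigma₀ a : Algebra.adjoin F {u0 - 1}) : Matrix (l ⊕ l) (l ⊕ l) F)
      = adj (a : Matrix (l ⊕ l) (l ⊕ l) F) := rfl

noncomputable def SpData.sigma (h : SpData u0 v0) :
    (Algebra.adjoin F {u0 - 1}) ≃ₐ[F] (Algebra.adjoin F {u0 - 1}) :=
  AlgEquiv.ofAlgHom h.sigma₀ h.sigma₀
    (by ext a; simp only [AlgHom.coe_comp, Function.comp_apply, AlgHom.coe_id, id_eq]
        rw [h.sigma₀_coe, h.sigma₀_coe, adj_adj])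
    (by ext a; simp only [AlgHom.coe_comp, Function.comp_apply, AlgHom.coe_id, id_eq]
        rw [h.sigma₀_coe, h.sigma₀_coe, adj_adj])

theorem SpData.sigma_coe (h : SpData u0 v0) (a : Algebra.adjoin F {u0 - 1}) :
    ((h.sigma a : Algebra.adjoin F {u0 - 1}) : Matrix (l ⊕ l) (l ⊕ l) F)
      = adj (a : Matrix (l ⊕ l) (l ⊕ l) F) := rfl

theorem SpData.invData (h : SpData u0 v0) (ε : (Algebra.adjoin F {u0 - 1}) →ₐ[F] F)
    (hε : ∀ a : Algebra.adjoin F {u0 - 1},
      (a : Matrix (l ⊕ l) (l ⊕ l) F) *ᵥ x0 (u0 - 1) v0 = ε a • x0 (u0 - 1) v0) :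
    InvData ε h.sigma where
  unit_of_ne := h.cyc.isUnit_of_eps_ne ε hε
  invol := fun a => Subtype.ext (by rw [h.sigma_coe, h.sigma_coe, adj_adj])
  two_ne := h.two_ne

end sigma

end Cfsg.Agent.Helper43.SpReg
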