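import Mathlib
import Cfsg.Agent.Helper43.SpPrimeD
import Cfsg.Agent.Helper43.LagrE

set_option autoImplicit false

namespace Cfsg.Agent.Helper43.GUPrime

open Polynomial Matrix
open Cfsg.Agent.Helper43.SpPrime

universe u

variable {K : Type u} [Field K]

theorem charpoly_pow_char {ι : Type*} [Fintype ι] [DecidableEq ι] (p : ℕ) [Fact p.Prime]
    [CharP K p] (M : Matrix ι ι K) (m : ℕ) :
    (M ^ (p ^ m)).charpoly = M.charpoly.map (iterateFrobenius K p m) := by
  cases (isEmpty_or_nonempty ι).symm
  · apply Polynomial.expand_injective (pow_pos (Fact.out : p.Prime).pos m)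
    rw [← Polynomial.map_expand, map_iterateFrobenius_expand]
    unfold Matrix.charpoly
    rw [AlgHom.map_det, ← coe_detMonoidHom, ← (detMonoidHom : Matrix ι ι K[X] →* K[X]).map_pow]
    apply congr_arg det
    refine matPolyEquiv.injective ?_
    rw [map_pow, matPolyEquiv_charmatrix, sub_pow_char_pow_of_commute, ← C_pow]
    · exact (id (matPolyEquiv_eq_X_pow_sub_C (p ^ m) M) :)
    · exact (C M).commute_X
  · rw [Matrix.charpoly_isEmpty, Matrix.charpoly_isEmpty, Polynomial.map_one]

/-- the twisted reciprocal polynomial. -/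
noncomputable def utilde (bar : K →+* K) (f : K[X]) : K[X] := SpPrime.star (f.map bar)

theorem utilde_mul (bar : K →+* K) (f g : K[X]) :
    utilde bar (f * g) = utilde bar f * utilde bar g := by
  unfold utilde
  rw [Polynomial.map_mul, SpPrime.star_mul]

theorem utilde_one (bar : K →+* K) : utilde bar (1 : K[X]) = 1 := by
  unfold utilde
  rw [Polynomial.map_one, SpPrime.star_one]

noncomputable def utildeHom (bar : K →+* K) : K[X] →* K[X] where
  toFun := utilde bar
  map_one' := utilde_one bar
  map_mul' := utilde_mul bar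

theorem utildeHom_apply (bar : K →+* K) (f : K[X]) : utildeHom bar f = utilde bar f := rfl

theorem reverse_map (bar : K →+* K) (f : K[X]) : (f.map bar).reverse = f.reverse.map bar := by
  unfold Polynomial.reverse
  rw [Polynomial.natDegree_map, reflect_map]

theorem star_map (bar : K →+* K) (f : K[X]) :
    SpPrime.star (f.map bar) = (SpPrime.star f).map bar := by
  unfold SpPrime.star
  rw [Polynomial.map_mul, Polynomial.map_C, reverse_map, Polynomial.coeff_map, map_inv₀ bar]

theorem utilde_props (bar : K →+* K) (hbar2 : ∀ x, bar (bar x) = x) (f : K[X]) (hfm : f.Monic)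
    (hf0 : f.coeff 0 ≠ 0) :
    (utilde bar f).Monic ∧ (utilde bar f).coeff 0 ≠ 0 ∧ (utilde bar f).natDegree = f.natDegree ∧
      utilde bar (utilde bar f) = f := by
  have hm : (f.map bar).Monic := hfm.map bar
  have h0 : (f.map bar).coeff 0 ≠ 0 := by
    rw [Polynomial.coeff_map]
    exact (map_ne_zero bar).mpr hf0
  refine ⟨star_monic h0, star_coeff_zero_ne hm.ne_zero h0, ?_, ?_⟩
  · unfold utilde
    rw [natDegree_star h0, Polynomial.natDegree_map]
  · unfold utilde
    rw [star_map bar (SpPrime.star (f.map bar)), star_star hm h0, Polynomial.map_map]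
    have : bar.comp bar = RingHom.id K := RingHom.ext hbar2
    rw [this, Polynomial.map_id]

theorem map_irreducible (bar : K →+* K) (hbar2 : ∀ x, bar (bar x) = x) (f : K[X])
    (hfi : Irreducible f) : Irreducible (f.map bar) := by
  let e : K ≃+* K := 
    { toFun := bar, invFun := bar, left_inv := hbar2, right_inv := hbar2,
      map_mul' := map_mul bar, map_add' := map_add bar }
  have h1 : f.map bar = Polynomial.mapEquiv e f := rfl
  rw [h1]
  exact (MulEquiv.irreducible_iff (Polynomial.mapEquiv e)).mpr hfi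

theorem utilde_irreducible (bar : K →+* K) (hbar2 : ∀ x, bar (bar x) = x) (f : K[X])
    (hfm : f.Monic) (hfi : Irreducible f) (hf0 : f.coeff 0 ≠ 0) : Irreducible (utilde bar f) := by
  have hm : (f.map bar).Monic := hfm.map bar
  have h0 : (f.map bar).coeff 0 ≠ 0 := by
    rw [Polynomial.coeff_map]
    exact (map_ne_zero bar).mpr hf0
  exact star_irreducible hm (map_irreducible bar hbar2 f hfi) h0

theorem utilde_X_sub_one (bar : K →+* K) : utilde bar (X - 1 : K[X]) = X - 1 := by
  unfold utilde
  rw [Polynomial.map_sub, Polynomial.map_X, Polynomial.map_one, star_X_sub_one]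

theorem utilde_X_pow_sub_one (bar : K →+* K) {r : ℕ} (hr : 0 < r) :
    utilde bar (X ^ r - 1 : K[X]) = X ^ r - 1 := by
  unfold utilde
  rw [Polynomial.map_sub, Polynomial.map_pow, Polynomial.map_X, Polynomial.map_one,
    star_X_pow_sub_one hr]

theorem utilde_dvd (bar : K →+* K) {f g : K[X]} (h : f ∣ g) : utilde bar f ∣ utilde bar g := by
  obtain ⟨c, rfl⟩ := h
  rw [utilde_mul]
  exact dvd_mul_right _ _

theorem utilde_pow (bar : K →+* K) (f : K[X]) (k : ℕ) : utilde bar (f ^ k) = utilde bar f ^ k :=
  map_pow (utildeHom bar) f k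

/-- the characteristic polynomial of the conjugate-transpose-inverse. -/
theorem charpoly_st_inv {n : ℕ} (bar : K →+* K) (A : GL (Fin n) K)
    (B : Matrix (Fin n) (Fin n) K)
    (hB : ((A : Matrix (Fin n) (Fin n) K).map bar)ᵀ * B = 1) :
    B.charpoly = utilde bar (A : Matrix (Fin n) (Fin n) K).charpoly := by
  have hB' : B * ((A : Matrix (Fin n) (Fin n) K).map bar)ᵀ = 1 := mul_eq_one_comm.mp hB
  let C : GL (Fin n) K := ⟨((A : Matrix (Fin n) (Fin n) K).map bar)ᵀ, B, hB, hB'⟩
  have h1 := Lagr.charpoly_inv_eq_star C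
  have h2 : ((C⁻¹ : GL (Fin n) K) : Matrix (Fin n) (Fin n) K) = B := rfl
  have h3 : (C : Matrix (Fin n) (Fin n) K) = ((A : Matrix (Fin n) (Fin n) K).map bar)ᵀ := rfl
  rw [h2, h3, Matrix.charpoly_transpose, Matrix.charpoly_map] at h1
  exact h1

end Cfsg.Agent.Helper43.GUPrime
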