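import Cfsg.Agent.Helper43.JordanMat
import Cfsg.Agent.Helper43.GLConj

set_option autoImplicit false

namespace Cfsg.Agent.Helper43.SS

open Polynomial Module

universe u v w

variable {F : Type u} [Field F] {n : ℕ}

/-- The nilpotent part `g - 1`. -/
abbrev nilPart (g : GL (Fin n) F) : Matrix (Fin n) (Fin n) F :=
  (g : Matrix (Fin n) (Fin n) F) - 1

/-- Unipotent elements. -/
def IsUnip (g : GL (Fin n) F) : Prop := ∃ k, nilPart g ^ k = 0

open Classical in
/-- The Jordan type of a unipotent element (junk value otherwise). -/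
noncomputable def jtype (g : GL (Fin n) F) : List ℕ :=
  if h : ∃ l, IsJType l (nilPart g) then Classical.choose h else []

theorem jtype_spec (g : GL (Fin n) F) (hg : IsUnip g) : IsJType (jtype g) (nilPart g) := by
  obtain ⟨k, hk⟩ := hg
  have h := exists_isJType (nilPart g) k hk
  unfold jtype
  rw [dif_pos h]
  exact Classical.choose_spec h

theorem nilPart_conj (g c : GL (Fin n) F) :
    nilPart (c * g * c⁻¹) = (c : Matrix (Fin n) (Fin n) F) * nilPart g
      * ((c⁻¹ : GL (Fin n) F) : Matrix (Fin n) (Fin n) F) := by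
  unfold nilPart
  rw [Units.val_mul, Units.val_mul, mul_sub, sub_mul, mul_one]
  congr 1
  rw [← Units.val_mul, mul_inv_cancel, Units.val_one]

theorem nilPart_conj_pow (g c : GL (Fin n) F) (k : ℕ) :
    nilPart (c * g * c⁻¹) ^ k = (c : Matrix (Fin n) (Fin n) F) * nilPart g ^ k
      * ((c⁻¹ : GL (Fin n) F) : Matrix (Fin n) (Fin n) F) := by
  have hcc : ((c⁻¹ : GL (Fin n) F) : Matrix (Fin n) (Fin n) F) * (c : Matrix (Fin n) (Fin n) F) = 1 := by
    rw [← Units.val_mul, inv_mul_cancel, Units.val_one]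
  induction k with
  | zero =>
    rw [pow_zero, pow_zero, mul_one, ← Units.val_mul, mul_inv_cancel, Units.val_one]
  | succ k ih =>
    rw [pow_succ, ih, nilPart_conj, pow_succ]
    calc (c : Matrix (Fin n) (Fin n) F) * nilPart g ^ k * ((c⁻¹ : GL (Fin n) F) : Matrix (Fin n) (Fin n) F)
          * ((c : Matrix (Fin n) (Fin n) F) * nilPart g * ((c⁻¹ : GL (Fin n) F) : Matrix (Fin n) (Fin n) F))
        = (c : Matrix (Fin n) (Fin n) F) * nilPart g ^ k
          * (((c⁻¹ : GL (Fin n) F) : Matrix (Fin n) (Fin n) F) * (c : Matrix (Fin n) (Fin n) F))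
          * nilPart g * ((c⁻¹ : GL (Fin n) F) : Matrix (Fin n) (Fin n) F) := by
          simp only [mul_assoc]
      _ = (c : Matrix (Fin n) (Fin n) F) * (nilPart g ^ k * nilPart g)
          * ((c⁻¹ : GL (Fin n) F) : Matrix (Fin n) (Fin n) F) := by
          rw [hcc, mul_one]; simp only [mul_assoc]

theorem IsUnip.conj {g : GL (Fin n) F} (hg : IsUnip g) (c : GL (Fin n) F) :
    IsUnip (c * g * c⁻¹) := by
  obtain ⟨k, hk⟩ := hg
  exact ⟨k, by rw [nilPart_conj_pow, hk, mul_zero, zero_mul]⟩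

/-- The linear equivalence given by an invertible matrix. -/
noncomputable def glEquiv (c : GL (Fin n) F) : (Fin n → F) ≃ₗ[F] (Fin n → F) :=
  Matrix.toLin'OfInv (M := ((c⁻¹ : GL (Fin n) F) : Matrix (Fin n) (Fin n) F))
    (M' := (c : Matrix (Fin n) (Fin n) F))
    (by rw [← Units.val_mul, inv_mul_cancel, Units.val_one])
    (by rw [← Units.val_mul, mul_inv_cancel, Units.val_one])

theorem glEquiv_apply (c : GL (Fin n) F) (x : Fin n → F) :
    glEquiv c x = Matrix.toLin' (c : Matrix (Fin n) (Fin n) F) x := rfl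

theorem jtype_conj (g c : GL (Fin n) F) (hg : IsUnip g) : jtype (c * g * c⁻¹) = jtype g := by
  have h1 := jtype_spec g hg
  have h2 := jtype_spec _ (hg.conj c)
  refine (h1.eq_of_equiv h2 (glEquiv c) ?_).symm
  intro x
  rw [glEquiv_apply, glEquiv_apply, ← Matrix.toLin'_mul_apply, ← Matrix.toLin'_mul_apply,
    nilPart_conj]
  congr 2
  rw [mul_assoc, mul_assoc, ← Units.val_mul, inv_mul_cancel, Units.val_one, mul_one]

theorem isConj_of_jtype_eq (g h : GL (Fin n) F) (hg : IsUnip g) (hh : IsUnip h)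
    (heq : jtype g = jtype h) : IsConj g h := by
  have h1 := jtype_spec g hg
  have h2 := jtype_spec h hh
  rw [← heq] at h2
  obtain ⟨e, he⟩ := h1.exists_equiv h2
  exact Cfsg.Agent.Helper43.isConj_of_linearEquiv g h e he

theorem exists_unip_of_list (l : List ℕ) (hs : l.Pairwise (· ≥ ·)) (hp : ∀ a ∈ l, 0 < a)
    (hsum : l.sum = n) : ∃ g : GL (Fin n) F, IsUnip g ∧ jtype g = l := by
  obtain ⟨N, hN, hJ⟩ := exists_matrix_isJType (F := F) l hs hp hsum
  have hu : IsUnit (1 + N) := IsNilpotent.isUnit_one_add ⟨n, hN⟩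
  obtain ⟨g, hg⟩ := hu
  have hnil : nilPart g = N := by
    unfold nilPart
    rw [hg, add_sub_cancel_left]
  have hgu : IsUnip g := ⟨n, by rw [hnil]; exact hN⟩
  refine ⟨g, hgu, ?_⟩
  have h1 := jtype_spec g hgu
  rw [hnil] at h1
  exact h1.eq_of_equiv hJ (LinearEquiv.refl F _) (fun x => rfl)

section charp

variable (p : ℕ) [Fact p.Prime] [CharP F p]

theorem isUnip_iff_orderOf (g : GL (Fin n) F) : IsUnip g ↔ ∃ k : ℕ, orderOf g = p ^ k := by
  rcases Nat.eq_zero_or_pos n with rfl | hn
  · have hg1 : g = 1 := Subsingleton.elim _ _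
    constructor
    · intro _
      exact ⟨0, by rw [hg1, orderOf_one, pow_zero]⟩
    · intro _
      exact ⟨1, Subsingleton.elim _ _⟩
  haveI : Nonempty (Fin n) := ⟨⟨0, hn⟩⟩
  have hcomm : Commute (g : Matrix (Fin n) (Fin n) F) 1 := Commute.one_right _
  constructor
  · rintro ⟨k, hk⟩
    have hk' : nilPart g ^ (p ^ k) = 0 := by
      have hle : k ≤ p ^ k := (Nat.lt_pow_self (Fact.out : p.Prime).one_lt).le
      obtain ⟨d, hd⟩ := Nat.exists_eq_add_of_le hle
      rw [hd, pow_add, hk, zero_mul]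
    have h1 : (g : Matrix (Fin n) (Fin n) F) ^ (p ^ k) = 1 := by
      have := sub_pow_char_pow_of_commute (p := p) (n := k) hcomm
      rw [one_pow] at this
      unfold nilPart at hk'
      rw [this] at hk'
      exact sub_eq_zero.mp hk'
    have h2 : g ^ (p ^ k) = 1 := by
      apply Units.ext
      rw [Units.val_pow_eq_pow_val, h1, Units.val_one]
    exact (Nat.dvd_prime_pow (Fact.out : p.Prime)).mp (orderOf_dvd_of_pow_eq_one h2) |>.imp
      (fun j hj => hj.2)
  · rintro ⟨k, hk⟩
    refine ⟨p ^ k, ?_⟩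
    have h2 : g ^ (p ^ k) = 1 := by rw [← hk]; exact pow_orderOf_eq_one g
    have h1 : (g : Matrix (Fin n) (Fin n) F) ^ (p ^ k) = 1 := by
      rw [← Units.val_pow_eq_pow_val, h2, Units.val_one]
    unfold nilPart
    rw [sub_pow_char_pow_of_commute (p := p) (n := k) hcomm, one_pow, h1, sub_self]

theorem orderOf_eq_prime_iff_nilPart (g : GL (Fin n) F) :
    orderOf g = p ↔ nilPart g ^ p = 0 ∧ ¬ nilPart g ^ 1 = 0 := by
  rcases Nat.eq_zero_or_pos n with rfl | hn
  · have hg1 : g = 1 := Subsingleton.elim _ _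
    constructor
    · intro h
      rw [hg1, orderOf_one] at h
      exact absurd h.symm (Fact.out : p.Prime).ne_one
    · rintro ⟨_, h⟩
      exact absurd (Subsingleton.elim _ _) h
  haveI : Nonempty (Fin n) := ⟨⟨0, hn⟩⟩
  have hcomm : Commute (g : Matrix (Fin n) (Fin n) F) 1 := Commute.one_right _
  have hpow : nilPart g ^ p = (g : Matrix (Fin n) (Fin n) F) ^ p - 1 := by
    unfold nilPart
    rw [sub_pow_char_of_commute (p := p) hcomm, one_pow]
  rw [orderOf_eq_prime_iff, hpow, pow_one]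
  constructor
  · rintro ⟨h1, h2⟩
    refine ⟨?_, ?_⟩
    · rw [← Units.val_pow_eq_pow_val, h1, Units.val_one, sub_self]
    · intro h0
      apply h2
      apply Units.ext
      rw [Units.val_one]
      exact sub_eq_zero.mp h0
  · rintro ⟨h1, h2⟩
    refine ⟨?_, ?_⟩
    · apply Units.ext
      rw [Units.val_pow_eq_pow_val, Units.val_one]
      exact sub_eq_zero.mp h1
    · intro h0
      apply h2
      rw [h0]
      unfold nilPart
      rw [Units.val_one, sub_self]

end charp

end Cfsg.Agent.Helper43.SS
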