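import Mathlib

set_option autoImplicit false

namespace Cfsg.Agent.Helper43.PGLPrime

open MulAction

variable {r : ℕ} [NeZero r] {n : ℕ}

/-- Multiplicity vectors of total mass `n` indexed by `ZMod r`. -/
abbrev Bn (n r : ℕ) [NeZero r] := {a : ZMod r → ℕ // ∑ j, a j = n}

noncomputable instance instFintypeBn : Fintype (Bn n r) :=
  Fintype.ofEquiv _ (Sym.equivNatSumOfFintype (ZMod r) n)

theorem card_Bn : Fintype.card (Bn n r) = (r + n - 1).choose n := by
  rw [← Fintype.card_congr (Sym.equivNatSumOfFintype (ZMod r) n), Sym.card_sym_eq_choose, ZMod.card]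

/-- The vector `n·δ_i`. -/
def dlt (n r : ℕ) [NeZero r] (i : ZMod r) : Bn n r :=
  ⟨fun j => if j = i then n else 0, by rw [Finset.sum_ite_eq' Finset.univ i]; simp⟩

/-- Rotation action on multiplicity vectors. -/
instance rotAction : MulAction (Multiplicative (ZMod r)) (Bn n r) where
  smul i a := ⟨fun j => a.1 (j - Multiplicative.toAdd i),
    (Fintype.sum_equiv (Equiv.subRight (Multiplicative.toAdd i)) _ _ (fun j => rfl)).trans a.2⟩
  one_smul a := Subtype.ext (funext fun j => by
    show a.1 (j - 0) = a.1 j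
    rw [sub_zero])
  mul_smul i k a := Subtype.ext (funext fun j => by
    show a.1 (j - (Multiplicative.toAdd i + Multiplicative.toAdd k)) =
      a.1 (j - Multiplicative.toAdd i - Multiplicative.toAdd k)
    congr 1
    abel)

theorem smul_apply (i : Multiplicative (ZMod r)) (a : Bn n r) (j : ZMod r) :
    (i • a).1 j = a.1 (j - Multiplicative.toAdd i) := rfl

theorem smul_dlt (i : Multiplicative (ZMod r)) (k : ZMod r) :
    i • dlt n r k = dlt n r (k + Multiplicative.toAdd i) := by
  apply Subtype.ext
  funext j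
  rw [smul_apply]
  show (if j - Multiplicative.toAdd i = k then n else 0) =
    (if j = k + Multiplicative.toAdd i then n else 0)
  congr 1
  rw [eq_iff_iff, sub_eq_iff_eq_add]

theorem mem_fixedBy_iff (hr : r.Prime) (i : Multiplicative (ZMod r)) (hi : i ≠ 1) (b : Bn n r) :
    b ∈ fixedBy (Bn n r) i ↔ ∀ j, b.1 j = b.1 0 := by
  haveI : Fact r.Prime := ⟨hr⟩
  have hi0 : Multiplicative.toAdd i ≠ 0 := fun h => hi (Multiplicative.toAdd.injective h)
  rw [mem_fixedBy]
  constructor
  · intro hb
    have h1 : ∀ j, b.1 (j - Multiplicative.toAdd i) = b.1 j := by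
      intro j
      have := congrArg (fun c : Bn n r => c.1 j) hb
      exact this
    have h2 : ∀ (k : ℕ) (j : ZMod r), b.1 (j - k • Multiplicative.toAdd i) = b.1 j := by
      intro k
      induction k with
      | zero => intro j; rw [zero_smul, sub_zero]
      | succ k ih =>
        intro j
        rw [succ_nsmul, ← sub_sub, h1, ih]
    intro j
    have h3 : (j * (Multiplicative.toAdd i)⁻¹).val • Multiplicative.toAdd i = j := by
      rw [nsmul_eq_mul, ZMod.natCast_zmod_val, mul_assoc, inv_mul_cancel₀ hi0, mul_one]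
    have := h2 (j * (Multiplicative.toAdd i)⁻¹).val j
    rw [h3, sub_self] at this
    exact this.symm
  · intro hb
    apply Subtype.ext
    funext j
    rw [smul_apply, hb, hb j]

open scoped Classical in
theorem card_fixedBy (hr : r.Prime) (i : Multiplicative (ZMod r)) (hi : i ≠ 1) :
    Fintype.card (fixedBy (Bn n r) i) = if r ∣ n then 1 else 0 := by
  split_ifs with hrn
  · rw [Fintype.card_eq_one_iff]
    obtain ⟨m, hm⟩ := hrn
    have hc : (fun _ : ZMod r => m) ∈ {a : ZMod r → ℕ | ∑ j, a j = n} := by
      show ∑ _j : ZMod r, m = n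
      rw [Finset.sum_const, Finset.card_univ, ZMod.card, smul_eq_mul, hm]
    refine ⟨⟨⟨fun _ => m, hc⟩, (mem_fixedBy_iff hr i hi _).mpr (fun _ => rfl)⟩, ?_⟩
    rintro ⟨b, hb⟩
    apply Subtype.ext
    apply Subtype.ext
    rw [mem_fixedBy_iff hr i hi] at hb
    funext j
    show b.1 j = m
    have h1 : ∑ j : ZMod r, b.1 j = r * b.1 0 := by
      rw [Finset.sum_congr rfl (fun j _ => hb j), Finset.sum_const, Finset.card_univ, ZMod.card,
        smul_eq_mul]
    rw [b.2] at h1
    have h2 : r * m = r * b.1 0 := hm.symm.trans h1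
    rw [hb j]
    exact (Nat.eq_of_mul_eq_mul_left hr.pos h2).symm
  · rw [Fintype.card_eq_zero_iff]
    constructor
    rintro ⟨b, hb⟩
    rw [mem_fixedBy_iff hr i hi] at hb
    have h1 : ∑ j : ZMod r, b.1 j = r * b.1 0 := by
      rw [Finset.sum_congr rfl (fun j _ => hb j), Finset.sum_const, Finset.card_univ, ZMod.card,
        smul_eq_mul]
    rw [b.2] at h1
    exact hrn ⟨_, h1⟩

open scoped Classical in
/-- Burnside count of the rotation orbits on multiplicity vectors. -/
theorem card_orbits (hr : r.Prime) :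
    Fintype.card (Quotient (orbitRel (Multiplicative (ZMod r)) (Bn n r))) * r =
      (r + n - 1).choose n + (r - 1) * (if r ∣ n then 1 else 0) := by
  have h := sum_card_fixedBy_eq_card_orbits_mul_card_group (Multiplicative (ZMod r)) (Bn n r)
  rw [Fintype.card_multiplicative, ZMod.card] at h
  rw [← h, ← Finset.add_sum_erase Finset.univ _ (Finset.mem_univ (1 : Multiplicative (ZMod r)))]
  congr 1
  · rw [← card_Bn (n := n) (r := r)]
    apply Fintype.card_congr
    exact (Equiv.subtypeUnivEquiv (fun b => by rw [mem_fixedBy, one_smul]))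
  · rw [Finset.sum_congr rfl (fun i hi => card_fixedBy hr i (Finset.ne_of_mem_erase hi)),
      Finset.sum_const, Finset.card_erase_of_mem (Finset.mem_univ _), Finset.card_univ,
      Fintype.card_multiplicative, ZMod.card, smul_eq_mul]

end Cfsg.Agent.Helper43.PGLPrime
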