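import Cfsg.Agent.Helper43.PGLPrimeA
import Cfsg.Agent.Helper43.PGLPrimeOrb

set_option autoImplicit false

namespace Cfsg.Agent.Helper43.PGLPrime

open Matrix Polynomial Cfsg.Agent.Helper43.SS Cfsg.Agent.Helper43.PGLInv

variable {F : Type*} [Field F] {n r : ℕ} [NeZero r]

/-- Multiplicity vector as an element of `Bn` (default value if the total is wrong). -/
noncomputable def mvec (ζ : F) (A : Matrix (Fin n) (Fin n) F) : Bn n r :=
  if h : ∑ j, mult ζ r A j = n then ⟨mult ζ r A, h⟩ else dlt n r 0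

theorem mvec_val {ζ : F} (hr : r.Prime) (hζ : orderOf ζ = r) (hrF : (r : F) ≠ 0)
    (A : Matrix (Fin n) (Fin n) F) (hA : A ^ r = 1) : (mvec ζ A : Bn n r).1 = mult ζ r A := by
  unfold mvec
  rw [dif_pos (charpoly_eq_prod hr hζ hrF A hA).2]

theorem mult_congr (ζ : F) (A B : Matrix (Fin n) (Fin n) F) (h : A.charpoly = B.charpoly) :
    mult ζ r A = mult ζ r B := by
  funext j
  unfold mult
  rw [h]

theorem mvec_congr (ζ : F) (A B : Matrix (Fin n) (Fin n) F) (h : A.charpoly = B.charpoly) :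
    (mvec ζ A : Bn n r) = mvec ζ B := by
  unfold mvec
  simp only [mult_congr ζ A B h]

theorem mult_smul {ζ : F} (hζr : ζ ^ r = 1) (i j : ZMod r) (A : Matrix (Fin n) (Fin n) F) :
    mult ζ r (zp ζ r i • A) j = mult ζ r A (j - i) := by
  unfold mult
  have hne : zp ζ r i ≠ 0 := zp_ne_zero (NeZero.ne r) hζr i
  have h1 : zp ζ r j = zp ζ r i * zp ζ r (j - i) := by
    rw [← zp_add hζr]
    congr 1
    abel
  rw [charpoly_smul _ _ hne, h1, rootMultiplicity_scaleRoots _ (IsRegular.of_ne_zero hne).left]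

theorem smul_pow_eq_one {ζ : F} (hζr : ζ ^ r = 1) (i : ZMod r) (A : Matrix (Fin n) (Fin n) F)
    (hA : A ^ r = 1) : (zp ζ r i • A) ^ r = 1 := by
  rw [_root_.smul_pow, zp_pow hζr, hA, one_smul]

theorem mvec_smul {ζ : F} (hr : r.Prime) (hζ : orderOf ζ = r) (hrF : (r : F) ≠ 0) (i : ZMod r)
    (A : Matrix (Fin n) (Fin n) F) (hA : A ^ r = 1) :
    (mvec ζ (zp ζ r i • A) : Bn n r) = Multiplicative.ofAdd i • mvec ζ A := by
  have hζr : ζ ^ r = 1 := by rw [← hζ]; exact pow_orderOf_eq_one ζ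
  apply Subtype.ext
  funext j
  rw [smul_apply, mvec_val hr hζ hrF _ (smul_pow_eq_one hζr i A hA), mvec_val hr hζ hrF A hA,
    mult_smul hζr]
  rfl

theorem charpoly_eq_of_mvec_eq {ζ : F} (hr : r.Prime) (hζ : orderOf ζ = r) (hrF : (r : F) ≠ 0)
    (A B : Matrix (Fin n) (Fin n) F) (hA : A ^ r = 1) (hB : B ^ r = 1)
    (h : (mvec ζ A : Bn n r) = mvec ζ B) : A.charpoly = B.charpoly := by
  rw [(charpoly_eq_prod hr hζ hrF A hA).1, (charpoly_eq_prod hr hζ hrF B hB).1,
    ← mvec_val hr hζ hrF A hA, ← mvec_val hr hζ hrF B hB, h]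

/-- A split matrix whose multiplicity vector is `n·δ_i` is the scalar `ζ^i`. -/
theorem eq_scalar_of_mvec_eq_dlt {ζ : F} (hr : r.Prime) (hζ : orderOf ζ = r) (hrF : (r : F) ≠ 0)
    (A : Matrix (Fin n) (Fin n) F) (hA : A ^ r = 1) (i : ZMod r)
    (h : (mvec ζ A : Bn n r) = dlt n r i) : A = Matrix.scalar (Fin n) (zp ζ r i) := by
  have h1 := (charpoly_eq_prod hr hζ hrF A hA).1
  rw [← mvec_val hr hζ hrF A hA, h] at h1
  have h2 : ∏ j : ZMod r, (X - C (zp ζ r j)) ^ (dlt n r i).1 j = (X - C (zp ζ r i)) ^ n := by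
    rw [Finset.prod_eq_single i]
    · show (X - C (zp ζ r i)) ^ (if i = i then n else 0) = _
      rw [if_pos rfl]
    · intro j _ hj
      show (X - C (zp ζ r j)) ^ (if j = i then n else 0) = _
      rw [if_neg hj, pow_zero]
    · intro hi
      exact absurd (Finset.mem_univ i) hi
  rw [h2] at h1
  have h3 : aeval A (X - C (zp ζ r i)) = 0 := by
    apply aeval_eq_zero_of_factors A r hrF hA _ (X_sub_C_ne_zero _)
    intro P _ hPi hP
    rw [h1] at hP
    exact hPi.prime.dvd_of_dvd_pow hP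
  rw [map_sub, aeval_X, aeval_C, sub_eq_zero] at h3
  exact h3

section exist

variable [Finite F]

open scoped Classical in
theorem rootMultiplicity_prod {ζ : F} (hζ : orderOf ζ = r) (a : ZMod r → ℕ) (j : ZMod r) :
    (∏ k : ZMod r, (X - C (zp ζ r k)) ^ a k).rootMultiplicity (zp ζ r j) = a j := by
  have hne : (∏ k : ZMod r, (X - C (zp ζ r k)) ^ a k) ≠ 0 :=
    Finset.prod_ne_zero_iff.mpr (fun k _ => pow_ne_zero _ (X_sub_C_ne_zero _))
  rw [← count_roots, roots_prod _ _ hne]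
  simp only [roots_pow, roots_X_sub_C]
  rw [Multiset.count_bind]
  simp only [Multiset.count_nsmul, Multiset.count_singleton]
  rw [Multiset.map_congr rfl (fun k _ => by
    show a k * (if zp ζ r j = zp ζ r k then 1 else 0) = if k = j then a k else 0
    by_cases h : k = j
    · subst h; simp
    · rw [if_neg h, if_neg (fun h' => h (zp_injective hζ h').symm), mul_zero])]
  show (Finset.univ.sum fun k => if k = j then a k else 0) = a j
  rw [Finset.sum_ite_eq' Finset.univ j]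
  simp

theorem exists_split {ζ : F} (hr : r.Prime) (hζ : orderOf ζ = r) (hrF : (r : F) ≠ 0)
    (a : Bn n r) : ∃ A : Matrix (Fin n) (Fin n) F, A ^ r = 1 ∧ (mvec ζ A : Bn n r) = a := by
  classical
  obtain ⟨p, hp⟩ := CharP.exists F
  haveI : CharP F p := hp
  haveI : Fact p.Prime := ⟨CharP.char_is_prime F p⟩
  have hpp : p.Prime := Fact.out
  have hζr : ζ ^ r = 1 := by rw [← hζ]; exact pow_orderOf_eq_one ζ
  set f : F[X] := ∏ k : ZMod r, (X - C (zp ζ r k)) ^ a.1 k with hf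
  have hfm : f.Monic := monic_prod_of_monic _ _ (fun k _ => (monic_X_sub_C _).pow _)
  have hfd : f.natDegree = n := by
    rw [hf, natDegree_prod_of_monic _ _ (fun k _ => (monic_X_sub_C _).pow _)]
    simp only [natDegree_pow, natDegree_X_sub_C, mul_one]
    exact a.2
  have hf0 : f.coeff 0 ≠ 0 := by
    rw [coeff_zero_eq_eval_zero, hf, eval_prod]
    apply Finset.prod_ne_zero_iff.mpr
    intro k _
    rw [eval_pow, eval_sub, eval_X, eval_C, zero_sub]
    exact pow_ne_zero _ (neg_ne_zero.mpr (zp_ne_zero (NeZero.ne r) hζr k))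
  obtain ⟨A, hA, k, hk0, hkp, hAk⟩ := exists_matrix_charpoly p n f hfm hfd hf0
  have hkF : (k : F) ≠ 0 := by
    intro h0
    rw [CharP.cast_eq_zero_iff F p k] at h0
    have : p ∣ Nat.gcd k p := Nat.dvd_gcd h0 dvd_rfl
    rw [hkp] at this
    exact hpp.one_lt.ne' (Nat.dvd_one.mp this)
  have h0 : (X ^ r - 1 : F[X]) ≠ 0 := by
    have := X_pow_sub_C_ne_zero hr.pos (1 : F)
    rwa [C_1] at this
  have hAr : aeval A (X ^ r - 1 : F[X]) = 0 := by
    apply aeval_eq_zero_of_factors A k hkF hAk _ h0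
    intro P _ hPi hP
    rw [hA, hf] at hP
    obtain ⟨j, _, hj⟩ := (Prime.dvd_finsetProd_iff hPi.prime _).mp hP
    have h1 := hPi.prime.dvd_of_dvd_pow hj
    refine h1.trans ?_
    rw [dvd_iff_isRoot, IsRoot.def, eval_sub, eval_pow, eval_X, eval_one, zp_pow hζr, sub_self]
  have hAr' : A ^ r = 1 := by
    rw [map_sub, map_pow, aeval_X, map_one, sub_eq_zero] at hAr
    exact hAr
  refine ⟨A, hAr', ?_⟩
  apply Subtype.ext
  rw [mvec_val hr hζ hrF A hAr']
  funext j
  unfold mult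
  rw [hA, hf, rootMultiplicity_prod hζ]

end exist

end Cfsg.Agent.Helper43.PGLPrime
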