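import Mathlib
import Cfsg.Agent.Helper43.SpPrimeD
import Cfsg.Agent.Helper43.SSFactorCount

set_option autoImplicit false

namespace Cfsg.Agent.Helper43.SpPrime

open Polynomial UniqueFactorizationMonoid
open Cfsg.Agent.Helper43.SS

universe u

variable {F : Type u} [Field F]

/-- A monic irreducible factor of `X ^ r - 1` (`r` odd) of odd degree fixed by `star` is `X - 1`. -/
theorem eq_X_sub_one_of_star_eq_odd {r : ℕ} (hrodd : Odd r) {P : F[X]} (hPm : P.Monic)
    (hPi : Irreducible P) (hP : P ∣ (X ^ r - 1 : F[X])) (hstar : star P = P)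
    (hodd : Odd P.natDegree) : P = X - 1 := by
  have hr : 0 < r := hrodd.pos
  set c := P.coeff 0 with hc
  set d := P.natDegree with hd
  have hc0 : c ≠ 0 := coeff_zero_ne_of_dvd_X_pow_sub_one hr hP
  have hrev : P.reverse = C c * P := by
    have h1 : star P = C c⁻¹ * P.reverse := rfl
    rw [h1] at hstar
    rw [← hstar, ← mul_assoc, ← C_mul, mul_inv_cancel₀ hc0, C_1, one_mul, hstar]
  have hcc : c * c = 1 := by
    have h1 := congrArg (fun g => g.coeff 0) hrev
    simp only [coeff_zero_reverse, coeff_C_mul, hPm.leadingCoeff] at h1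
    rw [← hc] at h1
    exact h1.symm
  have hcoef : ∀ j, j ≤ d → P.coeff (d - j) = c * P.coeff j := by
    intro j hj
    have h1 := congrArg (fun g => g.coeff j) hrev
    simp only [coeff_reverse, coeff_C_mul] at h1
    rw [← hd, revAt_le hj] at h1
    exact h1
  set x : F := -c with hx
  have hxx : x * x = 1 := by rw [hx]; ring_nf; rw [← hcc]; ring
  have hxodd : ∀ n, Odd n → x ^ n = x := by
    rintro n ⟨k, rfl⟩
    rw [pow_succ, pow_mul, pow_two, hxx, one_pow, one_mul]
  have hxj : ∀ j, x ^ j * x ^ j = 1 := by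
    intro j
    rw [← mul_pow, hxx, one_pow]
  have hroot : P.eval x = 0 := by
    rw [eval_eq_sum_range]
    apply Finset.sum_involution (fun j _ => d - j)
    · intro j hj
      have hj' : j ≤ d := by
        have := Finset.mem_range.mp hj
        omega
      have h1 : x ^ (d - j) = x * x ^ j := by
        calc x ^ (d - j) = x ^ (d - j) * (x ^ j * x ^ j) := by rw [hxj, mul_one]
          _ = x ^ (d - j + j) * x ^ j := by rw [pow_add]; ring
          _ = x * x ^ j := by rw [Nat.sub_add_cancel hj', hxodd d hodd]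
      rw [hcoef j hj', h1]
      have : P.coeff j * x ^ j + c * P.coeff j * (x * x ^ j)
          = P.coeff j * x ^ j * (1 - c * c) := by rw [hx]; ring
      rw [this, hcc, sub_self, mul_zero]
    · intro j hj _ hjj
      have hj' : j ≤ d := by
        have := Finset.mem_range.mp hj
        omega
      obtain ⟨k, hk⟩ := hodd
      omega
    · intro j hj
      rw [Finset.mem_range]
      omega
    · intro j hj
      have hj' : j ≤ d := by
        have := Finset.mem_range.mp hj
        omega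
      show d - (d - j) = j
      omega
  have hdvd : (X - C x) ∣ P := Polynomial.dvd_iff_isRoot.mpr hroot
  have hPx : P = X - C x :=
    (eq_of_monic_of_associated (monic_X_sub_C x) hPm
      ((irreducible_X_sub_C x).associated_of_dvd hPi hdvd)).symm
  have hxr : x ^ r = 1 := by
    have h1 : (X ^ r - 1 : F[X]).eval x = 0 := by
      obtain ⟨Q, hQ⟩ := hP
      rw [hQ, eval_mul, hroot, zero_mul]
    rw [eval_sub, eval_pow, eval_X, eval_one] at h1
    exact sub_eq_zero.mp h1
  have hx1 : x = 1 := by rw [← hxodd r hrodd, hxr]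
  rw [hPx, hx1, C_1]

/-- A transversal of a fixed point free involution of a finite set. -/
theorem exists_half {α : Type*} [DecidableEq α] (s : Finset α) (σ : α → α)
    (hσs : ∀ x ∈ s, σ x ∈ s) (hinv : ∀ x ∈ s, σ (σ x) = x) (hfix : ∀ x ∈ s, σ x ≠ x) :
    ∃ s₁ : Finset α, s₁ ⊆ s ∧ (∀ x ∈ s, (x ∈ s₁ ↔ σ x ∉ s₁)) ∧ 2 * s₁.card = s.card := by
  classical
  let _ : LinearOrder α := linearOrderOfSTO WellOrderingRel
  have hmem : ∀ x, x ∈ s.filter (fun x => x < σ x) ↔ x ∈ s ∧ x < σ x := by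
    intro x
    rw [Finset.mem_filter]
  have hiff : ∀ x ∈ s, (x ∈ s.filter (fun x => x < σ x) ↔ σ x ∉ s.filter (fun x => x < σ x)) := by
    intro x hx
    rw [hmem, hmem, hinv x hx]
    constructor
    · rintro ⟨_, h1⟩ ⟨_, h2⟩
      exact lt_asymm h1 h2
    · intro h
      refine ⟨hx, ?_⟩
      rcases lt_trichotomy x (σ x) with h1 | h1 | h1
      · exact h1
      · exact absurd h1.symm (hfix x hx)
      · exact absurd ⟨hσs x hx, h1⟩ h
  refine ⟨s.filter (fun x => x < σ x), Finset.filter_subset _ _, hiff, ?_⟩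
  set s₁ := s.filter (fun x => x < σ x) with hs₁
  have hsub : s₁ ⊆ s := Finset.filter_subset _ _
  have hdisj : Disjoint s₁ (s₁.image σ) := by
    rw [Finset.disjoint_left]
    intro x hx hx'
    obtain ⟨y, hy, hyx⟩ := Finset.mem_image.mp hx'
    have := (hiff y (hsub hy)).mp hy
    rw [hyx] at this
    exact this hx
  have hunion : s₁ ∪ s₁.image σ = s := by
    ext x
    rw [Finset.mem_union, Finset.mem_image]
    constructor
    · rintro (h | ⟨y, hy, rfl⟩)
      · exact hsub h
      · exact hσs y (hsub hy)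
    · intro hx
      by_cases h : x ∈ s₁
      · left; exact h
      · right
        refine ⟨σ x, ?_, hinv x hx⟩
        by_contra h2
        exact h ((hiff x hx).mpr h2)
  have hcard : (s₁.image σ).card = s₁.card := by
    apply Finset.card_image_of_injOn
    intro x hx y hy hxy
    have hx' : x ∈ s := hsub hx
    have hy' : y ∈ s := hsub hy
    rw [← hinv x hx', ← hinv y hy']
    exact congrArg σ hxy
  rw [← hunion, Finset.card_union_of_disjoint hdisj, hcard]
  ring

theorem star_injOn {g g' : F[X]} (hg : g.Monic) (hg0 : g.coeff 0 ≠ 0) (hg' : g'.Monic)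
    (hg'0 : g'.coeff 0 ≠ 0) (h : star g = star g') : g = g' := by
  rw [← star_star hg hg0, ← star_star hg' hg'0, h]

open Classical in
theorem count_star_map (s : Multiset F[X]) (hs : ∀ g ∈ s, g.Monic ∧ g.coeff 0 ≠ 0) (Q : F[X])
    (hQ : Q.Monic ∧ Q.coeff 0 ≠ 0) :
    Multiset.count (star Q) (s.map star) = Multiset.count Q s := by
  rw [Multiset.count_map, Multiset.count_eq_card_filter_eq]
  congr 1
  apply Multiset.filter_congr
  intro g hg
  constructor
  · intro h
    exact star_injOn hQ.1 hQ.2 (hs g hg).1 (hs g hg).2 h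
  · intro h
    rw [h]

theorem coeff_zero_multiset_prod_ne (s : Multiset F[X]) (hs : ∀ g ∈ s, g.coeff 0 ≠ 0) :
    s.prod.coeff 0 ≠ 0 := by
  intro h0
  have hX : (X : F[X]) ∣ s.prod := Polynomial.X_dvd_iff.mpr h0
  obtain ⟨g, hg, hXg⟩ := Prime.exists_mem_multiset_dvd Polynomial.prime_X hX
  exact hs g hg (Polynomial.X_dvd_iff.mp hXg)

/-- Counting self-reciprocal monic polynomials of degree `2 m` whose irreducible factors lie in a
`star`-stable finite set of polynomials of degree `i` without `star`-fixed points, or equal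
`X - 1`. -/
theorem card_selfrec_polys (𝔉 : Finset F[X]) (i : ℕ) (hi : 0 < i)
    (h𝔉 : ∀ P ∈ 𝔉, P.Monic ∧ Irreducible P ∧ P.natDegree = i ∧ P.coeff 0 ≠ 0)
    (hL𝔉 : (X - 1 : F[X]) ∉ 𝔉) (hstar : ∀ P ∈ 𝔉, star P ∈ 𝔉) (hfix : ∀ P ∈ 𝔉, star P ≠ P)
    (m : ℕ) :
    Nat.card {f : F[X] // f.Monic ∧ f.natDegree = 2 * m ∧ f.reverse = f ∧
      ∀ P : F[X], P.Monic → Irreducible P → P ∣ f → P ∈ 𝔉 ∨ P = X - 1}
      = Nat.choose (m / i + 𝔉.card / 2) (𝔉.card / 2) := by
  classical
  obtain ⟨𝔉₁, hsub, hiff, hcard⟩ := exists_half 𝔉 star hstar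
    (fun P hP => star_star (h𝔉 P hP).1 (h𝔉 P hP).2.2.2) hfix
  have hhalf : 𝔉.card / 2 = 𝔉₁.card := by omega
  rw [hhalf, ← Fintype.card_coe 𝔉₁, ← card_tuples_sum_le 𝔉₁ (m / i)]
  symm
  set L : F[X] := X - 1 with hL
  have hLC : L = X - C 1 := by rw [hL, map_one]
  have hLm : L.Monic := by rw [hLC]; exact monic_X_sub_C 1
  have hLi : Irreducible L := by rw [hLC]; exact irreducible_X_sub_C 1
  have hLd : L.natDegree = 1 := by rw [hLC]; exact natDegree_X_sub_C 1
  have hL0 : L.coeff 0 = -1 := by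
    rw [hL, coeff_sub, coeff_X_zero, coeff_one_zero, zero_sub]
  have hL0' : L.coeff 0 ≠ 0 := by rw [hL0]; exact neg_ne_zero.mpr one_ne_zero
  have hLs : star L = L := star_X_sub_one
  have hL𝔉₁ : L ∉ 𝔉₁ := fun h => hL𝔉 (hsub h)
  have hnorm : ∀ Q : F[X], Q.Monic → normalize Q = Q := fun Q hQ => hQ.normalize_eq_self
  -- facts on the multisets
  have hmemM : ∀ (a : 𝔉₁ → ℕ) (Q : F[X]), Q ∈ mOf 𝔉₁ a →
      Q ∈ 𝔉₁ ∧ Q.Monic ∧ Irreducible Q ∧ Q.natDegree = i ∧ Q.coeff 0 ≠ 0 :=
    fun a Q hQ => ⟨mem_mOf 𝔉₁ a Q hQ, h𝔉 Q (hsub (mem_mOf 𝔉₁ a Q hQ))⟩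
  have hmemS : ∀ (a : 𝔉₁ → ℕ) (Q : F[X]), Q ∈ (mOf 𝔉₁ a).map star →
      Q ∈ 𝔉 ∧ Q ∉ 𝔉₁ ∧ Q.Monic ∧ Irreducible Q ∧ Q.natDegree = i ∧ Q.coeff 0 ≠ 0 := by
    intro a Q hQ
    obtain ⟨Q', hQ', rfl⟩ := Multiset.mem_map.mp hQ
    have h1 := hmemM a Q' hQ'
    exact ⟨hstar Q' (hsub h1.1), (hiff Q' (hsub h1.1)).mp h1.1, h𝔉 _ (hstar Q' (hsub h1.1))⟩
  have hmonic : ∀ a : 𝔉₁ → ℕ, (mOf 𝔉₁ a).prod.Monic := by
    intro a
    have := monic_multiset_prod_of_monic (mOf 𝔉₁ a) id (fun Q hQ => (hmemM a Q hQ).2.1)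
    rwa [Multiset.map_id] at this
  have hdegM : ∀ a : 𝔉₁ → ℕ, (mOf 𝔉₁ a).prod.natDegree = i * ∑ P, a P := by
    intro a
    rw [natDegree_multiset_prod_of_monic _ (fun Q hQ => (hmemM a Q hQ).2.1),
      Multiset.map_congr rfl (fun Q hQ => (hmemM a Q hQ).2.2.2.1), Multiset.map_const',
      Multiset.sum_replicate, card_mOf, smul_eq_mul, mul_comm]
  have hG0 : ∀ a : 𝔉₁ → ℕ, (mOf 𝔉₁ a).prod.coeff 0 ≠ 0 := fun a =>
    coeff_zero_multiset_prod_ne _ (fun Q hQ => (hmemM a Q hQ).2.2.2.2)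
  have hSG : ∀ a : 𝔉₁ → ℕ, star (mOf 𝔉₁ a).prod = ((mOf 𝔉₁ a).map star).prod :=
    fun a => star_multiset_prod _
  have hnF : ∀ (k : ℕ) (a : 𝔉₁ → ℕ),
      normalizedFactors (L ^ k * ((mOf 𝔉₁ a).prod * star (mOf 𝔉₁ a).prod))
      = Multiset.replicate k L + (mOf 𝔉₁ a + (mOf 𝔉₁ a).map star) := by
    intro k a
    rw [normalizedFactors_mul (pow_ne_zero _ hLm.ne_zero)
        (mul_ne_zero (hmonic a).ne_zero (star_ne_zero (hG0 a))),
      normalizedFactors_pow, normalizedFactors_irreducible hLi, hnorm L hLm,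
      Multiset.nsmul_singleton,
      normalizedFactors_mul (hmonic a).ne_zero (star_ne_zero (hG0 a)),
      normalizedFactors_prod_eq _ (fun Q hQ => (hmemM a Q hQ).2.2.1),
      Multiset.map_congr rfl (fun Q hQ => hnorm Q (hmemM a Q hQ).2.1), Multiset.map_id', hSG,
      normalizedFactors_prod_eq _ (fun Q hQ => (hmemS a Q hQ).2.2.2.1),
      Multiset.map_congr rfl (fun Q hQ => hnorm Q (hmemS a Q hQ).2.2.1), Multiset.map_id']
  let Θ : {a : 𝔉₁ → ℕ // ∑ P, a P ≤ m / i} → {f : F[X] // f.Monic ∧ f.natDegree = 2 * m ∧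
      f.reverse = f ∧ ∀ P : F[X], P.Monic → Irreducible P → P ∣ f → P ∈ 𝔉 ∨ P = L} :=
    fun a => ⟨L ^ (2 * (m - i * ∑ P, a.1 P)) * ((mOf 𝔉₁ a.1).prod * star (mOf 𝔉₁ a.1).prod),
      (hLm.pow _).mul ((hmonic a.1).mul (star_monic (hG0 a.1))), by
      rw [(hLm.pow _).natDegree_mul ((hmonic a.1).mul (star_monic (hG0 a.1))),
        hLm.natDegree_pow, hLd, mul_one, (hmonic a.1).natDegree_mul (star_monic (hG0 a.1)),
        natDegree_star (hG0 a.1), hdegM]
      have := (Nat.le_div_iff_mul_le hi).mp a.2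
      rw [mul_comm] at this
      omega, by
      apply reverse_eq_self_of_star
      · rw [mul_coeff_zero, mul_coeff_zero, coeff_zero_star, (hmonic a.1).leadingCoeff, mul_one,
          mul_inv_cancel₀ (hG0 a.1), mul_one, coeff_zero_eq_eval_zero, eval_pow,
          ← coeff_zero_eq_eval_zero, hL0, pow_mul, neg_one_sq, one_pow]
      · rw [star_mul, star_mul, star_pow, hLs, star_star (hmonic a.1) (hG0 a.1)]
        ring, by
      intro P hPm hPi hP
      have hmem : P ∈ normalizedFactors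
          (L ^ (2 * (m - i * ∑ P, a.1 P)) * ((mOf 𝔉₁ a.1).prod * star (mOf 𝔉₁ a.1).prod)) := by
        rw [Polynomial.mem_normalizedFactors_iff
          ((hLm.pow _).mul ((hmonic a.1).mul (star_monic (hG0 a.1)))).ne_zero]
        exact ⟨hPi, hPm, hP⟩
      rw [hnF, Multiset.mem_add, Multiset.mem_add] at hmem
      rcases hmem with h | h | h
      · right; exact Multiset.eq_of_mem_replicate h
      · left; exact hsub (mem_mOf 𝔉₁ a.1 P h)
      · left; exact (hmemS a.1 P h).1⟩
  have hL𝔉' : ∀ Q : 𝔉₁, (Q : F[X]) ≠ L := fun Q h => hL𝔉₁ (h ▸ Q.2)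
  apply Nat.card_eq_of_bijective Θ
  constructor
  · intro a a' h
    have h1 : L ^ (2 * (m - i * ∑ P, a.1 P)) * ((mOf 𝔉₁ a.1).prod * star (mOf 𝔉₁ a.1).prod)
        = L ^ (2 * (m - i * ∑ P, a'.1 P)) * ((mOf 𝔉₁ a'.1).prod * star (mOf 𝔉₁ a'.1).prod) :=
      congrArg Subtype.val h
    have h2 := congrArg normalizedFactors h1
    rw [hnF, hnF] at h2
    apply Subtype.ext
    funext Q
    have h3 := congrArg (Multiset.count (Q : F[X])) h2
    rw [Multiset.count_add, Multiset.count_add, Multiset.count_add, Multiset.count_add,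
      count_mOf, count_mOf, Multiset.count_replicate, Multiset.count_replicate,
      Multiset.count_eq_zero_of_notMem (fun hm => (hmemS a.1 _ hm).2.1 Q.2),
      Multiset.count_eq_zero_of_notMem (fun hm => (hmemS a'.1 _ hm).2.1 Q.2)] at h3
    simp only [if_neg (hL𝔉' Q).symm, zero_add, add_zero] at h3
    exact h3
  · rintro ⟨f, hfm, hfd, hfrev, hfac⟩
    have hsf : star f = f := star_eq_self_of_reverse hfm hfrev
    have hmemf : ∀ Q ∈ normalizedFactors f,
        Q.Monic ∧ Irreducible Q ∧ (Q ∈ 𝔉 ∨ Q = L) ∧ Q.coeff 0 ≠ 0 := by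
      intro Q hQ
      rw [Polynomial.mem_normalizedFactors_iff hfm.ne_zero] at hQ
      have h1 := hfac Q hQ.2.1 hQ.1 hQ.2.2
      refine ⟨hQ.2.1, hQ.1, h1, ?_⟩
      rcases h1 with h | h
      · exact (h𝔉 Q h).2.2.2
      · rw [h]; exact hL0'
    have hfprod : (normalizedFactors f).prod = f := by
      have h1 := prod_normalizedFactors_eq hfm.ne_zero
      rwa [hnorm f hfm] at h1
    -- invariance of the factors
    have hinvt : (normalizedFactors f).map star = normalizedFactors f := by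
      have h1 : star f = ((normalizedFactors f).map star).prod := by
        conv_lhs => rw [← hfprod]
        exact star_multiset_prod _
      have h2 := congrArg normalizedFactors h1
      rw [hsf, normalizedFactors_prod_eq _ (fun Q hQ => by
          obtain ⟨Q', hQ', rfl⟩ := Multiset.mem_map.mp hQ
          have := hmemf Q' hQ'
          exact star_irreducible this.1 this.2.1 this.2.2.2),
        Multiset.map_congr (g := fun Q => Q) rfl (fun Q hQ => by
          obtain ⟨Q', hQ', rfl⟩ := Multiset.mem_map.mp hQ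
          exact hnorm _ (star_monic (hmemf Q' hQ').2.2.2)), Multiset.map_id'] at h2
      exact h2.symm
    have hcountstar : ∀ Q : F[X], Q.Monic → Q.coeff 0 ≠ 0 →
        Multiset.count (star Q) (normalizedFactors f)
          = Multiset.count Q (normalizedFactors f) := by
      intro Q hQm hQ0
      conv_lhs => rw [← hinvt]
      exact count_star_map _ (fun g hg => ⟨(hmemf g hg).1, (hmemf g hg).2.2.2⟩) Q ⟨hQm, hQ0⟩
    let a : 𝔉₁ → ℕ := fun Q => Multiset.count (Q : F[X]) (normalizedFactors f)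
    have hnFf : normalizedFactors f
        = Multiset.replicate (Multiset.count L (normalizedFactors f)) L
          + (mOf 𝔉₁ a + (mOf 𝔉₁ a).map star) := by
      ext P
      rw [Multiset.count_add, Multiset.count_add, Multiset.count_replicate]
      by_cases hPL : P = L
      · rw [hPL, if_pos rfl, count_mOf_of_notMem 𝔉₁ a L hL𝔉₁,
          Multiset.count_eq_zero_of_notMem (fun hm => hL𝔉 (hmemS a L hm).1), add_zero, add_zero]
      · rw [if_neg (fun h => hPL h.symm), zero_add]
        by_cases hP𝔉₁ : P ∈ 𝔉₁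
        · rw [Multiset.count_eq_zero_of_notMem (fun hm => (hmemS a P hm).2.1 hP𝔉₁), add_zero]
          exact (count_mOf 𝔉₁ a ⟨P, hP𝔉₁⟩).symm
        · rw [count_mOf_of_notMem 𝔉₁ a P hP𝔉₁, zero_add]
          by_cases hP𝔉 : P ∈ 𝔉
          · have hP := h𝔉 P hP𝔉
            have hsP : star P ∈ 𝔉₁ := by
              by_contra h
              exact hP𝔉₁ ((hiff P hP𝔉).mpr h)
            have hsP' := h𝔉 _ (hsub hsP)
            have h1 : Multiset.count P ((mOf 𝔉₁ a).map star)
                = Multiset.count (star P) (mOf 𝔉₁ a) := by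
              conv_lhs => rw [← star_star hP.1 hP.2.2.2]
              exact count_star_map _ (fun g hg => ⟨(hmemM a g hg).2.1, (hmemM a g hg).2.2.2.2⟩)
                (star P) ⟨hsP'.1, hsP'.2.2.2⟩
            rw [h1, count_mOf 𝔉₁ a ⟨star P, hsP⟩]
            exact (hcountstar P hP.1 hP.2.2.2).symm
          · rw [Multiset.count_eq_zero_of_notMem (fun hm => hP𝔉 (hmemS a P hm).1)]
            apply Multiset.count_eq_zero_of_notMem
            intro hmem
            rcases (hmemf P hmem).2.2.1 with h | h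
            · exact hP𝔉 h
            · exact hPL h
    have hf : f = L ^ (Multiset.count L (normalizedFactors f))
        * ((mOf 𝔉₁ a).prod * star (mOf 𝔉₁ a).prod) := by
      rw [hSG, ← Multiset.prod_replicate, ← Multiset.prod_add, ← Multiset.prod_add, ← hnFf, hfprod]
    have hdeg : 2 * m = Multiset.count L (normalizedFactors f) + 2 * (i * ∑ P, a P) := by
      rw [← hfd]
      conv_lhs => rw [hf]
      rw [(hLm.pow _).natDegree_mul ((hmonic a).mul (star_monic (hG0 a))),
        hLm.natDegree_pow, hLd, mul_one, (hmonic a).natDegree_mul (star_monic (hG0 a)),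
        natDegree_star (hG0 a), hdegM]
      ring
    have hle : ∑ P, a P ≤ m / i := by
      rw [Nat.le_div_iff_mul_le hi, mul_comm]
      omega
    refine ⟨⟨a, hle⟩, ?_⟩
    apply Subtype.ext
    show L ^ (2 * (m - i * ∑ P, a P)) * ((mOf 𝔉₁ a).prod * star (mOf 𝔉₁ a).prod) = f
    have : 2 * (m - i * ∑ P, a P) = Multiset.count L (normalizedFactors f) := by omega
    rw [this, ← hf]

end Cfsg.Agent.Helper43.SpPrime
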