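import Mathlib
import Cfsg.Agent.Helper43.SpPrimeE

set_option autoImplicit false

namespace Cfsg.Agent.Helper43.GUPrime

open Polynomial UniqueFactorizationMonoid
open Cfsg.Agent.Helper43.SS Cfsg.Agent.Helper43.SpPrime

universe u

variable {F : Type u} [Field F]

open Classical in
theorem count_tau_map (τ : F[X] →* F[X])
    (hτ : ∀ f : F[X], f.Monic → f.coeff 0 ≠ 0 →
      (τ f).Monic ∧ (τ f).coeff 0 ≠ 0 ∧ (τ f).natDegree = f.natDegree ∧ τ (τ f) = f)
    (s : Multiset F[X]) (hs : ∀ g ∈ s, g.Monic ∧ g.coeff 0 ≠ 0) (Q : F[X])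
    (hQ : Q.Monic ∧ Q.coeff 0 ≠ 0) :
    Multiset.count (τ Q) (s.map τ) = Multiset.count Q s := by
  rw [Multiset.count_map, Multiset.count_eq_card_filter_eq]
  congr 1
  apply Multiset.filter_congr
  intro g hg
  constructor
  · intro h
    rw [← (hτ Q hQ.1 hQ.2).2.2.2, ← (hτ g (hs g hg).1 (hs g hg).2).2.2.2, h]
  · intro h
    rw [h]

/-- Counting `τ`-invariant monic polynomials of degree `n` whose irreducible factors lie in a
`τ`-stable finite set of polynomials of degree `i` without `τ`-fixed points, or equal `X - 1`,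
for a multiplicative involution `τ` fixing `X - 1`. -/
theorem card_tau_polys (τ : F[X] →* F[X])
    (hτ : ∀ f : F[X], f.Monic → f.coeff 0 ≠ 0 →
      (τ f).Monic ∧ (τ f).coeff 0 ≠ 0 ∧ (τ f).natDegree = f.natDegree ∧ τ (τ f) = f)
    (hτi : ∀ f : F[X], f.Monic → Irreducible f → f.coeff 0 ≠ 0 → Irreducible (τ f))
    (hτL : τ (X - 1) = X - 1)
    (𝔉 : Finset F[X]) (i : ℕ) (hi : 0 < i)
    (h𝔉 : ∀ P ∈ 𝔉, P.Monic ∧ Irreducible P ∧ P.natDegree = i ∧ P.coeff 0 ≠ 0)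
    (hL𝔉 : (X - 1 : F[X]) ∉ 𝔉) (hstar : ∀ P ∈ 𝔉, τ P ∈ 𝔉) (hfix : ∀ P ∈ 𝔉, τ P ≠ P)
    (n : ℕ) :
    Nat.card {f : F[X] // f.Monic ∧ f.natDegree = n ∧ τ f = f ∧
      ∀ P : F[X], P.Monic → Irreducible P → P ∣ f → P ∈ 𝔉 ∨ P = X - 1}
      = Nat.choose (n / (2 * i) + 𝔉.card / 2) (𝔉.card / 2) := by
  classical
  obtain ⟨𝔉₁, hsub, hiff, hcard⟩ := exists_half 𝔉 τ hstar
    (fun P hP => (hτ P (h𝔉 P hP).1 (h𝔉 P hP).2.2.2).2.2.2) hfix
  have hhalf : 𝔉.card / 2 = 𝔉₁.card := by omega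
  have h2i : 0 < 2 * i := by omega
  rw [hhalf, ← Fintype.card_coe 𝔉₁, ← card_tuples_sum_le 𝔉₁ (n / (2 * i))]
  symm
  set L : F[X] := X - 1 with hL
  have hLC : L = X - C 1 := by rw [hL, map_one]
  have hLm : L.Monic := by rw [hLC]; exact monic_X_sub_C 1
  have hLi : Irreducible L := by rw [hLC]; exact irreducible_X_sub_C 1
  have hLd : L.natDegree = 1 := by rw [hLC]; exact natDegree_X_sub_C 1
  have hL0 : L.coeff 0 = -1 := by
    rw [hL, coeff_sub, coeff_X_zero, coeff_one_zero, zero_sub]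
  have hL0' : L.coeff 0 ≠ 0 := by rw [hL0]; exact neg_ne_zero.mpr one_ne_zero
  have hL𝔉₁ : L ∉ 𝔉₁ := fun h => hL𝔉 (hsub h)
  have hnorm : ∀ Q : F[X], Q.Monic → normalize Q = Q := fun Q hQ => hQ.normalize_eq_self
  -- facts on the multisets
  have hmemM : ∀ (a : 𝔉₁ → ℕ) (Q : F[X]), Q ∈ mOf 𝔉₁ a →
      Q ∈ 𝔉₁ ∧ Q.Monic ∧ Irreducible Q ∧ Q.natDegree = i ∧ Q.coeff 0 ≠ 0 :=
    fun a Q hQ => ⟨mem_mOf 𝔉₁ a Q hQ, h𝔉 Q (hsub (mem_mOf 𝔉₁ a Q hQ))⟩
  have hmemS : ∀ (a : 𝔉₁ → ℕ) (Q : F[X]), Q ∈ (mOf 𝔉₁ a).map τ →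
      Q ∈ 𝔉 ∧ Q ∉ 𝔉₁ ∧ Q.Monic ∧ Irreducible Q ∧ Q.natDegree = i ∧ Q.coeff 0 ≠ 0 := by
    intro a Q hQ
    obtain ⟨Q', hQ', rfl⟩ := Multiset.mem_map.mp hQ
    have h1 := hmemM a Q' hQ'
    exact ⟨hstar Q' (hsub h1.1), (hiff Q' (hsub h1.1)).mp h1.1, h𝔉 _ (hstar Q' (hsub h1.1))⟩
  have hmonic : ∀ a : 𝔉₁ → ℕ, (mOf 𝔉₁ a).prod.Monic := by
    intro a
    have := monic_multiset_prod_of_monic (mOf 𝔉₁ a) id (fun Q hQ => (hmemM a Q hQ).2.1)
    rwa [Multiset.map_id] at this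
  have hdegM : ∀ a : 𝔉₁ → ℕ, (mOf 𝔉₁ a).prod.natDegree = i * ∑ P, a P := by
    intro a
    rw [natDegree_multiset_prod_of_monic _ (fun Q hQ => (hmemM a Q hQ).2.1),
      Multiset.map_congr rfl (fun Q hQ => (hmemM a Q hQ).2.2.2.1), Multiset.map_const',
      Multiset.sum_replicate, card_mOf, smul_eq_mul, mul_comm]
  have hG0 : ∀ a : 𝔉₁ → ℕ, (mOf 𝔉₁ a).prod.coeff 0 ≠ 0 := fun a =>
    coeff_zero_multiset_prod_ne _ (fun Q hQ => (hmemM a Q hQ).2.2.2.2)
  have hSG : ∀ a : 𝔉₁ → ℕ, τ (mOf 𝔉₁ a).prod = ((mOf 𝔉₁ a).map τ).prod :=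
    fun a => map_multiset_prod τ _
  have hτG : ∀ a : 𝔉₁ → ℕ, (τ (mOf 𝔉₁ a).prod).Monic ∧ (τ (mOf 𝔉₁ a).prod).coeff 0 ≠ 0 ∧
      (τ (mOf 𝔉₁ a).prod).natDegree = (mOf 𝔉₁ a).prod.natDegree ∧
      τ (τ (mOf 𝔉₁ a).prod) = (mOf 𝔉₁ a).prod := fun a => hτ _ (hmonic a) (hG0 a)
  have hnF : ∀ (k : ℕ) (a : 𝔉₁ → ℕ),
      normalizedFactors (L ^ k * ((mOf 𝔉₁ a).prod * τ (mOf 𝔉₁ a).prod))
      = Multiset.replicate k L + (mOf 𝔉₁ a + (mOf 𝔉₁ a).map τ) := by
    intro k a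
    rw [normalizedFactors_mul (pow_ne_zero _ hLm.ne_zero)
        (mul_ne_zero (hmonic a).ne_zero (hτG a).1.ne_zero),
      normalizedFactors_pow, normalizedFactors_irreducible hLi, hnorm L hLm,
      Multiset.nsmul_singleton,
      normalizedFactors_mul (hmonic a).ne_zero (hτG a).1.ne_zero,
      normalizedFactors_prod_eq _ (fun Q hQ => (hmemM a Q hQ).2.2.1),
      Multiset.map_congr rfl (fun Q hQ => hnorm Q (hmemM a Q hQ).2.1), Multiset.map_id', hSG,
      normalizedFactors_prod_eq _ (fun Q hQ => (hmemS a Q hQ).2.2.2.1),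
      Multiset.map_congr rfl (fun Q hQ => hnorm Q (hmemS a Q hQ).2.2.1), Multiset.map_id']
  let Θ : {a : 𝔉₁ → ℕ // ∑ P, a P ≤ n / (2 * i)} → {f : F[X] // f.Monic ∧ f.natDegree = n ∧
      τ f = f ∧ ∀ P : F[X], P.Monic → Irreducible P → P ∣ f → P ∈ 𝔉 ∨ P = L} :=
    fun a => ⟨L ^ (n - 2 * i * ∑ P, a.1 P) * ((mOf 𝔉₁ a.1).prod * τ (mOf 𝔉₁ a.1).prod),
      (hLm.pow _).mul ((hmonic a.1).mul (hτG a.1).1), by
      rw [(hLm.pow _).natDegree_mul ((hmonic a.1).mul (hτG a.1).1),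
        hLm.natDegree_pow, hLd, mul_one, (hmonic a.1).natDegree_mul (hτG a.1).1,
        (hτG a.1).2.2.1, hdegM]
      have := (Nat.le_div_iff_mul_le h2i).mp a.2
      rw [mul_comm] at this
      have h3 : 2 * i * ∑ P, a.1 P = i * ∑ P, a.1 P + i * ∑ P, a.1 P := by ring
      omega, by
      rw [map_mul, map_mul, map_pow, hτL, (hτG a.1).2.2.2]
      ring, by
      intro P hPm hPi hP
      have hmem : P ∈ normalizedFactors
          (L ^ (n - 2 * i * ∑ P, a.1 P) * ((mOf 𝔉₁ a.1).prod * τ (mOf 𝔉₁ a.1).prod)) := by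
        rw [Polynomial.mem_normalizedFactors_iff
          ((hLm.pow _).mul ((hmonic a.1).mul (hτG a.1).1)).ne_zero]
        exact ⟨hPi, hPm, hP⟩
      rw [hnF, Multiset.mem_add, Multiset.mem_add] at hmem
      rcases hmem with h | h | h
      · right; exact Multiset.eq_of_mem_replicate h
      · left; exact hsub (mem_mOf 𝔉₁ a.1 P h)
      · left; exact (hmemS a.1 P h).1⟩
  have hL𝔉' : ∀ Q : 𝔉₁, (Q : F[X]) ≠ L := fun Q h => hL𝔉₁ (h ▸ Q.2)
  apply Nat.card_eq_of_bijective Θ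
  constructor
  · intro a a' h
    have h1 : L ^ (n - 2 * i * ∑ P, a.1 P) * ((mOf 𝔉₁ a.1).prod * τ (mOf 𝔉₁ a.1).prod)
        = L ^ (n - 2 * i * ∑ P, a'.1 P) * ((mOf 𝔉₁ a'.1).prod * τ (mOf 𝔉₁ a'.1).prod) :=
      congrArg Subtype.val h
    have h2 := congrArg normalizedFactors h1
    rw [hnF, hnF] at h2
    apply Subtype.ext
    funext Q
    have h3 := congrArg (Multiset.count (Q : F[X])) h2
    rw [Multiset.count_add, Multiset.count_add, Multiset.count_add, Multiset.count_add,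
      count_mOf, count_mOf, Multiset.count_replicate, Multiset.count_replicate,
      Multiset.count_eq_zero_of_notMem (fun hm => (hmemS a.1 _ hm).2.1 Q.2),
      Multiset.count_eq_zero_of_notMem (fun hm => (hmemS a'.1 _ hm).2.1 Q.2)] at h3
    simp only [if_neg (hL𝔉' Q).symm, zero_add, add_zero] at h3
    exact h3
  · rintro ⟨f, hfm, hfd, hsf, hfac⟩
    have hmemf : ∀ Q ∈ normalizedFactors f,
        Q.Monic ∧ Irreducible Q ∧ (Q ∈ 𝔉 ∨ Q = L) ∧ Q.coeff 0 ≠ 0 := by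
      intro Q hQ
      rw [Polynomial.mem_normalizedFactors_iff hfm.ne_zero] at hQ
      have h1 := hfac Q hQ.2.1 hQ.1 hQ.2.2
      refine ⟨hQ.2.1, hQ.1, h1, ?_⟩
      rcases h1 with h | h
      · exact (h𝔉 Q h).2.2.2
      · rw [h]; exact hL0'
    have hfprod : (normalizedFactors f).prod = f := by
      have h1 := prod_normalizedFactors_eq hfm.ne_zero
      rwa [hnorm f hfm] at h1
    -- invariance of the factors
    have hinvt : (normalizedFactors f).map τ = normalizedFactors f := by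
      have h1 : τ f = ((normalizedFactors f).map τ).prod := by
        conv_lhs => rw [← hfprod]
        exact map_multiset_prod τ _
      have h2 := congrArg normalizedFactors h1
      rw [hsf, normalizedFactors_prod_eq _ (fun Q hQ => by
          obtain ⟨Q', hQ', rfl⟩ := Multiset.mem_map.mp hQ
          have := hmemf Q' hQ'
          exact hτi Q' this.1 this.2.1 this.2.2.2),
        Multiset.map_congr (g := fun Q => Q) rfl (fun Q hQ => by
          obtain ⟨Q', hQ', rfl⟩ := Multiset.mem_map.mp hQ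
          exact hnorm _ (hτ Q' (hmemf Q' hQ').1 (hmemf Q' hQ').2.2.2).1), Multiset.map_id'] at h2
      exact h2.symm
    have hcountstar : ∀ Q : F[X], Q.Monic → Q.coeff 0 ≠ 0 →
        Multiset.count (τ Q) (normalizedFactors f)
          = Multiset.count Q (normalizedFactors f) := by
      intro Q hQm hQ0
      conv_lhs => rw [← hinvt]
      exact count_tau_map τ hτ _ (fun g hg => ⟨(hmemf g hg).1, (hmemf g hg).2.2.2⟩) Q ⟨hQm, hQ0⟩
    let a : 𝔉₁ → ℕ := fun Q => Multiset.count (Q : F[X]) (normalizedFactors f)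
    have hnFf : normalizedFactors f
        = Multiset.replicate (Multiset.count L (normalizedFactors f)) L
          + (mOf 𝔉₁ a + (mOf 𝔉₁ a).map τ) := by
      ext P
      rw [Multiset.count_add, Multiset.count_add, Multiset.count_replicate]
      by_cases hPL : P = L
      · rw [hPL, if_pos rfl, count_mOf_of_notMem 𝔉₁ a L hL𝔉₁,
          Multiset.count_eq_zero_of_notMem (fun hm => hL𝔉 (hmemS a L hm).1), add_zero, add_zero]
      · rw [if_neg (fun h => hPL h.symm), zero_add]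
        by_cases hP𝔉₁ : P ∈ 𝔉₁
        · rw [Multiset.count_eq_zero_of_notMem (fun hm => (hmemS a P hm).2.1 hP𝔉₁), add_zero]
          exact (count_mOf 𝔉₁ a ⟨P, hP𝔉₁⟩).symm
        · rw [count_mOf_of_notMem 𝔉₁ a P hP𝔉₁, zero_add]
          by_cases hP𝔉 : P ∈ 𝔉
          · have hP := h𝔉 P hP𝔉
            have hsP : τ P ∈ 𝔉₁ := by
              by_contra h
              exact hP𝔉₁ ((hiff P hP𝔉).mpr h)
            have hsP' := h𝔉 _ (hsub hsP)
            have h1 : Multiset.count P ((mOf 𝔉₁ a).map τ)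
                = Multiset.count (τ P) (mOf 𝔉₁ a) := by
              conv_lhs => rw [← (hτ P hP.1 hP.2.2.2).2.2.2]
              exact count_tau_map τ hτ _
                (fun g hg => ⟨(hmemM a g hg).2.1, (hmemM a g hg).2.2.2.2⟩)
                (τ P) ⟨hsP'.1, hsP'.2.2.2⟩
            rw [h1, count_mOf 𝔉₁ a ⟨τ P, hsP⟩]
            exact (hcountstar P hP.1 hP.2.2.2).symm
          · rw [Multiset.count_eq_zero_of_notMem (fun hm => hP𝔉 (hmemS a P hm).1)]
            apply Multiset.count_eq_zero_of_notMem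
            intro hmem
            rcases (hmemf P hmem).2.2.1 with h | h
            · exact hP𝔉 h
            · exact hPL h
    have hf : f = L ^ (Multiset.count L (normalizedFactors f))
        * ((mOf 𝔉₁ a).prod * τ (mOf 𝔉₁ a).prod) := by
      rw [hSG, ← Multiset.prod_replicate, ← Multiset.prod_add, ← Multiset.prod_add, ← hnFf, hfprod]
    have hdeg : n = Multiset.count L (normalizedFactors f) + 2 * (i * ∑ P, a P) := by
      rw [← hfd]
      conv_lhs => rw [hf]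
      rw [(hLm.pow _).natDegree_mul ((hmonic a).mul (hτG a).1),
        hLm.natDegree_pow, hLd, mul_one, (hmonic a).natDegree_mul (hτG a).1,
        (hτG a).2.2.1, hdegM]
      ring
    have hle : ∑ P, a P ≤ n / (2 * i) := by
      rw [Nat.le_div_iff_mul_le h2i, mul_comm]
      have h3 : 2 * i * ∑ P, a P = 2 * (i * ∑ P, a P) := by ring
      omega
    refine ⟨⟨a, hle⟩, ?_⟩
    apply Subtype.ext
    show L ^ (n - 2 * i * ∑ P, a P) * ((mOf 𝔉₁ a).prod * τ (mOf 𝔉₁ a).prod) = f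
    have : n - 2 * i * ∑ P, a P = Multiset.count L (normalizedFactors f) := by
      have h3 : 2 * i * ∑ P, a P = 2 * (i * ∑ P, a P) := by ring
      omega
    rw [this, ← hf]

end Cfsg.Agent.Helper43.GUPrime
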