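import Mathlib
import Cfsg.Agent.Helper43.GUPrimeB
import Cfsg.Agent.Helper43.SSPrimeCls
import Cfsg.Agent.S2587
import Cfsg.Agent.S2588

set_option autoImplicit false

namespace Cfsg.Agent.Helper43.GUPrime

open Polynomial Matrix
open Cfsg.Agent.Helper43.SpPrime Cfsg.Agent.Helper43.SS

universe u

variable {K : Type u} [Field K]

/-- The characteristic polynomials of elements of prime order `r` of `GU_n`. -/
def GUPrimePred (bar : K →+* K) (n r : ℕ) (f : K[X]) : Prop :=
  f.Monic ∧ f.natDegree = n ∧ utilde bar f = f ∧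
    (∀ P : K[X], P.Monic → Irreducible P → P ∣ f → P ∣ (X ^ r - 1 : K[X])) ∧ f ≠ (X - 1) ^ n

theorem card_classes_prime_order_gu [Fintype K] (p : ℕ) [Fact p.Prime] [CharP K p] {q : ℕ}
    (hK : Fintype.card K = q ^ 2) (bar : K →+* K) (hbar : ∀ x, bar x = x ^ q) (n r : ℕ)
    (hr : r.Prime) (hrp : r ≠ p) :
    Nat.card {C : ConjClasses ↥(Cfsg.GU n K q) //
      ∃ g : ↥(Cfsg.GU n K q), ConjClasses.mk g = C ∧ orderOf g = r}
      = Nat.card {f : K[X] // GUPrimePred bar n r f} := by
  have hp : p.Prime := Fact.out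
  have hrF : (r : K) ≠ 0 := by
    intro h0
    rw [CharP.cast_eq_zero_iff K p r] at h0
    exact hrp ((Nat.prime_dvd_prime_iff_eq hp hr).mp h0).symm
  have hsep : (X ^ r - 1 : K[X]).Separable := by
    have := Polynomial.separable_X_pow_sub_C (1 : K) hrF one_ne_zero
    simpa using this
  have hX0 : (X ^ r - 1 : K[X]) ≠ 0 := hsep.ne_zero
  have haev : ∀ A : Matrix (Fin n) (Fin n) K, aeval A (X ^ r - 1 : K[X]) = A ^ r - 1 := by
    intro A
    rw [map_sub, map_pow, aeval_X, map_one]
  have hval : ∀ (g : GL (Fin n) K) (k : ℕ), g ^ k = 1 → (g : Matrix (Fin n) (Fin n) K) ^ k = 1 := by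
    intro g k hg
    rw [← Units.val_pow_eq_pow_val, hg, Units.val_one]
  have hcoe : ∀ (g : ↥(Cfsg.GU n K q)) (k : ℕ), g ^ k = 1 → (g : GL (Fin n) K) ^ k = 1 := by
    intro g k hg
    rw [← Subgroup.coe_pow, hg, Subgroup.coe_one]
  have hbarfun : (⇑bar : K → K) = fun x : K => x ^ q := funext hbar
  apply card_classes_eq (G := ↥(Cfsg.GU n K q)) (T := K[X]) (fun g => orderOf g = r)
    (fun g => ((g : GL (Fin n) K) : Matrix (Fin n) (Fin n) K).charpoly) (GUPrimePred bar n r)
  · intro g c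
    show (((c * g * c⁻¹ : ↥(Cfsg.GU n K q)) : GL (Fin n) K) : Matrix (Fin n) (Fin n) K).charpoly
      = ((g : GL (Fin n) K) : Matrix (Fin n) (Fin n) K).charpoly
    rw [Subgroup.coe_mul, Subgroup.coe_mul, Subgroup.coe_inv, Units.val_mul, Units.val_mul,
      Matrix.coe_units_inv]
    exact Matrix.charpoly_units_conj (c : GL (Fin n) K) _
  · intro g h hg hh hc
    have hg' : g ^ r = 1 := by rw [← hg]; exact pow_orderOf_eq_one g
    have hh' : h ^ r = 1 := by rw [← hh]; exact pow_orderOf_eq_one h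
    rw [Cfsg.Agent.S2587.result hK g h]
    exact isConj_GL_of_charpoly_eq (g : GL (Fin n) K) (h : GL (Fin n) K) r r hrF hrF
      (hcoe g r hg') (hcoe h r hh') hc
  · intro g hg
    have hg' : g ^ r = 1 := by rw [← hg]; exact pow_orderOf_eq_one g
    have hgGL : (g : GL (Fin n) K) ^ r = 1 := hcoe g r hg'
    refine ⟨Matrix.charpoly_monic _, ?_, ?_, ?_, ?_⟩
    · rw [Matrix.charpoly_natDegree_eq_dim, Fintype.card_fin]
    · have hmem := (Cfsg.Agent.S2677.mem_GU_iff_matrix n bar hbar (g : GL (Fin n) K)).mp g.2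
      have h1 : (((g : GL (Fin n) K) : Matrix (Fin n) (Fin n) K).map bar)ᵀ
          * ((g : GL (Fin n) K) : Matrix (Fin n) (Fin n) K) = 1 := by
        have := congrArg Matrix.transpose hmem
        rw [Matrix.transpose_mul, Matrix.transpose_transpose, Matrix.transpose_one] at this
        exact this
      exact (charpoly_st_inv bar (g : GL (Fin n) K) _ h1).symm
    · intro P hPm hPi hP
      apply dvd_of_dvd_charpoly ((g : GL (Fin n) K) : Matrix (Fin n) (Fin n) K) _
        hsep.squarefree ?_ P hPm hPi hP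
      rw [haev, hval (g : GL (Fin n) K) r hgGL, sub_self]
    · intro hc
      have h1 : ((g : GL (Fin n) K) : Matrix (Fin n) (Fin n) K).charpoly
          = ((1 : GL (Fin n) K) : Matrix (Fin n) (Fin n) K).charpoly := by
        rw [hc, Units.val_one, Matrix.charpoly_one, Fintype.card_fin]
      have hconj := isConj_GL_of_charpoly_eq (g : GL (Fin n) K) 1 r r hrF hrF hgGL (one_pow r) h1
      have hg1 : (g : GL (Fin n) K) = 1 := by
        obtain ⟨c, hc⟩ := isConj_iff.mp hconj.symm
        rw [← hc]; group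
      have hg2 : g = 1 := Subtype.ext hg1
      rw [hg2, orderOf_one] at hg
      exact hr.one_lt.ne hg
  · rintro f ⟨hfm, hfd, hfu, hfac, hne⟩
    have hf0 : f.coeff 0 ≠ 0 := by
      intro h0
      have hXf : (X : K[X]) ∣ f := Polynomial.X_dvd_iff.mpr h0
      have hX := hfac X monic_X irreducible_X hXf
      have h2 := Polynomial.X_dvd_iff.mp hX
      rw [coeff_sub, coeff_X_pow, coeff_one_zero, if_neg hr.ne_zero.symm] at h2
      simp at h2
    obtain ⟨A, hA, k, hk0, hkp, hAk⟩ := exists_matrix_charpoly p n f hfm hfd hf0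
    have hkF : (k : K) ≠ 0 := by
      intro h0
      rw [CharP.cast_eq_zero_iff K p k] at h0
      have : p ∣ Nat.gcd k p := Nat.dvd_gcd h0 dvd_rfl
      rw [hkp] at this
      exact hp.one_lt.ne' (Nat.dvd_one.mp this)
    have hAr : A ^ r = 1 := by
      have := aeval_eq_zero_of_factors A k hkF hAk (X ^ r - 1 : K[X]) hX0 (by
        intro P hPm hPi hP
        rw [hA] at hP
        exact hfac P hPm hPi hP)
      rw [haev] at this
      exact sub_eq_zero.mp this
    have h1 : A * A ^ (r - 1) = 1 := by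
      rw [← pow_succ', Nat.sub_add_cancel hr.pos, hAr]
    have h2 : A ^ (r - 1) * A = 1 := by
      rw [← pow_succ, Nat.sub_add_cancel hr.pos, hAr]
    let g : GL (Fin n) K := ⟨A, A ^ (r - 1), h1, h2⟩
    have hgr : g ^ r = 1 := by
      apply Units.ext
      rw [Units.val_pow_eq_pow_val]
      exact hAr
    -- the conjugate transpose inverse
    have hst1 : (A.map bar)ᵀ * ((A ^ (r - 1)).map bar)ᵀ = 1 := by
      have h3 : Cfsg.Agent.S2587.st bar (A ^ (r - 1) * A) = 1 := by
        rw [h2, Cfsg.Agent.S2587.st_one]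
      rw [Cfsg.Agent.S2587.st_mul] at h3
      exact h3
    have hst2 : ((A ^ (r - 1)).map bar)ᵀ * (A.map bar)ᵀ = 1 := mul_eq_one_comm.mp hst1
    let g' : GL (Fin n) K := ⟨((A ^ (r - 1)).map bar)ᵀ, (A.map bar)ᵀ, hst2, hst1⟩
    have hg'r : g' ^ r = 1 := by
      apply Units.ext
      rw [Units.val_pow_eq_pow_val]
      show (Cfsg.Agent.S2587.st bar (A ^ (r - 1))) ^ r = 1
      rw [← Cfsg.Agent.S2587.st_pow, ← pow_mul, mul_comm, pow_mul, hAr, one_pow,
        Cfsg.Agent.S2587.st_one]
    have hg'ch : (g' : Matrix (Fin n) (Fin n) K).charpoly = f := by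
      have := charpoly_st_inv bar g ((A ^ (r - 1)).map bar)ᵀ hst1
      rw [this]
      show utilde bar A.charpoly = f
      rw [hA, hfu]
    have hconj : IsConj g g' :=
      isConj_GL_of_charpoly_eq g g' r r hrF hrF hgr hg'r (hA.trans hg'ch.symm)
    have hinv : ((A.map (fun x : K => x ^ q))ᵀ)⁻¹ = ((A ^ (r - 1)).map bar)ᵀ := by
      rw [← hbarfun]
      exact Matrix.inv_eq_right_inv hst1
    have hconjM : IsConj (g : Matrix (Fin n) (Fin n) K)
        ((((g : Matrix (Fin n) (Fin n) K).map (fun x : K => x ^ q)).transpose)⁻¹) := by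
      show IsConj A ((A.map (fun x : K => x ^ q))ᵀ)⁻¹
      rw [hinv]
      obtain ⟨c, hc⟩ := isConj_iff.mp hconj
      refine ⟨c, ?_⟩
      show (c : Matrix (Fin n) (Fin n) K) * A = ((A ^ (r - 1)).map bar)ᵀ * (c : Matrix (Fin n) (Fin n) K)
      have h3 : c * g = g' * c := by rw [← hc]; group
      exact congrArg Units.val h3
    obtain ⟨B, hB⟩ := (Cfsg.Agent.S2588.result hK g).mpr hconjM
    obtain ⟨c, hc⟩ := isConj_iff.mp hB
    have hBch : ((B : GL (Fin n) K) : Matrix (Fin n) (Fin n) K).charpoly = f := by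
      rw [← hc, Units.val_mul, Units.val_mul, Matrix.coe_units_inv]
      rw [Matrix.charpoly_units_conj c]
      exact hA
    have hBr : B ^ r = 1 := by
      apply Subtype.ext
      rw [Subgroup.coe_pow, ← hc, conj_pow, hgr, mul_one, mul_inv_cancel, Subgroup.coe_one]
    refine ⟨B, ?_, hBch⟩
    rcases (Nat.dvd_prime hr).mp (orderOf_dvd_of_pow_eq_one hBr) with h1' | hr'
    · exfalso
      rw [orderOf_eq_one_iff] at h1'
      apply hne
      rw [← hBch, h1', Subgroup.coe_one, Units.val_one, Matrix.charpoly_one, Fintype.card_fin]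
    · exact hr'

end Cfsg.Agent.Helper43.GUPrime
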