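import Mathlib
import Cfsg.Agent.Helper43.SpPrimeC
import Cfsg.Agent.Helper43.SpPrimeE
import Cfsg.Agent.Helper43.TransvCount

set_option autoImplicit false

namespace Cfsg.Agent.Helper43.SpPrime

open Polynomial UniqueFactorizationMonoid
open Cfsg.Agent.Helper43 Cfsg.Agent.Helper43.SS

universe u

variable {F : Type u} [Field F] [Fintype F]

theorem card_spPrimePred_odd (p : ℕ) [Fact p.Prime] [CharP F p] {q : ℕ}
    (hF : Fintype.card F = q) (m r i t : ℕ) (hr : r.Prime) (hr2 : r ≠ 2) (hrp : r ≠ p)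
    (hi : i = orderOf (q : ZMod r)) (ht : t * i = r - 1) (hiodd : Odd i) :
    Nat.card {f : F[X] // SpPrimePred m r f} = Nat.choose (m / i + t / 2) (t / 2) - 1 := by
  classical
  have hp : p.Prime := Fact.out
  haveI : Fact r.Prime := ⟨hr⟩
  have hrodd : Odd r := hr.eq_two_or_odd'.resolve_left hr2
  have hrpos : 0 < r := hr.pos
  obtain ⟨f, -, hcard⟩ := FiniteField.card F p
  have hK : Fintype.card F = p ^ (f : ℕ) := hcard
  have hn : p.Coprime r := (Nat.coprime_primes hp hr).mpr hrp.symm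
  have hrF : (r : F) ≠ 0 := by
    intro h0
    rw [CharP.cast_eq_zero_iff F p r] at h0
    exact hrp ((Nat.prime_dvd_prime_iff_eq hp hr).mp h0).symm
  -- the order
  have hord : orderOf (ZMod.unitOfCoprime (p ^ (f : ℕ)) (hn.pow_left f)) = i := by
    rw [hi, ← orderOf_units, ZMod.coe_unitOfCoprime, ← hK, hF]
  have hipos : 0 < i := by
    rw [← hord]
    exact orderOf_pos _
  have htot : Nat.totient r / i = t := by
    rw [Nat.totient_prime hr]
    exact Nat.div_eq_of_eq_mul_left hipos ht.symm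
  -- the irreducible factors of the cyclotomic polynomial
  set Φ : F[X] := cyclotomic r F with hΦ
  have hΦ0 : Φ ≠ 0 := cyclotomic_ne_zero r F
  let 𝔉 : Finset F[X] := (normalizedFactors Φ).toFinset
  have h𝔉card : 𝔉.card = t := by
    have := Polynomial.normalizedFactors_cyclotomic_card (K := F) (n := r) hK hn
    rw [hord, htot] at this
    exact this
  have h𝔉mem : ∀ P : F[X], P ∈ 𝔉 ↔ Irreducible P ∧ P.Monic ∧ P ∣ Φ := by
    intro P
    rw [Multiset.mem_toFinset, Polynomial.mem_normalizedFactors_iff hΦ0]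
  set L : F[X] := X - 1 with hL
  have hLC : L = X - C 1 := by rw [hL, map_one]
  have hLm : L.Monic := by rw [hLC]; exact monic_X_sub_C 1
  have hLi : Irreducible L := by rw [hLC]; exact irreducible_X_sub_C 1
  have hLd : L.natDegree = 1 := by rw [hLC]; exact natDegree_X_sub_C 1
  have hLs : star L = L := star_X_sub_one
  have hL0 : L.coeff 0 = -1 := by
    rw [hL, coeff_sub, coeff_X_zero, coeff_one_zero, zero_sub]
  have hL𝔉 : L ∉ 𝔉 := by
    intro hmem
    rw [h𝔉mem] at hmem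
    have h1 : (X - C (1 : F)) ∣ Φ := by rw [← hLC]; exact hmem.2.2
    rw [Polynomial.dvd_iff_isRoot, IsRoot, hΦ, eval_one_cyclotomic_prime] at h1
    exact hrF h1
  have hXr : (X ^ r - 1 : F[X]) = Φ * L := (cyclotomic_prime_mul_X_sub_one F r).symm
  have hfaciff : ∀ P : F[X], P.Monic → Irreducible P →
      (P ∣ (X ^ r - 1 : F[X]) ↔ P ∈ 𝔉 ∨ P = L) := by
    intro P hPm hPi
    rw [hXr]
    constructor
    · intro hd
      rcases hPi.prime.dvd_or_dvd hd with h | h
      · left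
        rw [h𝔉mem]
        exact ⟨hPi, hPm, h⟩
      · right
        exact eq_of_monic_of_associated hPm hLm (hPi.associated_of_dvd hLi h)
    · rintro (h | h)
      · rw [h𝔉mem] at h
        exact Dvd.dvd.mul_right h.2.2 L
      · rw [h]
        exact dvd_mul_left L Φ
  have h𝔉dvd : ∀ P ∈ 𝔉, P ∣ (X ^ r - 1 : F[X]) := by
    intro P hP
    have h := (h𝔉mem P).mp hP
    exact (hfaciff P h.2.1 h.1).mpr (Or.inl hP)
  have h𝔉 : ∀ P ∈ 𝔉, P.Monic ∧ Irreducible P ∧ P.natDegree = i ∧ P.coeff 0 ≠ 0 := by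
    intro P hP
    have hP' := (h𝔉mem P).mp hP
    refine ⟨hP'.2.1, hP'.1, ?_, coeff_zero_ne_of_dvd_X_pow_sub_one hrpos (h𝔉dvd P hP)⟩
    rw [← hord]
    exact Polynomial.natDegree_of_dvd_cyclotomic_of_irreducible hK hn hP'.2.2 hP'.1
  have hstar : ∀ P ∈ 𝔉, star P ∈ 𝔉 := by
    intro P hP
    have hP' := h𝔉 P hP
    have hsm : (star P).Monic := star_monic hP'.2.2.2
    have hsi : Irreducible (star P) := star_irreducible hP'.1 hP'.2.1 hP'.2.2.2
    have hsd : star P ∣ (X ^ r - 1 : F[X]) := by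
      have := star_dvd (h𝔉dvd P hP)
      rwa [star_X_pow_sub_one hrpos] at this
    rcases (hfaciff _ hsm hsi).mp hsd with h | h
    · exact h
    · exfalso
      apply hL𝔉
      have h2 : P = L := by
        rw [← star_star hP'.1 hP'.2.2.2, h, hLs]
      rw [← h2]
      exact hP
  have hfix : ∀ P ∈ 𝔉, star P ≠ P := by
    intro P hP hs
    have hP' := h𝔉 P hP
    apply hL𝔉
    have h2 : P = L := eq_X_sub_one_of_star_eq_odd hrodd hP'.1 hP'.2.1 (h𝔉dvd P hP) hs
      (by rw [hP'.2.2.1]; exact hiodd)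
    rw [← h2]
    exact hP
  -- the count without the exclusion
  have hcount := card_selfrec_polys 𝔉 i hipos h𝔉 hL𝔉 hstar hfix m
  rw [h𝔉card] at hcount
  haveI hfin : Finite {f : F[X] // f.Monic ∧ f.natDegree = 2 * m ∧ f.reverse = f ∧
      ∀ P : F[X], P.Monic → Irreducible P → P ∣ f → P ∈ 𝔉 ∨ P = L} := by
    apply Nat.finite_of_card_ne_zero
    rw [hcount]
    exact (Nat.choose_pos (Nat.le_add_left (t / 2) (m / i))).ne'
  -- the excluded polynomial
  have hLn : (L ^ (2 * m)).Monic ∧ (L ^ (2 * m)).natDegree = 2 * m ∧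
      (L ^ (2 * m)).reverse = L ^ (2 * m) ∧
      ∀ P : F[X], P.Monic → Irreducible P → P ∣ L ^ (2 * m) → P ∈ 𝔉 ∨ P = L := by
    refine ⟨hLm.pow _, by rw [hLm.natDegree_pow, hLd, mul_one], ?_, ?_⟩
    · apply reverse_eq_self_of_star
      · rw [coeff_zero_eq_eval_zero, eval_pow, ← coeff_zero_eq_eval_zero, hL0, pow_mul,
          neg_one_sq, one_pow]
      · rw [star_pow, hLs]
    · intro P hPm hPi hP
      right
      exact eq_of_monic_of_associated hPm hLm
        (hPi.associated_of_dvd hLi (hPi.prime.dvd_of_dvd_pow hP))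
  rw [← hcount, ← natCard_subtype_ne (⟨L ^ (2 * m), hLn⟩ :
      {f : F[X] // f.Monic ∧ f.natDegree = 2 * m ∧ f.reverse = f ∧
      ∀ P : F[X], P.Monic → Irreducible P → P ∣ f → P ∈ 𝔉 ∨ P = L})]
  apply Nat.card_congr
  refine
    { toFun := fun f => ⟨⟨f.1, f.2.1, f.2.2.1, f.2.2.2.1, fun P hPm hPi hP =>
          (hfaciff P hPm hPi).mp (f.2.2.2.2.1 P hPm hPi hP)⟩,
          fun h => f.2.2.2.2.2 (congrArg Subtype.val h)⟩
      invFun := fun x => ⟨x.1.1, x.1.2.1, x.1.2.2.1, x.1.2.2.2.1, fun P hPm hPi hP =>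
          (hfaciff P hPm hPi).mpr (x.1.2.2.2.2 P hPm hPi hP), fun h => x.2 (Subtype.ext h)⟩
      left_inv := fun f => rfl
      right_inv := fun x => rfl }

end Cfsg.Agent.Helper43.SpPrime
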