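import Mathlib
import Cfsg.Agent.Helper43.GUPrimeC
import Cfsg.Agent.Helper43.SpCountE
import Cfsg.Agent.Helper43.GUPrimeA
import Cfsg.Agent.Helper43.SpPrimeF
import Cfsg.Agent.S2568

set_option autoImplicit false

namespace Cfsg.Agent.Helper43.GUPrime

open Polynomial Matrix
open Cfsg.Agent.Helper43.SpPrime Cfsg.Agent.Helper43.SS Cfsg.Agent.Helper43.SpCount

universe u

variable {K : Type u} [Field K]

theorem exists_pow_eq [Fintype K] (p : ℕ) [Fact p.Prime] [CharP K p] {q : ℕ}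
    (hK : Fintype.card K = q ^ 2) : ∃ m : ℕ, q = p ^ m := by
  have hp : p.Prime := Fact.out
  obtain ⟨k, -, hk⟩ := FiniteField.card K p
  have hq : q ∣ p ^ (k : ℕ) := by
    rw [← hk, hK]
    exact dvd_pow_self q two_ne_zero
  obtain ⟨m, -, rfl⟩ := (Nat.dvd_prime_pow hp).1 hq
  exact ⟨m, rfl⟩

theorem bar_eq_iterateFrobenius (p : ℕ) [Fact p.Prime] [CharP K p] {q m : ℕ} (hq : q = p ^ m)
    (bar : K →+* K) (hbar : ∀ x, bar x = x ^ q) : bar = iterateFrobenius K p m := by
  apply RingHom.ext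
  intro x
  rw [hbar, iterateFrobenius_def, hq]

/-- If `q ^ (2 e + 1) ≡ -1 (mod r)`, the characteristic polynomial of a matrix of order dividing
`r` is fixed by `utilde`. -/
theorem utilde_charpoly_eq [Fintype K] (p : ℕ) [Fact p.Prime] [CharP K p] {q : ℕ}
    (hK : Fintype.card K = q ^ 2) (bar : K →+* K) (hbar : ∀ x, bar x = x ^ q) {n r e : ℕ}
    (hr : 0 < r) (hre : r ∣ q ^ (2 * e + 1) + 1) (A : Matrix (Fin n) (Fin n) K) (hAr : A ^ r = 1) :
    utilde bar A.charpoly = A.charpoly := by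
  obtain ⟨m, hq⟩ := exists_pow_eq p hK
  have hbarF := bar_eq_iterateFrobenius p hq bar hbar
  have h1 : A * A ^ (r - 1) = 1 := by
    rw [← pow_succ', Nat.sub_add_cancel hr, hAr]
  have h2 : A ^ (r - 1) * A = 1 := by
    rw [← pow_succ, Nat.sub_add_cancel hr, hAr]
  let g : GL (Fin n) K := ⟨A, A ^ (r - 1), h1, h2⟩
  have hgr : g ^ r = 1 := by
    apply Units.ext
    rw [Units.val_pow_eq_pow_val]
    exact hAr
  have h3 : ((g ^ q : GL (Fin n) K) : Matrix (Fin n) (Fin n) K).charpoly = A.charpoly.map bar := by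
    rw [Units.val_pow_eq_pow_val, hbarF]
    show (A ^ q).charpoly = _
    rw [hq, charpoly_pow_char]
  have h4 := Lagr.charpoly_inv_eq_star (g ^ q)
  rw [h3] at h4
  have h5 : (g ^ q)⁻¹ = g ^ (Fintype.card K ^ (e + 1)) := by
    rw [inv_eq_iff_mul_eq_one, ← pow_add, hK, ← pow_mul]
    obtain ⟨c, hc⟩ := hre
    have : q + q ^ (2 * (e + 1)) = r * (c * q) := by
      have : q ^ (2 * (e + 1)) = q ^ (2 * e + 1) * q := by
        rw [← pow_succ]
        congr 1
      rw [this]
      calc q + q ^ (2 * e + 1) * q = (q ^ (2 * e + 1) + 1) * q := by ring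
        _ = r * (c * q) := by rw [hc]; ring
    rw [this, pow_mul, hgr, one_pow]
  rw [h5, Units.val_pow_eq_pow_val] at h4
  have h6 : (A ^ (Fintype.card K ^ (e + 1))).charpoly = A.charpoly := charpoly_pow_card_pow' A (e + 1)
  unfold utilde
  rw [← h4]
  exact h6

theorem mod_four_of_orderOf_le {r : ℕ} [Fact r.Prime] (hr2 : r ≠ 2) (u : (ZMod r)ˣ)
    (h : orderOf (-u) ≤ orderOf (u ^ 2)) : orderOf u % 4 = 2 := by
  have hc : 0 < orderOf (-u) := orderOf_pos _
  have hi : 0 < orderOf u := orderOf_pos _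
  have h1 : (-u) ^ 2 = u ^ 2 := neg_sq u
  have h2 : orderOf (u ^ 2) = orderOf (-u) / Nat.gcd (orderOf (-u)) 2 := by
    rw [← h1]
    exact orderOf_pow' (-u) two_ne_zero
  have h3 : orderOf (u ^ 2) = orderOf u / Nat.gcd (orderOf u) 2 := orderOf_pow' u two_ne_zero
  have hodd : Odd (orderOf (-u)) := by
    rw [← Nat.not_even_iff_odd]
    intro hev
    have hg : Nat.gcd (orderOf (-u)) 2 = 2 := Nat.gcd_eq_right hev.two_dvd
    rw [hg] at h2
    omega
  have hg : Nat.gcd (orderOf (-u)) 2 = 1 := Nat.coprime_two_right.mpr hodd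
  rw [hg, Nat.div_one] at h2
  have h4 : u ^ orderOf (-u) = -1 := by
    have := pow_orderOf_eq_one (-u)
    rw [hodd.neg_pow] at this
    rw [← neg_eq_iff_eq_neg]
    exact this
  have hne : (-1 : (ZMod r)ˣ) ≠ 1 := by
    intro h5
    have h6 : ((-1 : (ZMod r)ˣ) : ZMod r) = 1 := by rw [h5]; rfl
    rw [Units.val_neg, Units.val_one] at h6
    have h7 : ((2 : ℕ) : ZMod r) = 0 := by
      push_cast
      have : (1 : ZMod r) + 1 = 0 := by
        nth_rewrite 1 [← h6]
        ring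
      rw [← this]; ring
    rw [ZMod.natCast_eq_zero_iff] at h7
    exact hr2 ((Nat.prime_dvd_prime_iff_eq Fact.out Nat.prime_two).mp h7)
  have h5 : ¬ orderOf u ∣ orderOf (-u) := by
    intro hd
    rw [orderOf_dvd_iff_pow_eq_one, h4] at hd
    exact hne hd
  have h6 : orderOf u ∣ 2 * orderOf (-u) := by
    rw [orderOf_dvd_iff_pow_eq_one, mul_comm, pow_mul, h4]
    simp
  rcases Nat.even_or_odd (orderOf u) with hev | hod
  · have hg2 : Nat.gcd (orderOf u) 2 = 2 := Nat.gcd_eq_right hev.two_dvd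
    rw [hg2, h2] at h3
    obtain ⟨j, hj⟩ := hev
    obtain ⟨k, hk⟩ := hodd
    omega
  · have hg2 : Nat.gcd (orderOf u) 2 = 1 := Nat.coprime_two_right.mpr hod
    rw [hg2, Nat.div_one, h2] at h3
    rw [h3] at h5
    exact absurd dvd_rfl h5

theorem orderOf_le_natDegree_of_utilde_eq (p : ℕ) [Fact p.Prime] [CharP K p] {q m : ℕ}
    (hq : q = p ^ m) (bar : K →+* K) (hbar : ∀ x, bar x = x ^ q) {r : ℕ} (hr : r.Prime)
    (P : K[X]) (hPm : P.Monic) (hPi : Irreducible P) (hPd : P ∣ (X ^ r - 1 : K[X]))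
    (hP1 : P ≠ X - 1) (hfix : utilde bar P = P) :
    orderOf (((q * (r - 1) : ℕ) : ZMod r)) ≤ P.natDegree := by
  classical
  have : Fact (Irreducible P) := ⟨hPi⟩
  have : Fact r.Prime := ⟨hr⟩
  let φ : K →+* AdjoinRoot P := AdjoinRoot.of P
  let x : AdjoinRoot P := AdjoinRoot.root P
  have : CharP (AdjoinRoot P) p := charP_of_injective_ringHom φ.injective p
  let frobE : AdjoinRoot P →+* AdjoinRoot P := iterateFrobenius (AdjoinRoot P) p m
  have hcomm : φ.comp bar = frobE.comp φ := by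
    apply RingHom.ext
    intro a
    show φ (bar a) = frobE (φ a)
    rw [hbar, iterateFrobenius_def, map_pow, hq]
  set N := q * (r - 1) with hN
  have hqN : q + N = r * q := by
    rw [hN]
    have : r = (r - 1) + 1 := by have := hr.pos; omega
    nth_rewrite 2 [this]
    ring
  have key : ∀ y : AdjoinRoot P, eval₂ φ y P = 0 → y ^ r = 1 → eval₂ φ (y ^ N) P = 0 := by
    intro y hy hyr
    have hz : eval₂ φ (y ^ q) (P.map bar) = 0 := by
      rw [Polynomial.eval₂_map, hcomm]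
      have : y ^ q = frobE y := by rw [iterateFrobenius_def, hq]
      rw [this, ← Polynomial.hom_eval₂, hy, map_zero]
    have hinv : y ^ q * y ^ N = 1 := by
      rw [← pow_add, hqN, pow_mul, hyr, one_pow]
    have hz0 : y ^ q ≠ 0 := left_ne_zero_of_mul_eq_one hinv
    let _ := invertibleOfNonzero hz0
    have h1 := (eval₂_reverse_eq_zero_iff φ (y ^ q) (P.map bar)).mpr hz
    have h2 : ⅟(y ^ q) = y ^ N := invOf_eq_right_inv hinv
    rw [h2] at h1
    have h3 : eval₂ φ (y ^ N) (utilde bar P) = 0 := by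
      unfold utilde SpPrime.star
      rw [eval₂_mul, h1, mul_zero]
    rwa [hfix] at h3
  have hx0 : eval₂ φ x P = 0 := AdjoinRoot.eval₂_root P
  have hxr : x ^ r = 1 := by
    have h1 : AdjoinRoot.mk P (X ^ r - 1) = 0 := AdjoinRoot.mk_eq_zero.mpr hPd
    rw [map_sub, map_pow, AdjoinRoot.mk_X, map_one, sub_eq_zero] at h1
    exact h1
  have hx1 : x ≠ 1 := by
    intro h
    have h1 : AdjoinRoot.mk P (X - 1) = 0 := by
      rw [map_sub, AdjoinRoot.mk_X, map_one, sub_eq_zero]
      exact h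
    rw [AdjoinRoot.mk_eq_zero] at h1
    have hLi : Irreducible (X - 1 : K[X]) := by
      have := irreducible_X_sub_C (1 : K)
      rwa [map_one] at this
    have hLm : (X - 1 : K[X]).Monic := by
      have := monic_X_sub_C (1 : K)
      rwa [map_one] at this
    exact hP1 (eq_of_monic_of_associated hPm hLm (hPi.associated_of_dvd hLi h1))
  have hxord : orderOf x = r := orderOf_eq_prime hxr hx1
  let xu : (AdjoinRoot P)ˣ := Units.ofPowEqOne x r hxr hr.ne_zero
  have hxu : (xu : AdjoinRoot P) = x := rfl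
  have hxuord : orderOf xu = r := by
    rw [← orderOf_units, hxu, hxord]
  have horb : ∀ j : ℕ, eval₂ φ (x ^ (N ^ j)) P = 0 ∧ (x ^ (N ^ j)) ^ r = 1 := by
    intro j
    induction j with
    | zero => rw [pow_zero, pow_one]; exact ⟨hx0, hxr⟩
    | succ j ih =>
      rw [pow_succ, pow_mul]
      refine ⟨key _ ih.1 ih.2, ?_⟩
      rw [← pow_mul, mul_comm, pow_mul, ih.2, one_pow]
  set c := orderOf ((N : ℕ) : ZMod r) with hc
  have hPφ0 : P.map φ ≠ 0 := (hPm.map φ).ne_zero
  have hsub : (Finset.range c).image (fun j => x ^ (N ^ j)) ⊆ (P.map φ).roots.toFinset := by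
    intro y hy
    obtain ⟨j, -, rfl⟩ := Finset.mem_image.mp hy
    rw [Multiset.mem_toFinset, Polynomial.mem_roots hPφ0, IsRoot, Polynomial.eval_map]
    exact (horb j).1
  have hinj : Set.InjOn (fun j => x ^ (N ^ j)) (Finset.range c : Set ℕ) := by
    intro j hj k hk hjk
    have hjk0 : x ^ (N ^ j) = x ^ (N ^ k) := hjk
    have hjk' : xu ^ (N ^ j) = xu ^ (N ^ k) := by
      apply Units.ext
      rw [Units.val_pow_eq_pow_val, Units.val_pow_eq_pow_val, hxu]
      exact hjk0
    rw [pow_eq_pow_iff_modEq, hxuord, ← ZMod.natCast_eq_natCast_iff] at hjk'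
    push_cast at hjk'
    have hj' : j ∈ Set.Iio (orderOf ((N : ℕ) : ZMod r)) := by
      rw [Finset.coe_range] at hj; exact hj
    have hk' : k ∈ Set.Iio (orderOf ((N : ℕ) : ZMod r)) := by
      rw [Finset.coe_range] at hk; exact hk
    exact pow_injOn_Iio_orderOf hj' hk' hjk'
  calc c = ((Finset.range c).image (fun j => x ^ (N ^ j))).card := by
        rw [Finset.card_image_of_injOn hinj, Finset.card_range]
    _ ≤ (P.map φ).roots.toFinset.card := Finset.card_le_card hsub
    _ ≤ Multiset.card (P.map φ).roots := Multiset.toFinset_card_le _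
    _ ≤ (P.map φ).natDegree := Polynomial.card_roots' _
    _ = P.natDegree := Polynomial.natDegree_map φ

theorem utilde_ne_of_mod_four (p : ℕ) [Fact p.Prime] [CharP K p] {q m : ℕ}
    (hq : q = p ^ m) (bar : K →+* K) (hbar : ∀ x, bar x = x ^ q) {r i : ℕ} (hr : r.Prime)
    (hr2 : r ≠ 2) (hrp : r ≠ p) (hi : i = orderOf (q : ZMod r)) (hi4 : i % 4 ≠ 2)
    (P : K[X]) (hPm : P.Monic) (hPi : Irreducible P) (hPd : P ∣ (X ^ r - 1 : K[X]))
    (hP1 : P ≠ X - 1) (hdeg : P.natDegree = orderOf (((q ^ 2 : ℕ)) : ZMod r)) :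
    utilde bar P ≠ P := by
  intro hfix
  have hp : p.Prime := Fact.out
  have : Fact r.Prime := ⟨hr⟩
  have h := orderOf_le_natDegree_of_utilde_eq p hq bar hbar hr P hPm hPi hPd hP1 hfix
  have hcop : Nat.Coprime q r := by
    rw [hq]
    exact Nat.Coprime.pow_left m ((Nat.coprime_primes hp hr).mpr hrp.symm)
  set u : (ZMod r)ˣ := ZMod.unitOfCoprime q hcop with hu
  have hu1 : ((-u : (ZMod r)ˣ) : ZMod r) = ((q * (r - 1) : ℕ) : ZMod r) := by
    rw [Units.val_neg, hu, ZMod.coe_unitOfCoprime]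
    push_cast
    rw [Nat.cast_pred hr.pos, ZMod.natCast_self]
    ring
  have hu2 : ((u ^ 2 : (ZMod r)ˣ) : ZMod r) = ((q ^ 2 : ℕ) : ZMod r) := by
    rw [Units.val_pow_eq_pow_val, hu, ZMod.coe_unitOfCoprime]
    push_cast
    rfl
  have hu3 : orderOf u = i := by
    rw [hi, ← orderOf_units, hu, ZMod.coe_unitOfCoprime]
  rw [hdeg, ← hu1, ← hu2, orderOf_units, orderOf_units] at h
  have := mod_four_of_orderOf_le hr2 u h
  rw [hu3] at this
  exact hi4 this

end Cfsg.Agent.Helper43.GUPrime
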