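import Mathlib
import Cfsg.Agent.Helper43.SpPrimeA
import Cfsg.Agent.Helper43.SpCountE

/-!
# (A1b) of helper99's WANTED #9932 (S2362): a symplectic matrix whose characteristic polynomial is a
given self-reciprocal irreducible polynomial `f` has the order of the roots of `f`.
-/

set_option autoImplicit false

namespace Cfsg.Agent.Helper43.BC

open Module Polynomial

variable {F : Type*} [Field F] [Fintype F]

/-- (A1b) a symplectic matrix with irreducible characteristic polynomial `f` has the order of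
the roots of `f` -/
theorem exists_sp_orderOf (p : ℕ) [Fact p.Prime] [CharP F p] (k M : ℕ) (hM : 0 < M) (f : F[X])
    (hfm : f.Monic) (hfi : Irreducible f) (hfd : f.natDegree = 2 * k) (hfr : f.reverse = f)
    (hfM : f ∣ X ^ M - 1) (hfj : ∀ j : ℕ, 0 < j → j < M → ¬ f ∣ X ^ j - 1) :
    ∃ t : ↥(Matrix.symplecticGroup (Fin k) F), orderOf t = M := by
  classical
  have hk : 0 < k := by
    rcases Nat.eq_zero_or_pos k with h0 | h0
    · exfalso
      rw [h0, mul_zero] at hfd
      have h1 : f = 1 := by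
        have := Polynomial.eq_C_of_natDegree_eq_zero hfd
        rw [this]
        have hlc : f.coeff 0 = 1 := by
          have := hfm.leadingCoeff
          rw [Polynomial.leadingCoeff, hfd] at this
          exact this
        rw [hlc, map_one]
      exact hfi.not_isUnit (h1 ▸ isUnit_one)
    · exact h0
  haveI : Nonempty (Fin k ⊕ Fin k) := ⟨Sum.inl ⟨0, hk⟩⟩
  obtain ⟨h, hhm, hhd, hpal⟩ := Cfsg.Agent.Helper43.SpPrime.exists_pal_eq hfm hfd hfr
  obtain ⟨a, -, hch⟩ := Cfsg.Agent.Helper43.SpCount.exists_semisimple_charpoly p hhm hhd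
  rw [hpal] at hch
  refine ⟨a, ?_⟩
  have hCH : aeval (a : Matrix (Fin k ⊕ Fin k) (Fin k ⊕ Fin k) F) f = 0 := by
    rw [← hch]
    exact Matrix.aeval_self_charpoly _
  have hmin : f = minpoly F (a : Matrix (Fin k ⊕ Fin k) (Fin k ⊕ Fin k) F) :=
    minpoly.eq_of_irreducible_of_monic hfi hCH hfm
  have hev : ∀ j : ℕ, aeval (a : Matrix (Fin k ⊕ Fin k) (Fin k ⊕ Fin k) F) (X ^ j - 1 : F[X]) =
      ((a ^ j : ↥(Matrix.symplecticGroup (Fin k) F)) : Matrix (Fin k ⊕ Fin k) (Fin k ⊕ Fin k) F) - 1 := by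
    intro j
    rw [map_sub, map_pow, aeval_X, map_one, SubmonoidClass.coe_pow]
  have key : ∀ j : ℕ, a ^ j = 1 ↔ f ∣ X ^ j - 1 := by
    intro j
    constructor
    · intro hj
      have h1 : aeval (a : Matrix (Fin k ⊕ Fin k) (Fin k ⊕ Fin k) F) (X ^ j - 1 : F[X]) = 0 := by
        rw [hev, hj, OneMemClass.coe_one, sub_self]
      rw [hmin]
      exact minpoly.dvd F _ h1
    · rintro ⟨g, hg⟩
      have h1 : aeval (a : Matrix (Fin k ⊕ Fin k) (Fin k ⊕ Fin k) F) (X ^ j - 1 : F[X]) = 0 := by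
        rw [hg, map_mul, hCH, zero_mul]
      rw [hev, sub_eq_zero] at h1
      exact Subtype.ext h1
  rw [orderOf_eq_iff hM]
  refine ⟨(key M).mpr hfM, fun j hjM hj0 hj1 => hfj j hj0 hjM ((key j).mp hj1)⟩

end Cfsg.Agent.Helper43.BC
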