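import Mathlib
import Cfsg.Agent.Helper43.SpCountE
import Cfsg.Agent.Helper99.USpL
import Cfsg.Agent.S0246

/-!
# (A2) of helper99's WANTED #9932 (S2362): the element `(transvection, t)` of
`Sp_2 × Sp_{2k} ≤ Sp_{2k+2}`.
-/

set_option autoImplicit false

namespace Cfsg.Agent.Helper43.BC

open Module Cfsg.Agent.Helper43.SpSS Cfsg.Agent.Helper99.USp

universe u

section transv

variable {F : Type*} [Field F] {V : Type*} [AddCommGroup V] [Module F V]
  (B : LinearMap.BilinForm F V) (e : V)

/-- the nilpotent part `x ↦ B(x, e) e` of a symplectic transvection -/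
noncomputable def tvN : Module.End F V := (B.flip e).smulRight e

theorem tvN_apply (x : V) : tvN B e x = B x e • e := by
  unfold tvN
  rw [LinearMap.smulRight_apply]
  rfl

theorem tvN_sq (halt : B.IsAlt) : tvN B e * tvN B e = 0 := by
  apply LinearMap.ext
  intro x
  rw [Module.End.mul_apply, tvN_apply, tvN_apply, map_smul, LinearMap.smul_apply, halt e,
    smul_zero, zero_smul, LinearMap.zero_apply]

theorem tv_pow (halt : B.IsAlt) (j : ℕ) :
    (1 + tvN B e) ^ j = 1 + (j : F) • tvN B e := by
  induction j with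
  | zero => rw [pow_zero, Nat.cast_zero, zero_smul, add_zero]
  | succ j ih =>
    rw [pow_succ, ih]
    simp only [mul_add, add_mul, mul_one, one_mul, smul_mul_assoc, tvN_sq B e halt, smul_zero,
      add_zero, Nat.cast_succ, add_smul, one_smul]
    abel

theorem tv_isom (halt : B.IsAlt) (x y : V) :
    B ((1 + tvN B e) x) ((1 + tvN B e) y) = B x y := by
  have h1 : B e y = - B y e := (halt.neg_eq y e).symm ▸ rfl
  simp only [LinearMap.add_apply, Module.End.one_apply, tvN_apply, map_add, map_smul,
    LinearMap.smul_apply, halt e, h1, smul_eq_mul]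
  ring

end transv

variable {F : Type u} [Field F] [Fintype F]

/-- the orthogonal sum of the standard alternating forms of dimensions `2` and `2k` -/
noncomputable def sumForm (k : ℕ) :
    LinearMap.BilinForm F ((Fin 1 ⊕ Fin 1 → F) × (Fin k ⊕ Fin k → F)) :=
  (Bn 1 F).compl₁₂ (LinearMap.fst F _ _) (LinearMap.fst F _ _) +
    (Bn k F).compl₁₂ (LinearMap.snd F _ _) (LinearMap.snd F _ _)

theorem sumForm_apply (k : ℕ) (x y : (Fin 1 ⊕ Fin 1 → F) × (Fin k ⊕ Fin k → F)) :
    sumForm k x y = Bn 1 F x.1 y.1 + Bn k F x.2 y.2 := rfl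

theorem sumForm_alt (k : ℕ) : (sumForm (F := F) k).IsAlt := by
  intro x
  rw [sumForm_apply, Bn_alt, Bn_alt, add_zero]

theorem sumForm_nondeg (k : ℕ) : (sumForm (F := F) k).Nondegenerate := by
  have hrefl : (sumForm (F := F) k).IsRefl := (sumForm_alt k).isRefl
  apply (LinearMap.IsRefl.nondegenerate_iff_separatingLeft hrefl).mpr
  intro x hx
  have h1 := (LinearMap.IsRefl.nondegenerate_iff_separatingLeft
    (Bn_alt (n := 1) (F := F)).isRefl).mp Bn_nondeg
  have hk := (LinearMap.IsRefl.nondegenerate_iff_separatingLeft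
    (Bn_alt (n := k) (F := F)).isRefl).mp Bn_nondeg
  have hx1 : x.1 = 0 := by
    apply h1
    intro y
    have := hx (y, 0)
    rw [sumForm_apply] at this
    simpa using this
  have hx2 : x.2 = 0 := by
    apply hk
    intro y
    have := hx (0, y)
    rw [sumForm_apply] at this
    simpa using this
  exact Prod.ext hx1 hx2

/-- (A2) the element `(transvection, t)` of `Sp_2 × Sp_{2k} ≤ Sp_{2k+2}` -/
theorem exists_sp_block (p : ℕ) [Fact p.Prime] [CharP F p] (hp2 : p ≠ 2) (k M : ℕ)
    (hMp : M.Coprime p) (t : ↥(Matrix.symplecticGroup (Fin k) F)) (ht : orderOf t = M) :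
    ∃ g : ↥(Matrix.symplecticGroup (Fin (k + 1)) F), g ^ (p * M) = 1 ∧
      ∀ j : ℕ, (g ^ j = 1 ∨ g ^ j = Cfsg.Agent.S0246.negOne (k + 1) F) → p * M ∣ j := by
  classical
  have hp : p.Prime := Fact.out
  -- the transvection
  let e : Fin 1 ⊕ Fin 1 → F := Pi.single (Sum.inl 0) 1
  have he : e ≠ 0 := by
    intro h
    have := congrFun h (Sum.inl 0)
    simp [e] at this
  let U : Module.End F (Fin 1 ⊕ Fin 1 → F) := 1 + tvN (Bn 1 F) e
  have hUpow : ∀ j : ℕ, U ^ j = 1 + (j : F) • tvN (Bn 1 F) e := tv_pow (Bn 1 F) e Bn_alt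
  -- a vector pairing non-trivially with `e`
  have h1 := (LinearMap.IsRefl.nondegenerate_iff_separatingLeft
    (Bn_alt (n := 1) (F := F)).isRefl).mp Bn_nondeg
  obtain ⟨x₀, hx₀⟩ : ∃ x₀, Bn 1 F x₀ e ≠ 0 := by
    by_contra hcon
    push Not at hcon
    apply he
    apply h1
    intro y
    have := hcon y
    rw [← (Bn_alt (n := 1) (F := F)).neg_eq, this, neg_zero]
  have h2 : (2 : F) ≠ 0 := by
    intro h
    have h' : ((2 : ℕ) : F) = 0 := by exact_mod_cast h
    rw [CharP.cast_eq_zero_iff F p] at h'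
    exact hp2 ((Nat.prime_dvd_prime_iff_eq hp Nat.prime_two).mp h')
  have hU1 : ∀ j : ℕ, U ^ j = 1 → p ∣ j := by
    intro j hj
    rw [hUpow] at hj
    have := congrArg (fun T : Module.End F (Fin 1 ⊕ Fin 1 → F) => T x₀) hj
    simp only [LinearMap.add_apply, Module.End.one_apply, LinearMap.smul_apply, tvN_apply] at this
    rw [add_eq_left, smul_smul] at this
    rcases smul_eq_zero.mp this with h | h
    · rcases mul_eq_zero.mp h with h | h
      · exact (CharP.cast_eq_zero_iff F p j).mp h
      · exact absurd h hx₀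
    · exact absurd h he
  have hUneg : ∀ j : ℕ, U ^ j ≠ -1 := by
    intro j hj
    rw [hUpow] at hj
    have := congrArg (fun T : Module.End F (Fin 1 ⊕ Fin 1 → F) => T e) hj
    simp only [LinearMap.add_apply, Module.End.one_apply, LinearMap.smul_apply, tvN_apply,
      LinearMap.neg_apply] at this
    rw [Bn_alt, zero_smul, smul_zero, add_zero] at this
    have h3 : (2 : F) • e = 0 := by
      rw [two_smul]
      nth_rewrite 1 [this]
      exact neg_add_cancel e
    rcases smul_eq_zero.mp h3 with h | h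
    · exact h2 h
    · exact he h
  have hUp : U ^ p = 1 := by
    rw [hUpow, CharP.cast_eq_zero, zero_smul, add_zero]
  -- the endomorphism of the sum
  let T : Module.End F (Fin k ⊕ Fin k → F) := linOf t
  let G : Module.End F ((Fin 1 ⊕ Fin 1 → F) × (Fin k ⊕ Fin k → F)) := LinearMap.prodMap U T
  have hGpow : ∀ j : ℕ, G ^ j = LinearMap.prodMap (U ^ j) (T ^ j) := by
    intro j
    induction j with
    | zero => rw [pow_zero, pow_zero, pow_zero, LinearMap.prodMap_one]
    | succ j ih => rw [pow_succ, ih, pow_succ, pow_succ, LinearMap.prodMap_mul]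
  have hGiso : ∀ x y, sumForm k (G x) (G y) = sumForm k x y := by
    intro x y
    rw [sumForm_apply, sumForm_apply]
    show Bn 1 F (U x.1) (U y.1) + Bn k F (linOf t x.2) (linOf t y.2) = _
    rw [tv_isom (Bn 1 F) e Bn_alt, linOf_iso]
  -- transport
  have hdim : finrank F ((Fin 1 ⊕ Fin 1 → F) × (Fin k ⊕ Fin k → F)) =
      finrank F (Fin (k + 1) ⊕ Fin (k + 1) → F) := by
    rw [Module.finrank_prod, Module.finrank_fintype_fun_eq_card, Module.finrank_fintype_fun_eq_card,
      Module.finrank_fintype_fun_eq_card, Fintype.card_sum, Fintype.card_sum, Fintype.card_sum,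
      Fintype.card_fin, Fintype.card_fin, Fintype.card_fin]
    ring
  obtain ⟨φ, hφ⟩ := Cfsg.Agent.Helper43.SpCount.exists_isometry_alt (sumForm_alt (F := F) k)
    (sumForm_nondeg k) (Bn_alt (n := k + 1) (F := F)) (Bn_nondeg (n := k + 1) (F := F)) hdim
  let c := φ.conjRingEquiv
  have hc : ∀ (S : Module.End F ((Fin 1 ⊕ Fin 1 → F) × (Fin k ⊕ Fin k → F))) v,
      c S v = φ (S (φ.symm v)) := fun S v => rfl
  have hG' : ∀ x y, Bn (k + 1) F (c G x) (c G y) = Bn (k + 1) F x y := by
    intro x y
    rw [hc, hc, hφ, hGiso, ← hφ, LinearEquiv.apply_symm_apply, LinearEquiv.apply_symm_apply]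
  obtain ⟨g, hg⟩ := exists_linOf_eq (c G) hG'
  have hgpow : ∀ j : ℕ, linOf (g ^ j) = c (G ^ j) := by
    intro j
    rw [linOf_pow, hg, map_pow]
  have hTpow : ∀ j : ℕ, T ^ j = linOf (t ^ j) := fun j => (linOf_pow t j).symm
  refine ⟨g, ?_, ?_⟩
  · apply linOf_injective
    rw [hgpow, linOf_one, hGpow, hTpow, pow_mul, hUp, one_pow, ← ht, mul_comm, pow_mul,
      pow_orderOf_eq_one, one_pow, linOf_one, LinearMap.prodMap_one, map_one]
  · intro j hj
    rcases hj with hj | hj
    · have h3 : c (G ^ j) = 1 := by rw [← hgpow, hj, linOf_one]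
      have h4 : G ^ j = 1 := by
        have := congrArg c.symm h3
        rwa [RingEquiv.symm_apply_apply, map_one] at this
      rw [hGpow] at h4
      have h5 : U ^ j = 1 := by
        apply LinearMap.ext
        intro x
        have := congrArg (fun S : Module.End F ((Fin 1 ⊕ Fin 1 → F) × (Fin k ⊕ Fin k → F)) =>
          (S (x, 0)).1) h4
        exact this
      have h6 : T ^ j = 1 := by
        apply LinearMap.ext
        intro x
        have := congrArg (fun S : Module.End F ((Fin 1 ⊕ Fin 1 → F) × (Fin k ⊕ Fin k → F)) =>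
          (S (0, x)).2) h4
        exact this
      have h7 : t ^ j = 1 := by
        apply linOf_injective
        rw [← hTpow, h6, linOf_one]
      have h8 : M ∣ j := ht ▸ orderOf_dvd_of_pow_eq_one h7
      exact Nat.Coprime.mul_dvd_of_dvd_of_dvd hMp.symm (hU1 j h5) h8
    · exfalso
      have hneg : linOf (Cfsg.Agent.S0246.negOne (k + 1) F) = -1 := by
        unfold linOf Cfsg.Agent.S0246.negOne
        rw [map_neg, Matrix.toLin'_one]
        rfl
      have h3 : c (G ^ j) = -1 := by rw [← hgpow, hj, hneg]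
      have h4 : G ^ j = -1 := by
        have := congrArg c.symm h3
        rwa [RingEquiv.symm_apply_apply, map_neg, map_one] at this
      rw [hGpow] at h4
      apply hUneg j
      apply LinearMap.ext
      intro x
      have := congrArg (fun S : Module.End F ((Fin 1 ⊕ Fin 1 → F) × (Fin k ⊕ Fin k → F)) =>
        (S (x, 0)).1) h4
      exact this

end Cfsg.Agent.Helper43.BC
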