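import Mathlib
import Cfsg.Prelude.Def_Classical

/-!
# Sylow 2-subgroups of orthogonal groups in odd characteristic (Carter-Fong): the model forms

`mForm k j γ` is the diagonal quadratic form `Σ x² + Σ γ_i y_i²` with `2k` coordinates of weight one,
grouped in `k` coordinate planes, and `j` further coordinates of weights `γ`.
-/

set_option autoImplicit false

namespace Cfsg.Agent.Helper43.Syl

/-- index type: `k` coordinate planes `Fin 2 × {p}` and `j` extra coordinates -/
abbrev Idx (k j : ℕ) : Type := (Fin 2 × Fin k) ⊕ Fin j

variable (F : Type*) [Field F]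

/-- weights: `1` on the planes, `γ` on the extra coordinates -/
def wt {F : Type*} [Field F] (k j : ℕ) (γ : Fin j → F) : Idx k j → F := Sum.elim (fun _ => 1) γ

/-- the model form `Σ x² + Σ γ_i y_i²` -/
noncomputable def mForm {F : Type*} [Field F] (k j : ℕ) (γ : Fin j → F) :
    QuadraticForm F (Idx k j → F) :=
  QuadraticMap.weightedSumSquares F (wt k j γ)

/-- the Euclidean plane `x² + y²` -/
noncomputable def E2 : QuadraticForm F (Fin 2 → F) :=
  QuadraticMap.weightedSumSquares F (fun _ : Fin 2 => (1 : F))

/-- the quadratic character of `-1`, as an integer sign -/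
noncomputable def chi : ℤ := by
  classical
  exact if IsSquare (-1 : F) then 1 else -1

/-- `q - 1` or `q + 1`, whichever is divisible by four -/
def ee (q : ℕ) : ℕ := if q % 4 = 1 then q - 1 else q + 1

theorem mForm_apply {F : Type*} [Field F] (k j : ℕ) (γ : Fin j → F) (v : Idx k j → F) :
    mForm k j γ v = ∑ i, wt k j γ i * (v i * v i) := by
  unfold mForm
  rw [QuadraticMap.weightedSumSquares_apply]
  rfl

theorem E2_apply (v : Fin 2 → F) : E2 F v = v 0 * v 0 + v 1 * v 1 := by
  unfold E2
  rw [QuadraticMap.weightedSumSquares_apply, Fin.sum_univ_two]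
  simp

end Cfsg.Agent.Helper43.Syl
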