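import Mathlib

set_option autoImplicit false

namespace Cfsg.Agent.Helper43

open Polynomial Module DirectSum

/-- Weinstein–Aronszajn identity for linear maps between finite-dimensional spaces. -/
theorem det_one_add_comp_comm {F : Type*} [Field F] {A B : Type*} [AddCommGroup A] [Module F A]
    [FiniteDimensional F A] [AddCommGroup B] [Module F B] [FiniteDimensional F B]
    (f : B →ₗ[F] A) (g : A →ₗ[F] B) :
    LinearMap.det (1 + f ∘ₗ g) = LinearMap.det (1 + g ∘ₗ f) := by
  let bA := Module.finBasis F A
  let bB := Module.finBasis F B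
  rw [← LinearMap.det_toMatrix bA, ← LinearMap.det_toMatrix bB]
  rw [map_add, map_add, LinearMap.toMatrix_comp bA bB bA, LinearMap.toMatrix_comp bB bA bB]
  have h1 : LinearMap.toMatrix bA bA (1 : A →ₗ[F] A) = 1 := LinearMap.toMatrix_one bA
  have h2 : LinearMap.toMatrix bB bB (1 : B →ₗ[F] B) = 1 := LinearMap.toMatrix_one bB
  rw [h1, h2]
  exact Matrix.det_one_add_mul_comm _ _

end Cfsg.Agent.Helper43

namespace Cfsg.Agent.Helper43

open Polynomial Module DirectSum

/-- The cyclic module `F[X]/(g)`. -/
abbrev Qt {F : Type*} [Field F] (g : F[X]) : Type _ := F[X] ⧸ Submodule.span F[X] {g}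

/-- For an endomorphism of finite order prime to the characteristic of a finite field, the
commutant contains elements of every determinant. -/
theorem exists_commuting_det {F : Type*} [Field F] [Finite F] {V : Type*} [AddCommGroup V] [Module F V]
    [FiniteDimensional F V] [Nontrivial V] (φ : Module.End F V) (k : ℕ) (hk : (k : F) ≠ 0)
    (hφ : φ ^ k = 1) (d : F) :
    ∃ z : Module.End F V, z * φ = φ * z ∧ LinearMap.det z = d := by
  classical
  have htors : Module.IsTorsion F[X] (Module.AEval' φ) :=
    Module.AEval.isTorsion_of_finiteDimensional F V φ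
  obtain ⟨ι, _, p, hp, e, ⟨E⟩⟩ := Module.equiv_directSum_of_isTorsion htors
  let Q : ι → Type _ := fun i => Qt (p i ^ e i)
  let o := Module.AEval'.of φ
  -- (X^k - 1) kills the module
  have hann : ∀ m : Module.AEval' φ, (X ^ k - 1 : F[X]) • m = 0 := by
    intro m
    obtain ⟨v, rfl⟩ := o.surjective m
    rw [sub_smul, one_smul, Module.AEval'.X_pow_smul_of, hφ]
    show o ((1 : Module.End F V) • v) - o v = 0
    rw [one_smul, sub_self]
  have hdvd : ∀ i, p i ^ e i ∣ X ^ k - 1 := by
    intro i
    have h0 := hann (E.symm (DirectSum.lof F[X] ι Q i (Submodule.Quotient.mk 1)))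
    have h1 := congrArg E h0
    rw [map_smul, LinearEquiv.apply_symm_apply, map_zero, ← map_smul] at h1
    have h2 := congrArg (DirectSum.component F[X] ι Q i) h1
    rw [DirectSum.component.lof_self, map_zero, ← Submodule.Quotient.mk_smul, smul_eq_mul, mul_one,
      Submodule.Quotient.mk_eq_zero, Submodule.mem_span_singleton] at h2
    obtain ⟨a, ha⟩ := h2
    exact ⟨a, by rw [← ha, smul_eq_mul, mul_comm]⟩
  have hsep : (X ^ k - 1 : F[X]).Separable := by
    have := Polynomial.separable_X_pow_sub_C (1 : F) hk one_ne_zero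
    simpa using this
  have hsq : Squarefree (X ^ k - 1 : F[X]) := hsep.squarefree
  have he1 : ∀ i, e i ≤ 1 := by
    intro i
    by_contra hlt
    have h2 : p i * p i ∣ X ^ k - 1 := by
      refine Dvd.dvd.trans ?_ (hdvd i)
      rw [← pow_two]
      exact pow_dvd_pow _ (by omega)
    exact (hp i).not_isUnit (hsq _ h2)
  -- a nontrivial component
  have hex : ∃ i0, Nontrivial (Q i0) := by
    by_contra hcon
    push Not at hcon
    have hsub : ∀ i, Subsingleton (Q i) := fun i => hcon i
    have : Subsingleton (⨁ i, Q i) := by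
      constructor
      intro a b
      apply DirectSum.ext
      intro i
      exact (hsub i).elim _ _
    have hM : Subsingleton (Module.AEval' φ) := E.toEquiv.subsingleton
    have hV : Subsingleton V := o.toEquiv.subsingleton
    exact not_subsingleton V hV
  obtain ⟨i0, hi0⟩ := hex
  have hei0 : e i0 = 1 := by
    have := he1 i0
    by_contra hne
    have h0 : e i0 = 0 := by omega
    have hI : Submodule.span F[X] {p i0 ^ e i0} = ⊤ := by
      rw [h0, pow_zero]
      exact Ideal.span_singleton_one
    have : Subsingleton (Q i0) := by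
      show Subsingleton (F[X] ⧸ Submodule.span F[X] {p i0 ^ e i0})
      apply subsingleton_of_forall_eq 0
      intro q
      obtain ⟨r, rfl⟩ := Submodule.Quotient.mk_surjective _ q
      rw [Submodule.Quotient.mk_eq_zero, hI]
      trivial
    exact not_subsingleton (Q i0) this
  -- the ideal is maximal, so the component is a field
  have hmax : Ideal.IsMaximal (Submodule.span F[X] {p i0 ^ e i0} : Ideal F[X]) := by
    rw [hei0, pow_one]
    exact PrincipalIdealRing.isMaximal_of_irreducible (hp i0)
  letI : Field (Qt (p i0 ^ e i0)) := Ideal.Quotient.field (Submodule.span F[X] {p i0 ^ e i0} : Ideal F[X])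
  -- the maps in and out of the component
  let ιX : Qt (p i0 ^ e i0) →ₗ[F[X]] Module.AEval' φ := E.symm.toLinearMap ∘ₗ DirectSum.lof F[X] ι Q i0
  let PX : Module.AEval' φ →ₗ[F[X]] Qt (p i0 ^ e i0) := DirectSum.component F[X] ι Q i0 ∘ₗ E.toLinearMap
  have hPι : ∀ q, PX (ιX q) = q := by
    intro q
    show DirectSum.component F[X] ι Q i0 (E (E.symm (DirectSum.lof F[X] ι Q i0 q))) = q
    rw [LinearEquiv.apply_symm_apply, DirectSum.component.lof_self]
  have hfinV : Finite V := Module.finite_of_finite F
  have hfinQ : Finite (Qt (p i0 ^ e i0)) := by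
    have hinj : Function.Injective (fun q : Qt (p i0 ^ e i0) => o.symm (ιX q)) := by
      intro a b hab
      have h1 : ιX a = ιX b := o.symm.injective hab
      have := congrArg PX h1
      rwa [hPι, hPι] at this
    exact Finite.of_injective _ hinj
  obtain ⟨c, hc⟩ := FiniteField.norm_surjective F (Qt (p i0 ^ e i0)) d
  let μX : Qt (p i0 ^ e i0) →ₗ[F[X]] Qt (p i0 ^ e i0) := LinearMap.mulLeft F[X] (c - 1)
  let zX : Module.AEval' φ →ₗ[F[X]] Module.AEval' φ := LinearMap.id + ιX ∘ₗ μX ∘ₗ PX
  let zM : Module.AEval' φ →ₗ[F] Module.AEval' φ := zX.restrictScalars F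
  refine ⟨o.symm.toLinearMap ∘ₗ zM ∘ₗ o.toLinearMap, ?_, ?_⟩
  · apply LinearMap.ext
    intro v
    show o.symm (zX (o (φ v))) = φ (o.symm (zX (o v)))
    rw [← Module.AEval'.X_smul_of, map_smul, Module.AEval'.of_symm_X_smul]
  · have hconj := LinearMap.det_conj zM o.symm
    rw [LinearEquiv.symm_symm] at hconj
    rw [hconj]
    haveI : Module.Finite F (Qt (p i0 ^ e i0)) := Module.Finite.of_finite
    let fF : Qt (p i0 ^ e i0) →ₗ[F] Module.AEval' φ := (ιX ∘ₗ μX).restrictScalars F
    let gF : Module.AEval' φ →ₗ[F] Qt (p i0 ^ e i0) := PX.restrictScalars F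
    have hz : zM = 1 + fF ∘ₗ gF := by
      apply LinearMap.ext
      intro m
      rfl
    rw [hz, det_one_add_comp_comm fF gF]
    have hmul : (1 + gF ∘ₗ fF : Qt (p i0 ^ e i0) →ₗ[F] Qt (p i0 ^ e i0))
        = Algebra.lmul F (Qt (p i0 ^ e i0)) c := by
      apply LinearMap.ext
      intro q
      show q + PX (ιX ((c - 1) * q)) = c * q
      rw [hPι]
      ring
    rw [hmul, ← Algebra.norm_apply, hc]

end Cfsg.Agent.Helper43
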