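import Cfsg.Agent.Helper43.GLConj

set_option autoImplicit false

namespace Cfsg.Agent.Helper43.Inv

open Module

variable {F : Type*} [Field F]

section lin

variable {V : Type*} [AddCommGroup V] [Module F V]

/-- The fixed space and the `(-1)`-eigenspace of a linear involution are complementary (`2 ≠ 0`). -/
theorem isCompl_of_invol (h2 : (2 : F) ≠ 0) (φ : V →ₗ[F] V) (hφ : ∀ v, φ (φ v) = v) :
    IsCompl (LinearMap.ker (φ - 1)) (LinearMap.ker (φ + 1)) := by
  constructor
  · rw [Submodule.disjoint_def]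
    intro v hv hv'
    rw [LinearMap.mem_ker, LinearMap.sub_apply, Module.End.one_apply, sub_eq_zero] at hv
    rw [LinearMap.mem_ker, LinearMap.add_apply, Module.End.one_apply, hv] at hv'
    have : (2 : F) • v = 0 := by rw [two_smul]; exact hv'
    rcases smul_eq_zero.mp this with h | h
    · exact absurd h h2
    · exact h
  · rw [codisjoint_iff, eq_top_iff]
    intro v _
    rw [Submodule.mem_sup]
    refine ⟨(2 : F)⁻¹ • (v + φ v), ?_, (2 : F)⁻¹ • (v - φ v), ?_, ?_⟩
    · rw [LinearMap.mem_ker, LinearMap.sub_apply, Module.End.one_apply, map_smul, map_add, hφ,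
        add_comm (φ v) v, sub_self]
    · rw [LinearMap.mem_ker, LinearMap.add_apply, Module.End.one_apply, map_smul, map_sub, hφ,
        ← smul_add]
      have : φ v - v + (v - φ v) = 0 := by abel
      rw [this, smul_zero]
    · rw [← smul_add]
      have : v + φ v + (v - φ v) = (2 : F) • v := by rw [two_smul]; abel
      rw [this, smul_smul, inv_mul_cancel₀ h2, one_smul]

variable [Module.Finite F V]

/-- Two linear involutions whose `φ - 1` have the same rank are intertwined by a linear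
automorphism. -/
theorem exists_equiv_of_invol (h2 : (2 : F) ≠ 0) (φ ψ : V →ₗ[F] V) (hφ : ∀ v, φ (φ v) = v)
    (hψ : ∀ v, ψ (ψ v) = v)
    (hr : finrank F (LinearMap.range (φ - 1)) = finrank F (LinearMap.range (ψ - 1))) :
    ∃ E : V ≃ₗ[F] V, ∀ v, E (φ v) = ψ (E v) := by
  have hcφ := isCompl_of_invol h2 φ hφ
  have hcψ := isCompl_of_invol h2 ψ hψ
  have h1 := LinearMap.finrank_range_add_finrank_ker (φ - 1)
  have h2' := LinearMap.finrank_range_add_finrank_ker (ψ - 1)
  have h3 := Submodule.finrank_add_eq_of_isCompl hcφ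
  have h4 := Submodule.finrank_add_eq_of_isCompl hcψ
  have hp : finrank F (LinearMap.ker (φ - 1)) = finrank F (LinearMap.ker (ψ - 1)) := by omega
  have hm : finrank F (LinearMap.ker (φ + 1)) = finrank F (LinearMap.ker (ψ + 1)) := by omega
  let α : LinearMap.ker (φ - 1) ≃ₗ[F] LinearMap.ker (ψ - 1) := LinearEquiv.ofFinrankEq _ _ hp
  let β : LinearMap.ker (φ + 1) ≃ₗ[F] LinearMap.ker (ψ + 1) := LinearEquiv.ofFinrankEq _ _ hm
  let E : V ≃ₗ[F] V := (Submodule.prodEquivOfIsCompl _ _ hcφ).symm ≪≫ₗ (α.prodCongr β) ≪≫ₗ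
    Submodule.prodEquivOfIsCompl _ _ hcψ
  refine ⟨E, fun v => ?_⟩
  obtain ⟨⟨a, b⟩, rfl⟩ := (Submodule.prodEquivOfIsCompl _ _ hcφ).surjective v
  have ha : φ (a : V) = a := by
    have := a.2
    rw [LinearMap.mem_ker, LinearMap.sub_apply, Module.End.one_apply, sub_eq_zero] at this
    exact this
  have hb : φ (b : V) = -b := by
    have := b.2
    rw [LinearMap.mem_ker, LinearMap.add_apply, Module.End.one_apply] at this
    exact eq_neg_of_add_eq_zero_left this
  have hαa : ψ (α a : V) = α a := by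
    have := (α a).2
    rw [LinearMap.mem_ker, LinearMap.sub_apply, Module.End.one_apply, sub_eq_zero] at this
    exact this
  have hβb : ψ (β b : V) = -(β b : V) := by
    have := (β b).2
    rw [LinearMap.mem_ker, LinearMap.add_apply, Module.End.one_apply] at this
    exact eq_neg_of_add_eq_zero_left this
  have e1 : φ (Submodule.prodEquivOfIsCompl _ _ hcφ (a, b)) =
      Submodule.prodEquivOfIsCompl _ _ hcφ (a, -b) := by
    rw [Submodule.coe_prodEquivOfIsCompl', Submodule.coe_prodEquivOfIsCompl', map_add, ha, hb]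
    simp
  have e2 : ∀ (a' : LinearMap.ker (φ - 1)) (b' : LinearMap.ker (φ + 1)),
      E (Submodule.prodEquivOfIsCompl _ _ hcφ (a', b')) = (α a' : V) + (β b' : V) := by
    intro a' b'
    show Submodule.prodEquivOfIsCompl _ _ hcψ ((α.prodCongr β)
      ((Submodule.prodEquivOfIsCompl _ _ hcφ).symm (Submodule.prodEquivOfIsCompl _ _ hcφ (a', b')))) = _
    rw [LinearEquiv.symm_apply_apply, Submodule.coe_prodEquivOfIsCompl']
    rfl
  rw [e1, e2, e2, map_add, hαa, hβb, map_neg]
  simp

end lin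

/-- Two involutions in `GL_n(F)` (`2 ≠ 0`) with `rank (g - 1) = rank (h - 1)` are conjugate. -/
theorem isConj_of_invol {n : ℕ} (h2 : (2 : F) ≠ 0) (g h : GL (Fin n) F)
    (hg : (g : Matrix (Fin n) (Fin n) F) * (g : Matrix (Fin n) (Fin n) F) = 1)
    (hh : (h : Matrix (Fin n) (Fin n) F) * (h : Matrix (Fin n) (Fin n) F) = 1)
    (hr : ((g : Matrix (Fin n) (Fin n) F) - 1).rank = ((h : Matrix (Fin n) (Fin n) F) - 1).rank) :
    IsConj g h := by
  set φ := Matrix.toLin' (g : Matrix (Fin n) (Fin n) F) with hφd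
  set ψ := Matrix.toLin' (h : Matrix (Fin n) (Fin n) F) with hψd
  have hφ : ∀ v, φ (φ v) = v := by
    intro v
    have : φ (φ v) = Matrix.toLin' ((g : Matrix (Fin n) (Fin n) F) * (g : Matrix (Fin n) (Fin n) F)) v :=
      (Matrix.toLin'_mul_apply _ _ v).symm
    rw [this, hg, Matrix.toLin'_one]; rfl
  have hψ : ∀ v, ψ (ψ v) = v := by
    intro v
    have : ψ (ψ v) = Matrix.toLin' ((h : Matrix (Fin n) (Fin n) F) * (h : Matrix (Fin n) (Fin n) F)) v :=
      (Matrix.toLin'_mul_apply _ _ v).symm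
    rw [this, hh, Matrix.toLin'_one]; rfl
  have e1 : Matrix.toLin' ((g : Matrix (Fin n) (Fin n) F) - 1) = φ - 1 := by
    rw [map_sub, Matrix.toLin'_one]; rfl
  have e2 : Matrix.toLin' ((h : Matrix (Fin n) (Fin n) F) - 1) = ψ - 1 := by
    rw [map_sub, Matrix.toLin'_one]; rfl
  have hr' : finrank F (LinearMap.range (φ - 1)) = finrank F (LinearMap.range (ψ - 1)) := by
    rw [← e1, ← e2]
    have := hr
    unfold Matrix.rank at this
    rw [Matrix.toLin'] 
    exact this
  obtain ⟨E, hE⟩ := exists_equiv_of_invol h2 φ ψ hφ hψ hr'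
  apply isConj_of_linearEquiv g h E
  intro x
  rw [e1, e2, LinearMap.sub_apply, LinearMap.sub_apply, map_sub, hE]
  rfl

end Cfsg.Agent.Helper43.Inv
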