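import Cfsg.Agent.Helper43.PGLInv

set_option autoImplicit false

namespace Cfsg.Agent.Helper43.PGLInv

open Matrix Polynomial

variable {F : Type*} [Field F] {n : ℕ}

/-- `diag(-1,…,-1,1,…,1)` with `t` entries `-1`. -/
def dmat (n t : ℕ) (F : Type*) [Field F] : Matrix (Fin n) (Fin n) F :=
  Matrix.diagonal (fun i : Fin n => if (i : ℕ) < t then (-1 : F) else 1)

theorem dmat_mul_self (t : ℕ) : dmat n t F * dmat n t F = 1 := by
  unfold dmat
  rw [Matrix.diagonal_mul_diagonal, ← Matrix.diagonal_one]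
  congr 1
  ext i
  split_ifs <;> simp

/-- The diagonal involution as an element of `GL_n(F)`. -/
def dGL (n t : ℕ) (F : Type*) [Field F] : GL (Fin n) F :=
  ⟨dmat n t F, dmat n t F, dmat_mul_self t, dmat_mul_self t⟩

theorem dGL_mul_self (t : ℕ) : dGL n t F * dGL n t F = 1 :=
  Units.ext (dmat_mul_self t)

theorem rank_dmat_sub_one (h2 : (2 : F) ≠ 0) (t : ℕ) (ht : t ≤ n) : (dmat n t F - 1).rank = t := by
  classical
  have h1 : dmat n t F - 1 =
      Matrix.diagonal (fun i : Fin n => if (i : ℕ) < t then (-2 : F) else 0) := by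
    unfold dmat
    rw [← Matrix.diagonal_one, Matrix.diagonal_sub]
    congr 1
    ext i
    split_ifs <;> norm_num
  rw [h1, Matrix.rank_diagonal, Fintype.card_subtype]
  have h3 : (Finset.univ.filter (fun i : Fin n => (if (i : ℕ) < t then (-2 : F) else 0) ≠ 0))
      = Finset.univ.filter (fun i : Fin n => (i : ℕ) < t) := by
    apply Finset.filter_congr
    intro i _
    split_ifs with h <;> simp [h, h2]
  rw [h3, Fin.card_filter_val_lt, min_eq_right ht]

theorem rank_dmat_add_one (h2 : (2 : F) ≠ 0) (t : ℕ) (ht : t ≤ n) :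
    (dmat n t F + 1).rank = n - t := by
  classical
  have h1 : dmat n t F + 1 =
      Matrix.diagonal (fun i : Fin n => if (i : ℕ) < t then (0 : F) else 2) := by
    unfold dmat
    rw [← Matrix.diagonal_one, Matrix.diagonal_add]
    congr 1
    ext i
    split_ifs <;> norm_num
  rw [h1, Matrix.rank_diagonal, Fintype.card_subtype]
  have h3 : (Finset.univ.filter (fun i : Fin n => (if (i : ℕ) < t then (0 : F) else 2) ≠ 0))
      = Finset.univ.filter (fun i : Fin n => ¬ (i : ℕ) < t) := by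
    apply Finset.filter_congr
    intro i _
    split_ifs with h <;> simp [h, h2]
  have h4 := Finset.card_filter_add_card_filter_not (s := (Finset.univ : Finset (Fin n)))
    (fun i : Fin n => (i : ℕ) < t)
  rw [Fin.card_filter_val_lt, min_eq_right ht, Finset.card_univ, Fintype.card_fin] at h4
  rw [h3]
  omega

theorem orderOf_mk_dGL (h2 : (2 : F) ≠ 0) (t : ℕ) (ht1 : 1 ≤ t) (ht2 : 2 * t ≤ n) :
    orderOf (QuotientGroup.mk (dGL n t F) : PGL n F) = 2 := by
  rw [orderOf_mk_eq_two_iff]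
  refine ⟨⟨1, by rw [dGL_mul_self, map_one]⟩, ?_⟩
  rintro ⟨c, hc⟩
  have hv : dmat n t F = Matrix.scalar (Fin n) (c : F) := by
    have := congrArg (fun g : GL (Fin n) F => (g : Matrix (Fin n) (Fin n) F)) hc
    exact this
  have e0 := congrFun (congrFun hv ⟨0, by omega⟩) ⟨0, by omega⟩
  have e1 := congrFun (congrFun hv ⟨n - 1, by omega⟩) ⟨n - 1, by omega⟩
  unfold dmat at e0 e1
  rw [Matrix.diagonal_apply_eq, Matrix.scalar_apply, Matrix.diagonal_apply_eq] at e0 e1
  have h0 : ((⟨0, by omega⟩ : Fin n) : ℕ) < t := by show 0 < t; omega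
  have h1 : ¬ ((⟨n - 1, by omega⟩ : Fin n) : ℕ) < t := by simp; omega
  rw [if_pos h0] at e0
  rw [if_neg h1] at e1
  apply h2
  have : (1 : F) = -1 := by rw [e0, e1]
  calc (2 : F) = 1 + 1 := by norm_num
    _ = 1 + -1 := by rw [← this]
    _ = 0 := by ring

theorem chi_mk_dGL (h2 : (2 : F) ≠ 0) (t : ℕ) (ht1 : 1 ≤ t) (ht2 : 2 * t ≤ n) :
    chi (QuotientGroup.mk (dGL n t F) : PGL n F) = t := by
  have hmem : t ∈ rankSet (QuotientGroup.mk (dGL n t F) : PGL n F) :=
    ⟨dGL n t F, rfl, dGL_mul_self t, rank_dmat_sub_one h2 t (by omega)⟩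
  apply le_antisymm (Nat.sInf_le hmem)
  apply le_csInf ⟨t, hmem⟩
  rintro r ⟨g, hg1, hg2, rfl⟩
  rcases invol_lift_unique (by omega) (dGL n t F) g (dGL_mul_self t) hg2 hg1.symm with rfl | rfl
  · exact (rank_dmat_sub_one h2 t (by omega)).ge
  · rw [val_mul_sc_neg_one]
    have : -(dGL n t F : Matrix (Fin n) (Fin n) F) - 1 = -(dmat n t F + 1) := by
      show -(dmat n t F) - 1 = _
      abel
    rw [this, rank_neg', rank_dmat_add_one h2 t (by omega)]
    omega

theorem rankSet_eq_empty_of_nonsquare (hn : 1 ≤ n) (g : GL (Fin n) F) (c : Fˣ)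
    (hc : ¬ IsSquare (c : F)) (hg : g * g = sc n c) :
    rankSet (QuotientGroup.mk g : PGL n F) = ∅ := by
  rw [Set.eq_empty_iff_forall_notMem]
  rintro r ⟨h, hh1, hh2, -⟩
  obtain ⟨e, rfl⟩ := (mk_eq_mk_iff g h).mp hh1.symm
  rw [mul_sc_sq g c e hg] at hh2
  have h1 : c * (e * e) = 1 := sc_injective hn (by rw [hh2, map_one])
  apply hc
  refine ⟨((e⁻¹ : Fˣ) : F), ?_⟩
  rw [← Units.val_mul]
  congr 1
  calc c = c * (e * e) * (e⁻¹ * e⁻¹) := by group
    _ = e⁻¹ * e⁻¹ := by rw [h1, one_mul]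

theorem orderOf_mk_of_nonsquare (hn : 1 ≤ n) (g : GL (Fin n) F) (c : Fˣ)
    (hc : ¬ IsSquare (c : F)) (hg : g * g = sc n c) :
    orderOf (QuotientGroup.mk g : PGL n F) = 2 := by
  rw [orderOf_mk_eq_two_iff]
  refine ⟨⟨c, hg⟩, ?_⟩
  rintro ⟨d, rfl⟩
  rw [← map_mul] at hg
  have := sc_injective hn hg
  apply hc
  exact ⟨(d : F), by rw [← Units.val_mul, this]⟩

open Cfsg.Agent.Helper43.SS in
theorem exists_nonsplit [Fintype F] (hn2 : Even n) (c : Fˣ) (hc : ¬ IsSquare (c : F)) :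
    ∃ g : GL (Fin n) F, g * g = sc n c := by
  classical
  obtain ⟨p, hp⟩ := CharP.exists F
  haveI : CharP F p := hp
  haveI : Fact p.Prime := ⟨CharP.char_is_prime F p⟩
  have hpp : p.Prime := Fact.out
  set h : F[X] := X ^ 2 - C (c : F) with hh
  have hm : h.Monic := monic_X_pow_sub_C _ two_ne_zero
  have hd : h.natDegree = 2 := natDegree_X_pow_sub_C
  have hirr : Irreducible h := irreducible_X_sq_sub_C _ hc
  have hfm : (h ^ (n / 2)).Monic := hm.pow _
  have hfd : (h ^ (n / 2)).natDegree = n := by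
    rw [natDegree_pow, hd]
    obtain ⟨k, hk⟩ := hn2
    omega
  have hf0 : (h ^ (n / 2)).coeff 0 ≠ 0 := by
    rw [coeff_zero_eq_eval_zero, eval_pow, hh, eval_sub, eval_pow, eval_X, eval_C]
    apply pow_ne_zero
    simp
  obtain ⟨A, hA, k, hk0, hkp, hAk⟩ := exists_matrix_charpoly p n _ hfm hfd hf0
  have hkF : (k : F) ≠ 0 := by
    intro h0
    rw [CharP.cast_eq_zero_iff F p k] at h0
    have : p ∣ Nat.gcd k p := Nat.dvd_gcd h0 dvd_rfl
    rw [hkp] at this
    exact hpp.one_lt.ne' (Nat.dvd_one.mp this)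
  have hAh : aeval A h = 0 := by
    apply aeval_eq_zero_of_factors A k hkF hAk h hm.ne_zero
    intro P _ hPi hP
    rw [hA] at hP
    exact hPi.prime.dvd_of_dvd_pow hP
  have hAA : A * A = Matrix.scalar (Fin n) (c : F) := by
    rw [hh, map_sub, map_pow, aeval_X, aeval_C, pow_two, sub_eq_zero] at hAh
    exact hAh
  refine ⟨Units.ofPowEqOne A k hAk hk0.ne', ?_⟩
  apply Units.ext
  rw [Units.val_mul, Units.val_ofPowEqOne, hAA, Matrix.GeneralLinearGroup.coe_scalar]

end Cfsg.Agent.Helper43.PGLInv
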