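import Mathlib
import Cfsg.Agent.Helper43.GUPrimeD

set_option autoImplicit false

namespace Cfsg.Agent.Helper43.GUPrime

open Polynomial UniqueFactorizationMonoid
open Cfsg.Agent.Helper43 Cfsg.Agent.Helper43.SS Cfsg.Agent.Helper43.SpPrime

universe u

variable {K : Type u} [Field K] [Fintype K]

/-- The order of `q ^ 2` modulo `r`. -/
theorem orderOf_sq_eq {q r i b : ℕ} (hi : i = orderOf (q : ZMod r))
    (hb : b = if Odd i then i else i / 2) : b = orderOf (((q ^ 2 : ℕ)) : ZMod r) := by
  have h1 : (((q ^ 2 : ℕ)) : ZMod r) = (q : ZMod r) ^ 2 := by push_cast; rfl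
  rw [h1, orderOf_pow' _ two_ne_zero, ← hi, hb]
  by_cases hodd : Odd i
  · rw [if_pos hodd, Nat.coprime_two_right.mpr hodd, Nat.div_one]
  · rw [if_neg hodd]
    have hev : Even i := Nat.not_odd_iff_even.mp hodd
    rw [Nat.gcd_eq_right hev.two_dvd]

/-- In the case `i ≡ 2 (mod 4)` the twisted condition is automatic. -/
theorem guPrimePred_iff_of_mod_four (p : ℕ) [Fact p.Prime] [CharP K p] {q : ℕ}
    (hK : Fintype.card K = q ^ 2) (bar : K →+* K) (hbar : ∀ x, bar x = x ^ q) (n r i : ℕ)
    (hr : r.Prime) (hrp : r ≠ p) (hi : i = orderOf (q : ZMod r)) (hi4 : i % 4 = 2) (f : K[X]) :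
    GUPrimePred bar n r f ↔ PrimePred n r f := by
  have hp : p.Prime := Fact.out
  constructor
  · rintro ⟨h1, h2, -, h3, h4⟩
    exact ⟨h1, h2, h3, h4⟩
  · rintro ⟨hfm, hfd, hfac, hne⟩
    refine ⟨hfm, hfd, ?_, hfac, hne⟩
    have hrF : (r : K) ≠ 0 := by
      intro h0
      rw [CharP.cast_eq_zero_iff K p r] at h0
      exact hrp ((Nat.prime_dvd_prime_iff_eq hp hr).mp h0).symm
    have hsep : (X ^ r - 1 : K[X]).Separable := by
      have := Polynomial.separable_X_pow_sub_C (1 : K) hrF one_ne_zero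
      simpa using this
    have hX0 : (X ^ r - 1 : K[X]) ≠ 0 := hsep.ne_zero
    have hf0 : f.coeff 0 ≠ 0 := by
      intro h0
      have hXf : (X : K[X]) ∣ f := Polynomial.X_dvd_iff.mpr h0
      have hX := hfac X monic_X irreducible_X hXf
      have h2 := Polynomial.X_dvd_iff.mp hX
      rw [coeff_sub, coeff_X_pow, coeff_one_zero, if_neg hr.ne_zero.symm] at h2
      simp at h2
    obtain ⟨A, hA, k, hk0, hkp, hAk⟩ := exists_matrix_charpoly p n f hfm hfd hf0
    have hkF : (k : K) ≠ 0 := by
      intro h0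
      rw [CharP.cast_eq_zero_iff K p k] at h0
      have : p ∣ Nat.gcd k p := Nat.dvd_gcd h0 dvd_rfl
      rw [hkp] at this
      exact hp.one_lt.ne' (Nat.dvd_one.mp this)
    have hAr : A ^ r = 1 := by
      have := aeval_eq_zero_of_factors A k hkF hAk (X ^ r - 1 : K[X]) hX0 (by
        intro P hPm hPi hP
        rw [hA] at hP
        exact hfac P hPm hPi hP)
      rw [map_sub, map_pow, aeval_X, map_one] at this
      exact sub_eq_zero.mp this
    have hieven : Even i := by
      rw [Nat.even_iff]; omega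
    have hipos : 0 < i := by omega
    have hdvd := dvd_pow_half_add_one hr hi hieven hipos
    have he : i / 2 = 2 * (i / 4) + 1 := by omega
    rw [he] at hdvd
    rw [← hA]
    exact utilde_charpoly_eq p hK bar hbar hr.pos hdvd A hAr

theorem card_guPrimePred (p : ℕ) [Fact p.Prime] [CharP K p] {q : ℕ}
    (hK : Fintype.card K = q ^ 2) (bar : K →+* K) (hbar : ∀ x, bar x = x ^ q) (n r i b s : ℕ)
    (hr : r.Prime) (hr2 : r ≠ 2) (hrp : r ≠ p) (hi : i = orderOf (q : ZMod r))
    (hb : b = if Odd i then i else i / 2) (hs : s * b = r - 1) :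
    Nat.card {f : K[X] // GUPrimePred bar n r f}
      = if i % 4 = 2 then Nat.choose (2 * n / i + s) s - 1
        else Nat.choose (n / (2 * b) + s / 2) (s / 2) - 1 := by
  classical
  have hp : p.Prime := Fact.out
  have hb' : b = orderOf (((q ^ 2 : ℕ)) : ZMod r) := orderOf_sq_eq hi hb
  have hbar2 : ∀ x, bar (bar x) = x := by
    intro x
    rw [hbar, hbar, ← pow_mul, ← sq, ← hK, FiniteField.pow_card]
  by_cases hi4 : i % 4 = 2
  · rw [if_pos hi4]
    have h1 : Nat.card {f : K[X] // GUPrimePred bar n r f}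
        = Nat.card {f : K[X] // PrimePred n r f} :=
      Nat.card_congr (Equiv.subtypeEquivRight
        (guPrimePred_iff_of_mod_four p hK bar hbar n r i hr hrp hi hi4))
    rw [h1, ← SS.card_classes_prime_order p n r hr hrp,
      Cfsg.Agent.S2568.result hK n r b s hr hrp hb' hs]
    have hib : i = 2 * b := by
      rw [hb]
      have hnodd : ¬ Odd i := by
        rw [Nat.not_odd_iff_even, Nat.even_iff]; omega
      rw [if_neg hnodd]
      omega
    have hbpos : 0 < b := by omega
    rw [hib, Nat.mul_div_mul_left _ _ (by norm_num : 0 < 2)]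
  · rw [if_neg hi4]
    have : Fact r.Prime := ⟨hr⟩
    have hrpos : 0 < r := hr.pos
    obtain ⟨m, hq⟩ := exists_pow_eq p hK
    obtain ⟨k, -, hcard⟩ := FiniteField.card K p
    have hKp : Fintype.card K = p ^ (k : ℕ) := hcard
    have hn : p.Coprime r := (Nat.coprime_primes hp hr).mpr hrp.symm
    have hrF : (r : K) ≠ 0 := by
      intro h0
      rw [CharP.cast_eq_zero_iff K p r] at h0
      exact hrp ((Nat.prime_dvd_prime_iff_eq hp hr).mp h0).symm
    -- the order
    have hord : orderOf (ZMod.unitOfCoprime (p ^ (k : ℕ)) (hn.pow_left k)) = b := by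
      rw [hb', ← orderOf_units, ZMod.coe_unitOfCoprime, ← hKp, hK]
    have hbpos : 0 < b := by
      rw [← hord]
      exact orderOf_pos _
    have htot : Nat.totient r / b = s := by
      rw [Nat.totient_prime hr]
      exact Nat.div_eq_of_eq_mul_left hbpos hs.symm
    -- the irreducible factors of the cyclotomic polynomial
    set Φ : K[X] := cyclotomic r K with hΦ
    have hΦ0 : Φ ≠ 0 := cyclotomic_ne_zero r K
    let 𝔉 : Finset K[X] := (normalizedFactors Φ).toFinset
    have h𝔉card : 𝔉.card = s := by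
      have := Polynomial.normalizedFactors_cyclotomic_card (K := K) (n := r) hKp hn
      rw [hord, htot] at this
      exact this
    have h𝔉mem : ∀ P : K[X], P ∈ 𝔉 ↔ Irreducible P ∧ P.Monic ∧ P ∣ Φ := by
      intro P
      rw [Multiset.mem_toFinset, Polynomial.mem_normalizedFactors_iff hΦ0]
    set L : K[X] := X - 1 with hL
    have hLC : L = X - C 1 := by rw [hL, map_one]
    have hLm : L.Monic := by rw [hLC]; exact monic_X_sub_C 1
    have hLi : Irreducible L := by rw [hLC]; exact irreducible_X_sub_C 1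
    have hLd : L.natDegree = 1 := by rw [hLC]; exact natDegree_X_sub_C 1
    have hLs : utilde bar L = L := utilde_X_sub_one bar
    have hL𝔉 : L ∉ 𝔉 := by
      intro hmem
      rw [h𝔉mem] at hmem
      have h1 : (X - C (1 : K)) ∣ Φ := by rw [← hLC]; exact hmem.2.2
      rw [Polynomial.dvd_iff_isRoot, IsRoot, hΦ, eval_one_cyclotomic_prime] at h1
      exact hrF h1
    have hXr : (X ^ r - 1 : K[X]) = Φ * L := (cyclotomic_prime_mul_X_sub_one K r).symm
    have hfaciff : ∀ P : K[X], P.Monic → Irreducible P →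
        (P ∣ (X ^ r - 1 : K[X]) ↔ P ∈ 𝔉 ∨ P = L) := by
      intro P hPm hPi
      rw [hXr]
      constructor
      · intro hd
        rcases hPi.prime.dvd_or_dvd hd with h | h
        · left
          rw [h𝔉mem]
          exact ⟨hPi, hPm, h⟩
        · right
          exact eq_of_monic_of_associated hPm hLm (hPi.associated_of_dvd hLi h)
      · rintro (h | h)
        · rw [h𝔉mem] at h
          exact Dvd.dvd.mul_right h.2.2 L
        · rw [h]
          exact dvd_mul_left L Φ
    have h𝔉dvd : ∀ P ∈ 𝔉, P ∣ (X ^ r - 1 : K[X]) := by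
      intro P hP
      have h := (h𝔉mem P).mp hP
      exact (hfaciff P h.2.1 h.1).mpr (Or.inl hP)
    have h𝔉 : ∀ P ∈ 𝔉, P.Monic ∧ Irreducible P ∧ P.natDegree = b ∧ P.coeff 0 ≠ 0 := by
      intro P hP
      have hP' := (h𝔉mem P).mp hP
      refine ⟨hP'.2.1, hP'.1, ?_, coeff_zero_ne_of_dvd_X_pow_sub_one hrpos (h𝔉dvd P hP)⟩
      rw [← hord]
      exact Polynomial.natDegree_of_dvd_cyclotomic_of_irreducible hKp hn hP'.2.2 hP'.1
    have hτ : ∀ f : K[X], f.Monic → f.coeff 0 ≠ 0 →
        (utildeHom bar f).Monic ∧ (utildeHom bar f).coeff 0 ≠ 0 ∧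
          (utildeHom bar f).natDegree = f.natDegree ∧ utildeHom bar (utildeHom bar f) = f :=
      fun f hfm hf0 => utilde_props bar hbar2 f hfm hf0
    have hτi : ∀ f : K[X], f.Monic → Irreducible f → f.coeff 0 ≠ 0 →
        Irreducible (utildeHom bar f) :=
      fun f hfm hfi hf0 => utilde_irreducible bar hbar2 f hfm hfi hf0
    have hstar : ∀ P ∈ 𝔉, utildeHom bar P ∈ 𝔉 := by
      intro P hP
      have hP' := h𝔉 P hP
      have hsm : (utilde bar P).Monic := (utilde_props bar hbar2 P hP'.1 hP'.2.2.2).1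
      have hsi : Irreducible (utilde bar P) :=
        utilde_irreducible bar hbar2 P hP'.1 hP'.2.1 hP'.2.2.2
      have hsd : utilde bar P ∣ (X ^ r - 1 : K[X]) := by
        have := utilde_dvd bar (h𝔉dvd P hP)
        rwa [utilde_X_pow_sub_one bar hrpos] at this
      rcases (hfaciff _ hsm hsi).mp hsd with h | h
      · exact h
      · exfalso
        apply hL𝔉
        have h2 : P = L := by
          rw [← (utilde_props bar hbar2 P hP'.1 hP'.2.2.2).2.2.2, h, hLs]
        rw [← h2]
        exact hP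
    have hfix : ∀ P ∈ 𝔉, utildeHom bar P ≠ P := by
      intro P hP
      have hP' := h𝔉 P hP
      apply utilde_ne_of_mod_four p hq bar hbar hr hr2 hrp hi hi4 P hP'.1 hP'.2.1 (h𝔉dvd P hP)
      · intro h
        apply hL𝔉
        have h2 : P = L := h
        rw [← h2]
        exact hP
      · rw [hP'.2.2.1, hb']
    -- the count without the exclusion
    have hcount := card_tau_polys (utildeHom bar) hτ hτi hLs 𝔉 b hbpos h𝔉 hL𝔉 hstar hfix n
    rw [h𝔉card] at hcount
    have hfin : Finite {f : K[X] // f.Monic ∧ f.natDegree = n ∧ utildeHom bar f = f ∧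
        ∀ P : K[X], P.Monic → Irreducible P → P ∣ f → P ∈ 𝔉 ∨ P = L} := by
      apply Nat.finite_of_card_ne_zero
      rw [hcount]
      exact (Nat.choose_pos (Nat.le_add_left (s / 2) (n / (2 * b)))).ne'
    -- the excluded polynomial
    have hLn : (L ^ n).Monic ∧ (L ^ n).natDegree = n ∧ utildeHom bar (L ^ n) = L ^ n ∧
        ∀ P : K[X], P.Monic → Irreducible P → P ∣ L ^ n → P ∈ 𝔉 ∨ P = L := by
      refine ⟨hLm.pow _, by rw [hLm.natDegree_pow, hLd, mul_one], ?_, ?_⟩
      · rw [map_pow]
        congr 1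
      · intro P hPm hPi hP
        right
        exact eq_of_monic_of_associated hPm hLm
          (hPi.associated_of_dvd hLi (hPi.prime.dvd_of_dvd_pow hP))
    rw [← hcount, ← natCard_subtype_ne (⟨L ^ n, hLn⟩ :
        {f : K[X] // f.Monic ∧ f.natDegree = n ∧ utildeHom bar f = f ∧
        ∀ P : K[X], P.Monic → Irreducible P → P ∣ f → P ∈ 𝔉 ∨ P = L})]
    apply Nat.card_congr
    refine
      { toFun := fun f => ⟨⟨f.1, f.2.1, f.2.2.1, f.2.2.2.1, fun P hPm hPi hP =>
            (hfaciff P hPm hPi).mp (f.2.2.2.2.1 P hPm hPi hP)⟩,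
            fun h => f.2.2.2.2.2 (congrArg Subtype.val h)⟩
        invFun := fun x => ⟨x.1.1, x.1.2.1, x.1.2.2.1, x.1.2.2.2.1, fun P hPm hPi hP =>
            (hfaciff P hPm hPi).mpr (x.1.2.2.2.2 P hPm hPi hP), fun h => x.2 (Subtype.ext h)⟩
        left_inv := fun f => rfl
        right_inv := fun x => rfl }

end Cfsg.Agent.Helper43.GUPrime
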