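import Cfsg.Agent.Helper43.SSConj

set_option autoImplicit false

namespace Cfsg.Agent.Helper43.SS

open Polynomial Module

universe u v w

variable {F : Type u} [Field F]

theorem aeval_toLin' {n : ℕ} (A : Matrix (Fin n) (Fin n) F) (h : F[X]) :
    aeval (Matrix.toLin' A) h = Matrix.toLin' (aeval A h) := by
  have := Polynomial.aeval_algHom_apply (Matrix.toLinAlgEquiv' (R := F) (n := Fin n)).toAlgHom A h
  exact this

/-- Irreducible factors of the characteristic polynomial of a matrix killed by a squarefree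
polynomial `h` divide `h`. -/
theorem dvd_of_dvd_charpoly {n : ℕ} (A : Matrix (Fin n) (Fin n) F) (h : F[X]) (hsf : Squarefree h)
    (hA : aeval A h = 0) (P : F[X]) (hPm : P.Monic) (hPi : Irreducible P) (hP : P ∣ A.charpoly) :
    P ∣ h := by
  set φ := Matrix.toLin' A with hφ
  have hφh : aeval φ h = 0 := by rw [aeval_toLin', hA, map_zero]
  have hss : Module.End.IsSemisimple φ := Module.End.isSemisimple_of_squarefree_aeval_eq_zero hsf hφh
  haveI : IsSemisimpleModule F[X] (AEval' φ) := hss
  have hdvd : P ∣ (xEnd F (AEval' φ)).charpoly := by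
    rw [charpoly_xEnd_AEval, hφ, Matrix.charpoly_toLin']
    exact hP
  obtain ⟨m, hm, hPm0⟩ := exists_torsion_of_dvd _ (AEval' φ) rfl P hPm hPi hdvd
  by_contra hnd
  have hcop : IsCoprime P h := (hPi.coprime_iff_not_dvd).mpr hnd
  obtain ⟨a, b, hab⟩ := hcop
  have hhm : h • m = 0 := by
    obtain ⟨v, rfl⟩ := (AEval'.of φ).surjective m
    rw [← AEval.of_aeval_smul, hφh]
    simp
  apply hm
  calc m = (1 : F[X]) • m := (one_smul _ m).symm
    _ = (a * P + b * h) • m := by rw [hab]
    _ = 0 := by rw [add_smul, mul_smul, mul_smul, hPm0, hhm, smul_zero, smul_zero, add_zero]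

/-- A matrix of finite order prime to the characteristic is killed by any nonzero polynomial
divisible by all irreducible factors of its characteristic polynomial. -/
theorem aeval_eq_zero_of_factors {n : ℕ} (A : Matrix (Fin n) (Fin n) F) (k : ℕ) (hk : (k : F) ≠ 0)
    (hAk : A ^ k = 1) (h : F[X]) (h0 : h ≠ 0)
    (hfac : ∀ P : F[X], P.Monic → Irreducible P → P ∣ A.charpoly → P ∣ h) : aeval A h = 0 := by
  classical
  set φ := Matrix.toLin' A with hφ
  have hφk : φ ^ k = 1 := by
    rw [hφ, ← Matrix.toLin'_pow, hAk, Matrix.toLin'_one]; rfl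
  have hss : Module.End.IsSemisimple φ := isSemisimple_of_pow_eq_one φ k hk hφk
  have hsq : Squarefree (minpoly F φ) := hss.minpoly_squarefree
  have hμ0 : minpoly F φ ≠ 0 := minpoly.ne_zero (Algebra.IsIntegral.isIntegral φ)
  have hμdvd : minpoly F φ ∣ A.charpoly := by
    rw [← Matrix.charpoly_toLin' A]
    exact LinearMap.minpoly_dvd_charpoly φ
  have hdvd : minpoly F φ ∣ h := by
    rw [UniqueFactorizationMonoid.dvd_iff_normalizedFactors_le_normalizedFactors hμ0 h0]
    rw [Multiset.le_iff_subset ((UniqueFactorizationMonoid.squarefree_iff_nodup_normalizedFactors hμ0).mp hsq)]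
    intro P hP
    rw [Polynomial.mem_normalizedFactors_iff hμ0] at hP
    rw [Polynomial.mem_normalizedFactors_iff h0]
    exact ⟨hP.1, hP.2.1, hfac P hP.2.1 hP.1 (hP.2.2.trans hμdvd)⟩
  have h1 : aeval φ h = 0 := by
    obtain ⟨c, rfl⟩ := hdvd
    rw [map_mul, minpoly.aeval, zero_mul]
  rw [aeval_toLin'] at h1
  exact (Matrix.toLin' (R := F)).injective (h1.trans (map_zero _).symm)

end Cfsg.Agent.Helper43.SS
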