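import Mathlib

set_option autoImplicit false

namespace Cfsg.Agent.Helper43

/-- Orbit–stabiliser for a conjugacy class, phrased with `ConjClasses.mk`. -/
theorem card_class_mul_card_centralizer {S : Type*} [Group S] [Finite S] (u : S) :
    Nat.card {x : S // ConjClasses.mk x = ConjClasses.mk u}
      * Nat.card (Subgroup.centralizer ({u} : Set S)) = Nat.card S := by
  have h1 : Nat.card {x : S // ConjClasses.mk x = ConjClasses.mk u}
      = (MulAction.stabilizer (ConjAct S) u).index := by
    rw [MulAction.index_stabilizer, ← Nat.card_coe_set_eq]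
    apply Nat.card_congr
    refine Equiv.subtypeEquivRight ?_
    intro x
    rw [ConjAct.mem_orbit_conjAct, ConjClasses.mk_eq_mk_iff_isConj]
  have h2 : Nat.card (MulAction.stabilizer (ConjAct S) u)
      = Nat.card (Subgroup.centralizer ({u} : Set S)) := by
    apply Nat.card_congr
    refine Equiv.subtypeEquiv ConjAct.ofConjAct.toEquiv ?_
    intro g
    rw [MulAction.mem_stabilizer_iff, ConjAct.smul_def, Subgroup.mem_centralizer_iff]
    simp only [Set.mem_singleton_iff, forall_eq, MulEquiv.toEquiv_eq_coe, EquivLike.coe_coe]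
    rw [mul_inv_eq_iff_eq_mul, eq_comm]
  have h3 : Nat.card (ConjAct S) = Nat.card S := Nat.card_congr ConjAct.ofConjAct.toEquiv
  rw [h1, ← h2, mul_comm, Subgroup.card_mul_index, h3]

/-- Counting conjugacy classes inside a conjugation-invariant subset on which all centralisers
have the same order `z`. -/
theorem card_classes_mul_card {S : Type*} [Group S] [Finite S] (P : S → Prop)
    (hP : ∀ u g : S, P u → P (g * u * g⁻¹)) (z : ℕ)
    (hz : ∀ u, P u → Nat.card (Subgroup.centralizer ({u} : Set S)) = z) :
    Nat.card {C : ConjClasses S // ∃ u, ConjClasses.mk u = C ∧ P u} * Nat.card S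
      = Nat.card {u : S // P u} * z := by
  classical
  have hPconj : ∀ u x : S, ConjClasses.mk x = ConjClasses.mk u → P u → P x := by
    intro u x hx hu
    rw [ConjClasses.mk_eq_mk_iff_isConj, isConj_comm, isConj_iff] at hx
    obtain ⟨c, hc⟩ := hx
    rw [← hc]
    exact hP u c hu
  let e : {u : S // P u} ≃
      Σ C : {C : ConjClasses S // ∃ u, ConjClasses.mk u = C ∧ P u},
        {x : S // ConjClasses.mk x = C.1} :=
    { toFun := fun u => ⟨⟨ConjClasses.mk u.1, u.1, rfl, u.2⟩, u.1, rfl⟩
      invFun := fun p => ⟨p.2.1, by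
        obtain ⟨u, hu, hPu⟩ := p.1.2
        exact hPconj u p.2.1 (p.2.2.trans hu.symm) hPu⟩
      left_inv := fun u => rfl
      right_inv := by
        rintro ⟨⟨C, hC⟩, x, hx⟩
        simp only at hx
        subst hx
        rfl }
  let _ : Fintype {C : ConjClasses S // ∃ u, ConjClasses.mk u = C ∧ P u} := Fintype.ofFinite _
  rw [Nat.card_congr e, Nat.card_sigma, Finset.sum_mul]
  have : ∀ C : {C : ConjClasses S // ∃ u, ConjClasses.mk u = C ∧ P u},
      Nat.card {x : S // ConjClasses.mk x = C.1} * z = Nat.card S := by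
    rintro ⟨C, u, rfl, hu⟩
    rw [← hz u hu]
    exact card_class_mul_card_centralizer u
  rw [Finset.sum_congr rfl (fun C _ => this C), Finset.sum_const, Finset.card_univ, smul_eq_mul,
    Nat.card_eq_fintype_card]

end Cfsg.Agent.Helper43
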