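import Mathlib
import Cfsg.Agent.Helper43.GUPrimeE

set_option autoImplicit false

namespace Cfsg.Agent.Helper43.SUCls

open Polynomial Matrix
open Cfsg.Agent.Helper43.SpPrime Cfsg.Agent.Helper43.SS Cfsg.Agent.Helper43.GUPrime

universe u

variable {F : Type u} [Field F]

/-- the semilinear involution on coefficient vectors. -/
def Tm (bar : F →+* F) (ε : F) {m : ℕ} (a : Fin m → F) : Fin m → F := fun k => ε * bar (a k.rev)

theorem Tm_add (bar : F →+* F) (ε : F) {m : ℕ} (a b : Fin m → F) :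
    Tm bar ε (a + b) = Tm bar ε a + Tm bar ε b := by
  funext k
  simp only [Tm, Pi.add_apply, map_add, mul_add]

theorem Tm_sub (bar : F →+* F) (ε : F) {m : ℕ} (a b : Fin m → F) :
    Tm bar ε (a - b) = Tm bar ε a - Tm bar ε b := by
  funext k
  simp only [Tm, Pi.sub_apply, map_sub, mul_sub]

theorem Tm_smul (bar : F →+* F) (ε : F) {m : ℕ} (c : F) (a : Fin m → F) :
    Tm bar ε (c • a) = bar c • Tm bar ε a := by
  funext k
  simp only [Tm, Pi.smul_apply, smul_eq_mul, map_mul]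
  ring

theorem Tm_Tm (bar : F →+* F) (hbar2 : ∀ x, bar (bar x) = x) (ε : F) (hε2 : ε * ε = 1)
    (hεb : bar ε = ε) {m : ℕ} (a : Fin m → F) : Tm bar ε (Tm bar ε a) = a := by
  funext k
  simp only [Tm, map_mul, hbar2, hεb, Fin.rev_rev]
  rw [← mul_assoc, hε2, one_mul]

/-- The fixed points of the semilinear involution form a "half-dimensional" set. -/
noncomputable def fixEquiv (bar : F →+* F) (hbar2 : ∀ x, bar (bar x) = x) (ε : F) (hε2 : ε * ε = 1)
    (hεb : bar ε = ε) (c θ : F) (hc : c + bar c = 1) (hθ : bar θ = -θ) (hθ0 : θ ≠ 0) (m : ℕ) :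
    (Fin m → F) ≃ {a : Fin m → F // Tm bar ε a = a} × {a : Fin m → F // Tm bar ε a = a} where
  toFun a := (⟨a + Tm bar ε a, by rw [Tm_add, Tm_Tm bar hbar2 ε hε2 hεb, add_comm]⟩,
    ⟨θ • (a - c • (a + Tm bar ε a)), by
      rw [Tm_smul, Tm_sub, Tm_smul, Tm_add, Tm_Tm bar hbar2 ε hε2 hεb, hθ]
      have hc' : bar c = 1 - c := by rw [← hc]; ring
      rw [hc']
      funext k
      simp only [Pi.smul_apply, Pi.sub_apply, Pi.add_apply, smul_eq_mul]
      ring⟩)
  invFun w := c • w.1.1 + θ⁻¹ • w.2.1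
  left_inv a := by
    funext k
    simp only [Pi.smul_apply, Pi.sub_apply, Pi.add_apply, smul_eq_mul]
    field_simp
    ring
  right_inv w := by
    obtain ⟨⟨w₁, h₁⟩, ⟨w₂, h₂⟩⟩ := w
    have hθi : bar θ⁻¹ = -θ⁻¹ := by
      rw [map_inv₀, hθ, inv_neg]
    have hc' : bar c = 1 - c := by rw [← hc]; ring
    have e1 : c • w₁ + θ⁻¹ • w₂ + Tm bar ε (c • w₁ + θ⁻¹ • w₂) = w₁ := by
      rw [Tm_add, Tm_smul, Tm_smul, h₁, h₂, hθi, hc']
      funext k
      simp only [Pi.smul_apply, Pi.add_apply, smul_eq_mul]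
      ring
    apply Prod.ext
    · apply Subtype.ext
      exact e1
    · apply Subtype.ext
      show θ • (c • w₁ + θ⁻¹ • w₂ - c • (c • w₁ + θ⁻¹ • w₂ + Tm bar ε (c • w₁ + θ⁻¹ • w₂))) = w₂
      rw [e1]
      funext k
      simp only [Pi.smul_apply, Pi.sub_apply, Pi.add_apply, smul_eq_mul]
      field_simp
      ring

end Cfsg.Agent.Helper43.SUCls
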