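import Mathlib
import Cfsg.Agent.Helper43.SUClsA
import Cfsg.Agent.Helper43.SSCount

set_option autoImplicit false

namespace Cfsg.Agent.Helper43.SUCls

open Polynomial Matrix
open Cfsg.Agent.Helper43.SpPrime Cfsg.Agent.Helper43.SS Cfsg.Agent.Helper43.GUPrime

universe u

variable {F : Type u} [Field F]

theorem exists_bar_ne [Fintype F] {q : ℕ} (hF : Fintype.card F = q ^ 2) (bar : F →+* F)
    (hbar : ∀ x, bar x = x ^ q) : ∃ x, bar x ≠ x := by
  classical
  have hq2 : 2 ≤ q := by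
    have h1 : 1 < Fintype.card F := Fintype.one_lt_card
    rw [hF] at h1
    by_contra hlt
    have : q = 0 ∨ q = 1 := by omega
    rcases this with rfl | rfl <;> simp at h1
  by_contra hall
  push Not at hall
  have hne : (X ^ q - X : F[X]) ≠ 0 := FiniteField.X_pow_card_sub_X_ne_zero F (by omega)
  have hdeg : (X ^ q - X : F[X]).natDegree = q :=
    FiniteField.X_pow_card_sub_X_natDegree_eq F (by omega)
  have hsub : (Finset.univ : Finset F).val ⊆ (X ^ q - X : F[X]).roots := by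
    intro x _
    rw [Polynomial.mem_roots hne, Polynomial.IsRoot.def]
    simp only [Polynomial.eval_sub, Polynomial.eval_pow, Polynomial.eval_X]
    rw [← hbar, hall, sub_self]
  have := Polynomial.card_le_degree_of_subset_roots hsub
  rw [hdeg, Finset.card_univ, hF] at this
  nlinarith

theorem bar_bar [Fintype F] {q : ℕ} (hF : Fintype.card F = q ^ 2) (bar : F →+* F)
    (hbar : ∀ x, bar x = x ^ q) (x : F) : bar (bar x) = x := by
  rw [hbar, hbar, ← pow_mul, ← sq, ← hF, FiniteField.pow_card]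

theorem card_fix [Fintype F] {q : ℕ} (hF : Fintype.card F = q ^ 2) (bar : F →+* F)
    (hbar : ∀ x, bar x = x ^ q) (ε : F) (hε2 : ε * ε = 1) (hεb : bar ε = ε) (m : ℕ) :
    Nat.card {a : Fin m → F // Tm bar ε a = a} = q ^ m := by
  have hbar2 := bar_bar hF bar hbar
  have hne := exists_bar_ne hF bar hbar
  obtain ⟨c, hc⟩ := Cfsg.Agent.Helper73.HermNorm.exists_trace_one bar hbar2 hne
  obtain ⟨x, hx⟩ := hne
  have hθ : bar (x - bar x) = -(x - bar x) := by rw [map_sub, hbar2]; ring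
  have hθ0 : x - bar x ≠ 0 := sub_ne_zero.mpr (Ne.symm hx)
  have e := fixEquiv bar hbar2 ε hε2 hεb c (x - bar x) hc hθ hθ0 m
  have h1 := Nat.card_congr e
  rw [Nat.card_prod, Nat.card_fun, Nat.card_fin, Nat.card_eq_fintype_card (α := F), hF,
    ← pow_mul, mul_comm 2 m, pow_mul, ← sq] at h1
  exact (Nat.pow_left_injective two_ne_zero h1).symm

/-- coefficients of the twisted reciprocal polynomial. -/
theorem coeff_utilde (bar : F →+* F) {n : ℕ} (f : F[X]) (hfd : f.natDegree = n) (j : ℕ)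
    (hj : j ≤ n) : (utilde bar f).coeff j = (bar (f.coeff 0))⁻¹ * bar (f.coeff (n - j)) := by
  unfold utilde SpPrime.star
  rw [coeff_C_mul, Polynomial.coeff_reverse, Polynomial.natDegree_map, hfd, revAt_le hj,
    Polynomial.coeff_map, Polynomial.coeff_map]

/-- The characteristic polynomials of elements of `SU_n`. -/
def SUPred (bar : F →+* F) (n : ℕ) (f : F[X]) : Prop :=
  f.Monic ∧ f.natDegree = n ∧ utilde bar f = f ∧ f.coeff 0 = (-1) ^ n

theorem utilde_eq_iff_Tm (bar : F →+* F) (hbar2 : ∀ x, bar (bar x) = x) (ε : F) (hε2 : ε * ε = 1)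
    (hεb : bar ε = ε) (m : ℕ) (f : F[X]) (hfm : f.Monic) (hfd : f.natDegree = m + 1)
    (hf0 : f.coeff 0 = ε) :
    utilde bar f = f ↔
      Tm bar ε (fun i : Fin m => f.coeff ((i.succ : Fin (m + 1)) : ℕ))
        = (fun i : Fin m => f.coeff ((i.succ : Fin (m + 1)) : ℕ)) := by
  have hε0 : ε ≠ 0 := left_ne_zero_of_mul_eq_one hε2
  have hεi : (bar ε)⁻¹ = ε := by
    rw [hεb]
    exact inv_eq_of_mul_eq_one_left hε2
  have hf0' : f.coeff 0 ≠ 0 := by rw [hf0]; exact hε0
  obtain ⟨hum, -, hud, -⟩ := utilde_props bar hbar2 f hfm hf0'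
  constructor
  · intro h
    funext k
    have h1 := coeff_utilde bar f hfd ((k : ℕ) + 1) (by have := k.2; omega)
    rw [h, hf0, hεi] at h1
    show ε * bar (f.coeff ((k.rev.succ : Fin (m + 1)) : ℕ)) = f.coeff ((k.succ : Fin (m + 1)) : ℕ)
    rw [Fin.val_succ, Fin.val_succ, Fin.val_rev, h1]
    congr 3
    have := k.2
    omega
  · intro h
    ext j
    rcases Nat.lt_trichotomy j (m + 1) with hj | hj | hj
    · rcases Nat.eq_zero_or_pos j with hj0 | hj0
      · rw [hj0, coeff_utilde bar f hfd 0 (Nat.zero_le _), hf0, hεi, Nat.sub_zero, ← hfd]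
        have : f.coeff f.natDegree = 1 := hfm
        rw [this, map_one, mul_one]
      · have hk : j - 1 < m := by omega
        have h1 := congrFun h ⟨j - 1, hk⟩
        have h2 : ε * bar (f.coeff (((⟨j - 1, hk⟩ : Fin m).rev.succ : Fin (m + 1)) : ℕ))
            = f.coeff (((⟨j - 1, hk⟩ : Fin m).succ : Fin (m + 1)) : ℕ) := h1
        rw [Fin.val_succ, Fin.val_succ, Fin.val_rev] at h2
        have e1 : (j - 1 : ℕ) + 1 = j := by omega
        simp only [e1] at h2
        rw [coeff_utilde bar f hfd j hj.le, hf0, hεi, ← h2]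
        congr 3
        omega
    · rw [hj]
      have h1 : (utilde bar f).coeff (utilde bar f).natDegree = 1 := hum
      have h2 : f.coeff f.natDegree = 1 := hfm
      rw [hud, hfd] at h1
      rw [hfd] at h2
      rw [h1, h2]
    · rw [coeff_eq_zero_of_natDegree_lt (by rw [hud, hfd]; exact hj),
        coeff_eq_zero_of_natDegree_lt (by rw [hfd]; exact hj)]

theorem card_suPred [Fintype F] {q : ℕ} (hF : Fintype.card F = q ^ 2) (bar : F →+* F)
    (hbar : ∀ x, bar x = x ^ q) (n : ℕ) (hn : 1 ≤ n) :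
    Nat.card {f : F[X] // SUPred bar n f} = q ^ (n - 1) := by
  obtain ⟨m, rfl⟩ : ∃ m, n = m + 1 := ⟨n - 1, by omega⟩
  have hbar2 := bar_bar hF bar hbar
  set ε : F := (-1) ^ (m + 1) with hε
  have hε2 : ε * ε = 1 := by
    rw [hε, ← mul_pow]; simp
  have hεb : bar ε = ε := by
    rw [hε, map_pow, map_neg, map_one]
  rw [Nat.add_sub_cancel, ← card_fix hF bar hbar ε hε2 hεb m]
  let e := monicEquiv (F := F) m (fun x => x = ε)
  apply Nat.card_congr
  refine
    { toFun := fun f => ⟨(e ⟨f.1, f.2.1, f.2.2.1, f.2.2.2.2⟩).2, ?_⟩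
      invFun := fun a => ⟨(e.symm (⟨ε, rfl⟩, a.1)).1, (e.symm (⟨ε, rfl⟩, a.1)).2.1,
        (e.symm (⟨ε, rfl⟩, a.1)).2.2.1, ?_, (e.symm (⟨ε, rfl⟩, a.1)).2.2.2⟩
      left_inv := ?_
      right_inv := ?_ }
  · exact (utilde_eq_iff_Tm bar hbar2 ε hε2 hεb m f.1 f.2.1 f.2.2.1 f.2.2.2.2).mp f.2.2.2.1
  · have h1 := (e.symm (⟨ε, rfl⟩, a.1)).2
    rw [utilde_eq_iff_Tm bar hbar2 ε hε2 hεb m _ h1.1 h1.2.1 h1.2.2]
    have h2 : (e (e.symm (⟨ε, rfl⟩, a.1))).2 = a.1 := by rw [Equiv.apply_symm_apply]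
    have h3 : (fun i : Fin m => (e.symm (⟨ε, rfl⟩, a.1)).1.coeff ((i.succ : Fin (m + 1)) : ℕ))
        = a.1 := h2
    rw [h3]
    exact a.2
  · intro f
    apply Subtype.ext
    show (e.symm (⟨ε, rfl⟩, (e ⟨f.1, f.2.1, f.2.2.1, f.2.2.2.2⟩).2)).1 = f.1
    have h1 : ((⟨ε, rfl⟩ : {x : F // x = ε}), (e ⟨f.1, f.2.1, f.2.2.1, f.2.2.2.2⟩).2)
        = e ⟨f.1, f.2.1, f.2.2.1, f.2.2.2.2⟩ := by
      apply Prod.ext
      · apply Subtype.ext
        exact f.2.2.2.2.symm
      · rfl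
    rw [h1, Equiv.symm_apply_apply]
  · intro a
    apply Subtype.ext
    have h2 : (e (e.symm (⟨ε, rfl⟩, a.1))).2 = a.1 := by rw [Equiv.apply_symm_apply]
    exact h2

end Cfsg.Agent.Helper43.SUCls
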