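import Mathlib
import Cfsg.Agent.Helper43.SUClsB
import Cfsg.Agent.Helper45.SUBasic

set_option autoImplicit false

namespace Cfsg.Agent.Helper43.SUCls

open Polynomial Matrix
open Cfsg.Agent.Helper43.SpPrime Cfsg.Agent.Helper43.SS Cfsg.Agent.Helper43.GUPrime

universe u

variable {K : Type u} [Field K]

/-- Every `utilde`-invariant monic polynomial with nonzero constant term is the characteristic
polynomial of an element of `GU_n` of order prime to the characteristic. -/
theorem exists_GU_of_utilde [Fintype K] (p : ℕ) [Fact p.Prime] [CharP K p] {q : ℕ}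
    (hK : Fintype.card K = q ^ 2) (bar : K →+* K) (hbar : ∀ x, bar x = x ^ q) (n : ℕ)
    (f : K[X]) (hfm : f.Monic) (hfd : f.natDegree = n) (hf0 : f.coeff 0 ≠ 0)
    (hfu : utilde bar f = f) :
    ∃ (B : ↥(Cfsg.GU n K q)) (k : ℕ), 0 < k ∧ k.Coprime p ∧ B ^ k = 1 ∧
      ((B : GL (Fin n) K) : Matrix (Fin n) (Fin n) K).charpoly = f := by
  have hp : p.Prime := Fact.out
  have hbarfun : (⇑bar : K → K) = fun x : K => x ^ q := funext hbar
  obtain ⟨A, hA, k, hk0, hkp, hAk⟩ := exists_matrix_charpoly p n f hfm hfd hf0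
  have hkF : (k : K) ≠ 0 := by
    intro h0
    rw [CharP.cast_eq_zero_iff K p k] at h0
    have : p ∣ Nat.gcd k p := Nat.dvd_gcd h0 dvd_rfl
    rw [hkp] at this
    exact hp.one_lt.ne' (Nat.dvd_one.mp this)
  have h1 : A * A ^ (k - 1) = 1 := by
    rw [← pow_succ', Nat.sub_add_cancel hk0, hAk]
  have h2 : A ^ (k - 1) * A = 1 := by
    rw [← pow_succ, Nat.sub_add_cancel hk0, hAk]
  let g : GL (Fin n) K := ⟨A, A ^ (k - 1), h1, h2⟩
  have hgk : g ^ k = 1 := by
    apply Units.ext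
    rw [Units.val_pow_eq_pow_val]
    exact hAk
  have hst1 : (A.map bar)ᵀ * ((A ^ (k - 1)).map bar)ᵀ = 1 := by
    have h3 : Cfsg.Agent.S2587.st bar (A ^ (k - 1) * A) = 1 := by
      rw [h2, Cfsg.Agent.S2587.st_one]
    rw [Cfsg.Agent.S2587.st_mul] at h3
    exact h3
  have hst2 : ((A ^ (k - 1)).map bar)ᵀ * (A.map bar)ᵀ = 1 := mul_eq_one_comm.mp hst1
  let g' : GL (Fin n) K := ⟨((A ^ (k - 1)).map bar)ᵀ, (A.map bar)ᵀ, hst2, hst1⟩
  have hg'k : g' ^ k = 1 := by
    apply Units.ext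
    rw [Units.val_pow_eq_pow_val]
    show (Cfsg.Agent.S2587.st bar (A ^ (k - 1))) ^ k = 1
    rw [← Cfsg.Agent.S2587.st_pow, ← pow_mul, mul_comm, pow_mul, hAk, one_pow,
      Cfsg.Agent.S2587.st_one]
  have hg'ch : (g' : Matrix (Fin n) (Fin n) K).charpoly = f := by
    have := charpoly_st_inv bar g ((A ^ (k - 1)).map bar)ᵀ hst1
    rw [this]
    show utilde bar A.charpoly = f
    rw [hA, hfu]
  have hconj : IsConj g g' :=
    isConj_GL_of_charpoly_eq g g' k k hkF hkF hgk hg'k (hA.trans hg'ch.symm)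
  have hinv : ((A.map (fun x : K => x ^ q))ᵀ)⁻¹ = ((A ^ (k - 1)).map bar)ᵀ := by
    rw [← hbarfun]
    exact Matrix.inv_eq_right_inv hst1
  have hconjM : IsConj (g : Matrix (Fin n) (Fin n) K)
      ((((g : Matrix (Fin n) (Fin n) K).map (fun x : K => x ^ q)).transpose)⁻¹) := by
    show IsConj A ((A.map (fun x : K => x ^ q))ᵀ)⁻¹
    rw [hinv]
    obtain ⟨c, hc⟩ := isConj_iff.mp hconj
    refine ⟨c, ?_⟩
    show (c : Matrix (Fin n) (Fin n) K) * A = ((A ^ (k - 1)).map bar)ᵀ * (c : Matrix (Fin n) (Fin n) K)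
    have h3 : c * g = g' * c := by rw [← hc]; group
    exact congrArg Units.val h3
  obtain ⟨B, hB⟩ := (Cfsg.Agent.S2588.result hK g).mpr hconjM
  obtain ⟨c, hc⟩ := isConj_iff.mp hB
  have hBch : ((B : GL (Fin n) K) : Matrix (Fin n) (Fin n) K).charpoly = f := by
    rw [← hc, Units.val_mul, Units.val_mul, Matrix.coe_units_inv]
    rw [Matrix.charpoly_units_conj c]
    exact hA
  have hBk : B ^ k = 1 := by
    apply Subtype.ext
    rw [Subgroup.coe_pow, ← hc, conj_pow, hgk, mul_one, mul_inv_cancel, Subgroup.coe_one]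
  exact ⟨B, k, hk0, hkp, hBk, hBch⟩

/-- The constant term of the characteristic polynomial. -/
theorem charpoly_coeff_zero {n : ℕ} (M : Matrix (Fin n) (Fin n) K) :
    M.charpoly.coeff 0 = (-1) ^ n * M.det := by
  have h1 := Matrix.det_eq_sign_charpoly_coeff M
  rw [Fintype.card_fin] at h1
  have hs : ((-1 : K) ^ n) * ((-1 : K) ^ n) = 1 := by
    rw [← mul_pow]; simp
  rw [h1, ← mul_assoc, hs, one_mul]

theorem card_classes_su [Fintype K] (p : ℕ) [Fact p.Prime] [CharP K p] {q : ℕ}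
    (hK : Fintype.card K = q ^ 2) (bar : K →+* K) (hbar : ∀ x, bar x = x ^ q) (n : ℕ)
    (hconj : ∀ g h : ↥(Cfsg.SU n K q), (orderOf g).Coprime p → (orderOf h).Coprime p →
      ((g : Matrix.SpecialLinearGroup (Fin n) K) : Matrix (Fin n) (Fin n) K).charpoly =
        ((h : Matrix.SpecialLinearGroup (Fin n) K) : Matrix (Fin n) (Fin n) K).charpoly →
      IsConj g h) :
    Nat.card {c : ConjClasses ↥(Cfsg.SU n K q) //
      ∃ g : ↥(Cfsg.SU n K q), ConjClasses.mk g = c ∧ (orderOf g).Coprime p}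
      = Nat.card {f : K[X] // SUPred bar n f} := by
  have hp : p.Prime := Fact.out
  apply card_classes_eq (G := ↥(Cfsg.SU n K q)) (T := K[X]) (fun g => (orderOf g).Coprime p)
    (fun g => ((g : Matrix.SpecialLinearGroup (Fin n) K) : Matrix (Fin n) (Fin n) K).charpoly)
    (SUPred bar n)
  · intro g c
    show (((c * g * c⁻¹ : ↥(Cfsg.SU n K q)) : Matrix.SpecialLinearGroup (Fin n) K) :
        Matrix (Fin n) (Fin n) K).charpoly
      = ((g : Matrix.SpecialLinearGroup (Fin n) K) : Matrix (Fin n) (Fin n) K).charpoly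
    have h1 : (((c * g * c⁻¹ : ↥(Cfsg.SU n K q)) : Matrix.SpecialLinearGroup (Fin n) K) :
        Matrix (Fin n) (Fin n) K)
        = ((Matrix.SpecialLinearGroup.toGL (c : Matrix.SpecialLinearGroup (Fin n) K)
            * Matrix.SpecialLinearGroup.toGL (g : Matrix.SpecialLinearGroup (Fin n) K)
            * (Matrix.SpecialLinearGroup.toGL (c : Matrix.SpecialLinearGroup (Fin n) K))⁻¹ :
            GL (Fin n) K) : Matrix (Fin n) (Fin n) K) := by
      rw [← map_inv, ← map_mul, ← map_mul]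
      rfl
    rw [h1, Units.val_mul, Units.val_mul, Matrix.coe_units_inv]
    exact Matrix.charpoly_units_conj _ _
  · intro g h hg hh hc
    exact hconj g h hg hh hc
  · intro g hg
    have hmemGU : Matrix.SpecialLinearGroup.toGL (g : Matrix.SpecialLinearGroup (Fin n) K)
        ∈ Cfsg.GU n K q := by
      rw [Cfsg.Agent.Helper45.GU.mem_GU_iff n bar hbar]
      exact (Cfsg.Agent.Helper45.GU.mem_SU_iff n bar hbar g.1).mp g.2
    refine ⟨Matrix.charpoly_monic _, ?_, ?_, ?_⟩
    · rw [Matrix.charpoly_natDegree_eq_dim, Fintype.card_fin]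
    · have hmem := (Cfsg.Agent.S2677.mem_GU_iff_matrix n bar hbar _).mp hmemGU
      have h1 : (((Matrix.SpecialLinearGroup.toGL (g : Matrix.SpecialLinearGroup (Fin n) K) :
          GL (Fin n) K) : Matrix (Fin n) (Fin n) K).map bar)ᵀ
          * ((Matrix.SpecialLinearGroup.toGL (g : Matrix.SpecialLinearGroup (Fin n) K) :
          GL (Fin n) K) : Matrix (Fin n) (Fin n) K) = 1 := by
        have := congrArg Matrix.transpose hmem
        rw [Matrix.transpose_mul, Matrix.transpose_transpose, Matrix.transpose_one] at this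
        exact this
      exact (charpoly_st_inv bar _ _ h1).symm
    · rw [charpoly_coeff_zero]
      have : ((g : Matrix.SpecialLinearGroup (Fin n) K) : Matrix (Fin n) (Fin n) K).det = 1 :=
        (g : Matrix.SpecialLinearGroup (Fin n) K).2
      rw [this, mul_one]
  · rintro f ⟨hfm, hfd, hfu, hf0⟩
    have hf0' : f.coeff 0 ≠ 0 := by
      rw [hf0]
      exact pow_ne_zero _ (neg_ne_zero.mpr one_ne_zero)
    obtain ⟨B, k, hk0, hkp, hBk, hBch⟩ := exists_GU_of_utilde p hK bar hbar n f hfm hfd hf0' hfu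
    have hdet : ((B : GL (Fin n) K) : Matrix (Fin n) (Fin n) K).det = 1 := by
      have h1 := charpoly_coeff_zero ((B : GL (Fin n) K) : Matrix (Fin n) (Fin n) K)
      rw [hBch, hf0] at h1
      have hs : ((-1 : K) ^ n) * ((-1 : K) ^ n) = 1 := by
        rw [← mul_pow]; simp
      have h2 := congrArg (fun x => (-1 : K) ^ n * x) h1
      simp only [← mul_assoc, hs, one_mul] at h2
      exact h2.symm
    let s : Matrix.SpecialLinearGroup (Fin n) K :=
      ⟨((B : GL (Fin n) K) : Matrix (Fin n) (Fin n) K), hdet⟩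
    have hs : s ∈ Cfsg.SU n K q := by
      rw [Cfsg.Agent.Helper45.GU.mem_SU_iff n bar hbar]
      exact (Cfsg.Agent.Helper45.GU.mem_GU_iff n bar hbar (B : GL (Fin n) K)).mp B.2
    refine ⟨⟨s, hs⟩, ?_, hBch⟩
    have hsk : (⟨s, hs⟩ : ↥(Cfsg.SU n K q)) ^ k = 1 := by
      apply Subtype.ext
      apply Subtype.ext
      show ((s ^ k : Matrix.SpecialLinearGroup (Fin n) K) : Matrix (Fin n) (Fin n) K) = 1
      rw [Matrix.SpecialLinearGroup.coe_pow]
      show ((B : GL (Fin n) K) : Matrix (Fin n) (Fin n) K) ^ k = 1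
      rw [← Units.val_pow_eq_pow_val, ← Subgroup.coe_pow, hBk]
      rfl
    exact Nat.Coprime.coprime_dvd_left (orderOf_dvd_of_pow_eq_one hsk) hkp

end Cfsg.Agent.Helper43.SUCls
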