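import Cfsg.Agent.Helper43.G2Hom

set_option autoImplicit false

namespace Cfsg.Agent.Helper43.G2S

open Matrix Cfsg.Lie

variable {F : Type*} [Field F]

theorem zornMul_vecH_vecH (h h' : Matrix (Fin 2) (Fin 2) F) :
    zornMul (vecH h) (vecH h') = vecH (h * h') := by
  ext i
  fin_cases i <;> simp [zornMul, dot3, cross3, vecH, Matrix.mul_apply, Fin.sum_univ_two] <;> ring

theorem zornMul_vecH_vecM (h : Matrix (Fin 2) (Fin 2) F) (u₁ u₂ : Fin 2 → F) :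
    zornMul (vecH h) (vecM u₁ u₂) = vecM (hᵀ *ᵥ u₁) (hᵀ *ᵥ u₂) := by
  ext i
  fin_cases i <;>
    simp [zornMul, dot3, cross3, vecH, vecM, Matrix.mulVec, dotProduct, Fin.sum_univ_two] <;> ring

/-- the product of two elements of `M` lies in `H₀` -/
theorem zornMul_vecM_vecM (u₁ u₂ v₁ v₂ : Fin 2 → F) :
    zornMul (vecM u₁ u₂) (vecM v₁ v₂) =
      vecH !![-(u₁ 0 * v₂ 1) + u₂ 0 * v₁ 1, u₂ 1 * v₁ 1 - u₁ 1 * v₂ 1;
              u₁ 0 * v₂ 0 - u₂ 0 * v₁ 0, -(u₂ 1 * v₁ 0) + u₁ 1 * v₂ 0] := by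
  ext i
  fin_cases i <;> simp [zornMul, dot3, cross3, vecH, vecM] <;> ring

theorem vec_decomp (x : Fin 8 → F) :
    x = vecH !![x 0, x 1; x 4, x 7] + vecM ![x 2, x 6] ![x 3, -x 5] := by
  ext i
  fin_cases i <;> simp [vecH, vecM]

theorem vecH_injective : Function.Injective (vecH : Matrix (Fin 2) (Fin 2) F → Fin 8 → F) := by
  intro h h' H
  ext i j
  fin_cases i <;> fin_cases j
  · simpa [vecH] using congrFun H 0
  · simpa [vecH] using congrFun H 1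
  · simpa [vecH] using congrFun H 4
  · simpa [vecH] using congrFun H 7

theorem PhiM_vecH (B h : Matrix (Fin 2) (Fin 2) F) : PhiM B *ᵥ vecH h = vecH h := by
  rw [PhiM_mulVec]
  ext i
  fin_cases i <;> simp [vecH]

theorem PsiM_vecH (p h : Matrix (Fin 2) (Fin 2) F) :
    PsiM p *ᵥ vecH h = vecH (p * h * p.adjugate) := by
  rw [PsiM_mulVec]
  ext i
  fin_cases i <;>
    simp [vecH, Matrix.mul_apply, Fin.sum_univ_two, Matrix.adjugate_fin_two] <;> ring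

theorem TM_vecH (ν : F) (h : Matrix (Fin 2) (Fin 2) F) : TM ν *ᵥ vecH h = vecH (cjM ν h) := by
  rw [TM_mulVec]
  ext i
  fin_cases i <;> simp [vecH, cjM]

theorem PhiM_vecM (B : Matrix (Fin 2) (Fin 2) F) (u₁ u₂ : Fin 2 → F) :
    PhiM B *ᵥ vecM u₁ u₂ = vecM (B 0 0 • u₁ + B 0 1 • u₂) (B 1 0 • u₁ + B 1 1 • u₂) := by
  rw [PhiM_mulVec]
  ext i
  fin_cases i <;> simp [vecM] <;> ring

end Cfsg.Agent.Helper43.G2S
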