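import Mathlib
import Cfsg.Agent.Helper42.SylowEA

/-!
# Abstract group theory for the Sylow 2-subgroup of a group whose involution centralizer is
`(S ∘ S).2`: the interface (definitions only)
-/

set_option autoImplicit false

namespace Cfsg.Agent.Helper43.G2S

open Cfsg.Agent.Helper42

/-- the structure of the candidate Sylow subgroup `P` of `G`: a maximal `2`-subgroup of the
centralizer of `z0`, containing `t`, and equal to `m(Q₁ × Q₂) ∪ t m(Q₁ × Q₂)` -/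
structure IsCand {G S : Type*} [Group G] [Group S] (m : S × S →* G) (t z0 : G)
    (P : Subgroup G) (Q₁ Q₂ : Sylow 2 S) : Prop where
  isP : IsPGroup 2 P
  le_cent : ∀ x ∈ P, x * z0 = z0 * x
  max : ∀ Q : Subgroup G, IsPGroup 2 Q → (∀ x ∈ Q, x * z0 = z0 * x) → P ≤ Q → Q ≤ P
  t_mem : t ∈ P
  m_mem : ∀ s₁ ∈ Q₁, ∀ s₂ ∈ Q₂, m (s₁, s₂) ∈ P
  cases : ∀ x ∈ P, ∃ s₁ ∈ Q₁, ∃ s₂ ∈ Q₂, x = m (s₁, s₂) ∨ x = t * m (s₁, s₂)

end Cfsg.Agent.Helper43.G2S
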