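import Cfsg.Agent.Helper43.JordanGL

set_option autoImplicit false

namespace Cfsg.Agent.Helper43.SS

open Polynomial Module

universe u v w

/-- Counting conjugacy classes of elements with a property via a complete class invariant
(the invariant only needs to be a class function on elements with the property). -/
theorem card_classes_eq' {G : Type*} [Group G] {T : Type*} (P : G → Prop) (χ : G → T)
    (S : T → Prop)
    (hχ : ∀ g c : G, P g → χ (c * g * c⁻¹) = χ g)
    (hinj : ∀ g h, P g → P h → χ g = χ h → IsConj g h)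
    (hS : ∀ g, P g → S (χ g))
    (hsurj : ∀ t, S t → ∃ g, P g ∧ χ g = t) :
    Nat.card {c : ConjClasses G // ∃ g : G, ConjClasses.mk g = c ∧ P g} = Nat.card {t : T // S t} := by
  let Ψ : {c : ConjClasses G // ∃ g : G, ConjClasses.mk g = c ∧ P g} → {t : T // S t} :=
    fun c => ⟨χ (Classical.choose c.2), hS _ (Classical.choose_spec c.2).2⟩
  apply Nat.card_eq_of_bijective Ψ
  constructor
  · intro c c' h
    have h1 : χ (Classical.choose c.2) = χ (Classical.choose c'.2) := congrArg Subtype.val h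
    have h2 := hinj _ _ (Classical.choose_spec c.2).2 (Classical.choose_spec c'.2).2 h1
    apply Subtype.ext
    rw [← (Classical.choose_spec c.2).1, ← (Classical.choose_spec c'.2).1]
    exact ConjClasses.mk_eq_mk_iff_isConj.mpr h2
  · rintro ⟨t, ht⟩
    obtain ⟨g, hPg, hg⟩ := hsurj t ht
    let c : {c : ConjClasses G // ∃ g : G, ConjClasses.mk g = c ∧ P g} := ⟨ConjClasses.mk g, g, rfl, hPg⟩
    refine ⟨c, ?_⟩
    apply Subtype.ext
    show χ (Classical.choose c.2) = t
    have h1 : ConjClasses.mk (Classical.choose c.2) = ConjClasses.mk g := (Classical.choose_spec c.2).1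
    obtain ⟨d, hd⟩ := isConj_iff.mp (ConjClasses.mk_eq_mk_iff_isConj.mp h1)
    rw [← hg, ← hd, hχ _ _ (Classical.choose_spec c.2).2]

/-- Non-increasing lists of positive integers with sum `n` correspond to partitions of `n`. -/
noncomputable def listPartitionEquiv (n : ℕ) (R : Multiset ℕ → Prop) :
    {l : List ℕ // l.Pairwise (· ≥ ·) ∧ (∀ a ∈ l, 0 < a) ∧ l.sum = n ∧ R (l : Multiset ℕ)}
      ≃ {μ : Nat.Partition n // R μ.parts} where
  toFun l := ⟨⟨(l.1 : Multiset ℕ), fun {i} hi => l.2.2.1 i (Multiset.mem_coe.mp hi), by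
      rw [Multiset.sum_coe]; exact l.2.2.2.1⟩, l.2.2.2.2⟩
  invFun μ := ⟨μ.1.parts.sort (· ≥ ·), Multiset.pairwise_sort _ _, by
      intro a ha
      rw [Multiset.mem_sort] at ha
      exact μ.1.parts_pos ha, by
      have := μ.1.parts_sum
      rw [← Multiset.sort_eq μ.1.parts (· ≥ ·), Multiset.sum_coe] at this
      exact this, by
      rw [Multiset.sort_eq]
      exact μ.2⟩
  left_inv l := by
    apply Subtype.ext
    show Multiset.sort (l.1 : Multiset ℕ) (· ≥ ·) = l.1
    apply List.Perm.eq_of_pairwise' (r := (· ≥ ·)) (Multiset.pairwise_sort _ _) l.2.1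
    rw [← Multiset.coe_eq_coe, Multiset.sort_eq]
  right_inv μ := by
    apply Subtype.ext
    apply Nat.Partition.ext
    show ((Multiset.sort μ.1.parts (· ≥ ·) : List ℕ) : Multiset ℕ) = μ.1.parts
    rw [Multiset.sort_eq]

variable {F : Type u} [Field F] {n : ℕ}

/-- Counting unipotent classes with a condition on the Jordan type. -/
theorem card_unip_classes (R : Multiset ℕ → Prop) :
    Nat.card {c : ConjClasses (GL (Fin n) F) //
      ∃ g : GL (Fin n) F, ConjClasses.mk g = c ∧ (IsUnip g ∧ R (jtype g : Multiset ℕ))}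
      = Nat.card {μ : Nat.Partition n // R μ.parts} := by
  rw [← Nat.card_congr (listPartitionEquiv n R)]
  apply card_classes_eq' (fun g : GL (Fin n) F => IsUnip g ∧ R (jtype g : Multiset ℕ)) jtype
    (fun l => l.Pairwise (· ≥ ·) ∧ (∀ a ∈ l, 0 < a) ∧ l.sum = n ∧ R (l : Multiset ℕ))
  · intro g c hg
    exact jtype_conj g c hg.1
  · intro g h hg hh heq
    exact isConj_of_jtype_eq g h hg.1 hh.1 heq
  · intro g hg
    have h1 := jtype_spec g hg.1
    exact ⟨h1.1, h1.2.1, h1.sum_eq, hg.2⟩
  · rintro l ⟨hs, hp, hsum, hR⟩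
    obtain ⟨g, hgu, hgl⟩ := exists_unip_of_list (F := F) l hs hp hsum
    exact ⟨g, ⟨hgu, by rw [hgl]; exact hR⟩, hgl⟩

end Cfsg.Agent.Helper43.SS
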