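import Cfsg.Agent.Helper43.InvConj
import Cfsg.Agent.Helper43.SSPrime
import Cfsg.Agent.Helper43.SSExist
import Cfsg.Agent.Helper43.JordanCount

set_option autoImplicit false

namespace Cfsg.Agent.Helper43.PGLInv

open Matrix Polynomial

variable {F : Type*} [Field F] {n : ℕ}

/-- `PGL_n(F)` as the quotient of `GL_n(F)` by its centre. -/
abbrev PGL (n : ℕ) (F : Type*) [Field F] := GL (Fin n) F ⧸ Subgroup.center (GL (Fin n) F)

/-- Scalar matrices as elements of `GL_n(F)`. -/
abbrev sc (n : ℕ) {F : Type*} [Field F] : Fˣ →* GL (Fin n) F :=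
  Matrix.GeneralLinearGroup.scalar (Fin n)

theorem rank_neg' (A : Matrix (Fin n) (Fin n) F) : (-A).rank = A.rank := by
  unfold Matrix.rank
  have : (-A).mulVecLin = -A.mulVecLin := by
    ext v i
    simp
  rw [this, LinearMap.range_neg]

theorem eq_zero_of_rank_eq_zero (A : Matrix (Fin n) (Fin n) F) (h : A.rank = 0) : A = 0 := by
  unfold Matrix.rank at h
  rw [Submodule.finrank_eq_zero, LinearMap.range_eq_bot] at h
  have : Matrix.toLin' A = 0 := h
  exact (Matrix.toLin' (R := F)).injective (this.trans (map_zero _).symm)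

theorem sc_injective (hn : 1 ≤ n) : Function.Injective (sc n : Fˣ → GL (Fin n) F) := by
  intro a b hab
  haveI : Nonempty (Fin n) := ⟨⟨0, hn⟩⟩
  have := congrArg (fun g : GL (Fin n) F => (g : Matrix (Fin n) (Fin n) F)) hab
  simp only [Matrix.GeneralLinearGroup.coe_scalar] at this
  exact Units.ext (Matrix.scalar_inj.mp this)

theorem mk_eq_mk_iff (g h : GL (Fin n) F) :
    (QuotientGroup.mk g : PGL n F) = QuotientGroup.mk h ↔ ∃ c : Fˣ, h = g * sc n c := by
  rw [QuotientGroup.eq, Matrix.GeneralLinearGroup.center_eq_range_scalar, MonoidHom.mem_range]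
  constructor
  · rintro ⟨c, hc⟩
    exact ⟨c, by rw [hc]; group⟩
  · rintro ⟨c, rfl⟩
    exact ⟨c, by group⟩

theorem mk_eq_one_iff (g : GL (Fin n) F) :
    (QuotientGroup.mk g : PGL n F) = 1 ↔ ∃ c : Fˣ, g = sc n c := by
  rw [QuotientGroup.eq_one_iff, Matrix.GeneralLinearGroup.center_eq_range_scalar,
    MonoidHom.mem_range]
  exact ⟨fun ⟨c, hc⟩ => ⟨c, hc.symm⟩, fun ⟨c, hc⟩ => ⟨c, hc.symm⟩⟩

theorem orderOf_mk_eq_two_iff (g : GL (Fin n) F) :
    orderOf (QuotientGroup.mk g : PGL n F) = 2 ↔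
      (∃ c : Fˣ, g * g = sc n c) ∧ ¬ ∃ c : Fˣ, g = sc n c := by
  haveI := Nat.fact_prime_two
  rw [orderOf_eq_prime_iff, pow_two, ← QuotientGroup.mk_mul, mk_eq_one_iff, Ne, mk_eq_one_iff]

theorem mul_sc_sq (g : GL (Fin n) F) (c e : Fˣ) (hg : g * g = sc n c) :
    (g * sc n e) * (g * sc n e) = sc n (c * (e * e)) := by
  have hcomm : sc n e * g = g * sc n e := Matrix.GeneralLinearGroup.scalar_commute e g
  calc g * sc n e * (g * sc n e) = g * (sc n e * g) * sc n e := by simp only [mul_assoc]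
    _ = (g * g) * (sc n e * sc n e) := by rw [hcomm]; simp only [mul_assoc]
    _ = sc n (c * (e * e)) := by rw [hg, ← map_mul, ← map_mul]

/-- Ranks of `g - 1` over the involutive lifts `g` of `x`. -/
def rankSet (x : PGL n F) : Set ℕ :=
  {r | ∃ g : GL (Fin n) F, (QuotientGroup.mk g : PGL n F) = x ∧ g * g = 1 ∧
    ((g : Matrix (Fin n) (Fin n) F) - 1).rank = r}

/-- The class invariant: least rank of `g - 1` over involutive lifts (`0` if there is none). -/
noncomputable def chi (x : PGL n F) : ℕ := sInf (rankSet x)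

theorem rank_conj_sub_one (c g : GL (Fin n) F) :
    (((c * g * c⁻¹ : GL (Fin n) F) : Matrix (Fin n) (Fin n) F) - 1).rank =
      ((g : Matrix (Fin n) (Fin n) F) - 1).rank := by
  have h1 : ((c * g * c⁻¹ : GL (Fin n) F) : Matrix (Fin n) (Fin n) F) - 1 =
      (c : Matrix (Fin n) (Fin n) F) * ((g : Matrix (Fin n) (Fin n) F) - 1) *
        ((c⁻¹ : GL (Fin n) F) : Matrix (Fin n) (Fin n) F) := by
    rw [Units.val_mul, Units.val_mul, mul_sub, sub_mul, mul_one, ← Units.val_mul c c⁻¹,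
      mul_inv_cancel, Units.val_one]
  have hc : IsUnit (c : Matrix (Fin n) (Fin n) F).det :=
    (Matrix.isUnit_iff_isUnit_det _).mp c.isUnit
  have hc' : IsUnit ((c⁻¹ : GL (Fin n) F) : Matrix (Fin n) (Fin n) F).det :=
    (Matrix.isUnit_iff_isUnit_det _).mp (c⁻¹).isUnit
  rw [h1, Matrix.rank_mul_eq_left_of_isUnit_det _ _ hc', Matrix.rank_mul_eq_right_of_isUnit_det _ _ hc]

theorem rankSet_conj_subset (x c : PGL n F) : rankSet x ⊆ rankSet (c * x * c⁻¹) := by
  rintro r ⟨g, rfl, hg, hr⟩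
  obtain ⟨c, rfl⟩ := QuotientGroup.mk_surjective c
  refine ⟨c * g * c⁻¹, by simp, ?_, ?_⟩
  · calc c * g * c⁻¹ * (c * g * c⁻¹) = c * (g * g) * c⁻¹ := by group
      _ = 1 := by rw [hg]; group
  · rw [rank_conj_sub_one, hr]

theorem chi_conj (x c : PGL n F) : chi (c * x * c⁻¹) = chi x := by
  unfold chi
  congr 1
  apply Set.Subset.antisymm
  · have := rankSet_conj_subset (c * x * c⁻¹) c⁻¹
    have e : c⁻¹ * (c * x * c⁻¹) * c⁻¹⁻¹ = x := by group
    rwa [e] at this
  · exact rankSet_conj_subset x c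

theorem invol_lift_unique (hn : 1 ≤ n) (g h : GL (Fin n) F) (hg : g * g = 1) (hh : h * h = 1)
    (hgh : (QuotientGroup.mk g : PGL n F) = QuotientGroup.mk h) :
    h = g ∨ h = g * sc n (-1) := by
  obtain ⟨c, rfl⟩ := (mk_eq_mk_iff g h).mp hgh
  have h1 := mul_sc_sq g 1 c (by rw [hg, map_one])
  rw [hh, one_mul] at h1
  have hcc : c * c = 1 := sc_injective hn (by rw [← h1, map_one])
  have hcc' : (c : F) * (c : F) = 1 := by rw [← Units.val_mul, hcc, Units.val_one]
  rcases mul_self_eq_one_iff.mp hcc' with h | h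
  · left
    have : c = 1 := Units.ext h
    rw [this, map_one, mul_one]
  · right
    have : c = -1 := Units.ext h
    rw [this]

theorem val_mul_sc_neg_one (g : GL (Fin n) F) :
    ((g * sc n (-1) : GL (Fin n) F) : Matrix (Fin n) (Fin n) F) = -(g : Matrix (Fin n) (Fin n) F) := by
  have h1 : Matrix.scalar (Fin n) (((-1 : Fˣ) : F)) = -1 := by
    rw [Units.val_neg, Units.val_one, map_neg, map_one]
  rw [Units.val_mul, Matrix.GeneralLinearGroup.coe_scalar, h1, mul_neg, mul_one]

theorem neg_invol_lift (g : GL (Fin n) F) (hg : g * g = 1) :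
    (QuotientGroup.mk (g * sc n (-1)) : PGL n F) = QuotientGroup.mk g ∧
      (g * sc n (-1)) * (g * sc n (-1)) = 1 := by
  refine ⟨((mk_eq_mk_iff g _).mpr ⟨-1, rfl⟩).symm, ?_⟩
  rw [mul_sc_sq g 1 (-1) (by rw [hg, map_one])]
  simp

theorem chi_bounds (x : PGL n F) (hx : orderOf x = 2) (hne : (rankSet x).Nonempty) :
    1 ≤ chi x ∧ 2 * chi x ≤ n := by
  obtain ⟨g, rfl, hg, hr⟩ := Nat.sInf_mem hne
  have hg' : (g : Matrix (Fin n) (Fin n) F) * (g : Matrix (Fin n) (Fin n) F) = 1 := by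
    rw [← Units.val_mul, hg, Units.val_one]
  constructor
  · by_contra hlt
    have h0 : ((g : Matrix (Fin n) (Fin n) F) - 1).rank = 0 := by
      have : chi (QuotientGroup.mk g : PGL n F) = 0 := by omega
      rw [← this]; exact hr
    have h1 := eq_zero_of_rank_eq_zero _ h0
    have h2 : g = 1 := Units.ext (by rw [Units.val_one]; exact sub_eq_zero.mp h1)
    rw [h2, QuotientGroup.mk_one, orderOf_one] at hx
    omega
  · have h1 : chi (QuotientGroup.mk g : PGL n F) ≤ ((g : Matrix (Fin n) (Fin n) F) + 1).rank := by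
      apply Nat.sInf_le
      refine ⟨g * sc n (-1), (neg_invol_lift g hg).1, (neg_invol_lift g hg).2, ?_⟩
      rw [val_mul_sc_neg_one, ← rank_neg', neg_sub, sub_neg_eq_add, add_comm]
    have h2 : ((g : Matrix (Fin n) (Fin n) F) - 1) * ((g : Matrix (Fin n) (Fin n) F) + 1) = 0 := by
      rw [sub_mul, mul_add, mul_one, one_mul, hg']
      abel
    have h3 := Matrix.rank_add_rank_le_card_of_mul_eq_zero h2
    rw [Fintype.card_fin] at h3
    have h4 : chi (QuotientGroup.mk g : PGL n F) = ((g : Matrix (Fin n) (Fin n) F) - 1).rank := hr.symm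
    omega

theorem even_of_nonsquare (g : GL (Fin n) F) (c : Fˣ) (hg : g * g = sc n c)
    (hc : ¬ IsSquare (c : F)) : Even n := by
  by_contra hodd
  rw [Nat.not_even_iff_odd] at hodd
  obtain ⟨k, hk⟩ := hodd
  have h1 : Matrix.GeneralLinearGroup.det g * Matrix.GeneralLinearGroup.det g = c ^ n := by
    rw [← map_mul, hg, Matrix.GeneralLinearGroup.det_scalar, Fintype.card_fin]
  apply hc
  have h2 : c = (Matrix.GeneralLinearGroup.det g * (c ^ k)⁻¹) * (Matrix.GeneralLinearGroup.det g * (c ^ k)⁻¹) := by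
    have : (Matrix.GeneralLinearGroup.det g * (c ^ k)⁻¹) * (Matrix.GeneralLinearGroup.det g * (c ^ k)⁻¹)
        = (Matrix.GeneralLinearGroup.det g * Matrix.GeneralLinearGroup.det g) * ((c ^ k)⁻¹ * (c ^ k)⁻¹) := by
      rw [mul_mul_mul_comm]
    have h3 : c ^ (2 * k + 1) = c ^ k * c ^ k * c := by rw [pow_succ, two_mul, pow_add]
    rw [this, h1, hk, h3]
    calc c = c * (c ^ k * (c ^ k)⁻¹) * (c ^ k * (c ^ k)⁻¹) := by simp
      _ = c ^ k * c ^ k * c * ((c ^ k)⁻¹ * (c ^ k)⁻¹) := by ac_rfl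
  refine ⟨((Matrix.GeneralLinearGroup.det g * (c ^ k)⁻¹ : Fˣ) : F), ?_⟩
  rw [← Units.val_mul, ← h2]


theorem irreducible_X_sq_sub_C (c : F) (hc : ¬ IsSquare c) : Irreducible (X ^ 2 - C c : F[X]) := by
  have hm : (X ^ 2 - C c : F[X]).Monic := monic_X_pow_sub_C c two_ne_zero
  have hd : (X ^ 2 - C c : F[X]).natDegree = 2 := natDegree_X_pow_sub_C
  rw [hm.irreducible_iff_roots_eq_zero_of_degree_le_three (by omega) (by omega)]
  rw [Multiset.eq_zero_iff_forall_notMem]
  intro a ha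
  rw [mem_roots hm.ne_zero, IsRoot.def, eval_sub, eval_pow, eval_X, eval_C, sub_eq_zero] at ha
  exact hc ⟨a, by rw [← ha, pow_two]⟩

open Cfsg.Agent.Helper43.SS in
/-- A matrix whose square is a nonsquare scalar `c` has characteristic polynomial
`(X² - c)^(n/2)`. -/
theorem charpoly_of_sq_nonsquare (A : Matrix (Fin n) (Fin n) F) (c : F) (hc : ¬ IsSquare c)
    (hA : A * A = Matrix.scalar (Fin n) c) : A.charpoly = (X ^ 2 - C c) ^ (n / 2) := by
  classical
  set h : F[X] := X ^ 2 - C c with hh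
  have hm : h.Monic := monic_X_pow_sub_C c two_ne_zero
  have hd : h.natDegree = 2 := natDegree_X_pow_sub_C
  have hirr : Irreducible h := irreducible_X_sq_sub_C c hc
  have hAh : aeval A h = 0 := by
    rw [hh, map_sub, map_pow, aeval_X, aeval_C, pow_two, hA]
    exact sub_self _
  have hch0 : A.charpoly ≠ 0 := (Matrix.charpoly_monic A).ne_zero
  have hfac : ∀ P ∈ UniqueFactorizationMonoid.normalizedFactors A.charpoly, P = h := by
    intro P hP
    rw [Polynomial.mem_normalizedFactors_iff hch0] at hP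
    have := dvd_of_dvd_charpoly A h hirr.squarefree hAh P hP.2.1 hP.1 hP.2.2
    exact eq_of_monic_of_associated hP.2.1 hm (hP.1.associated_of_dvd hirr this)
  have hrep := Multiset.eq_replicate_card.mpr hfac
  have hprod := UniqueFactorizationMonoid.prod_normalizedFactors hch0
  rw [hrep, Multiset.prod_replicate] at hprod
  have heq := eq_of_monic_of_associated (hm.pow _) (Matrix.charpoly_monic A) hprod
  have hdeg := congrArg natDegree heq
  rw [natDegree_pow, hd, Matrix.charpoly_natDegree_eq_dim, Fintype.card_fin] at hdeg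
  rw [← heq]
  congr 1
  omega

section finite

variable [Fintype F]

theorem two_ne_zero_of_odd (hq : Odd (Fintype.card F)) : (2 : F) ≠ 0 := by
  apply Ring.two_ne_zero
  intro h2
  have := FiniteField.even_card_of_char_two h2
  rw [← Nat.not_even_iff_odd] at hq
  exact hq (Nat.even_iff.mpr this)

theorem ringChar_ne_two_of_odd (hq : Odd (Fintype.card F)) : ringChar F ≠ 2 := by
  intro h2
  have := FiniteField.even_card_of_char_two h2
  rw [← Nat.not_even_iff_odd] at hq
  exact hq (Nat.even_iff.mpr this)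

theorem cast_ne_zero_of_odd (hq : Odd (Fintype.card F)) :
    ((2 * (Fintype.card F - 1) : ℕ) : F) ≠ 0 := by
  have h1 : 1 ≤ Fintype.card F := Fintype.card_pos
  rw [Nat.cast_mul, Nat.cast_sub h1, FiniteField.cast_card_eq_zero, Nat.cast_one, zero_sub,
    Nat.cast_two]
  exact mul_ne_zero (two_ne_zero_of_odd hq) (neg_ne_zero.mpr one_ne_zero)

theorem pow_eq_one_of_sq_scalar (g : GL (Fin n) F) (c : Fˣ) (hg : g * g = sc n c) :
    g ^ (2 * (Fintype.card F - 1)) = 1 := by
  classical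
  rw [pow_mul, pow_two, hg, ← map_pow]
  have : c ^ (Fintype.card F - 1) = 1 := by
    rw [← Fintype.card_units]
    exact pow_card_eq_one
  rw [this, map_one]

open Cfsg.Agent.Helper43.SS in
theorem isConj_of_sq_nonsquare (hq : Odd (Fintype.card F)) (g h : GL (Fin n) F) (c : Fˣ)
    (hc : ¬ IsSquare (c : F)) (hg : g * g = sc n c) (hh : h * h = sc n c) : IsConj g h := by
  apply isConj_GL_of_charpoly_eq g h _ _ (cast_ne_zero_of_odd hq) (cast_ne_zero_of_odd hq)
    (pow_eq_one_of_sq_scalar g c hg) (pow_eq_one_of_sq_scalar h c hh)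
  have hg' : (g : Matrix (Fin n) (Fin n) F) * (g : Matrix (Fin n) (Fin n) F) =
      Matrix.scalar (Fin n) (c : F) := by
    rw [← Units.val_mul, hg, Matrix.GeneralLinearGroup.coe_scalar]
  have hh' : (h : Matrix (Fin n) (Fin n) F) * (h : Matrix (Fin n) (Fin n) F) =
      Matrix.scalar (Fin n) (c : F) := by
    rw [← Units.val_mul, hh, Matrix.GeneralLinearGroup.coe_scalar]
  rw [charpoly_of_sq_nonsquare _ _ hc hg', charpoly_of_sq_nonsquare _ _ hc hh']

theorem exists_nonsquare_unit (hq : Odd (Fintype.card F)) : ∃ c : Fˣ, ¬ IsSquare (c : F) := by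
  obtain ⟨a, ha⟩ := FiniteField.exists_nonsquare (ringChar_ne_two_of_odd hq)
  have ha0 : a ≠ 0 := by
    rintro rfl
    exact ha ⟨0, by simp⟩
  exact ⟨Units.mk0 a ha0, ha⟩

theorem isSquare_mul_of_nonsquare (a b : F) (ha : ¬ IsSquare a) (hb : ¬ IsSquare b) :
    IsSquare (a * b) := by
  classical
  have ha0 : a ≠ 0 := by
    rintro rfl
    exact ha ⟨0, by simp⟩
  have hb0 : b ≠ 0 := by
    rintro rfl
    exact hb ⟨0, by simp⟩
  rw [← quadraticChar_neg_one_iff_not_isSquare] at ha hb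
  rw [← quadraticChar_one_iff_isSquare (mul_ne_zero ha0 hb0), map_mul, ha, hb]
  norm_num

/-- Every element of order two of `PGL_n(F)` has a lift squaring to `1`, or a lift squaring to
the fixed nonsquare scalar `c0`. -/
theorem exists_good_lift (c0 : Fˣ) (hc0 : ¬ IsSquare (c0 : F)) (x : PGL n F) (hx : orderOf x = 2) :
    (∃ g : GL (Fin n) F, (QuotientGroup.mk g : PGL n F) = x ∧ g * g = 1) ∨
    (∃ g : GL (Fin n) F, (QuotientGroup.mk g : PGL n F) = x ∧ g * g = sc n c0) := by
  obtain ⟨g, rfl⟩ := QuotientGroup.mk_surjective x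
  obtain ⟨⟨c, hc⟩, -⟩ := (orderOf_mk_eq_two_iff g).mp hx
  by_cases hsq : IsSquare (c : F)
  · left
    obtain ⟨d, hd⟩ := hsq
    have hd0 : d ≠ 0 := by
      rintro rfl
      rw [mul_zero] at hd
      exact c.ne_zero hd
    refine ⟨g * sc n (Units.mk0 d hd0)⁻¹, ((mk_eq_mk_iff g _).mpr ⟨_, rfl⟩).symm, ?_⟩
    rw [mul_sc_sq g c _ hc]
    have : c * ((Units.mk0 d hd0)⁻¹ * (Units.mk0 d hd0)⁻¹) = 1 := by
      have : c = Units.mk0 d hd0 * Units.mk0 d hd0 := Units.ext (by simpa using hd)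
      rw [this]
      group
    rw [this, map_one]
  · right
    have hinv : ¬ IsSquare ((c : F)⁻¹) := by rwa [isSquare_inv]
    obtain ⟨d, hd⟩ := isSquare_mul_of_nonsquare _ _ hc0 hinv
    have hd0 : d ≠ 0 := by
      rintro rfl
      rw [mul_zero] at hd
      exact (mul_ne_zero c0.ne_zero (inv_ne_zero c.ne_zero)) hd
    refine ⟨g * sc n (Units.mk0 d hd0), ((mk_eq_mk_iff g _).mpr ⟨_, rfl⟩).symm, ?_⟩
    rw [mul_sc_sq g c _ hc]
    congr 1
    apply Units.ext
    rw [Units.val_mul, Units.val_mul, Units.val_mk0, ← hd]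
    field_simp

end finite

end Cfsg.Agent.Helper43.PGLInv
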