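import Cfsg.Agent.Helper43.PGLPrimeD

set_option autoImplicit false

namespace Cfsg.Agent.Helper43.PGLPrime

open Matrix Polynomial MulAction Cfsg.Agent.Helper43.SS Cfsg.Agent.Helper43.PGLInv

variable {F : Type*} [Field F] {n r : ℕ} [NeZero r]

theorem prod_dlt (ζ : F) (i : ZMod r) :
    ∏ j : ZMod r, (X - C (zp ζ r j)) ^ (dlt n r i).1 j = (X - C (zp ζ r i)) ^ n := by
  rw [Finset.prod_eq_single i]
  · show (X - C (zp ζ r i)) ^ (if i = i then n else 0) = _
    rw [if_pos rfl]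
  · intro j _ hj
    show (X - C (zp ζ r j)) ^ (if j = i then n else 0) = _
    rw [if_neg hj, pow_zero]
  · intro hi
    exact absurd (Finset.mem_univ i) hi

section

variable [Fintype F] {ζ : F} (hr : r.Prime) (hζ : orderOf ζ = r) (hrF : (r : F) ≠ 0) (hn : 1 ≤ n)

include hζ in
theorem mvec_one : (mvec ζ (1 : Matrix (Fin n) (Fin n) F) : Bn n r) = dlt n r 0 := by
  have h1 : (1 : Matrix (Fin n) (Fin n) F).charpoly =
      ∏ j : ZMod r, (X - C (zp ζ r j)) ^ (dlt n r 0).1 j := by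
    rw [prod_dlt, zp_zero, Matrix.charpoly_one, Fintype.card_fin, C_1]
  have h2 : mult ζ r (1 : Matrix (Fin n) (Fin n) F) = (dlt n r 0).1 := by
    funext j
    unfold mult
    rw [h1, rootMultiplicity_prod hζ]
  unfold mvec
  rw [dif_pos (by rw [h2]; exact (dlt n r 0).2)]
  exact Subtype.ext h2

include hr hζ hrF hn

theorem exists_split_class (t : Om n r) (ht : t ≠ Quotient.mk _ (dlt n r 0)) :
    ∃ x : PGL n F, orderOf x = r ∧ IsSplit r x ∧ orbQ ζ r x = t := by
  have hζr : ζ ^ r = 1 := by rw [← hζ]; exact pow_orderOf_eq_one ζ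
  obtain ⟨a, rfl⟩ := Quotient.exists_rep t
  obtain ⟨A, hA, hAa⟩ := exists_split hr hζ hrF a
  let g : GL (Fin n) F := Units.ofPowEqOne A r hA hr.ne_zero
  have hgA : (g : Matrix (Fin n) (Fin n) F) = A := rfl
  have hg : g ^ r = 1 := Units.pow_ofPowEqOne hA hr.ne_zero
  refine ⟨QuotientGroup.mk g, ?_, ⟨g, rfl, hg⟩, ?_⟩
  · rw [orderOf_mk_eq_prime_iff hr]
    refine ⟨⟨1, by rw [hg, map_one]⟩, ?_⟩
    rintro ⟨c, hc⟩
    have hc1 : c ^ r = 1 := by
      have h4 := hg
      rw [hc, ← map_pow] at h4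
      exact sc_injective hn (h4.trans (map_one _).symm)
    obtain ⟨j, hj⟩ := eq_zp_of_pow_eq_one hζ (c : F)
      (by rw [← Units.val_pow_eq_pow_val, hc1, Units.val_one])
    have h5 : A = zp ζ r j • (1 : Matrix (Fin n) (Fin n) F) := by
      rw [← hgA, hc, Matrix.GeneralLinearGroup.coe_scalar, Matrix.scalar_apply, hj,
        Matrix.smul_one_eq_diagonal]
    have h6 : (mvec ζ A : Bn n r) = Multiplicative.ofAdd j • dlt n r 0 := by
      rw [h5, mvec_smul hr hζ hrF j _ (one_pow r), mvec_one hζ]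
    apply ht
    apply Quotient.sound
    show _ ∈ orbit _ _
    rw [← hAa, h6]
    exact MulAction.mem_orbit _ _
  · rw [orbQ_mk hr hζ hrF hn g hg, hgA, hAa]

end

end Cfsg.Agent.Helper43.PGLPrime
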