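import Mathlib
import Cfsg.Agent.Helper43.SpRegSig
import Cfsg.Agent.Helper43.RegNilpConj

set_option autoImplicit false

namespace Cfsg.Agent.Helper43.SpReg

open Module Matrix
open scoped IsMulCommutative

section cls

variable {F : Type*} [Field F] {l : Type*} [Fintype l] [DecidableEq l]
variable {u0 : Matrix (l ⊕ l) (l ⊕ l) F} {v0 : l ⊕ l → F}

/-- The key computation: from a solution of the norm equation we get a symplectic conjugator. -/
theorem SpData.conj_of_norm (h : SpData u0 v0)
    {u' g hh hi a ai : Matrix (l ⊕ l) (l ⊕ l) F} {c : F}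
    (hhi1 : hi * hh = 1) (hhi2 : c • (adj hi * hi) = 1)
    (hg : g * u0 = u' * g)
    (ha : a * u0 = u0 * a) (hai : a * ai = 1)
    (hnorm : c • (adj a * a) = adj g * g) :
    adj (g * ai * hi) * (g * ai * hi) = 1 ∧
      (g * ai * hi) * (hh * u0 * hi) = u' * (g * ai * hi) := by
  have hai' : ai * a = 1 := mul_eq_one_comm.mp hai
  have hcomm : ai * u0 = u0 * ai := by
    calc ai * u0 = ai * u0 * (a * ai) := by rw [hai, mul_one]
      _ = ai * (u0 * a) * ai := by simp only [mul_assoc]
      _ = ai * (a * u0) * ai := by rw [ha]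
      _ = (ai * a) * u0 * ai := by simp only [mul_assoc]
      _ = u0 * ai := by rw [hai', one_mul]
  have hadj : adj ai * adj a = 1 := by rw [← adj_mul, hai, adj_one]
  constructor
  · calc adj (g * ai * hi) * (g * ai * hi)
        = adj hi * (adj ai * adj g) * (g * ai * hi) := by rw [adj_mul, adj_mul]
      _ = adj hi * (adj ai * (adj g * g) * ai) * hi := by simp only [mul_assoc]
      _ = adj hi * (adj ai * (c • (adj a * a)) * ai) * hi := by rw [hnorm]
      _ = c • (adj hi * ((adj ai * adj a) * (a * ai)) * hi) := by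
          simp only [mul_smul_comm, smul_mul_assoc, mul_assoc]
      _ = c • (adj hi * hi) := by rw [hadj, hai, one_mul, mul_one]
      _ = 1 := hhi2
  · calc (g * ai * hi) * (hh * u0 * hi)
        = g * ai * (hi * hh) * u0 * hi := by simp only [mul_assoc]
      _ = g * (ai * u0) * hi := by rw [hhi1, mul_one]; simp only [mul_assoc]
      _ = g * (u0 * ai) * hi := by rw [hcomm]
      _ = (g * u0) * ai * hi := by simp only [mul_assoc]
      _ = u' * (g * ai * hi) := by rw [hg]; simp only [mul_assoc]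

/-- The conjugate by a similitude with nonsquare multiplier is not symplectically conjugate. -/
theorem SpData.not_conj (h : SpData u0 v0) {hh hi s : Matrix (l ⊕ l) (l ⊕ l) F} {c : F}
    (hc : ¬ IsSquare c)
    (hhi1 : hi * hh = 1) (hhi2 : c • (adj hi * hi) = 1)
    (hs : adj s * s = 1) (hconj : s * u0 = (hh * u0 * hi) * s) : False := by
  have hc0 : c ≠ 0 := by
    rintro rfl
    exact hc ⟨0, by simp⟩
  obtain ⟨ε, hε⟩ := h.cyc.exists_eps
  have hD := h.invData ε hε
  have hcomm : (hi * s) * u0 = u0 * (hi * s) := by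
    calc (hi * s) * u0 = hi * (s * u0) := by rw [mul_assoc]
      _ = hi * (hh * u0 * hi * s) := by rw [hconj]
      _ = (hi * hh) * u0 * (hi * s) := by simp only [mul_assoc]
      _ = u0 * (hi * s) := by rw [hhi1, one_mul]
  have hmem : hi * s ∈ Algebra.adjoin F {u0 - 1} := h.mem_iff.mpr hcomm
  have h2 : adj hi * hi = c⁻¹ • 1 := by
    have := congrArg (fun M => c⁻¹ • M) hhi2
    simp only [smul_smul, inv_mul_cancel₀ hc0, one_smul] at this
    exact this
  have hnorm : adj (hi * s) * (hi * s) = c⁻¹ • 1 := by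
    calc adj (hi * s) * (hi * s) = adj s * (adj hi * hi) * s := by
          rw [adj_mul]; simp only [mul_assoc]
      _ = c⁻¹ • (adj s * s) := by
          rw [h2]; simp only [mul_smul_comm, smul_mul_assoc, mul_one]
      _ = c⁻¹ • 1 := by rw [hs]
  set aA : Algebra.adjoin F {u0 - 1} := ⟨hi * s, hmem⟩ with haA
  have h3 : h.sigma aA * aA = c⁻¹ • 1 := by
    apply Subtype.ext
    rw [Subalgebra.coe_mul, h.sigma_coe, Subalgebra.coe_smul, Subalgebra.coe_one]
    exact hnorm
  have h4 := congrArg ε h3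
  rw [map_mul, hD.eps_sigma, map_smul, map_one, smul_eq_mul, mul_one] at h4
  apply hc
  have hne : ε aA ≠ 0 := by
    intro h0
    rw [h0, mul_zero] at h4
    exact inv_ne_zero hc0 h4.symm
  refine ⟨(ε aA)⁻¹, ?_⟩
  rw [← mul_inv, h4, inv_inv]

end cls


section cases

open scoped Classical in
theorem isSquare_mul_of_not_isSquare {F : Type*} [Field F] [Fintype F] {x y : F}
    (hx : ¬ IsSquare x) (hy : ¬ IsSquare y) : IsSquare (x * y) := by
  have hx0 : x ≠ 0 := by rintro rfl; exact hx ⟨0, by simp⟩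
  have hy0 : y ≠ 0 := by rintro rfl; exact hy ⟨0, by simp⟩
  rw [← quadraticChar_one_iff_isSquare (mul_ne_zero hx0 hy0), map_mul,
    (quadraticChar_neg_one_iff_not_isSquare).mpr hx, (quadraticChar_neg_one_iff_not_isSquare).mpr hy]
  norm_num

variable {F : Type*} [Field F] [Fintype F] {l : Type*} [Fintype l] [DecidableEq l]
variable {u0 : Matrix (l ⊕ l) (l ⊕ l) F} {v0 : l ⊕ l → F}

/-- Every symplectic matrix that is `GL`-conjugate to `u0` is symplectically conjugate either to
`u0` or to its conjugate by the similitude with nonsquare multiplier. -/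
theorem SpData.conj_cases (h : SpData u0 v0) {u' g gi hh hi : Matrix (l ⊕ l) (l ⊕ l) F} {c : F}
    (hc : ¬ IsSquare c)
    (hhi1 : hi * hh = 1) (hhi2 : c • (adj hi * hi) = 1)
    (hu' : adj u' * u' = 1) (hg : g * u0 = u' * g) (hgi : g * gi = 1) :
    ∃ s : Matrix (l ⊕ l) (l ⊕ l) F, adj s * s = 1 ∧
      (s * u0 = u' * s ∨ s * (hh * u0 * hi) = u' * s) := by
  have hc0 : c ≠ 0 := by
    rintro rfl
    exact hc ⟨0, by simp⟩
  obtain ⟨ε, hε⟩ := h.cyc.exists_eps
  have hD := h.invData ε hε
  have hgi' : gi * g = 1 := mul_eq_one_comm.mp hgi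
  -- b = adj g * g commutes with u0
  have h1 : adj u0 * adj g = adj g * adj u' := by rw [← adj_mul, ← adj_mul, hg]
  have h2 : adj g * u' = u0 * adj g := by
    calc adj g * u' = (u0 * adj u0) * adj g * u' := by rw [h.self_mul_adj, one_mul]
      _ = u0 * (adj u0 * adj g) * u' := by simp only [mul_assoc]
      _ = u0 * (adj g * adj u') * u' := by rw [h1]
      _ = u0 * adj g * (adj u' * u') := by simp only [mul_assoc]
      _ = u0 * adj g := by rw [hu', mul_one]
  have hbcomm : (adj g * g) * u0 = u0 * (adj g * g) := by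
    calc (adj g * g) * u0 = adj g * (g * u0) := by rw [mul_assoc]
      _ = (adj g * u') * g := by rw [hg, mul_assoc]
      _ = u0 * (adj g * g) := by rw [h2, mul_assoc]
  have hbmem : adj g * g ∈ Algebra.adjoin F {u0 - 1} := h.mem_iff.mpr hbcomm
  set bA : Algebra.adjoin F {u0 - 1} := ⟨adj g * g, hbmem⟩ with hbA
  have hbσ : h.sigma bA = bA := by
    apply Subtype.ext
    rw [h.sigma_coe]
    show adj (adj g * g) = adj g * g
    rw [adj_mul, adj_adj]
  -- b is invertible
  have hbi : (adj g * g) * (gi * adj gi) = 1 := by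
    calc (adj g * g) * (gi * adj gi) = adj g * (g * gi) * adj gi := by simp only [mul_assoc]
      _ = adj (gi * g) := by rw [hgi, mul_one, adj_mul]
      _ = 1 := by rw [hgi', adj_one]
  have hbi' : (gi * adj gi) * (adj g * g) = 1 := mul_eq_one_comm.mp hbi
  have hεb : ε bA ≠ 0 := by
    intro h0
    have h3 := hε bA
    rw [h0, zero_smul] at h3
    have h4 : x0 (u0 - 1) v0 = 0 := by
      calc x0 (u0 - 1) v0 = ((gi * adj gi) * (adj g * g)) *ᵥ x0 (u0 - 1) v0 := by
            rw [hbi', Matrix.one_mulVec]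
        _ = (gi * adj gi) *ᵥ ((adj g * g) *ᵥ x0 (u0 - 1) v0) := by rw [Matrix.mulVec_mulVec]
        _ = 0 := by
            have : (adj g * g) *ᵥ x0 (u0 - 1) v0 = 0 := h3
            rw [this, Matrix.mulVec_zero]
    exact h.cyc.x0_ne h4
  by_cases hsq : IsSquare (ε bA)
  · -- square case: conjugate to u0
    obtain ⟨t, ht⟩ := hsq
    have ht0 : t ≠ 0 := by
      rintro rfl
      rw [mul_zero] at ht
      exact hεb ht
    obtain ⟨aA, haA⟩ := hD.exists_norm hbσ ht0 ht
    have ha1 : (aA : Matrix (l ⊕ l) (l ⊕ l) F) * adj (aA : Matrix (l ⊕ l) (l ⊕ l) F) = adj g * g := by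
      have := congrArg Subtype.val haA
      rwa [Subalgebra.coe_mul, h.sigma_coe] at this
    have ha2 : adj (aA : Matrix (l ⊕ l) (l ⊕ l) F) * (aA : Matrix (l ⊕ l) (l ⊕ l) F) = adj g * g := by
      have := congrArg Subtype.val ((mul_comm (h.sigma aA) aA).trans haA)
      rwa [Subalgebra.coe_mul, h.sigma_coe] at this
    have hacomm := h.mem_iff.mp aA.2
    have hai : (aA : Matrix (l ⊕ l) (l ⊕ l) F) *
        (adj (aA : Matrix (l ⊕ l) (l ⊕ l) F) * (gi * adj gi)) = 1 := by
      rw [← mul_assoc, ha1, hbi]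
    have := h.conj_of_norm (u' := u') (g := g) (hh := 1) (hi := 1) (a := aA) (c := 1)
      (ai := adj (aA : Matrix (l ⊕ l) (l ⊕ l) F) * (gi * adj gi))
      (one_mul 1) (by rw [adj_one, one_mul, one_smul]) hg hacomm hai (by rw [one_smul, ha2])
    refine ⟨g * (adj (aA : Matrix (l ⊕ l) (l ⊕ l) F) * (gi * adj gi)) * 1, this.1, Or.inl ?_⟩
    have h5 := this.2
    simp only [one_mul, mul_one] at h5 ⊢
    exact h5
  · -- nonsquare case: conjugate to the twisted element
    have hinv : ¬ IsSquare c⁻¹ := by rwa [isSquare_inv]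
    obtain ⟨t, ht⟩ := isSquare_mul_of_not_isSquare hinv hsq
    have ht0 : t ≠ 0 := by
      rintro rfl
      rw [mul_zero] at ht
      rcases mul_eq_zero.mp ht with h0 | h0
      · exact inv_ne_zero hc0 h0
      · exact hεb h0
    have hdσ : h.sigma (c⁻¹ • bA) = c⁻¹ • bA := by rw [map_smul, hbσ]
    have hdε : ε (c⁻¹ • bA) = t * t := by rw [map_smul, smul_eq_mul, ht]
    obtain ⟨aA, haA⟩ := hD.exists_norm hdσ ht0 hdε
    have ha1 : (aA : Matrix (l ⊕ l) (l ⊕ l) F) * adj (aA : Matrix (l ⊕ l) (l ⊕ l) F)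
        = c⁻¹ • (adj g * g) := by
      have := congrArg Subtype.val haA
      rwa [Subalgebra.coe_mul, h.sigma_coe] at this
    have ha2 : adj (aA : Matrix (l ⊕ l) (l ⊕ l) F) * (aA : Matrix (l ⊕ l) (l ⊕ l) F)
        = c⁻¹ • (adj g * g) := by
      have := congrArg Subtype.val ((mul_comm (h.sigma aA) aA).trans haA)
      rwa [Subalgebra.coe_mul, h.sigma_coe] at this
    have hacomm := h.mem_iff.mp aA.2
    have hai : (aA : Matrix (l ⊕ l) (l ⊕ l) F) *
        (adj (aA : Matrix (l ⊕ l) (l ⊕ l) F) * (c • (gi * adj gi))) = 1 := by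
      rw [← mul_assoc, ha1, smul_mul_smul_comm, hbi, inv_mul_cancel₀ hc0, one_smul]
    have := h.conj_of_norm (u' := u') (g := g) (hh := hh) (hi := hi) (a := aA) (c := c)
      (ai := adj (aA : Matrix (l ⊕ l) (l ⊕ l) F) * (c • (gi * adj gi)))
      hhi1 hhi2 hg hacomm hai (by rw [ha2, smul_smul, mul_inv_cancel₀ hc0, one_smul])
    exact ⟨_, this.1, Or.inr this.2⟩

end cases

end Cfsg.Agent.Helper43.SpReg
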