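import Mathlib
import Cfsg.Agent.Helper43.SpRegCls
import Cfsg.Agent.Helper43.SpRegEx

set_option autoImplicit false

namespace Cfsg.Agent.Helper43.SpReg

open Module Matrix

section gen

variable {F : Type*} [Field F] {n : Type*} [Fintype n] [DecidableEq n]

/-- A matrix `A` with `A ^ card = 0` and rank `card - 1` is regular nilpotent. -/
theorem isRegNilp_of_rank (A : Matrix n n F) (hnil : A ^ Fintype.card n = 0)
    (hreg : A.rank = Fintype.card n - 1) : IsRegNilp (Matrix.toLin' A) where
  pow_eq_zero := by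
    rw [Module.finrank_fintype_fun_eq_card, ← Matrix.toLin'_pow, hnil, map_zero]
  ker_le_one := by
    have h := LinearMap.finrank_range_add_finrank_ker (Matrix.toLin' A)
    rw [Module.finrank_fintype_fun_eq_card] at h
    have h2 : finrank F (LinearMap.range (Matrix.toLin' A)) = Fintype.card n - 1 := by
      rw [← hreg, Matrix.rank, Matrix.toLin'_apply']
    omega

/-- Regular nilpotent matrices are conjugate under `GL`. -/
theorem exists_conj_mat {N N' : Matrix n n F} (h : IsRegNilp (Matrix.toLin' N))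
    (h' : IsRegNilp (Matrix.toLin' N')) :
    ∃ g gi : Matrix n n F, g * gi = 1 ∧ g * N = N' * g := by
  obtain ⟨e, he⟩ := h.exists_conj h'
  refine ⟨LinearMap.toMatrix' (e : (n → F) →ₗ[F] (n → F)),
    LinearMap.toMatrix' (e.symm : (n → F) →ₗ[F] (n → F)), ?_, ?_⟩
  · rw [← LinearMap.toMatrix'_comp, ← LinearMap.toMatrix'_id]
    congr 1
    ext x : 1
    simp
  · apply (Matrix.toLin' (R := F)).injective
    rw [Matrix.toLin'_mul, Matrix.toLin'_mul, Matrix.toLin'_toMatrix']
    exact LinearMap.ext (fun x => he x)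

/-- Conjugation preserves nilpotency index and rank. -/
theorem conj_pow_rank {A g gi : Matrix n n F} (hg : g * gi = 1) (d r : ℕ) (hnil : A ^ d = 0)
    (hrank : A.rank = r) : (g * A * gi) ^ d = 0 ∧ (g * A * gi).rank = r := by
  have hgi : gi * g = 1 := mul_eq_one_comm.mp hg
  have hdet : IsUnit g.det := by
    have := congrArg Matrix.det hg
    rw [Matrix.det_mul, Matrix.det_one] at this
    exact IsUnit.of_mul_eq_one _ this
  have hdet' : IsUnit gi.det := by
    have := congrArg Matrix.det hgi
    rw [Matrix.det_mul, Matrix.det_one] at this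
    exact IsUnit.of_mul_eq_one _ this
  constructor
  · have hpow : ∀ j : ℕ, (g * A * gi) ^ j = g * A ^ j * gi := by
      intro j
      induction j with
      | zero => rw [pow_zero, pow_zero, mul_one, hg]
      | succ j ih =>
        rw [pow_succ, ih, pow_succ]
        calc g * A ^ j * gi * (g * A * gi) = g * A ^ j * (gi * g) * A * gi := by
              simp only [mul_assoc]
          _ = g * (A ^ j * A) * gi := by rw [hgi, mul_one]; simp only [mul_assoc]
    rw [hpow, hnil, mul_zero, zero_mul]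
  · rw [Matrix.rank_mul_eq_left_of_isUnit_det _ _ hdet',
      Matrix.rank_mul_eq_right_of_isUnit_det _ _ hdet, hrank]

theorem commute_sub_one_iff' {g u u' : Matrix n n F} :
    g * (u - 1) = (u' - 1) * g ↔ g * u = u' * g := by
  rw [mul_sub, sub_mul, mul_one, one_mul, sub_left_inj]

end gen

section simil

variable {F : Type*} [Field F] {l : Type*} [Fintype l] [DecidableEq l]

/-- The similitude with multiplier `c`. -/
def simil (c : F) : Matrix (l ⊕ l) (l ⊕ l) F := fromBlocks (c • (1 : Matrix l l F)) 0 0 1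

theorem simil_mul (c d : F) : (simil c : Matrix (l ⊕ l) (l ⊕ l) F) * simil d = simil (c * d) := by
  unfold simil
  rw [fromBlocks_multiply]
  simp [smul_smul, mul_comm]

theorem simil_one : (simil 1 : Matrix (l ⊕ l) (l ⊕ l) F) = 1 := by
  unfold simil
  rw [one_smul, fromBlocks_one]

theorem simil_inv_mul {c : F} (hc : c ≠ 0) :
    (simil c⁻¹ : Matrix (l ⊕ l) (l ⊕ l) F) * simil c = 1 := by
  rw [simil_mul, inv_mul_cancel₀ hc, simil_one]

theorem adj_simil (c : F) :
    adj (simil c : Matrix (l ⊕ l) (l ⊕ l) F) = fromBlocks 1 0 0 (c • (1 : Matrix l l F)) := by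
  unfold adj simil Matrix.J
  rw [fromBlocks_transpose, fromBlocks_neg, fromBlocks_multiply, fromBlocks_multiply]
  simp

theorem adj_simil_mul (c : F) :
    adj (simil c : Matrix (l ⊕ l) (l ⊕ l) F) * simil c = c • 1 := by
  rw [adj_simil]
  unfold simil
  rw [fromBlocks_multiply, ← fromBlocks_one, fromBlocks_smul]
  simp

theorem simil_hhi2 {c : F} (hc : c ≠ 0) :
    c • (adj (simil c⁻¹ : Matrix (l ⊕ l) (l ⊕ l) F) * simil c⁻¹) = 1 := by
  rw [adj_simil_mul, smul_smul, mul_inv_cancel₀ hc, one_smul]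

/-- The twisted conjugate is symplectic. -/
theorem adj_conj_simil {u0 : Matrix (l ⊕ l) (l ⊕ l) F} (hu0 : adj u0 * u0 = 1) {c : F}
    (hc : c ≠ 0) :
    adj (simil c * u0 * simil c⁻¹) * (simil c * u0 * simil c⁻¹) = 1 := by
  have h1 : (simil c⁻¹ : Matrix (l ⊕ l) (l ⊕ l) F) * simil c = 1 := simil_inv_mul hc
  have h2 : adj (simil c : Matrix (l ⊕ l) (l ⊕ l) F) * simil c = c • 1 := adj_simil_mul c
  have h3 : adj (simil c⁻¹ : Matrix (l ⊕ l) (l ⊕ l) F) * simil c⁻¹ = c⁻¹ • 1 := adj_simil_mul c⁻¹
  calc adj (simil c * u0 * simil c⁻¹) * (simil c * u0 * simil c⁻¹)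
      = adj (simil c⁻¹) * (adj u0 * (adj (simil c) * simil c) * u0) * simil c⁻¹ := by
        rw [adj_mul, adj_mul]; simp only [mul_assoc]
    _ = c • (adj (simil c⁻¹) * (adj u0 * u0) * simil c⁻¹) := by
        rw [h2]; simp only [mul_smul_comm, smul_mul_assoc, mul_one]
    _ = 1 := by rw [hu0, mul_one, h3, smul_smul, mul_inv_cancel₀ hc, one_smul]

end simil

end Cfsg.Agent.Helper43.SpReg
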