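import Cfsg.Agent.Helper43.G2Rel

set_option autoImplicit false

namespace Cfsg.Agent.Helper43.G2S

open Matrix Cfsg.Lie

variable {F : Type*} [Field F]

/-- `SL₂(F)` -/
abbrev SL2 (F : Type*) [Field F] := Matrix.SpecialLinearGroup (Fin 2) F

theorem mem_G2_iff (g : GL (Fin 8) F) :
    g ∈ G2 F ↔ ∀ x y, g.1 *ᵥ zornMul x y = zornMul (g.1 *ᵥ x) (g.1 *ᵥ y) := Iff.rfl

/-- `Φ(B)` as a unit -/
def phiU (B : SL2 F) : GL (Fin 8) F where
  val := PhiM B.1
  inv := PhiM (B⁻¹).1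
  val_inv := by
    rw [← PhiM_mul, ← Matrix.SpecialLinearGroup.coe_mul, mul_inv_cancel,
      Matrix.SpecialLinearGroup.coe_one, PhiM_one]
  inv_val := by
    rw [← PhiM_mul, ← Matrix.SpecialLinearGroup.coe_mul, inv_mul_cancel,
      Matrix.SpecialLinearGroup.coe_one, PhiM_one]

/-- `Ψ(p)` as a unit -/
def psiU (p : SL2 F) : GL (Fin 8) F where
  val := PsiM p.1
  inv := PsiM (p⁻¹).1
  val_inv := by
    rw [← PsiM_mul, ← Matrix.SpecialLinearGroup.coe_mul, mul_inv_cancel,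
      Matrix.SpecialLinearGroup.coe_one, PsiM_one]
  inv_val := by
    rw [← PsiM_mul, ← Matrix.SpecialLinearGroup.coe_mul, inv_mul_cancel,
      Matrix.SpecialLinearGroup.coe_one, PsiM_one]

/-- `t_ν` as a unit -/
def tU (ν : F) (hν : ν ≠ 0) : GL (Fin 8) F where
  val := TM ν
  inv := TM ν
  val_inv := TM_sq ν hν
  inv_val := TM_sq ν hν

/-- the long root `SL₂` -/
def phi : SL2 F →* G2 F where
  toFun B := ⟨phiU B, (mem_G2_iff _).2 (PhiM_aut B.1 B.2)⟩
  map_one' := by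
    apply Subtype.ext
    apply Units.ext
    exact PhiM_one
  map_mul' B B' := by
    apply Subtype.ext
    apply Units.ext
    exact PhiM_mul B.1 B'.1

/-- the short root `SL₂` -/
def psi : SL2 F →* G2 F where
  toFun p := ⟨psiU p, (mem_G2_iff _).2 (PsiM_aut p.1 p.2)⟩
  map_one' := by
    apply Subtype.ext
    apply Units.ext
    exact PsiM_one
  map_mul' p p' := by
    apply Subtype.ext
    apply Units.ext
    exact PsiM_mul p.1 p'.1

/-- the involution `t_ν` in `G₂(F)` -/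
def tEl (ν : F) (hν : ν ≠ 0) : G2 F := ⟨tU ν hν, (mem_G2_iff _).2 (TM_aut ν hν)⟩

/-- the central involution of the centralizer -/
def z0 : G2 F := phi (-1)

@[simp] theorem coe_phi (B : SL2 F) : ((phi B : G2 F) : GL (Fin 8) F).1 = PhiM B.1 := rfl
@[simp] theorem coe_psi (p : SL2 F) : ((psi p : G2 F) : GL (Fin 8) F).1 = PsiM p.1 := rfl
@[simp] theorem coe_tEl (ν : F) (hν : ν ≠ 0) : ((tEl ν hν : G2 F) : GL (Fin 8) F).1 = TM ν := rfl
theorem coe_z0 : ((z0 : G2 F) : GL (Fin 8) F).1 = Z0M := by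
  unfold z0
  rw [coe_phi]
  exact PhiM_neg_one

/-- equality in `G₂(F)` is equality of matrices -/
theorem G2_ext {g h : G2 F} (H : (g : GL (Fin 8) F).1 = (h : GL (Fin 8) F).1) : g = h :=
  Subtype.ext (Units.ext H)

theorem coe_mul_G2 (g h : G2 F) :
    ((g * h : G2 F) : GL (Fin 8) F).1 = (g : GL (Fin 8) F).1 * (h : GL (Fin 8) F).1 := rfl

theorem phi_psi_comm (B p : SL2 F) : Commute (phi B : G2 F) (psi p) := by
  apply G2_ext
  exact PhiM_PsiM_comm B.1 p.1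

/-- `(B, p) ↦ Φ(B) Ψ(p)` -/
def mHom : SL2 F × SL2 F →* G2 F := MonoidHom.noncommCoprod phi psi phi_psi_comm

theorem mHom_apply (B p : SL2 F) : mHom (B, p) = phi B * psi p := rfl

/-- conjugation by `b₀ ν` on `SL₂(F)` -/
def tau (ν : F) (hν : ν ≠ 0) : SL2 F →* SL2 F where
  toFun B := ⟨cjM ν B.1, by rw [det_cjM ν hν, B.2]⟩
  map_one' := by
    apply Subtype.ext
    exact cjM_one ν
  map_mul' B B' := by
    apply Subtype.ext
    exact cjM_mul ν hν B.1 B'.1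

@[simp] theorem coe_tau (ν : F) (hν : ν ≠ 0) (B : SL2 F) : (tau ν hν B).1 = cjM ν B.1 := rfl

theorem tEl_mul_self (ν : F) (hν : ν ≠ 0) : tEl ν hν * tEl ν hν = 1 := by
  apply G2_ext
  exact TM_sq ν hν

theorem tEl_inv (ν : F) (hν : ν ≠ 0) : (tEl ν hν)⁻¹ = tEl ν hν :=
  inv_eq_of_mul_eq_one_left (tEl_mul_self ν hν)

theorem tEl_mul_phi (ν : F) (hν : ν ≠ 0) (B : SL2 F) :
    tEl ν hν * phi B = phi (tau ν hν B) * tEl ν hν := by
  apply G2_ext
  exact TM_PhiM ν hν B.1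

theorem tEl_mul_psi (ν : F) (hν : ν ≠ 0) (p : SL2 F) :
    tEl ν hν * psi p = psi (tau ν hν p) * tEl ν hν := by
  apply G2_ext
  exact TM_PsiM ν hν p.1

theorem tEl_conj_mHom (ν : F) (hν : ν ≠ 0) (B p : SL2 F) :
    tEl ν hν * mHom (B, p) * (tEl ν hν)⁻¹ = mHom (tau ν hν B, tau ν hν p) := by
  rw [mHom_apply, mHom_apply, ← mul_assoc, tEl_mul_phi, mul_assoc (phi _), tEl_mul_psi,
    mul_assoc, mul_assoc, mul_inv_cancel, mul_one]

theorem mHom_neg_one_left : mHom ((-1 : SL2 F), (1 : SL2 F)) = z0 := by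
  rw [mHom_apply, map_one, mul_one]
  rfl

theorem psi_neg_one : psi (-1 : SL2 F) = z0 := by
  apply G2_ext
  rw [coe_z0, coe_psi]
  exact PsiM_neg_one

end Cfsg.Agent.Helper43.G2S
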