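import Mathlib

set_option autoImplicit false

namespace Cfsg.Agent.Helper43

open Polynomial

variable {F : Type*} [Field F]

/-- The "top coefficient" functional on `F[X] / (g)` for monic `g`. -/
noncomputable def topCoeff (g : F[X]) (hg : g.Monic) (z : F[X] ⧸ Submodule.span F[X] {g}) : F :=
  (AdjoinRoot.modByMonicHom hg z).coeff (g.natDegree - 1)

theorem topCoeff_mk (g : F[X]) (hg : g.Monic) (r : F[X]) :
    topCoeff g hg (Submodule.Quotient.mk r) = (r %ₘ g).coeff (g.natDegree - 1) := by
  unfold topCoeff
  have : (Submodule.Quotient.mk r : F[X] ⧸ Submodule.span F[X] {g}) = AdjoinRoot.mk g r := rfl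
  rw [this, AdjoinRoot.modByMonicHom_mk]

theorem topCoeff_add (g : F[X]) (hg : g.Monic) (y z : F[X] ⧸ Submodule.span F[X] {g}) :
    topCoeff g hg (y + z) = topCoeff g hg y + topCoeff g hg z := by
  induction y using Submodule.Quotient.induction_on with
  | H r =>
    induction z using Submodule.Quotient.induction_on with
    | H s =>
      rw [← Submodule.Quotient.mk_add, topCoeff_mk, topCoeff_mk, topCoeff_mk, Polynomial.add_modByMonic,
        Polynomial.coeff_add]

theorem topCoeff_C_smul (g : F[X]) (hg : g.Monic) (a : F) (z : F[X] ⧸ Submodule.span F[X] {g}) :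
    topCoeff g hg (C a • z) = a * topCoeff g hg z := by
  induction z using Submodule.Quotient.induction_on with
  | H s =>
    rw [← Submodule.Quotient.mk_smul, topCoeff_mk, topCoeff_mk, smul_eq_mul, ← Polynomial.smul_eq_C_mul,
      Polynomial.smul_modByMonic, Polynomial.coeff_smul, smul_eq_mul]

/-- The multiplication form `β(b,c) = topCoeff (b c)` on `F[X]/(g)`. -/
noncomputable def cycForm (g : F[X]) (hg : g.Monic) (b c : F[X] ⧸ Submodule.span F[X] {g}) : F :=
  topCoeff g hg (b * c)

theorem cycForm_add_left (g : F[X]) (hg : g.Monic) (b b' c : F[X] ⧸ Submodule.span F[X] {g}) :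
    cycForm g hg (b + b') c = cycForm g hg b c + cycForm g hg b' c := by
  unfold cycForm; rw [add_mul, topCoeff_add]

theorem cycForm_add_right (g : F[X]) (hg : g.Monic) (b c c' : F[X] ⧸ Submodule.span F[X] {g}) :
    cycForm g hg b (c + c') = cycForm g hg b c + cycForm g hg b c' := by
  unfold cycForm; rw [mul_add, topCoeff_add]

theorem cycForm_smul_comm (g : F[X]) (hg : g.Monic) (p : F[X]) (b c : F[X] ⧸ Submodule.span F[X] {g}) :
    cycForm g hg (p • b) c = cycForm g hg b (p • c) := by
  unfold cycForm; rw [smul_mul_assoc, mul_smul_comm]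

theorem cycForm_C_smul_left (g : F[X]) (hg : g.Monic) (a : F) (b c : F[X] ⧸ Submodule.span F[X] {g}) :
    cycForm g hg (C a • b) c = a * cycForm g hg b c := by
  unfold cycForm; rw [smul_mul_assoc, topCoeff_C_smul]

theorem cycForm_nondeg (g : F[X]) (hg : g.Monic) (b : F[X] ⧸ Submodule.span F[X] {g})
    (hb : ∀ c, cycForm g hg b c = 0) : b = 0 := by
  induction b using Submodule.Quotient.induction_on with
  | H r =>
    by_contra hne
    -- reduce r modulo g
    set r' := r %ₘ g with hr'
    have hmk : (Submodule.Quotient.mk r : F[X] ⧸ Submodule.span F[X] {g}) = Submodule.Quotient.mk r' := by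
      rw [Submodule.Quotient.eq, Submodule.mem_span_singleton]
      refine ⟨r /ₘ g, ?_⟩
      have := Polynomial.modByMonic_add_div r g
      rw [smul_eq_mul, mul_comm]
      linear_combination this
    have hr'0 : r' ≠ 0 := by
      intro h
      apply hne
      rw [hmk, h]
      rfl
    have hg1 : g ≠ 1 := by
      intro h
      apply hr'0
      rw [hr', h, Polynomial.modByMonic_one]
    have hdeg : r'.degree < g.degree := Polynomial.degree_modByMonic_lt r hg
    have hnat : r'.natDegree < g.natDegree := Polynomial.natDegree_lt_natDegree hr'0 hdeg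
    have h := hb (Submodule.Quotient.mk (X ^ (g.natDegree - 1 - r'.natDegree)))
    unfold cycForm at h
    rw [hmk] at h
    have hmul : (Submodule.Quotient.mk r' : F[X] ⧸ Submodule.span F[X] {g})
        * Submodule.Quotient.mk (X ^ (g.natDegree - 1 - r'.natDegree))
        = Submodule.Quotient.mk (r' * X ^ (g.natDegree - 1 - r'.natDegree)) := rfl
    rw [hmul, topCoeff_mk] at h
    have hself : (r' * X ^ (g.natDegree - 1 - r'.natDegree)) %ₘ g
        = r' * X ^ (g.natDegree - 1 - r'.natDegree) := by
      rw [Polynomial.modByMonic_eq_self_iff hg]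
      rw [Polynomial.degree_mul, Polynomial.degree_X_pow, Polynomial.degree_eq_natDegree hr'0,
        Polynomial.degree_eq_natDegree hg.ne_zero]
      have : r'.natDegree + (g.natDegree - 1 - r'.natDegree) < g.natDegree := by omega
      exact_mod_cast this
    rw [hself] at h
    set j := g.natDegree - 1 - r'.natDegree with hj
    have hidx : g.natDegree - 1 = r'.natDegree + j := by omega
    rw [hidx, Polynomial.coeff_mul_X_pow] at h
    exact hr'0 (Polynomial.leadingCoeff_eq_zero.mp h)

/-- Cyclic case: on `F[X]/(g)`, `g ≠ 0`, there is a nondegenerate "bilinear" form for which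
multiplication by any polynomial is self-adjoint. -/
theorem exists_cyclic_form (g : F[X]) (hg0 : g ≠ 0) :
    ∃ β : (F[X] ⧸ Submodule.span F[X] {g}) → (F[X] ⧸ Submodule.span F[X] {g}) → F,
      (∀ b b' c, β (b + b') c = β b c + β b' c) ∧
      (∀ b c c', β b (c + c') = β b c + β b c') ∧
      (∀ (p : F[X]) b c, β (p • b) c = β b (p • c)) ∧
      (∀ (a : F) b c, β (C a • b) c = a * β b c) ∧
      (∀ b, (∀ c, β b c = 0) → b = 0) := by
  -- normalise g to a monic polynomial generating the same ideal
  set g' := g * C (g.leadingCoeff)⁻¹ with hg'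
  have hmonic : g'.Monic := Polynomial.monic_mul_leadingCoeff_inv hg0
  have hspan : Submodule.span F[X] {g} = Submodule.span F[X] {g'} := by
    have hu : IsUnit (C (g.leadingCoeff)⁻¹ : F[X]) := by
      rw [Polynomial.isUnit_C]
      exact (inv_ne_zero (Polynomial.leadingCoeff_ne_zero.mpr hg0)).isUnit
    have : Associated g g' := ⟨hu.unit, by rw [hg']; rfl⟩
    exact (Ideal.span_singleton_eq_span_singleton.mpr this)
  rw [hspan]
  exact ⟨cycForm g' hmonic, cycForm_add_left g' hmonic, cycForm_add_right g' hmonic,
    cycForm_smul_comm g' hmonic, cycForm_C_smul_left g' hmonic, cycForm_nondeg g' hmonic⟩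

end Cfsg.Agent.Helper43
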