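import Mathlib

set_option autoImplicit false

namespace Cfsg.Agent.Helper43

namespace EvenWt

section General

variable {ι : Type*} [Fintype ι]

/-- Hamming weight of a vector over `𝔽₂`. -/
def wt (x : ι → ZMod 2) : ℕ := ∑ i, (x i).val

/-- Size of the intersection of the supports. -/
def ip (x y : ι → ZMod 2) : ℕ := ∑ i, (x i).val * (y i).val

theorem val_add_z2 (a b : ZMod 2) : (a + b).val + 2 * (a.val * b.val) = a.val + b.val := by
  revert a b; decide

theorem val_add_one_z2 (a : ZMod 2) : (a + 1).val + a.val = 1 := by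
  revert a; decide

theorem val_mul_z2 (a b : ZMod 2) : ((a.val * b.val : ℕ) : ZMod 2) = a * b := by
  revert a b; decide

theorem wt_add (x y : ι → ZMod 2) : wt (x + y) + 2 * ip x y = wt x + wt y := by
  unfold wt ip
  rw [Finset.mul_sum, ← Finset.sum_add_distrib, ← Finset.sum_add_distrib]
  exact Finset.sum_congr rfl (fun i _ => val_add_z2 _ _)

theorem wt_perm (σ : Equiv.Perm ι) (x : ι → ZMod 2) : wt (fun i => x (σ i)) = wt x :=
  Equiv.sum_comp σ (fun i => (x i).val)

theorem cast_wt (x : ι → ZMod 2) : ((wt x : ℕ) : ZMod 2) = ∑ i, x i := by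
  unfold wt
  rw [Nat.cast_sum]
  exact Finset.sum_congr rfl (fun i _ => ZMod.natCast_zmod_val (x i))

theorem cast_ip (x y : ι → ZMod 2) : ((ip x y : ℕ) : ZMod 2) = x ⬝ᵥ y := by
  unfold ip dotProduct
  rw [Nat.cast_sum]
  exact Finset.sum_congr rfl (fun i _ => val_mul_z2 _ _)

theorem even_wt_iff (x : ι → ZMod 2) : Even (wt x) ↔ ∑ i, x i = 0 := by
  rw [← cast_wt, ZMod.natCast_eq_zero_iff_even]

theorem wt_add_one (x : ι → ZMod 2) : wt (x + 1) + wt x = Fintype.card ι := by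
  unfold wt
  rw [← Finset.sum_add_distrib]
  have : ∀ i ∈ (Finset.univ : Finset ι), ((x + 1) i).val + (x i).val = 1 :=
    fun i _ => val_add_one_z2 (x i)
  rw [Finset.sum_congr rfl this]
  simp

/-- The quadratic form "half the weight mod 2" (meaningful on even-weight vectors). -/
def QE (x : ι → ZMod 2) : ZMod 2 := ((wt x / 2 : ℕ) : ZMod 2)

theorem QE_add (x y : ι → ZMod 2) (hx : Even (wt x)) (hy : Even (wt y)) :
    QE (x + y) = QE x + QE y + x ⬝ᵥ y := by
  obtain ⟨a, ha⟩ := hx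
  obtain ⟨b, hb⟩ := hy
  have h := wt_add x y
  have h1 : wt (x + y) / 2 + ip x y = a + b := by omega
  unfold QE
  rw [← cast_ip]
  have ha' : wt x / 2 = a := by omega
  have hb' : wt y / 2 = b := by omega
  rw [ha', hb']
  have h2 : ((wt (x + y) / 2 : ℕ) : ZMod 2) + ((ip x y : ℕ) : ZMod 2) = (a : ZMod 2) + (b : ZMod 2) := by
    rw [← Nat.cast_add, h1, Nat.cast_add]
  have h3 : ((ip x y : ℕ) : ZMod 2) + ((ip x y : ℕ) : ZMod 2) = 0 := CharTwo.add_self_eq_zero _
  linear_combination h2 - h3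

theorem even_wt_add (x y : ι → ZMod 2) (hx : Even (wt x)) (hy : Even (wt y)) : Even (wt (x + y)) := by
  rw [even_wt_iff] at hx hy ⊢
  simp only [Pi.add_apply, Finset.sum_add_distrib, hx, hy, add_zero]

theorem QE_add_one (t : ℕ) (hc : Fintype.card ι = 4 * t) (x : ι → ZMod 2) (hx : Even (wt x)) :
    QE (x + 1) = QE x := by
  obtain ⟨a, ha⟩ := hx
  have h := wt_add_one x
  unfold QE
  have h1 : wt (x + 1) / 2 + wt x / 2 = 2 * t := by omega
  have h2 : ((wt (x + 1) / 2 : ℕ) : ZMod 2) + ((wt x / 2 : ℕ) : ZMod 2) = 0 := by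
    rw [← Nat.cast_add, h1, Nat.cast_mul]
    have : ((2 : ℕ) : ZMod 2) = 0 := by decide
    rw [this, zero_mul]
  have h3 : ((wt x / 2 : ℕ) : ZMod 2) + ((wt x / 2 : ℕ) : ZMod 2) = 0 := CharTwo.add_self_eq_zero _
  linear_combination h2 - h3

theorem QE_perm (σ : Equiv.Perm ι) (x : ι → ZMod 2) : QE (fun i => x (σ i)) = QE x := by
  unfold QE; rw [wt_perm]

end General

section GaussSum

/-- `(-1)^(w/2)` on even numbers, zero on odd numbers. -/
def aCoef (w : ℕ) : ℤ := if Even w then (-1) ^ (w / 2) else 0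

/-- `(-1)^((w-1)/2)` on odd numbers, zero on even numbers. -/
def bCoef (w : ℕ) : ℤ := if Even w then 0 else (-1) ^ (w / 2)

theorem aCoef_succ (w : ℕ) : aCoef (w + 1) = - bCoef w := by
  unfold aCoef bCoef
  by_cases hw : Even w
  · have : ¬ Even (w + 1) := by
      rw [Nat.even_add_one]; exact not_not.mpr hw
    rw [if_neg this, if_pos hw, neg_zero]
  · have h1 : Even (w + 1) := by rw [Nat.even_add_one]; exact hw
    rw [if_pos h1, if_neg hw]
    have : (w + 1) / 2 = w / 2 + 1 := by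
      rw [Nat.not_even_iff_odd] at hw
      obtain ⟨c, hc⟩ := hw
      omega
    rw [this, pow_succ]
    ring

theorem bCoef_succ (w : ℕ) : bCoef (w + 1) = aCoef w := by
  unfold aCoef bCoef
  by_cases hw : Even w
  · have : ¬ Even (w + 1) := by
      rw [Nat.even_add_one]; exact not_not.mpr hw
    rw [if_neg this, if_pos hw]
    have : (w + 1) / 2 = w / 2 := by
      obtain ⟨c, hc⟩ := hw
      omega
    rw [this]
  · have h1 : Even (w + 1) := by rw [Nat.even_add_one]; exact hw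
    rw [if_pos h1, if_neg hw]

/-- `Σ_x a(wt x)` over all of `𝔽₂ⁿ`. -/
def SA (n : ℕ) : ℤ := ∑ x : Fin n → ZMod 2, aCoef (wt x)

/-- `Σ_x b(wt x)` over all of `𝔽₂ⁿ`. -/
def SB (n : ℕ) : ℤ := ∑ x : Fin n → ZMod 2, bCoef (wt x)

theorem wt_cons (n : ℕ) (a : ZMod 2) (x : Fin n → ZMod 2) :
    wt (Fin.cons a x : Fin (n + 1) → ZMod 2) = a.val + wt x := by
  unfold wt
  rw [Fin.sum_univ_succ]
  simp

theorem sum_succ (n : ℕ) (f : (Fin (n + 1) → ZMod 2) → ℤ) :
    ∑ x : Fin (n + 1) → ZMod 2, f x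
      = ∑ x : Fin n → ZMod 2, (f (Fin.cons 0 x) + f (Fin.cons 1 x)) := by
  rw [← (Fin.consEquiv (fun _ : Fin (n + 1) => ZMod 2)).sum_comp, Fintype.sum_prod_type,
    Finset.sum_comm]
  apply Finset.sum_congr rfl
  intro x _
  have : (Finset.univ : Finset (ZMod 2)) = {0, 1} := by decide
  rw [this, Finset.sum_pair (by decide)]
  rfl

theorem SA_succ (n : ℕ) : SA (n + 1) = SA n - SB n := by
  unfold SA SB
  rw [sum_succ, ← Finset.sum_sub_distrib]
  apply Finset.sum_congr rfl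
  intro x _
  rw [wt_cons, wt_cons]
  have h0 : (0 : ZMod 2).val = 0 := rfl
  have h1 : (1 : ZMod 2).val = 1 := rfl
  rw [h0, h1, zero_add, add_comm 1 (wt x), aCoef_succ]
  ring

theorem SB_succ (n : ℕ) : SB (n + 1) = SB n + SA n := by
  unfold SA SB
  rw [sum_succ, ← Finset.sum_add_distrib]
  apply Finset.sum_congr rfl
  intro x _
  rw [wt_cons, wt_cons]
  have h0 : (0 : ZMod 2).val = 0 := rfl
  have h1 : (1 : ZMod 2).val = 1 := rfl
  rw [h0, h1, zero_add, add_comm 1 (wt x), bCoef_succ]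

theorem SA_zero : SA 0 = 1 := by
  unfold SA
  rw [Fintype.sum_unique]
  unfold aCoef wt
  simp

theorem SB_zero : SB 0 = 0 := by
  unfold SB
  rw [Fintype.sum_unique]
  unfold bCoef wt
  simp

theorem SA_SB_four (j : ℕ) : SA (4 * j) = (-4) ^ j ∧ SB (4 * j) = 0 := by
  induction j with
  | zero => exact ⟨by rw [Nat.mul_zero, SA_zero, pow_zero], by rw [Nat.mul_zero, SB_zero]⟩
  | succ j ih =>
    have e : 4 * (j + 1) = 4 * j + 1 + 1 + 1 + 1 := by ring
    rw [e]
    simp only [SA_succ, SB_succ]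
    rw [ih.1, ih.2, pow_succ]
    constructor <;> ring

end GaussSum

end EvenWt

end Cfsg.Agent.Helper43
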