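import Mathlib
import Cfsg.Prelude.Def_Classical

set_option autoImplicit false

namespace Cfsg.Agent.Helper43

/-- The polar form of the plus-type quadratic form, written out. -/
def polarPlus (m : ℕ) (F : Type*) [Field F] (u v : Fin m ⊕ Fin m → F) : F :=
  ∑ i : Fin m, (u (.inl i) * v (.inr i) + v (.inl i) * u (.inr i))

theorem quadFormPlus_polar (m : ℕ) (F : Type*) [Field F] (u v : Fin m ⊕ Fin m → F) :
    Cfsg.quadFormPlus m F (u + v) - Cfsg.quadFormPlus m F u - Cfsg.quadFormPlus m F v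
      = polarPlus m F u v := by
  unfold Cfsg.quadFormPlus polarPlus
  rw [← Finset.sum_sub_distrib, ← Finset.sum_sub_distrib]
  apply Finset.sum_congr rfl
  intro i _
  simp only [Pi.add_apply]
  ring

theorem polarPlus_add_left (m : ℕ) (F : Type*) [Field F] (u u' v : Fin m ⊕ Fin m → F) :
    polarPlus m F (u + u') v = polarPlus m F u v + polarPlus m F u' v := by
  unfold polarPlus
  rw [← Finset.sum_add_distrib]
  apply Finset.sum_congr rfl
  intro i _
  simp only [Pi.add_apply]
  ring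

theorem polarPlus_comm (m : ℕ) (F : Type*) [Field F] (u v : Fin m ⊕ Fin m → F) :
    polarPlus m F u v = polarPlus m F v u := by
  unfold polarPlus
  apply Finset.sum_congr rfl
  intro i _
  ring

theorem polarPlus_add_right (m : ℕ) (F : Type*) [Field F] (u v v' : Fin m ⊕ Fin m → F) :
    polarPlus m F u (v + v') = polarPlus m F u v + polarPlus m F u v' := by
  rw [polarPlus_comm, polarPlus_add_left, polarPlus_comm m F v u, polarPlus_comm m F v' u]

theorem polarPlus_smul_left (m : ℕ) (F : Type*) [Field F] (c : F) (u v : Fin m ⊕ Fin m → F) :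
    polarPlus m F (c • u) v = c * polarPlus m F u v := by
  unfold polarPlus
  rw [Finset.mul_sum]
  apply Finset.sum_congr rfl
  intro i _
  simp only [Pi.smul_apply, smul_eq_mul]
  ring

theorem polarPlus_self (m : ℕ) (F : Type*) [Field F] [CharP F 2] (u : Fin m ⊕ Fin m → F) :
    polarPlus m F u u = 0 := by
  unfold polarPlus
  apply Finset.sum_eq_zero
  intro i _
  exact CharTwo.add_self_eq_zero _

theorem polarPlus_single_inl (m : ℕ) (F : Type*) [Field F] (i : Fin m) (v : Fin m ⊕ Fin m → F) :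
    polarPlus m F (Pi.single (.inl i) 1) v = v (.inr i) := by
  unfold polarPlus
  rw [Finset.sum_eq_single i]
  · simp
  · intro j _ hji
    have : (Sum.inl j : Fin m ⊕ Fin m) ≠ Sum.inl i := by
      intro h; exact hji (Sum.inl.inj h)
    simp [this]
  · intro h; exact absurd (Finset.mem_univ i) h

theorem polarPlus_single_inr (m : ℕ) (F : Type*) [Field F] (i : Fin m) (v : Fin m ⊕ Fin m → F) :
    polarPlus m F (Pi.single (.inr i) 1) v = v (.inl i) := by
  unfold polarPlus
  rw [Finset.sum_eq_single i]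
  · simp
  · intro j _ hji
    have : (Sum.inr j : Fin m ⊕ Fin m) ≠ Sum.inr i := by
      intro h; exact hji (Sum.inr.inj h)
    simp [this]
  · intro h; exact absurd (Finset.mem_univ i) h

/-- Nondegeneracy: a nonzero vector has a partner with nonzero polar value. -/
theorem polarPlus_exists_ne_zero (m : ℕ) (F : Type*) [Field F] (s : Fin m ⊕ Fin m → F) (hs : s ≠ 0) :
    ∃ u, polarPlus m F u s ≠ 0 := by
  have : ∃ j, s j ≠ 0 := by
    by_contra h
    push_neg at h
    exact hs (funext h)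
  obtain ⟨j, hj⟩ := this
  rcases j with i | i
  · exact ⟨Pi.single (.inr i) 1, by rw [polarPlus_single_inr]; exact hj⟩
  · exact ⟨Pi.single (.inl i) 1, by rw [polarPlus_single_inl]; exact hj⟩

/-- The sign character of `ZMod 2`. -/
def sgn2 (a : ZMod 2) : ℤ := if a = 0 then 1 else -1

theorem sgn2_add (a b : ZMod 2) : sgn2 (a + b) = sgn2 a * sgn2 b := by
  revert a b; decide

theorem sgn2_zero : sgn2 0 = 1 := rfl
theorem sgn2_one : sgn2 1 = -1 := rfl

theorem zmod2_cases (a : ZMod 2) : a = 0 ∨ a = 1 := by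
  revert a; decide

end Cfsg.Agent.Helper43

namespace Cfsg.Agent.Helper43

theorem sum_sgn2_polar_eq_zero (m : ℕ) (s : Fin m ⊕ Fin m → ZMod 2) (hs : s ≠ 0) :
    ∑ u : Fin m ⊕ Fin m → ZMod 2, sgn2 (polarPlus m (ZMod 2) u s) = 0 := by
  obtain ⟨u0, hu0⟩ := polarPlus_exists_ne_zero m (ZMod 2) s hs
  have h1 : polarPlus m (ZMod 2) u0 s = 1 := by
    rcases zmod2_cases (polarPlus m (ZMod 2) u0 s) with h | h
    · exact absurd h hu0
    · exact h
  have h2 : ∑ u : Fin m ⊕ Fin m → ZMod 2, sgn2 (polarPlus m (ZMod 2) u s)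
      = ∑ u : Fin m ⊕ Fin m → ZMod 2, sgn2 (polarPlus m (ZMod 2) (u + u0) s) :=
    (Fintype.sum_equiv (Equiv.addRight u0) _ _ (fun u => rfl)).symm
  have h3 : ∑ u : Fin m ⊕ Fin m → ZMod 2, sgn2 (polarPlus m (ZMod 2) (u + u0) s)
      = - ∑ u : Fin m ⊕ Fin m → ZMod 2, sgn2 (polarPlus m (ZMod 2) u s) := by
    rw [← Finset.sum_neg_distrib]
    apply Finset.sum_congr rfl
    intro u _
    rw [polarPlus_add_left, h1, sgn2_add, sgn2_one]
    ring
  omega

/-- A function `q` on `F₂^{2m}` polarizing to the standard alternating form. -/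
def PolarizesPlus (m : ℕ) (q : (Fin m ⊕ Fin m → ZMod 2) → ZMod 2) : Prop :=
  ∀ u v, q (u + v) = q u + q v + polarPlus m (ZMod 2) u v

theorem PolarizesPlus.map_zero {m : ℕ} {q : (Fin m ⊕ Fin m → ZMod 2) → ZMod 2}
    (hq : PolarizesPlus m q) : q 0 = 0 := by
  have h := hq 0 0
  have h0 : polarPlus m (ZMod 2) 0 0 = 0 := polarPlus_self m (ZMod 2) 0
  rw [h0, add_zero, add_zero] at h
  have : q 0 + q 0 = q 0 + 0 := by rw [add_zero]; exact h.symm
  exact add_left_cancel this

/-- The quadratic Gauss sum squares to the size of the space. -/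
theorem gauss_sum_sq {m : ℕ} {q : (Fin m ⊕ Fin m → ZMod 2) → ZMod 2} (hq : PolarizesPlus m q) :
    (∑ v : Fin m ⊕ Fin m → ZMod 2, sgn2 (q v)) * (∑ v : Fin m ⊕ Fin m → ZMod 2, sgn2 (q v))
      = (Fintype.card (Fin m ⊕ Fin m → ZMod 2) : ℤ) := by
  rw [Finset.sum_mul_sum]
  have h1 : ∀ u : Fin m ⊕ Fin m → ZMod 2,
      ∑ v : Fin m ⊕ Fin m → ZMod 2, sgn2 (q u) * sgn2 (q v)
        = ∑ s : Fin m ⊕ Fin m → ZMod 2, sgn2 (q s) * sgn2 (polarPlus m (ZMod 2) u s) := by
    intro u
    rw [← Fintype.sum_equiv (Equiv.addLeft u) (fun s => sgn2 (q u) * sgn2 (q (u + s)))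
      (fun v => sgn2 (q u) * sgn2 (q v)) (fun s => rfl)]
    apply Finset.sum_congr rfl
    intro s _
    rw [hq u s, ← sgn2_add, ← sgn2_add]
    congr 1
    have : q u + q u = 0 := CharTwo.add_self_eq_zero _
    calc q u + (q u + q s + polarPlus m (ZMod 2) u s)
        = (q u + q u) + q s + polarPlus m (ZMod 2) u s := by ring
      _ = q s + polarPlus m (ZMod 2) u s := by rw [this, zero_add]
  rw [Finset.sum_congr rfl (fun u _ => h1 u), Finset.sum_comm]
  have h2 : ∀ s : Fin m ⊕ Fin m → ZMod 2,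
      ∑ u : Fin m ⊕ Fin m → ZMod 2, sgn2 (q s) * sgn2 (polarPlus m (ZMod 2) u s)
        = if s = 0 then (Fintype.card (Fin m ⊕ Fin m → ZMod 2) : ℤ) else 0 := by
    intro s
    rw [← Finset.mul_sum]
    split_ifs with hs
    · subst hs
      rw [hq.map_zero, sgn2_zero, one_mul]
      have : ∀ u : Fin m ⊕ Fin m → ZMod 2, sgn2 (polarPlus m (ZMod 2) u 0) = 1 := by
        intro u
        have : polarPlus m (ZMod 2) u 0 = 0 := by
          unfold polarPlus; simp
        rw [this, sgn2_zero]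
      rw [Finset.sum_congr rfl (fun u _ => this u)]
      simp
    · rw [sum_sgn2_polar_eq_zero m s hs, mul_zero]
  rw [Finset.sum_congr rfl (fun s _ => h2 s)]
  simp

theorem gauss_sum_ne_zero {m : ℕ} {q : (Fin m ⊕ Fin m → ZMod 2) → ZMod 2} (hq : PolarizesPlus m q) :
    (∑ v : Fin m ⊕ Fin m → ZMod 2, sgn2 (q v)) ≠ 0 := by
  intro h
  have := gauss_sum_sq hq
  rw [h, mul_zero] at this
  have hpos : (0 : ℤ) < (Fintype.card (Fin m ⊕ Fin m → ZMod 2) : ℤ) := by
    exact_mod_cast Fintype.card_pos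
  omega

end Cfsg.Agent.Helper43
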