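import Mathlib
import Cfsg.Agent.Helper43.EvenWt
import Cfsg.Agent.Helper43.QuadF2

set_option autoImplicit false

namespace Cfsg.Agent.Helper43

namespace EvenWt

open Matrix

variable (m : ℕ)

/-- The index `2j+1`. -/
def idxA (j : Fin m) : Fin (2 * m + 2) := ⟨2 * j + 1, by omega⟩

/-- The index `2j+2`. -/
def idxB (j : Fin m) : Fin (2 * m + 2) := ⟨2 * j + 2, by omega⟩

/-- `u_j = e_{2j+1} + e_{2j+2}`. -/
def uVec (j : Fin m) : Fin (2 * m + 2) → ZMod 2 :=
  fun i => if i = idxA m j ∨ i = idxB m j then 1 else 0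

/-- `v_j = e_0 + ⋯ + e_{2j+1}`. -/
def vVec (j : Fin m) : Fin (2 * m + 2) → ZMod 2 :=
  fun i => if i ≤ idxA m j then 1 else 0

theorem idxA_ne_idxB (j : Fin m) : idxA m j ≠ idxB m j := by
  intro h
  have := congrArg Fin.val h
  simp only [idxA, idxB] at this
  omega

theorem dot_uVec (y : Fin (2 * m + 2) → ZMod 2) (j : Fin m) :
    y ⬝ᵥ uVec m j = y (idxA m j) + y (idxB m j) := by
  unfold dotProduct uVec
  simp only [mul_ite, mul_one, mul_zero]
  rw [← Finset.sum_filter]
  have : (Finset.univ.filter (fun i => i = idxA m j ∨ i = idxB m j))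
      = {idxA m j, idxB m j} := by
    ext i
    simp
  rw [this, Finset.sum_pair (idxA_ne_idxB m j)]

theorem dot_vVec (y : Fin (2 * m + 2) → ZMod 2) (j : Fin m) :
    y ⬝ᵥ vVec m j = ∑ i ∈ Finset.Iic (idxA m j), y i := by
  unfold dotProduct vVec
  simp only [mul_ite, mul_one, mul_zero]
  rw [← Finset.sum_filter]
  congr 1
  ext i
  simp

theorem uVec_dot_uVec (a b : Fin m) : uVec m a ⬝ᵥ uVec m b = 0 := by
  rw [dot_uVec]
  unfold uVec
  by_cases hab : a = b
  · subst hab
    simp [idxA_ne_idxB, (idxA_ne_idxB m a).symm]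
    exact CharTwo.add_self_eq_zero (1 : ZMod 2)
  · have h1 : idxA m b ≠ idxA m a := by
      intro h; apply hab
      have := congrArg Fin.val h
      simp only [idxA] at this
      exact Fin.ext (by omega)
    have h2 : idxA m b ≠ idxB m a := by
      intro h
      have := congrArg Fin.val h
      simp only [idxA, idxB] at this
      omega
    have h3 : idxB m b ≠ idxA m a := by
      intro h
      have := congrArg Fin.val h
      simp only [idxA, idxB] at this
      omega
    have h4 : idxB m b ≠ idxB m a := by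
      intro h; apply hab
      have := congrArg Fin.val h
      simp only [idxB] at this
      exact Fin.ext (by omega)
    simp [h1, h2, h3, h4]

theorem vVec_dot_uVec (a b : Fin m) : vVec m a ⬝ᵥ uVec m b = if a = b then 1 else 0 := by
  rw [dot_uVec]
  unfold vVec
  have hA : idxA m b ≤ idxA m a ↔ b ≤ a := by
    rw [Fin.le_def, Fin.le_def]
    simp only [idxA]
    omega
  have hB : idxB m b ≤ idxA m a ↔ b < a := by
    rw [Fin.le_def, Fin.lt_def]
    simp only [idxA, idxB]
    omega
  simp only [hA, hB]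
  rcases lt_trichotomy a b with h | h | h
  · have h1 : ¬ b ≤ a := not_le.mpr h
    have h2 : ¬ b < a := not_lt.mpr h.le
    rw [if_neg h1, if_neg h2, if_neg h.ne, add_zero]
  · subst h
    rw [if_pos le_rfl, if_neg (lt_irrefl a), if_pos rfl, add_zero]
  · rw [if_pos h.le, if_pos h, if_neg h.ne']
    exact CharTwo.add_self_eq_zero (1 : ZMod 2)

theorem uVec_dot_vVec (a b : Fin m) : uVec m a ⬝ᵥ vVec m b = if a = b then 1 else 0 := by
  rw [dotProduct_comm, vVec_dot_uVec]
  simp only [eq_comm]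

theorem sum_Iic_one (p : Fin (2 * m + 2)) (hp : Odd (p : ℕ)) :
    ∑ _i ∈ Finset.Iic p, (1 : ZMod 2) = 0 := by
  rw [Finset.sum_const, Fin.card_Iic, nsmul_eq_mul, mul_one]
  obtain ⟨c, hc⟩ := hp
  rw [hc]
  have : 2 * c + 1 + 1 = 2 * (c + 1) := by ring
  rw [this, Nat.cast_mul]
  have h2 : ((2 : ℕ) : ZMod 2) = 0 := by decide
  rw [h2, zero_mul]

theorem odd_idxA (j : Fin m) : Odd ((idxA m j : Fin (2 * m + 2)) : ℕ) := ⟨j, rfl⟩

theorem vVec_dot_vVec (a b : Fin m) : vVec m a ⬝ᵥ vVec m b = 0 := by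
  wlog hab : a ≤ b generalizing a b
  · rw [dotProduct_comm]
    exact this b a (le_of_not_ge hab)
  rw [dot_vVec]
  unfold vVec
  have hle : idxA m a ≤ idxA m b := by
    rw [Fin.le_def]
    simp only [idxA]
    have : (a : ℕ) ≤ b := hab
    omega
  rw [← Finset.sum_filter]
  have : (Finset.Iic (idxA m b)).filter (fun i => i ≤ idxA m a) = Finset.Iic (idxA m a) := by
    ext i
    simp only [Finset.mem_filter, Finset.mem_Iic]
    constructor
    · exact fun h => h.2
    · exact fun h => ⟨h.trans hle, h⟩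
  rw [this]
  exact sum_Iic_one m _ (odd_idxA m a)

theorem one_dot_uVec (j : Fin m) : (1 : Fin (2 * m + 2) → ZMod 2) ⬝ᵥ uVec m j = 0 := by
  rw [dot_uVec]
  exact CharTwo.add_self_eq_zero (1 : ZMod 2)

theorem one_dot_vVec (j : Fin m) : (1 : Fin (2 * m + 2) → ZMod 2) ⬝ᵥ vVec m j = 0 := by
  rw [dot_vVec]
  exact sum_Iic_one m _ (odd_idxA m j)

/-- The embedding of the standard symplectic space. -/
def theta : (Fin m ⊕ Fin m → ZMod 2) →ₗ[ZMod 2] (Fin (2 * m + 2) → ZMod 2) where
  toFun c := ∑ j : Fin m, (c (.inl j) • uVec m j + c (.inr j) • vVec m j)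
  map_add' c c' := by
    rw [← Finset.sum_add_distrib]
    apply Finset.sum_congr rfl
    intro j _
    simp only [Pi.add_apply, add_smul]
    abel
  map_smul' r c := by
    rw [RingHom.id_apply, Finset.smul_sum]
    apply Finset.sum_congr rfl
    intro j _
    simp only [Pi.smul_apply, smul_eq_mul, smul_add, smul_smul]

/-- The coordinate map. -/
def kappa : (Fin (2 * m + 2) → ZMod 2) →ₗ[ZMod 2] (Fin m ⊕ Fin m → ZMod 2) where
  toFun y := Sum.elim (fun j => y ⬝ᵥ vVec m j) (fun j => y ⬝ᵥ uVec m j)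
  map_add' y y' := by
    funext s
    rcases s with j | j <;> simp [add_dotProduct]
  map_smul' r y := by
    funext s
    rcases s with j | j <;> simp [smul_dotProduct]

theorem theta_dot_uVec (c : Fin m ⊕ Fin m → ZMod 2) (a : Fin m) :
    theta m c ⬝ᵥ uVec m a = c (.inr a) := by
  show (∑ j : Fin m, (c (.inl j) • uVec m j + c (.inr j) • vVec m j)) ⬝ᵥ uVec m a = _
  rw [sum_dotProduct]
  simp only [add_dotProduct, smul_dotProduct, uVec_dot_uVec, vVec_dot_uVec, smul_eq_mul, mul_zero,
    zero_add, mul_ite, mul_one]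
  simp

theorem theta_dot_vVec (c : Fin m ⊕ Fin m → ZMod 2) (a : Fin m) :
    theta m c ⬝ᵥ vVec m a = c (.inl a) := by
  show (∑ j : Fin m, (c (.inl j) • uVec m j + c (.inr j) • vVec m j)) ⬝ᵥ vVec m a = _
  rw [sum_dotProduct]
  simp only [add_dotProduct, smul_dotProduct, uVec_dot_vVec, vVec_dot_vVec, smul_eq_mul, mul_zero,
    add_zero, mul_ite, mul_one]
  simp

theorem kappa_theta (c : Fin m ⊕ Fin m → ZMod 2) : kappa m (theta m c) = c := by
  funext s
  rcases s with j | j
  · exact theta_dot_vVec m c j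
  · exact theta_dot_uVec m c j

theorem kappa_one : kappa m (1 : Fin (2 * m + 2) → ZMod 2) = 0 := by
  funext s
  rcases s with j | j
  · exact one_dot_vVec m j
  · exact one_dot_uVec m j

theorem theta_dot_theta (c c' : Fin m ⊕ Fin m → ZMod 2) :
    theta m c ⬝ᵥ theta m c' = polarPlus m (ZMod 2) c c' := by
  show (∑ j : Fin m, (c (.inl j) • uVec m j + c (.inr j) • vVec m j)) ⬝ᵥ theta m c' = _
  rw [sum_dotProduct]
  unfold polarPlus
  apply Finset.sum_congr rfl
  intro j _
  rw [add_dotProduct, smul_dotProduct, smul_dotProduct, dotProduct_comm (uVec m j),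
    dotProduct_comm (vVec m j), theta_dot_uVec, theta_dot_vVec]
  simp only [smul_eq_mul]
  ring

theorem sum_theta (c : Fin m ⊕ Fin m → ZMod 2) : ∑ i, theta m c i = 0 := by
  have h : (1 : Fin (2 * m + 2) → ZMod 2) ⬝ᵥ theta m c = 0 := by
    show (1 : Fin (2 * m + 2) → ZMod 2) ⬝ᵥ
      (∑ j : Fin m, (c (.inl j) • uVec m j + c (.inr j) • vVec m j)) = 0
    rw [dotProduct_sum]
    apply Finset.sum_eq_zero
    intro j _
    rw [dotProduct_add, dotProduct_smul, dotProduct_smul, one_dot_uVec, one_dot_vVec]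
    simp
  unfold dotProduct at h
  simpa using h

theorem even_wt_theta (c : Fin m ⊕ Fin m → ZMod 2) : Even (wt (theta m c)) :=
  (even_wt_iff _).mpr (sum_theta m c)

/-- The even weight subspace, as a subtype. -/
abbrev EvenSub : Type := {x : Fin (2 * m + 2) → ZMod 2 // ∑ i, x i = 0}

theorem sum_one_eq_zero : ∑ _i : Fin (2 * m + 2), (1 : ZMod 2) = 0 := by
  rw [Finset.sum_const, Finset.card_univ, Fintype.card_fin, nsmul_eq_mul, mul_one]
  have : 2 * m + 2 = 2 * (m + 1) := by ring
  rw [this, Nat.cast_mul]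
  have h2 : ((2 : ℕ) : ZMod 2) = 0 := by decide
  rw [h2, zero_mul]

theorem card_evenSub : Nat.card (EvenSub m) = 2 ^ (2 * m + 1) := by
  let sumF : (Fin (2 * m + 2) → ZMod 2) →ₗ[ZMod 2] ZMod 2 :=
    { toFun := fun x => ∑ i, x i
      map_add' := fun x y => by simp [Finset.sum_add_distrib]
      map_smul' := fun r x => by simp [Finset.mul_sum] }
  have hsurj : LinearMap.range sumF = ⊤ := by
    rw [LinearMap.range_eq_top]
    intro a
    refine ⟨Pi.single 0 a, ?_⟩
    show ∑ i, (Pi.single 0 a : Fin (2 * m + 2) → ZMod 2) i = a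
    rw [Finset.sum_pi_single']
    simp
  have h1 := LinearMap.finrank_range_add_finrank_ker sumF
  rw [hsurj, finrank_top, Module.finrank_self, Module.finrank_fin_fun] at h1
  have h2 : Module.finrank (ZMod 2) (LinearMap.ker sumF) = 2 * m + 1 := by omega
  have h3 : Nat.card (LinearMap.ker sumF) = 2 ^ (2 * m + 1) := by
    rw [Module.natCard_eq_pow_finrank (K := ZMod 2), h2, Nat.card_zmod]
  rw [← h3]
  apply Nat.card_congr
  exact Equiv.subtypeEquivRight (fun x => by rw [LinearMap.mem_ker]; rfl)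

/-- The parametrisation `(c, ε) ↦ θ c + ε • 1` of the even weight vectors. -/
def psi (p : (Fin m ⊕ Fin m → ZMod 2) × ZMod 2) : EvenSub m :=
  ⟨theta m p.1 + p.2 • (1 : Fin (2 * m + 2) → ZMod 2), by
    simp only [Pi.add_apply, Pi.smul_apply, smul_eq_mul, Pi.one_apply, mul_one,
      Finset.sum_add_distrib, sum_theta, zero_add]
    rw [Finset.sum_const, Finset.card_univ, Fintype.card_fin, nsmul_eq_mul]
    have : 2 * m + 2 = 2 * (m + 1) := by ring
    rw [this, Nat.cast_mul]
    have h2 : ((2 : ℕ) : ZMod 2) = 0 := by decide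
    rw [h2, zero_mul, zero_mul]⟩

theorem psi_injective : Function.Injective (psi m) := by
  rintro ⟨c, e⟩ ⟨c', e'⟩ h
  have h1 : theta m c + e • (1 : Fin (2 * m + 2) → ZMod 2)
      = theta m c' + e' • (1 : Fin (2 * m + 2) → ZMod 2) := congrArg Subtype.val h
  have h2 := congrArg (kappa m) h1
  rw [map_add, map_add, map_smul, map_smul, kappa_theta, kappa_theta, kappa_one, smul_zero,
    smul_zero, add_zero, add_zero] at h2
  subst h2
  have h3 := congrFun (add_left_cancel h1) 0
  simp only [Pi.smul_apply, Pi.one_apply, smul_eq_mul, mul_one] at h3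
  rw [h3]

theorem psi_bijective : Function.Bijective (psi m) := by
  have hfin : Finite (EvenSub m) := inferInstance
  rw [Nat.bijective_iff_injective_and_card]
  refine ⟨psi_injective m, ?_⟩
  rw [card_evenSub, Nat.card_prod, Nat.card_eq_fintype_card, Nat.card_zmod]
  simp only [Fintype.card_pi, Fintype.card_sum, Fintype.card_fin, ZMod.card, Finset.prod_const,
    Finset.card_univ]
  rw [pow_succ]
  congr 2
  ring

/-- Every even weight vector is `θ (κ y)` or `θ (κ y) + 1`. -/
theorem theta_kappa (y : Fin (2 * m + 2) → ZMod 2) (hy : ∑ i, y i = 0) :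
    ∃ e : ZMod 2, y = theta m (kappa m y) + e • (1 : Fin (2 * m + 2) → ZMod 2) := by
  obtain ⟨⟨c, e⟩, hce⟩ := (psi_bijective m).2 ⟨y, hy⟩
  have h1 : theta m c + e • (1 : Fin (2 * m + 2) → ZMod 2) = y := congrArg Subtype.val hce
  have h2 : kappa m y = c := by
    rw [← h1, map_add, map_smul, kappa_theta, kappa_one, smul_zero, add_zero]
  exact ⟨e, by rw [h2, h1]⟩

end EvenWt

end Cfsg.Agent.Helper43
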