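import Mathlib

set_option autoImplicit false

namespace Cfsg.Agent.Helper43

variable {F : Type*} [Field F] [Fintype F]

theorem neg_one_ne_one_of_odd_card (hq : Odd (Fintype.card F)) : (-1 : F) ≠ 1 := by
  have hchar : ringChar F ≠ 2 := by
    intro h
    have := FiniteField.even_card_of_char_two h
    rw [Nat.odd_iff] at hq
    omega
  exact Ring.neg_one_ne_one_of_char_ne_two hchar

theorem orderOf_dvd_card_sub_one {x : F} (hx : x ≠ 0) : orderOf x ∣ Fintype.card F - 1 := by
  apply orderOf_dvd_of_pow_eq_one
  exact FiniteField.pow_card_sub_one_eq_one x hx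

/-- The multiplicative group of a finite field has elements of every order dividing `q - 1`. -/
theorem exists_orderOf_eq {d : ℕ} (hd : d ∣ Fintype.card F - 1) : ∃ η : F, orderOf η = d := by
  classical
  obtain ⟨g, hg⟩ := IsCyclic.exists_generator (α := Fˣ)
  have hord : orderOf g = Fintype.card F - 1 := by
    rw [orderOf_eq_card_of_forall_mem_zpowers hg, Nat.card_eq_fintype_card, Fintype.card_units]
  have hpos : 0 < Fintype.card F - 1 := by
    have := Fintype.one_lt_card (α := F)
    omega
  obtain ⟨e, he⟩ := hd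
  have he0 : e ≠ 0 := by
    rintro rfl
    rw [mul_zero] at he
    omega
  refine ⟨((g ^ e : Fˣ) : F), ?_⟩
  rw [orderOf_units, orderOf_pow_of_dvd he0 (by rw [hord, he]; exact dvd_mul_left e d), hord, he,
    Nat.mul_div_cancel _ (Nat.pos_of_ne_zero he0)]

theorem pow_two_pow_eq_neg_one {η : F} {j : ℕ} (h : orderOf η = 2 ^ (j + 1)) : η ^ (2 ^ j) = -1 := by
  have h1 : (η ^ (2 ^ j)) * (η ^ (2 ^ j)) = 1 := by
    rw [← pow_add, ← two_mul, ← pow_succ', ← h]
    exact pow_orderOf_eq_one η
  rcases mul_self_eq_one_iff.mp h1 with h2 | h2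
  · exfalso
    have := orderOf_dvd_of_pow_eq_one h2
    rw [h] at this
    have := Nat.le_of_dvd (by positivity) this
    rw [pow_succ] at this
    have hp : 0 < 2 ^ j := by positivity
    omega
  · exact h2

theorem padicValNat_two_pow_mul_odd {a n' : ℕ} (hn' : Odd n') : padicValNat 2 (2 ^ a * n') = a := by
  have h0 : n' ≠ 0 := by
    rintro rfl
    simp at hn'
  rw [padicValNat.mul (by positivity) h0, padicValNat.prime_pow,
    padicValNat.eq_zero_of_not_dvd (by rw [Nat.odd_iff] at hn'; omega), add_zero]

end Cfsg.Agent.Helper43
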