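import Mathlib
import Cfsg.Agent.Helper44.InndiagGen2

/-!
# Class fusion in even-dimensional orthogonal groups, part A

An automorphism of odd order of `PΩ(Q)` induced by a similarity is induced by an isometry of the
same odd order.
-/

set_option autoImplicit false

namespace Cfsg.Agent.Helper43.Fus

open Matrix QuadraticMap Module Cfsg.Agent.Helper44

theorem exists_scalar_fix_add {A : Type*} [AddCommGroup A] (μ c : A) (s : ℕ)
    (h : (2 * s + 1) • μ = c + c) :
    ∃ z : A, z + z + μ = 0 ∧ (2 * s + 1) • z + c = 0 := by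
  refine ⟨-((2 * s + 1) • c) + (s * (2 * s + 2)) • μ, ?_, ?_⟩
  · have h' : ((2 * s + 1 : ℕ) : ℤ) • μ = c + c := by rw [natCast_zsmul]; exact h
    push_cast at h'
    linear_combination (norm := module) (2 * (s : ℤ) + 1) • h'
  · have h' : ((2 * s + 1 : ℕ) : ℤ) • μ = c + c := by rw [natCast_zsmul]; exact h
    push_cast at h'
    linear_combination (norm := module) (2 * (s : ℤ) * ((s : ℤ) + 1)) • h'

theorem exists_scalar_fix {A : Type*} [CommGroup A] (μ c : A) (s : ℕ)
    (h : μ ^ (2 * s + 1) = c * c) :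
    ∃ z : A, z * z * μ = 1 ∧ z ^ (2 * s + 1) * c = 1 := by
  obtain ⟨z, h1, h2⟩ := exists_scalar_fix_add (Additive.ofMul μ) (Additive.ofMul c) s h
  exact ⟨Additive.toMul z, h1, h2⟩

variable {F : Type*} [Field F] {ι : Type} [Fintype ι] [DecidableEq ι]
variable (Q : QuadraticForm F (ι → F))

theorem scalarGO_mul (a b : Fˣ) : scalarGO Q (a * b) = scalarGO Q a * scalarGO Q b := by
  apply Subtype.ext
  show Matrix.GeneralLinearGroup.scalar ι (a * b)
    = Matrix.GeneralLinearGroup.scalar ι a * Matrix.GeneralLinearGroup.scalar ι b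
  exact map_mul _ a b

theorem scalarGO_one : scalarGO Q (1 : Fˣ) = 1 := by
  apply Subtype.ext
  show Matrix.GeneralLinearGroup.scalar ι (1 : Fˣ) = 1
  exact map_one _

theorem scalarGO_pow (a : Fˣ) (k : ℕ) : scalarGO Q (a ^ k) = scalarGO Q a ^ k := by
  induction k with
  | zero => rw [pow_zero, pow_zero, scalarGO_one]
  | succ k ih => rw [pow_succ, pow_succ, scalarGO_mul, ih]

theorem scalarGO_comm (a : Fˣ) (g : ↥(Cfsg.Geo.quadSimilarityGroup (F := F) ⇑Q)) :
    scalarGO Q a * g = g * scalarGO Q a := by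
  apply Subtype.ext
  apply Units.ext
  show ((Matrix.GeneralLinearGroup.scalar ι a : GL ι F) : Matrix ι ι F) * (g.1 : Matrix ι ι F)
    = (g.1 : Matrix ι ι F) * ((Matrix.GeneralLinearGroup.scalar ι a : GL ι F) : Matrix ι ι F)
  rw [Matrix.GeneralLinearGroup.coe_scalar]
  exact ((Matrix.scalar_commute (a : F) (fun r => mul_comm _ r) _)).eq

theorem conjAut_scalarGO_mul (a : Fˣ) (g : ↥(Cfsg.Geo.quadSimilarityGroup (F := F) ⇑Q)) :
    conjAut ⇑Q (scalarGO Q a * g) = conjAut ⇑Q g := by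
  rw [map_mul, MonoidHom.mem_ker.1 (mem_ker_of_mem_scalars ⇑Q _ (scalarGO_mem_scalars Q a)),
    one_mul]

section fin

variable [Fintype F]

/-- an automorphism of odd order induced by a similarity is induced by an isometry of that order -/
theorem exists_isometry_rep (hQ : (QuadraticMap.polarBilin Q).Nondegenerate)
    (hn : 7 ≤ Fintype.card ι) {t : ι → F} (ht : Q t ≠ 0)
    (x : MulAut (Cfsg.POmega F ⇑Q)) (hx : x ∈ Cfsg.pgoAut F ⇑Q) {r : ℕ} (hro : Odd r)
    (hxr : x ^ r = 1) :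
    ∃ h : ↥(Cfsg.isometryGroup F ⇑Q), h ^ r = 1 ∧ x = conjAut ⇑Q (toGO Q h) := by
  rw [pgoAut_eq_map] at hx
  obtain ⟨g, rfl⟩ := hx
  have hk : g ^ r ∈ (conjAut ⇑Q).ker := by
    rw [MonoidHom.mem_ker, map_pow, hxr]
  rw [ker_conjAut Q hQ hn, Subgroup.mem_subgroupOf, mem_scalars_iff_eq_scalarGO] at hk
  obtain ⟨c, hc⟩ := hk
  obtain ⟨s, rfl⟩ := hro
  have hμ : (multHom ⇑Q ht g) ^ (2 * s + 1) = c * c := by
    rw [← map_pow, hc, multHom_scalarGO]
  obtain ⟨z, hz1, hz2⟩ := exists_scalar_fix (multHom ⇑Q ht g) c s hμ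
  have hmult : multHom ⇑Q ht (scalarGO Q z * g) = 1 := by
    rw [map_mul, multHom_scalarGO, hz1]
  have hmem := mem_isometryGroup_of_multHom ⇑Q ht _ hmult
  refine ⟨⟨(scalarGO Q z * g).1, hmem⟩, ?_, ?_⟩
  · have h1 : (scalarGO Q z * g) ^ (2 * s + 1) = 1 := by
      rw [(Commute.mul_pow (scalarGO_comm Q z g) (2 * s + 1)), hc, ← scalarGO_pow, ← scalarGO_mul,
        hz2, scalarGO_one]
    apply Subtype.ext
    have h2 := congrArg Subtype.val h1
    exact h2
  · have e : toGO Q ⟨(scalarGO Q z * g).1, hmem⟩ = scalarGO Q z * g := Subtype.ext rfl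
    rw [e, conjAut_scalarGO_mul]

end fin

end Cfsg.Agent.Helper43.Fus
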