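import Mathlib
import Cfsg.Agent.Helper43.FusA
import Cfsg.Agent.Helper44.OrthPrimeCls
import Cfsg.Agent.Helper43.SpSSM
import Cfsg.Agent.Helper14.AutGraph10

/-!
# Class fusion in even-dimensional orthogonal groups, part B

Conjugacy by isometries, the fixed-vector dichotomy and the determinant of a similarity commuting
with a fixed-point-free isometry of odd order.
-/

set_option autoImplicit false

namespace Cfsg.Agent.Helper43.Fus

open Matrix QuadraticMap Module Cfsg.Agent.Helper44
open Cfsg.Agent.Helper43.OrthSS Cfsg.Agent.Helper43.SpSS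

universe u

variable {F : Type u} [Field F] [Fintype F] {ι : Type} [Fintype ι] [DecidableEq ι]
variable (Q : QuadraticForm F (ι → F))

/-- conjugates under similarities of an isometry of odd order prime to the characteristic are
conjugates under isometries -/
theorem exists_isometry_conj_eq (hQ : (QuadraticMap.polarBilin Q).Nondegenerate)
    (h : ↥(Cfsg.isometryGroup F ⇑Q)) {k : ℕ} (hodd : Odd k) (hkF : (k : F) ≠ 0) (hk : h ^ k = 1)
    (g : ↥(Cfsg.Geo.quadSimilarityGroup (F := F) ⇑Q)) :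
    ∃ s : ↥(Cfsg.isometryGroup F ⇑Q),
      toGO Q s * toGO Q h * (toGO Q s)⁻¹ = g * toGO Q h * g⁻¹ := by
  set h' : ↥(Cfsg.isometryGroup F ⇑Q) := simConj ⇑Q g h with hh'
  have hk' : h' ^ k = 1 := by rw [hh', ← map_pow, hk, map_one]
  have hc : ((h : GL ι F) : Matrix ι ι F).charpoly = ((h' : GL ι F) : Matrix ι ι F).charpoly := by
    have e : ((h' : GL ι F) : Matrix ι ι F)
        = ((g.1 : GL ι F) : Matrix ι ι F) * ((h : GL ι F) : Matrix ι ι F)
          * (((g.1 : GL ι F)⁻¹ : GL ι F) : Matrix ι ι F) := by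
      rw [hh', simConj_apply_coe]
      rfl
    rw [e, Matrix.coe_units_inv]
    exact (Matrix.charpoly_units_conj (g.1 : GL ι F) _).symm
  have hconj := Cfsg.Agent.Helper44.QType.isConj_of_charpoly_orth Q hQ h h' k hodd hkF hk hk' hc
  rw [isConj_iff] at hconj
  obtain ⟨s, hs⟩ := hconj
  refine ⟨s, ?_⟩
  rw [← map_inv, ← map_mul, ← map_mul, hs]
  apply Subtype.ext
  rfl

/-- the `OData` of an isometry of odd order -/
theorem odata_of (hQ : (QuadraticMap.polarBilin Q).Nondegenerate)
    (h : ↥(Cfsg.isometryGroup F ⇑Q)) {k : ℕ} (hodd : Odd k) (hkF : (k : F) ≠ 0) (hk : h ^ k = 1) :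
    OData Q (Matrix.toLin' ((h : GL ι F) : Matrix ι ι F)) k := by
  have hAk := Cfsg.Agent.Helper44.QType.coe_pow_isometryGroup (⇑Q) h k hk
  refine ⟨hQ, ?_, hodd, hkF, ?_⟩
  · intro x
    rw [Matrix.toLin'_apply]
    exact (Cfsg.Agent.Helper13.mem_isometryGroup_iff (⇑Q) (h : GL ι F)).mp h.2 x
  · rw [← Matrix.toLin'_pow, hAk, Matrix.toLin'_one]
    rfl

/-- either there is a non-singular fixed vector or there is no non-zero fixed vector -/
theorem fixed_dichotomy (hQ : (QuadraticMap.polarBilin Q).Nondegenerate)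
    (h : ↥(Cfsg.isometryGroup F ⇑Q)) {k : ℕ} (hodd : Odd k) (hkF : (k : F) ≠ 0) (hk : h ^ k = 1) :
    (∃ u : ι → F, ((h : GL ι F) : Matrix ι ι F) *ᵥ u = u ∧ Q u ≠ 0) ∨
      (∀ u : ι → F, ((h : GL ι F) : Matrix ι ι F) *ᵥ u = u → u = 0) := by
  by_cases hex : ∃ u : ι → F, ((h : GL ι F) : Matrix ι ι F) *ᵥ u = u ∧ Q u ≠ 0
  · exact Or.inl hex
  · right
    push Not at hex
    have hd := odata_of Q hQ h hodd hkF hk
    intro u hu
    have hu' : Matrix.toLin' ((h : GL ι F) : Matrix ι ι F) u = u := by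
      rw [Matrix.toLin'_apply]; exact hu
    apply hQ.1
    intro z
    obtain ⟨u', r, hu'', hr, rfl⟩ := hd.exists_decomp z
    rw [map_add]
    have h1 : polarBilin Q u r = 0 := by
      rw [OData.polar_comm]
      exact hd.orth hu' hr
    have h2 : polarBilin Q u u' = 0 := by
      rw [polarBilin_apply_apply, QuadraticMap.polar]
      have hu3 : ((h : GL ι F) : Matrix ι ι F) *ᵥ u' = u' := by
        rw [← Matrix.toLin'_apply]; exact hu''
      have h3 : ((h : GL ι F) : Matrix ι ι F) *ᵥ (u + u') = u + u' := by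
        rw [Matrix.mulVec_add, hu, hu3]
      rw [hex _ h3, hex _ hu, hex _ hu3]
      ring
    rw [h1, h2, add_zero]

end Cfsg.Agent.Helper43.Fus
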