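import Mathlib
import Cfsg.Agent.Helper43.FusB

/-!
# Class fusion, part C: a similarity commuting with a fixed-point-free isometry of odd order
has `det = μ^m`.
-/

set_option autoImplicit false

namespace Cfsg.Agent.Helper43.Fus

open Matrix QuadraticMap Module Cfsg.Agent.Helper44
open Cfsg.Agent.Helper43.OrthSS Cfsg.Agent.Helper43.SpSS

universe u

variable {F : Type u} [Field F] [Fintype F]

/-- a similarity of the standard alternating form has determinant `μ^m` (linear map version) -/
theorem det_of_Bn_sim {m : ℕ} (C : Module.End F (Fin m ⊕ Fin m → F)) (μ : Fˣ)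
    (hC : ∀ x y, Bn m F (C x) (C y) = (μ : F) * Bn m F x y) : LinearMap.det C = (μ : F) ^ m := by
  set M : Matrix (Fin m ⊕ Fin m) (Fin m ⊕ Fin m) F := LinearMap.toMatrix' C with hM
  have hCM : Matrix.toLin' M = C := Matrix.toLin'_toMatrix' C
  have h1 : (Bn m F).comp (Matrix.toLin' M) (Matrix.toLin' M)
      = ((μ : F) • Matrix.J (Fin m) F).toBilin' := by
    rw [hCM]
    refine LinearMap.ext fun x => LinearMap.ext fun y => ?_
    rw [LinearMap.BilinForm.comp_apply, hC, map_smul]
    rfl
  have h2 : Mᵀ * Matrix.J (Fin m) F * M = (μ : F) • Matrix.J (Fin m) F := by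
    apply Matrix.toBilin'.injective
    rw [← h1, ← Matrix.toBilin'_comp]
    rfl
  have h3 := Cfsg.Agent.Helper14.AutPSL.det_of_J_sim Mᵀ μ (by rw [Matrix.transpose_transpose]; exact h2)
  rw [Matrix.det_transpose] at h3
  rw [← hCM, LinearMap.det_toLin']
  exact h3

variable {ι : Type} [Fintype ι] [DecidableEq ι] (Q : QuadraticForm F (ι → F))

theorem sympData_one {V : Type*} [AddCommGroup V] [Module F V] [FiniteDimensional F V]
    (A : LinearMap.BilinForm F V) (halt : A.IsAlt) (hnd : A.Nondegenerate) :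
    SympData A (1 : Module.End F V) where
  alt := halt
  nondeg := hnd
  isom := fun x y => rfl
  ss := by
    rw [Module.End.one_eq_id]
    exact Module.End.isSemisimple_id

/-- a similarity commuting with a fixed-point-free isometry of odd order preserves the two
classes of maximal totally singular subspaces: `det = μ^m` -/
theorem dHom_eq_one_of_commute_fpf (hQ : (QuadraticMap.polarBilin Q).Nondegenerate)
    {t : ι → F} (ht : Q t ≠ 0) (m : ℕ) (hm : Fintype.card ι = 2 * m)
    (h : ↥(Cfsg.isometryGroup F ⇑Q)) {k : ℕ} (hodd : Odd k) (hkF : (k : F) ≠ 0) (hk : h ^ k = 1)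
    (hfpf : ∀ u : ι → F, ((h : GL ι F) : Matrix ι ι F) *ᵥ u = u → u = 0)
    (c : ↥(Cfsg.Geo.quadSimilarityGroup (F := F) ⇑Q)) (hc : c * toGO Q h = toGO Q h * c) :
    dHom Q ht m c = 1 := by
  set H : Module.End F (ι → F) := Matrix.toLin' ((h : GL ι F) : Matrix ι ι F) with hH
  have hd := odata_of Q hQ h hodd hkF hk
  have hker : LinearMap.ker (H - 1) = ⊥ := by
    rw [LinearMap.ker_eq_bot']
    intro x hx
    apply hfpf
    rw [LinearMap.sub_apply, Module.End.one_apply, sub_eq_zero, hH, Matrix.toLin'_apply] at hx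
    exact hx
  have hrange : LinearMap.range (H - 1) = ⊤ :=
    LinearMap.range_eq_top.2 (LinearMap.injective_iff_surjective.1 (LinearMap.ker_eq_bot.1 hker))
  set A : LinearMap.BilinForm F (ι → F) := tw Q H k with hA
  have hAalt : A.IsAlt := hd.tw_alt
  have hAnd : A.Nondegenerate := by
    refine (LinearMap.IsRefl.nondegenerate_iff_separatingLeft hAalt.isRefl).mpr ?_
    intro x hx
    exact hd.tw_nondeg_aux x (by rw [hrange]; exact Submodule.mem_top) (fun y _ => hx y)
  have hch : (1 : Module.End F (ι → F)).charpoly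
      = (1 : Module.End F (Fin m ⊕ Fin m → F)).charpoly := by
    rw [LinearMap.charpoly_one, LinearMap.charpoly_one, Module.finrank_fintype_fun_eq_card,
      Module.finrank_fintype_fun_eq_card, hm, Fintype.card_sum, Fintype.card_fin, two_mul]
  obtain ⟨s, hs⟩ := exists_equivIsom (sympData_one A hAalt hAnd)
    (sympData_one (Bn m F) Bn_alt Bn_nondeg) hch
  set C : Module.End F (ι → F) := Matrix.toLin' ((c.1 : GL ι F) : Matrix ι ι F) with hC
  set μ : Fˣ := multHom ⇑Q ht c with hμ
  have hCH : ∀ x, C (H x) = H (C x) := by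
    intro x
    rw [hC, hH, Matrix.toLin'_apply, Matrix.toLin'_apply, Matrix.toLin'_apply, Matrix.toLin'_apply,
      Matrix.mulVec_mulVec, Matrix.mulVec_mulVec]
    have e := congrArg (fun z : ↥(Cfsg.Geo.quadSimilarityGroup (F := F) ⇑Q) =>
      ((z.1 : GL ι F) : Matrix ι ι F)) hc
    simp only [Subgroup.coe_mul, Units.val_mul, coe_toGO] at e
    rw [e]
  have hCHp : ∀ (i : ℕ) x, C ((H ^ i) x) = (H ^ i) (C x) := by
    intro i
    induction i with
    | zero => intro x; simp
    | succ i ih =>
      intro x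
      rw [pow_succ, Module.End.mul_apply, Module.End.mul_apply, ih, hCH]
  have hCδ : ∀ x, C (delta H k x) = delta H k (C x) := by
    intro x
    rw [delta_apply, delta_apply, map_sub, hCH, hCHp]
  have hsim : ∀ x y, polarBilin Q (C x) (C y) = (μ : F) * polarBilin Q x y := by
    intro x y
    rw [polarBilin_apply_apply, polarBilin_apply_apply, hC, Matrix.toLin'_apply,
      Matrix.toLin'_apply]
    exact polar_mulVec_of_similarity Q _ _ (multFun_spec ⇑Q c) x y
  have hCA : ∀ x y, A (C x) (C y) = (μ : F) * A x y := by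
    intro x y
    rw [hA, tw_apply, tw_apply, ← hCδ, hsim]
  have hC' : ∀ x y, Bn m F (s.conj C x) (s.conj C y) = (μ : F) * Bn m F x y := by
    intro x y
    rw [LinearEquiv.conj_apply_apply, LinearEquiv.conj_apply_apply, hs.isom, hCA, ← hs.isom,
      LinearEquiv.apply_symm_apply, LinearEquiv.apply_symm_apply]
  have hdet := det_of_Bn_sim (s.conj C) μ hC'
  have hconj : s.conj C = (s : (ι → F) →ₗ[F] (Fin m ⊕ Fin m → F)) ∘ₗ C ∘ₗ
      (s.symm : (Fin m ⊕ Fin m → F) →ₗ[F] (ι → F)) := by
    apply LinearMap.ext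
    intro x
    rw [LinearEquiv.conj_apply_apply]
    rfl
  rw [hconj, LinearMap.det_conj, hC, LinearMap.det_toLin'] at hdet
  rw [dHom_apply]
  apply Units.ext
  rw [Units.val_mul, Units.val_one, Units.val_pow_eq_pow_val]
  have e1 : ((Matrix.GeneralLinearGroup.det (c.1 : GL ι F) : Fˣ) : F)
      = ((c.1 : GL ι F) : Matrix ι ι F).det := rfl
  rw [e1, hdet, ← mul_pow, ← Units.val_mul, mul_inv_cancel, Units.val_one, one_pow]

end Cfsg.Agent.Helper43.Fus
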