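import Mathlib
import Cfsg.Agent.Helper43.FusC

/-!
# Class fusion, part D: similarities with non-square multiplier commuting with an isometry of odd
order, and the resulting element of `SO ∖ Ω` in the cyclic case.
-/

set_option autoImplicit false

namespace Cfsg.Agent.Helper43.Fus

open Matrix QuadraticMap Module Cfsg.Agent.Helper44

universe u

variable {F : Type u} [Field F] [Fintype F] {ι : Type} [Fintype ι] [DecidableEq ι]
variable (Q : QuadraticForm F (ι → F))

theorem refl_congr {u v : ι → F} (e : u = v) (hu : Q u ≠ 0) (hv : Q v ≠ 0) :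
    refl Q u hu = refl Q v hv := by
  subst e
  rfl

/-- the reflection in a fixed vector commutes with the isometry -/
theorem refl_commute_of_fixed (h : ↥(Cfsg.isometryGroup F ⇑Q)) (u : ι → F)
    (hu : ((h : GL ι F) : Matrix ι ι F) *ᵥ u = u) (hQu : Q u ≠ 0) :
    refl Q u hQu * h = h * refl Q u hQu := by
  have hgu : Q (((h : GL ι F) : Matrix ι ι F) *ᵥ u) ≠ 0 := by rw [hu]; exact hQu
  rw [mul_refl Q h u hQu hgu, refl_congr Q hu hgu hQu]

section main

variable (h2 : (2 : F) ≠ 0) (hQ : (QuadraticMap.polarBilin Q).Nondegenerate)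
  (hn : 7 ≤ Fintype.card ι) {t : ι → F} (ht : Q t ≠ 0) (m : ℕ) (hm : Fintype.card ι = 2 * m)

include h2 hQ hn hm in
/-- a class-preserving similarity with non-square multiplier commuting with a given isometry of
odd order prime to the characteristic -/
theorem exists_commuting_nonsquare (h : ↥(Cfsg.isometryGroup F ⇑Q)) {k : ℕ} (hodd : Odd k)
    (hkF : (k : F) ≠ 0) (hk : h ^ k = 1) :
    ∃ c : ↥(Cfsg.Geo.quadSimilarityGroup (F := F) ⇑Q), c * toGO Q h = toGO Q h * c ∧
      ¬ IsSquare ((multHom ⇑Q ht c : Fˣ) : F) ∧ dHom Q ht m c = 1 := by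
  obtain ⟨ν, hν⟩ := FiniteField.exists_nonsquare (F := F) (ringChar_ne_two_of_two_ne_zero h2)
  have hν0 : ν ≠ 0 := by
    rintro rfl
    exact hν ⟨0, by simp⟩
  obtain ⟨g, hg⟩ := exists_similarity_GL Q hQ ⟨m, by rw [hm, two_mul]⟩ (by omega) ν hν0
  set γ : ↥(Cfsg.Geo.quadSimilarityGroup (F := F) ⇑Q) := ⟨g, ⟨Units.mk0 ν hν0, hg⟩⟩ with hγ
  have hγm : ¬ IsSquare ((multHom ⇑Q ht γ : Fˣ) : F) := by
    rw [multHom_eq ⇑Q ht γ (Units.mk0 ν hν0) hg, Units.val_mk0]
    exact hν
  obtain ⟨δ, hδm, hδd⟩ := exists_delta_of_gamma Q hQ ht m hm γ hγm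
  obtain ⟨s, hs⟩ := exists_isometry_conj_eq Q hQ h hodd hkF hk δ
  set c₀ : ↥(Cfsg.Geo.quadSimilarityGroup (F := F) ⇑Q) := (toGO Q s)⁻¹ * δ with hc₀
  have hcomm : c₀ * toGO Q h = toGO Q h * c₀ := by
    have e : δ * toGO Q h = toGO Q s * toGO Q h * (toGO Q s)⁻¹ * δ := by
      rw [hs]; group
    rw [hc₀, mul_assoc, e]
    group
  have hmult : multHom ⇑Q ht c₀ = multHom ⇑Q ht δ := by
    rw [hc₀, map_mul, map_inv, multHom_toGO, inv_one, one_mul]
  rcases fixed_dichotomy Q hQ h hodd hkF hk with ⟨u, hu, hQu⟩ | hfpf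
  · rcases dHom_eq_one_or Q ht m hm hQ c₀ with hd | hd
    · exact ⟨c₀, hcomm, by rw [hmult]; exact hδm, hd⟩
    · refine ⟨toGO Q (refl Q u hQu) * c₀, ?_, ?_, ?_⟩
      · have e := refl_commute_of_fixed Q h u hu hQu
        have e' : toGO Q (refl Q u hQu) * toGO Q h = toGO Q h * toGO Q (refl Q u hQu) := by
          rw [← map_mul, ← map_mul, e]
        rw [mul_assoc, hcomm, ← mul_assoc, e', mul_assoc]
      · rw [map_mul, multHom_toGO, one_mul, hmult]
        exact hδm
      · rw [map_mul, dHom_toGO_refl, hd]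
        simp
  · exact ⟨c₀, hcomm, by rw [hmult]; exact hδm,
      dHom_eq_one_of_commute_fpf Q hQ ht m hm h hodd hkF hk hfpf c₀ hcomm⟩

end main

end Cfsg.Agent.Helper43.Fus
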