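import Mathlib
import Cfsg.Agent.Helper43.FusD

/-!
# Class fusion, part E: the element of `SO ∖ Ω` in the cyclic case, and the fusion theorem.
-/

set_option autoImplicit false

namespace Cfsg.Agent.Helper43.Fus

open Matrix QuadraticMap Module Cfsg.Agent.Helper44

universe u

variable {F : Type u} [Field F] [Fintype F] {ι : Type} [Fintype ι] [DecidableEq ι]
variable (Q : QuadraticForm F (ι → F))

theorem zmod_four_sq (z : Multiplicative (ZMod 4)) (hz : z * z = 1) :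
    ∃ w : Multiplicative (ZMod 4), z = w * w := by
  revert z
  decide

section main

variable (h2 : (2 : F) ≠ 0) (hQ : (QuadraticMap.polarBilin Q).Nondegenerate)
  (hn : 7 ≤ Fintype.card ι) {t : ι → F} (ht : Q t ≠ 0) (m : ℕ) (hm : Fintype.card ι = 2 * m)

include h2 hQ hn hm in
/-- if `ker dHom` modulo the preimage of `Inn` is cyclic of order four, every isometry of odd
order commutes with an element of `SO ∖ Ω` -/
theorem exists_commuting_not_mem_Omega_of_psi (hneg : negOne Q ∈ Cfsg.Omega F ⇑Q)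
    (ψ : ↥((dHom Q ht m).ker) →* Multiplicative (ZMod 4)) (hs : Function.Surjective ψ)
    (hker : ∀ g : ↥((dHom Q ht m).ker), ψ g = 1 ↔
      conjAut ⇑Q g.1 ∈ Cfsg.Inn (Cfsg.POmega F ⇑Q))
    (h : ↥(Cfsg.isometryGroup F ⇑Q)) {k : ℕ} (hodd : Odd k) (hkF : (k : F) ≠ 0) (hk : h ^ k = 1) :
    ∃ c₂ : ↥(Cfsg.isometryGroup F ⇑Q), c₂ * h = h * c₂ ∧ detHom ⇑Q c₂ = 1 ∧
      c₂ ∉ Cfsg.Omega F ⇑Q := by
  obtain ⟨c₁, hcomm, hnsq, hd⟩ := exists_commuting_nonsquare Q h2 hQ hn ht m hm h hodd hkF hk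
  set ν : Fˣ := multHom ⇑Q ht c₁ with hν
  set c₂' : ↥(Cfsg.Geo.quadSimilarityGroup (F := F) ⇑Q) := scalarGO Q ν⁻¹ * (c₁ * c₁) with hc₂'
  have hmult : multHom ⇑Q ht c₂' = 1 := by
    rw [hc₂', map_mul, map_mul, multHom_scalarGO, ← hν]
    group
  have hmem := mem_isometryGroup_of_multHom ⇑Q ht _ hmult
  set c₂ : ↥(Cfsg.isometryGroup F ⇑Q) := ⟨c₂'.1, hmem⟩ with hc₂
  have hto : toGO Q c₂ = c₂' := Subtype.ext rfl
  refine ⟨c₂, ?_, ?_, ?_⟩
  · have e : toGO Q c₂ * toGO Q h = toGO Q h * toGO Q c₂ := by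
      rw [hto, hc₂', mul_assoc, mul_assoc, hcomm, ← mul_assoc c₁, hcomm, mul_assoc,
        ← mul_assoc (scalarGO Q ν⁻¹), scalarGO_comm, mul_assoc]
    have e' := congrArg (fun z : ↥(Cfsg.Geo.quadSimilarityGroup (F := F) ⇑Q) => (z.1 : GL ι F)) e
    apply Subtype.ext
    exact e'
  · rw [← dHom_toGO_gen Q ht m, hto, hc₂', map_mul, map_mul, dHom_scalarGO Q ht m hm, hd]
    simp
  · intro hmemΩ
    have h1 : conjAut ⇑Q (toGO Q c₂) ∈ Cfsg.Inn (Cfsg.POmega F ⇑Q) :=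
      (conjAut_toGO_mem_Inn_iff Q hQ hn hneg c₂).2 hmemΩ
    rw [hto, hc₂', conjAut_scalarGO_mul] at h1
    set g₁ : ↥((dHom Q ht m).ker) := ⟨c₁, hd⟩ with hg₁
    have h2' : ψ (g₁ * g₁) = 1 := (hker (g₁ * g₁)).2 h1
    rw [map_mul] at h2'
    obtain ⟨w, hw⟩ := zmod_four_sq _ h2'
    obtain ⟨gw, rfl⟩ := hs w
    have h3 : ψ (g₁ * (gw * gw)⁻¹) = 1 := by
      rw [map_mul, map_inv, map_mul, hw, mul_inv_cancel]
    have h4 := (hker _).1 h3
    have h5 := goChar_eq_one_of_conjAut_mem_Inn Q h2 hQ hn ht m hm _ h4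
    rw [goChar_eq_one_iff] at h5
    have h6 : IsSquare ((multHom ⇑Q ht (g₁ * (gw * gw)⁻¹).1 : Fˣ) : F) := h5.1
    have e7 : (g₁ * (gw * gw)⁻¹).1 = c₁ * (gw.1 * gw.1)⁻¹ := rfl
    rw [e7, map_mul, map_inv, map_mul] at h6
    apply hnsq
    obtain ⟨d, hd'⟩ := h6
    refine ⟨d * ((multHom ⇑Q ht gw.1 : Fˣ) : F), ?_⟩
    have h8 : ((multHom ⇑Q ht c₁ : Fˣ) : F)
        = ((multHom ⇑Q ht c₁ * (multHom ⇑Q ht gw.1 * multHom ⇑Q ht gw.1)⁻¹ : Fˣ) : F)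
          * (((multHom ⇑Q ht gw.1 : Fˣ) : F) * ((multHom ⇑Q ht gw.1 : Fˣ) : F)) := by
      rw [← Units.val_mul, ← Units.val_mul, inv_mul_cancel_right]
    rw [h8, hd']
    ring

end main

end Cfsg.Agent.Helper43.Fus
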