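import Mathlib
import Cfsg.Agent.Helper43.FusE

/-!
# Class fusion, part F: the fusion theorem for automorphisms of odd prime order induced by
similarities.
-/

set_option autoImplicit false

namespace Cfsg.Agent.Helper43.Fus

open Matrix QuadraticMap Module Cfsg.Agent.Helper44

universe u

variable {F : Type u} [Field F] [Fintype F] {ι : Type} [Fintype ι] [DecidableEq ι]
variable (Q : QuadraticForm F (ι → F))

section main

variable (h2 : (2 : F) ≠ 0) (hQ : (QuadraticMap.polarBilin Q).Nondegenerate)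
  (hn : 7 ≤ Fintype.card ι) {t : ι → F} (ht : Q t ≠ 0) (m : ℕ) (hm : Fintype.card ι = 2 * m)

theorem SO_subgroupOf_le_ker_dHom :
    (Cfsg.specialIsometryGL F ⇑Q).subgroupOf (Cfsg.Geo.quadSimilarityGroup (F := F) ⇑Q)
      ≤ (dHom Q ht m).ker := by
  intro g hg
  rw [Subgroup.mem_subgroupOf] at hg
  rw [MonoidHom.mem_ker, dHom_apply, multHom_of_isometry ⇑Q ht g hg.1, inv_one,
    one_pow, mul_one]
  exact hg.2

include h2 hQ hn hm in
/-- conjugates of `h` under class-preserving similarities are, modulo scalars, conjugates under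
`Ω` -/
theorem exists_Inn_conj
    (h : ↥(Cfsg.isometryGroup F ⇑Q)) {k : ℕ} (hodd : Odd k) (hkF : (k : F) ≠ 0) (hk : h ^ k = 1)
    (hE2 : negOne Q ∈ Cfsg.Omega F ⇑Q → ∃ c₂ : ↥(Cfsg.isometryGroup F ⇑Q), c₂ * h = h * c₂ ∧
      detHom ⇑Q c₂ = 1 ∧ c₂ ∉ Cfsg.Omega F ⇑Q)
    (g : ↥(Cfsg.Geo.quadSimilarityGroup (F := F) ⇑Q)) (hg : dHom Q ht m g = 1) :
    ∃ Y ∈ Cfsg.Inn (Cfsg.POmega F ⇑Q),
      Y * conjAut ⇑Q (toGO Q h) * Y⁻¹
        = conjAut ⇑Q g * conjAut ⇑Q (toGO Q h) * (conjAut ⇑Q g)⁻¹ := by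
  -- Step A: reduce to a square multiplier
  obtain ⟨g', hg'd, hg'sq, hg'c⟩ : ∃ g' : ↥(Cfsg.Geo.quadSimilarityGroup (F := F) ⇑Q),
      dHom Q ht m g' = 1 ∧ IsSquare ((multHom ⇑Q ht g' : Fˣ) : F) ∧
      conjAut ⇑Q g' * conjAut ⇑Q (toGO Q h) * (conjAut ⇑Q g')⁻¹
        = conjAut ⇑Q g * conjAut ⇑Q (toGO Q h) * (conjAut ⇑Q g)⁻¹ := by
    by_cases hsq : IsSquare ((multHom ⇑Q ht g : Fˣ) : F)
    · exact ⟨g, hg, hsq, rfl⟩
    · obtain ⟨c₁, hcomm, hnsq, hd⟩ := exists_commuting_nonsquare Q h2 hQ hn ht m hm h hodd hkF hk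
      refine ⟨g * c₁, by rw [map_mul, hg, hd, one_mul], ?_, ?_⟩
      · rw [map_mul, Units.val_mul,
          isSquare_mul_iff (Units.ne_zero _) (Units.ne_zero _)]
        exact ⟨fun a => absurd a hsq, fun a => absurd a hnsq⟩
      · have e : c₁ * toGO Q h * c₁⁻¹ = toGO Q h := by rw [hcomm]; group
        rw [← map_inv, ← map_mul, ← map_mul, ← map_inv, ← map_mul, ← map_mul]
        congr 1
        calc g * c₁ * toGO Q h * (g * c₁)⁻¹ = g * (c₁ * toGO Q h * c₁⁻¹) * g⁻¹ := by group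
          _ = g * toGO Q h * g⁻¹ := by rw [e]
  rw [← hg'c]
  -- Step B: `g' = r * scalar` with `r ∈ SO`
  have hchar : goChar Q h2 hQ ht m hm g' = 1 := by
    rw [goChar_eq_one_iff]
    exact ⟨hg'sq, hg'd⟩
  rw [goChar_eq_one_iff_exists] at hchar
  obtain ⟨r, hr, c, rfl⟩ := hchar
  rw [Subgroup.mem_subgroupOf] at hr
  set s : ↥(Cfsg.isometryGroup F ⇑Q) := ⟨r.1, hr.1⟩ with hs
  have hto : toGO Q s = r := Subtype.ext rfl
  have hsdet : detHom ⇑Q s = 1 := hr.2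
  have hπ : conjAut ⇑Q (r * scalarGO Q c) = conjAut ⇑Q (toGO Q s) := by
    rw [hto, map_mul,
      MonoidHom.mem_ker.1 (mem_ker_of_mem_scalars ⇑Q _ (scalarGO_mem_scalars Q c)), mul_one]
  rw [hπ]
  -- Step C
  by_cases hin : conjAut ⇑Q (toGO Q s) ∈ Cfsg.Inn (Cfsg.POmega F ⇑Q)
  · exact ⟨_, hin, rfl⟩
  · have hneg : negOne Q ∈ Cfsg.Omega F ⇑Q := by
      by_contra hneg
      have e : Cfsg.Inn (Cfsg.POmega F ⇑Q) = Cfsg.psoAut F ⇑Q :=
        le_antisymm (Inn_le_psoAut _) (Subgroup.relIndex_eq_one.1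
          (relIndex_Inn_psoAut_of_not_mem _ h2 hQ hn ⟨m, by rw [hm, two_mul]⟩ hneg))
      apply hin
      rw [e, psoAut_eq_map]
      refine ⟨toGO Q s, ?_, rfl⟩
      rw [SetLike.mem_coe, Subgroup.mem_subgroupOf, hto]
      exact hr
    obtain ⟨c₂, hc₂comm, hc₂det, hc₂Ω⟩ := hE2 hneg
    obtain ⟨ν, hν⟩ := FiniteField.exists_nonsquare (F := F) (ringChar_ne_two_of_two_ne_zero h2)
    have hsΩ : s ∉ Cfsg.Omega F ⇑Q := fun hmem =>
      hin ((conjAut_toGO_mem_Inn_iff Q hQ hn hneg s).2 hmem)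
    have hs1 : signChar ⇑Q ν s = -1 := by
      rcases Int.units_eq_one_or (signChar ⇑Q ν s) with h' | h'
      · exact absurd ((mem_Omega_iff_signChar Q h2 hQ hν s hsdet).2 h') hsΩ
      · exact h'
    have hs2 : signChar ⇑Q ν c₂ = -1 := by
      rcases Int.units_eq_one_or (signChar ⇑Q ν c₂) with h' | h'
      · exact absurd ((mem_Omega_iff_signChar Q h2 hQ hν c₂ hc₂det).2 h') hc₂Ω
      · exact h'
    have hprod : s * c₂ ∈ Cfsg.Omega F ⇑Q := by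
      rw [mem_Omega_iff_signChar Q h2 hQ hν (s * c₂) (by rw [map_mul, hsdet, hc₂det, one_mul]),
        map_mul, hs1, hs2]
      decide
    refine ⟨conjAut ⇑Q (toGO Q (s * c₂)),
      (conjAut_toGO_mem_Inn_iff Q hQ hn hneg (s * c₂)).2 hprod, ?_⟩
    have e : c₂ * h * c₂⁻¹ = h := by rw [hc₂comm]; group
    rw [← map_inv, ← map_mul, ← map_mul, ← map_inv, ← map_mul, ← map_mul,
      ← map_inv, ← map_mul, ← map_mul, ← map_inv, ← map_mul, ← map_mul]
    congr 2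
    calc s * c₂ * h * (s * c₂)⁻¹ = s * (c₂ * h * c₂⁻¹) * s⁻¹ := by group
      _ = s * h * s⁻¹ := by rw [e]

end main

end Cfsg.Agent.Helper43.Fus
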