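import Mathlib
import Cfsg.Agent.Helper43.FusF

/-!
# Class fusion, part G: the fusion theorem.
-/

set_option autoImplicit false

namespace Cfsg.Agent.Helper43.Fus

open Matrix QuadraticMap Module Cfsg.Agent.Helper44

universe u

variable {F : Type u} [Field F] [Fintype F] {ι : Type} [Fintype ι] [DecidableEq ι]
variable (Q : QuadraticForm F (ι → F))

section main

variable (h2 : (2 : F) ≠ 0) (hQ : (QuadraticMap.polarBilin Q).Nondegenerate)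
  (hn : 7 ≤ Fintype.card ι) {t : ι → F} (ht : Q t ≠ 0) (m : ℕ) (hm : Fintype.card ι = 2 * m)

include h2 hQ hn hm in
/-- **Fusion theorem.** For an automorphism `x` of odd order `r` (prime to the characteristic)
of `PΩ(Q)` induced by a similarity: the `Inn`-class, the `PSO`-class and the class under the
image of the class-preserving similarities coincide, and the `PO`-class is the `PGO`-class;
provided that, when `-1 ∈ Ω`, every isometry of order dividing `r` commutes with an element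
of `SO ∖ Ω`. -/
theorem fusion (x : MulAut (Cfsg.POmega F ⇑Q)) (hx : x ∈ Cfsg.pgoAut F ⇑Q) {r : ℕ} (hro : Odd r)
    (hrF : (r : F) ≠ 0) (hxr : x ^ r = 1)
    (hE2 : negOne Q ∈ Cfsg.Omega F ⇑Q → ∀ h : ↥(Cfsg.isometryGroup F ⇑Q), h ^ r = 1 →
      ∃ c₂ : ↥(Cfsg.isometryGroup F ⇑Q), c₂ * h = h * c₂ ∧ detHom ⇑Q c₂ = 1 ∧
        c₂ ∉ Cfsg.Omega F ⇑Q) :
    (∀ y : MulAut (Cfsg.POmega F ⇑Q),
      (Cfsg.IsConjUnder (Cfsg.Inn (Cfsg.POmega F ⇑Q)) x y ↔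
        Cfsg.IsConjUnder (((dHom Q ht m).ker).map (conjAut ⇑Q)) x y) ∧
      (Cfsg.IsConjUnder (Cfsg.psoAut F ⇑Q) x y ↔
        Cfsg.IsConjUnder (((dHom Q ht m).ker).map (conjAut ⇑Q)) x y)) ∧
    (∀ y : MulAut (Cfsg.POmega F ⇑Q),
      Cfsg.IsConjUnder (Cfsg.poAut F ⇑Q) x y ↔ Cfsg.IsConjUnder (Cfsg.pgoAut F ⇑Q) x y) := by
  obtain ⟨h, hhr, rfl⟩ := exists_isometry_rep Q hQ hn ht x hx hro hxr
  have hInn_le : Cfsg.Inn (Cfsg.POmega F ⇑Q) ≤ ((dHom Q ht m).ker).map (conjAut ⇑Q) := by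
    rw [Inn_eq_map]
    exact Subgroup.map_mono (OmegaGL_subgroupOf_le_ker_dHom Q ht m)
  have hpso_le : Cfsg.psoAut F ⇑Q ≤ ((dHom Q ht m).ker).map (conjAut ⇑Q) := by
    rw [psoAut_eq_map]
    exact Subgroup.map_mono (SO_subgroupOf_le_ker_dHom Q ht m)
  have hkey : ∀ y, Cfsg.IsConjUnder (((dHom Q ht m).ker).map (conjAut ⇑Q))
      (conjAut ⇑Q (toGO Q h)) y → Cfsg.IsConjUnder (Cfsg.Inn (Cfsg.POmega F ⇑Q))
      (conjAut ⇑Q (toGO Q h)) y := by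
    rintro y ⟨_, ⟨g, hg, rfl⟩, rfl⟩
    obtain ⟨Y, hY, hYe⟩ := exists_Inn_conj Q h2 hQ hn ht m hm h hro hrF hhr
      (fun hneg => hE2 hneg h hhr) g (MonoidHom.mem_ker.1 hg)
    exact ⟨Y, hY, hYe.symm⟩
  refine ⟨fun y => ⟨⟨?_, hkey y⟩, ⟨?_, ?_⟩⟩, fun y => ⟨?_, ?_⟩⟩
  · rintro ⟨a, ha, rfl⟩
    exact ⟨a, hInn_le ha, rfl⟩
  · rintro ⟨a, ha, rfl⟩
    exact ⟨a, hpso_le ha, rfl⟩
  · intro hy
    obtain ⟨a, ha, e⟩ := hkey y hy
    exact ⟨a, Inn_le_psoAut Q ha, e⟩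
  · rintro ⟨a, ha, rfl⟩
    refine ⟨a, ?_, rfl⟩
    rw [poAut_eq_map] at ha
    rw [pgoAut_eq_map]
    obtain ⟨g, _, rfl⟩ := ha
    exact ⟨g, rfl⟩
  · rintro ⟨a, ha, rfl⟩
    rw [pgoAut_eq_map] at ha
    obtain ⟨g, rfl⟩ := ha
    obtain ⟨s, hs⟩ := exists_isometry_conj_eq Q hQ h hro hrF hhr g
    refine ⟨conjAut ⇑Q (toGO Q s), ?_, ?_⟩
    · rw [poAut_eq_map]
      refine ⟨toGO Q s, ?_, rfl⟩
      rw [SetLike.mem_coe, Subgroup.mem_subgroupOf, coe_toGO]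
      exact s.2
    · rw [← map_inv, ← map_mul, ← map_mul, ← map_inv, ← map_mul, ← map_mul, hs]

end main

end Cfsg.Agent.Helper43.Fus
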