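import Mathlib
import Cfsg.Agent.Helper43.FusG
import Cfsg.Agent.Helper44.GraphSplit2

/-!
# Class fusion, part H: the minus-type orthogonal groups.
-/

set_option autoImplicit false

namespace Cfsg.Agent.Helper43.Fus

open Matrix QuadraticMap Module Cfsg.Agent.Helper44

universe u

variable {F : Type u} [Field F] [Fintype F]

theorem fusion_minus (hodd : Odd (Fintype.card F)) {m : ℕ} (hm : 3 ≤ m) (a b : F)
    (hab : ∀ z₁ z₂ : F, z₁ ^ 2 + a * z₁ * z₂ + b * z₂ ^ 2 = 0 → z₁ = 0 ∧ z₂ = 0)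
    (x : MulAut (Cfsg.POmega F (Cfsg.quadFormMinus m F a b)))
    (hx : x ∈ Cfsg.pgoAut F (Cfsg.quadFormMinus m F a b)) {r : ℕ} (hro : Odd r)
    (hrF : (r : F) ≠ 0) (hxr : x ^ r = 1) :
    (∀ y : MulAut (Cfsg.POmega F (Cfsg.quadFormMinus m F a b)),
      (Cfsg.IsConjUnder (Cfsg.Inn (Cfsg.POmega F (Cfsg.quadFormMinus m F a b))) x y ↔
        Cfsg.IsConjUnder (Cfsg.inndiagPOmegaMinus m F a b) x y) ∧
      (Cfsg.IsConjUnder (Cfsg.psoAut F (Cfsg.quadFormMinus m F a b)) x y ↔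
        Cfsg.IsConjUnder (Cfsg.inndiagPOmegaMinus m F a b) x y)) ∧
    (∀ y : MulAut (Cfsg.POmega F (Cfsg.quadFormMinus m F a b)),
      Cfsg.IsConjUnder (Cfsg.poAut F (Cfsg.quadFormMinus m F a b)) x y ↔
        Cfsg.IsConjUnder (Cfsg.pgoAut F (Cfsg.quadFormMinus m F a b)) x y) := by
  have h2 : (2 : F) ≠ 0 := two_ne_zero_of_odd_card rfl hodd
  have hcrit := exists_neg_one_mem_Omega_minus_iff (F := F) rfl hodd (m + 1) (by omega) a b hab
  have hiff : negOne (minusForm m F a b) ∈ Cfsg.Omega F ⇑(minusForm m F a b)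
      ↔ (Even m ∧ Fintype.card F % 4 = 3) := by
    have h3 : (Even m ∧ Fintype.card F % 4 = 3) ↔ (Odd (m + 1) ∧ Fintype.card F % 4 = 3) := by
      rw [Nat.odd_add_one, Nat.not_odd_iff_even]
    rw [h3, ← pow_mod_four_eq_three_iff _ _ hodd, ← hcrit]
    exact negOne_mem_iff (minusForm m F a b)
  have hD : ¬ IsSquare (a ^ 2 - 4 * b) := not_isSquare_disc_of_anisotropic h2 a b hab
  have hD0 : a ^ 2 - 4 * b ≠ 0 := by
    intro h0
    exact hD ⟨0, by rw [h0, mul_zero]⟩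
  have hQ := nondegenerate_minusForm (F := F) m a b hD0
  have hcard : Fintype.card ((Fin m ⊕ Fin m) ⊕ Fin 2) = 2 * (m + 1) := by
    rw [Fintype.card_sum, Fintype.card_sum, Fintype.card_fin, Fintype.card_fin]; omega
  have hn : 7 ≤ Fintype.card ((Fin m ⊕ Fin m) ⊕ Fin 2) := by rw [hcard]; omega
  obtain ⟨t, _, _, ht⟩ := exists_nonsingular_perp_pair (minusForm m F a b) hQ
    (by rw [Module.finrank_fintype_fun_eq_card]; omega) 0 0
  have hGeq := inndiagMinus_eq_map h2 (by omega : 2 ≤ m) a b hab ht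
  rw [hGeq]
  apply fusion (minusForm m F a b) h2 hQ hn ht (m + 1) hcard x hx hro hrF hxr
  intro hneg h hhr
  have hme : Even m := (hiff.1 hneg).1
  obtain ⟨w₁, w₂, hw⟩ := exists_binary_nonsquare h2 a b hD0
  have hν : w₁ ^ 2 + a * w₁ * w₂ + b * w₂ ^ 2 ≠ 0 := by
    intro h0
    exact hw ⟨0, by rw [h0, mul_zero]⟩
  have hmγ := multHom_gammaGO m a b w₁ w₂ hν ht
  have hγm : ¬ IsSquare ((multHom ⇑(minusForm m F a b) ht (gammaGO m a b w₁ w₂ hν) : Fˣ) : F) := by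
    rw [hmγ, Units.val_mk0]
    exact hw
  have hγd : dHom (minusForm m F a b) ht (m + 1) (gammaGO m a b w₁ w₂ hν) = -1 := by
    rw [dHom_gammaGO, Odd.neg_one_pow (Even.add_one hme)]
  obtain ⟨ψ, hs, hk⟩ := exists_psi_four_of_gamma (minusForm m F a b) h2 hQ hn ht (m + 1) hcard
    hneg (gammaGO m a b w₁ w₂ hν) _ (gammaGO_mul_self m a b w₁ w₂ hν) hγm hγd
  exact exists_commuting_not_mem_Omega_of_psi (minusForm m F a b) h2 hQ hn ht (m + 1) hcard hneg
    ψ hs hk h hro hrF hhr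

end Cfsg.Agent.Helper43.Fus
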