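import Mathlib

/-!
# Class fusion, part I: the sign of a semiregular permutation of 2-power order.
-/

set_option autoImplicit false

namespace Cfsg.Agent.Helper43.Fus

open Equiv Equiv.Perm

/-- A permutation of order dividing `2 ^ a` all of whose non-trivial cycles have the full length
`2 ^ a` and which moves `2 ^ a * t` points with `t` odd, is odd. -/
theorem sign_of_semiregular {X : Type*} [Fintype X] [DecidableEq X] (σ : Perm X) {a t : ℕ}
    (ha : 1 ≤ a) (hσ : σ ^ (2 ^ a) = 1)
    (hsr : ∀ x : X, ∀ i : ℕ, 0 < i → i < 2 ^ a → (σ ^ i) x = x → σ x = x)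
    (ht : Odd t) (hsupp : σ.support.card = 2 ^ a * t) : Perm.sign σ = -1 := by
  have hall : ∀ m ∈ σ.cycleType, m = 2 ^ a := by
    intro m hm
    have h2 : 2 ≤ m := two_le_of_mem_cycleType hm
    have hdvd : m ∣ 2 ^ a := (dvd_of_mem_cycleType hm).trans (orderOf_dvd_of_pow_eq_one hσ)
    obtain ⟨c, τ, hστ, hdisj, hc, hcard⟩ := mem_cycleType_iff.1 hm
    by_contra hne
    have hlt : m < 2 ^ a := lt_of_le_of_ne (Nat.le_of_dvd (by positivity) hdvd) hne
    have hne' : c.support.Nonempty := by
      rw [← Finset.card_pos, hcard]; omega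
    obtain ⟨x, hx⟩ := hne'
    have hcx : c x ≠ x := Perm.mem_support.1 hx
    have hτx : τ x = x := by
      rcases hdisj x with h | h
      · exact absurd h hcx
      · exact h
    have hτp : ∀ k : ℕ, (τ ^ k) x = x := by
      intro k
      induction k with
      | zero => rfl
      | succ k ih => rw [pow_succ, Perm.mul_apply, hτx, ih]
    have hcm : c ^ m = 1 := by
      rw [← hcard, ← hc.orderOf]
      exact pow_orderOf_eq_one c
    have hσm : (σ ^ m) x = x := by
      rw [hστ, hdisj.commute.mul_pow, Perm.mul_apply, hτp, hcm]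
      rfl
    have := hsr x m (by omega) hlt hσm
    rw [hστ, Perm.mul_apply, hτx] at this
    exact hcx this
  have hrep : σ.cycleType = Multiset.replicate (Multiset.card σ.cycleType) (2 ^ a) :=
    Multiset.eq_replicate.2 ⟨rfl, hall⟩
  have hsum : σ.cycleType.sum = 2 ^ a * t := by rw [sum_cycleType, hsupp]
  have hcardt : Multiset.card σ.cycleType = t := by
    rw [hrep, Multiset.sum_replicate, smul_eq_mul, mul_comm] at hsum
    exact Nat.eq_of_mul_eq_mul_left (by positivity) hsum
  rw [sign_of_cycleType, hsum, hcardt]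
  have hodd : Odd (2 ^ a * t + t) := by
    have he : Even (2 ^ a * t) := by
      apply Even.mul_right
      exact (Nat.even_pow.2 ⟨even_two, by omega⟩)
    exact he.add_odd ht
  exact hodd.neg_one_pow

end Cfsg.Agent.Helper43.Fus
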