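import Mathlib
import Cfsg.Agent.Helper43.OrthSSB
import Cfsg.Agent.Helper44.QTypeFpf
import Cfsg.Agent.Helper44.QTypeSim
import Cfsg.Agent.Helper44.QTypeClassify
import Cfsg.Agent.Helper44.OrthRealizeE

/-!
# Class fusion, part J: counting the vectors of given norm outside an invariant subspace.
-/

set_option autoImplicit false

namespace Cfsg.Agent.Helper43.Fus

open QuadraticMap Module Cfsg.Agent.Helper44 Cfsg.Agent.Helper44.QType
open Cfsg.Agent.Helper43.OrthSS Cfsg.Agent.Helper43.SpSS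

universe u v

variable {F : Type u} [Field F] [Fintype F] {V : Type v} [AddCommGroup V] [Module F V]
  [FiniteDimensional F V]

omit [Fintype F] [FiniteDimensional F V] in
theorem polar_comp_subtype (Q : QuadraticForm F V) (S : Submodule F V) (x y : S) :
    polar (Q.comp S.subtype) x y = polar Q (x : V) (y : V) := by
  simp only [QuadraticMap.polar, QuadraticMap.comp_apply, Submodule.subtype_apply,
    Submodule.coe_add]

omit [Fintype F] [FiniteDimensional F V] in
theorem iterate_restrict {H : Module.End F V} (S : Submodule F V) (hS : S ∈ H.invtSubmodule)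
    (n : ℕ) (x : S) :
    (((fun y : S => (⟨H y, hS y.2⟩ : S))^[n] x : S) : V) = (H ^ n) (x : V) := by
  induction n with
  | zero => rfl
  | succ n ih =>
    rw [Function.iterate_succ_apply', pow_succ', Module.End.mul_apply, ← ih]

/-- the type of an invariant nondegenerate subspace for a fixed-point-free isometry of prime
order -/
theorem type_of_invariant (Q : QuadraticForm F V) {H : Module.End F V} {r : ℕ} [Fact r.Prime]
    (hd : OData Q H r) (hrq : ¬ r ∣ Nat.card F) (hfpf : ∀ x, H x = x → x = 0)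
    (S : Submodule F V) (hS : S ∈ H.invtSubmodule)
    (hSn : ∀ x ∈ S, (∀ y ∈ S, polar Q x y = 0) → x = 0) {s : ℕ} (hs : finrank F S = 2 * s) :
    (∀ x : S, (∀ y : S, polar (Q.comp S.subtype) x y = 0) → x = 0) ∧
    ∃ ε : ℤ, (ε = 1 ∨ ε = -1) ∧ HasType (⇑(Q.comp S.subtype)) s ε ∧
      ((Nat.card F : ℕ) : ZMod r) ^ s = ((ε : ℤ) : ZMod r) := by
  have hnd : ∀ x : S, (∀ y : S, polar (Q.comp S.subtype) x y = 0) → x = 0 := by
    intro x hx
    apply Subtype.ext
    apply hSn x x.2
    intro y hy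
    have := hx ⟨y, hy⟩
    rwa [polar_comp_subtype] at this
  refine ⟨hnd, ?_⟩
  obtain ⟨ε, hε, hT⟩ := exists_hasType (Q.comp S.subtype) hs hnd
  refine ⟨ε, hε, hT, ?_⟩
  apply pow_eq_of_fpf (Q.comp S.subtype) hs hnd hT r hrq (fun x => ⟨H x, hS x.2⟩)
  · intro v
    show Q (H v) = Q v
    exact hd.isom v
  · intro v
    apply Subtype.ext
    rw [iterate_restrict S hS r v, hd.pow_apply]
  · intro v hv
    apply Subtype.ext
    exact hfpf v (congrArg Subtype.val hv)

/-- the arithmetic behind the count -/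
theorem count_arith (q : ℤ) (hq : Odd q) {m j m' : ℕ} (hm : m = j + m') {εV εW εP : ℤ}
    (hW : εW = 1 ∨ εW = -1) (hP : εP = 1 ∨ εP = -1) (hV : εV = εW * εP) {A B : ℤ}
    (hA : A * q = q ^ m * (q ^ m - εV)) (hB : B * q = q ^ m' * (q ^ m' - εP)) {a : ℕ} {t : ℤ}
    (ht : Odd t) (hj : q ^ j - εW = 2 ^ a * t) :
    ∃ t' : ℤ, Odd t' ∧ A - B = 2 ^ a * t' := by
  have hW2 : εW * εW = 1 := by rcases hW with rfl | rfl <;> norm_num
  have hεWo : Odd εW := by rcases hW with rfl | rfl <;> decide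
  have hεPo : Odd εP := by rcases hP with rfl | rfl <;> decide
  set u : ℤ := q ^ m + εW * q ^ m' - εW * εP with hu
  have huo : Odd u := by
    have h1 : Odd (q ^ m) := hq.pow
    have h2 : Odd (εW * q ^ m') := hεWo.mul hq.pow
    have h3 : Odd (εW * εP) := hεWo.mul hεPo
    exact (h1.add_odd h2).sub_odd h3
  have key : (A - B) * q = 2 ^ a * (q ^ m' * t * u) := by
    have e1 : q ^ m = q ^ j * q ^ m' := by rw [hm, pow_add]
    have e2 : (A - B) * q = q ^ m' * (q ^ j - εW) * u := by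
      rw [sub_mul, hA, hB, hV, hu, e1]
      linear_combination (-(q ^ m' * εP) + q ^ m' * q ^ m') * hW2
    rw [e2, hj]
    ring
  have hcop : IsCoprime ((2 : ℤ) ^ a) q := by
    apply IsCoprime.pow_left
    rw [Int.isCoprime_iff_gcd_eq_one]
    rcases hq with ⟨k, rfl⟩
    rw [Int.gcd_comm]
    simp
  have hdvd : (2 : ℤ) ^ a ∣ A - B :=
    hcop.dvd_of_dvd_mul_right ⟨_, key⟩
  obtain ⟨t', ht'⟩ := hdvd
  refine ⟨t', ?_, ht'⟩
  rw [ht', mul_assoc] at key
  have h2 : t' * q = q ^ m' * t * u := mul_left_cancel₀ (by positivity) key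
  by_contra hne
  rw [Int.not_odd_iff_even] at hne
  have h3 : Even (t' * q) := hne.mul_right q
  rw [h2] at h3
  have h4 : Odd (q ^ m' * t * u) := (hq.pow.mul ht).mul huo
  exact (Int.not_even_iff_odd.2 h4) h3

/-- **Counting.** For a fixed-point-free isometry `H` of odd prime order and an orthogonal
decomposition `V = W ⊕ P` into invariant subspaces, the number of vectors of norm `e ≠ 0` outside
`P` is `2 ^ a` times an odd number, where `2 ^ a` is the exact power of two in `q ^ j - εW`. -/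
theorem fc_sub_fc (Q : QuadraticForm F V) {H : Module.End F V} {r : ℕ} [Fact r.Prime]
    (hr2 : r ≠ 2) (hd : OData Q H r) (hrq : ¬ r ∣ Nat.card F) (hfpf : ∀ x, H x = x → x = 0)
    {m : ℕ} (hV : finrank F V = 2 * m) (W P : Submodule F V) (hWP : IsCompl W P)
    (horth : ∀ w ∈ W, ∀ p ∈ P, polar Q w p = 0) (hWi : W ∈ H.invtSubmodule)
    (hPi : P ∈ H.invtSubmodule) {j : ℕ} (hj : finrank F W = 2 * j) {εW : ℤ}
    (hεW : εW = 1 ∨ εW = -1)
    (hqW : ((Nat.card F : ℕ) : ZMod r) ^ j = ((εW : ℤ) : ZMod r)) {a : ℕ} {t : ℤ} (ht : Odd t)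
    (hat : (Nat.card F : ℤ) ^ j - εW = 2 ^ a * t) (hqodd : Odd (Nat.card F)) (e : F)
    (he : e ≠ 0) :
    ∃ t' : ℤ, Odd t' ∧
      (fc (⇑Q) e : ℤ) - (fc (⇑(Q.comp P.subtype)) e : ℤ) = 2 ^ a * t' := by
  have hr : r.Prime := Fact.out
  have hndV : ∀ x : V, (∀ y, polar Q x y = 0) → x = 0 := by
    intro x hx
    exact hd.nondeg.1 x hx
  have hdec : ∀ y : V, ∃ w ∈ W, ∃ p ∈ P, w + p = y := by
    intro y
    have : y ∈ W ⊔ P := by rw [hWP.sup_eq_top]; exact Submodule.mem_top
    exact Submodule.mem_sup.1 this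
  have hWn : ∀ x ∈ W, (∀ y ∈ W, polar Q x y = 0) → x = 0 := by
    intro x hx hxo
    apply hndV
    intro y
    obtain ⟨w, hw, p, hp, rfl⟩ := hdec y
    rw [polar_add_right, hxo w hw, horth x hx p hp, add_zero]
  have hPn : ∀ x ∈ P, (∀ y ∈ P, polar Q x y = 0) → x = 0 := by
    intro x hx hxo
    apply hndV
    intro y
    obtain ⟨w, hw, p, hp, rfl⟩ := hdec y
    rw [polar_add_right, hxo p hp, polar_comm, horth w hw x hx, add_zero]
  have hfin := Submodule.finrank_add_eq_of_isCompl hWP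
  have hjm : j ≤ m := by omega
  have hPf : finrank F P = 2 * (m - j) := by omega
  obtain ⟨εV, hεV, hTV⟩ := exists_hasType Q hV hndV
  have hqV : ((Nat.card F : ℕ) : ZMod r) ^ m = ((εV : ℤ) : ZMod r) := by
    apply pow_eq_of_fpf Q hV hndV hTV r hrq (fun x => H x) hd.isom
    · intro v
      have : ∀ n : ℕ, (fun x => H x)^[n] v = (H ^ n) v := by
        intro n
        induction n with
        | zero => rfl
        | succ n ih => rw [Function.iterate_succ_apply', pow_succ', Module.End.mul_apply, ← ih]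
      rw [this, hd.pow_apply]
    · exact hfpf
  obtain ⟨-, εW', hεW', -, hqW'⟩ := type_of_invariant Q hd hrq hfpf W hWi hWn hj
  obtain ⟨hndP, εP, hεP, hTP, hqP⟩ := type_of_invariant Q hd hrq hfpf P hPi hPn hPf
  have hVWP : εV = εW * εP := by
    have hmul : εW * εP = 1 ∨ εW * εP = -1 := by
      rcases hεW with rfl | rfl <;> rcases hεP with rfl | rfl <;> norm_num
    apply sign_eq_of_cast_eq hr hr2 hεV hmul
    rw [← hqV, Int.cast_mul, ← hqW, ← hqP, ← pow_add]
    congr 1
    omega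
  have hA := fc_one_mul Q hV hndV hTV
  rw [← fc_eq_fc_one Q hV hndV e he] at hA
  have hB := fc_one_mul (Q.comp P.subtype) hPf hndP hTP
  rw [← fc_eq_fc_one (Q.comp P.subtype) hPf hndP e he] at hB
  have hqo : Odd (Nat.card F : ℤ) := by exact_mod_cast hqodd
  exact count_arith (Nat.card F : ℤ) hqo (show m = j + (m - j) by omega) hεW hεP hVWP hA hB ht hat

end Cfsg.Agent.Helper43.Fus
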