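import Mathlib
import Cfsg.Agent.Helper43.FusI
import Cfsg.Agent.Helper43.FusJ
import Cfsg.Agent.Helper44.Spinor

/-!
# Class fusion, part K: the sign character of a semiregular isometry of 2-power order.
-/

set_option autoImplicit false

namespace Cfsg.Agent.Helper43.Fus

open Matrix QuadraticMap Module Cfsg.Agent.Helper44 Cfsg.Agent.Helper44.QType

universe u

variable {F : Type u} [Field F] [Fintype F] {ι : Type} [Fintype ι] [DecidableEq ι]

theorem pow_mulVec_eq (Q : QuadraticForm F (ι → F)) (c₂ : ↥(Cfsg.isometryGroup F ⇑Q))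
    (c : Module.End F (ι → F))
    (hc : ∀ x, ((c₂ : GL ι F) : Matrix ι ι F) *ᵥ x = c x) (i : ℕ) (x : ι → F) :
    (((c₂ ^ i : ↥(Cfsg.isometryGroup F ⇑Q)) : GL ι F) : Matrix ι ι F) *ᵥ x = (c ^ i) x := by
  induction i generalizing x with
  | zero =>
    rw [pow_zero, pow_zero]
    exact isometryGroup_one_mulVec x
  | succ i ih =>
    rw [pow_succ, pow_succ, isometryGroup_mul_mulVec, hc, ih, Module.End.mul_apply]

/-- If the isometry `c₂` has order dividing `2 ^ a`, fixes `P` pointwise, acts semiregularly on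
`W ∖ 0` (`V = W ⊕ P`) and the number of vectors of norm `e` outside `P` is `2 ^ a` times an odd
number, then `c₂` acts as an odd permutation on the vectors of norm `e`. -/
theorem signChar_eq_neg_one_of_count (Q : QuadraticForm F (ι → F))
    (c₂ : ↥(Cfsg.isometryGroup F ⇑Q)) (c : Module.End F (ι → F))
    (hc : ∀ x, ((c₂ : GL ι F) : Matrix ι ι F) *ᵥ x = c x) (W P : Submodule F (ι → F))
    (hWP : IsCompl W P) (hcP : ∀ p ∈ P, c p = p) {a : ℕ} (ha : 1 ≤ a)
    (hcpow : c ^ (2 ^ a) = 1)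
    (hsr : ∀ i : ℕ, 0 < i → i < 2 ^ a → ∀ w ∈ W, (c ^ i) w = w → w = 0) (e : F)
    (hcount : ∃ t' : ℤ, Odd t' ∧
      (fc (⇑Q) e : ℤ) - (fc (⇑(Q.comp P.subtype)) e : ℤ) = 2 ^ a * t') :
    signChar ⇑Q e c₂ = -1 := by
  classical
  have hpowv := pow_mulVec_eq Q c₂ c hc
  have hcPi : ∀ (i : ℕ), ∀ p ∈ P, (c ^ i) p = p := by
    intro i
    induction i with
    | zero => intro p _; rfl
    | succ i ih =>
      intro p hp
      rw [pow_succ, Module.End.mul_apply, hcP p hp, ih p hp]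
  have h1lt : 1 < 2 ^ a := Nat.one_lt_two_pow (by omega)
  -- fixed vectors of a non-trivial power lie in `P`
  have hfixP : ∀ i : ℕ, 0 < i → i < 2 ^ a → ∀ x : ι → F, (c ^ i) x = x → x ∈ P := by
    intro i hi hi' x hx
    have : x ∈ W ⊔ P := by rw [hWP.sup_eq_top]; exact Submodule.mem_top
    obtain ⟨w, hw, p, hp, rfl⟩ := Submodule.mem_sup.1 this
    rw [map_add, hcPi i p hp] at hx
    have hw0 : w = 0 := hsr i hi hi' w hw (add_right_cancel hx)
    rw [hw0, zero_add]
    exact hp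
  set σ : Equiv.Perm (LevelSet (⇑Q) e) := MulAction.toPerm c₂ with hσ
  have hσpow : ∀ i : ℕ, σ ^ i = MulAction.toPerm (c₂ ^ i) := by
    intro i
    rw [hσ]
    exact ((MulAction.toPermHom (↥(Cfsg.isometryGroup F ⇑Q)) (LevelSet (⇑Q) e)).map_pow c₂ i).symm
  have hσval : ∀ (i : ℕ) (x : LevelSet (⇑Q) e), ((σ ^ i) x).val = (c ^ i) x.val := by
    intro i x
    rw [hσpow, MulAction.toPerm_apply, LevelSet.smul_val, hpowv]
  have hσ1 : ∀ x : LevelSet (⇑Q) e, (σ x).val = c x.val := by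
    intro x
    have := hσval 1 x
    rwa [pow_one, pow_one] at this
  have hσn : σ ^ (2 ^ a) = 1 := by
    apply Equiv.ext
    intro x
    apply LevelSet.ext'
    rw [hσval, hcpow]
    rfl
  have hsr' : ∀ x : LevelSet (⇑Q) e, ∀ i : ℕ, 0 < i → i < 2 ^ a → (σ ^ i) x = x → σ x = x := by
    intro x i hi hi' hx
    apply LevelSet.ext'
    rw [hσ1]
    apply hcP
    apply hfixP i hi hi'
    rw [← hσval, hx]
  have hfix_iff : ∀ x : LevelSet (⇑Q) e, σ x = x ↔ x.val ∈ P := by
    intro x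
    constructor
    · intro hx
      apply hfixP 1 Nat.one_pos h1lt
      rw [pow_one, ← hσ1, hx]
    · intro hx
      apply LevelSet.ext'
      rw [hσ1]
      exact hcP _ hx
  -- cardinalities
  have hcardX : Fintype.card (LevelSet (⇑Q) e) = fc (⇑Q) e := by
    unfold fc
    rw [← Nat.card_eq_fintype_card]
    apply Nat.card_congr
    exact ⟨fun x => ⟨x.val, x.prop⟩, fun v => ⟨v.1, v.2⟩, fun x => rfl, fun v => rfl⟩
  have hcardFix : Fintype.card (Function.fixedPoints σ) = fc (⇑(Q.comp P.subtype)) e := by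
    unfold fc
    rw [← Nat.card_eq_fintype_card]
    apply Nat.card_congr
    refine ⟨fun x => ⟨⟨x.1.val, (hfix_iff x.1).1 x.2⟩, x.1.prop⟩,
      fun v => ⟨⟨v.1.1, v.2⟩, (hfix_iff _).2 v.1.2⟩, fun x => rfl, fun v => rfl⟩
  have hsum := Equiv.Perm.card_fixedPoints σ
  rw [Equiv.Perm.sum_cycleType] at hsum
  have hle : σ.support.card ≤ Fintype.card (LevelSet (⇑Q) e) := Finset.card_le_univ _
  obtain ⟨t', ht', hcnt⟩ := hcount
  rw [← hcardX, ← hcardFix, hsum] at hcnt
  have hcnt' : (σ.support.card : ℤ) = 2 ^ a * t' := by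
    rw [← hcnt]
    push_cast [Nat.cast_sub hle]
    ring
  have ht'pos : 0 ≤ t' := by
    by_contra hneg
    push Not at hneg
    have : (2 : ℤ) ^ a * t' < 0 := mul_neg_of_pos_of_neg (by positivity) hneg
    rw [← hcnt'] at this
    have h0 : (0 : ℤ) ≤ (σ.support.card : ℤ) := Int.natCast_nonneg _
    omega
  obtain ⟨t, rfl⟩ := Int.eq_ofNat_of_zero_le ht'pos
  have hto : Odd t := by exact_mod_cast ht'
  have hsupp : σ.support.card = 2 ^ a * t := by exact_mod_cast hcnt'
  rw [signChar_apply]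
  exact sign_of_semiregular σ ha hσn hsr' hto hsupp

end Cfsg.Agent.Helper43.Fus
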