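import Mathlib
import Cfsg.Agent.Helper43.FusK
import Cfsg.Agent.Helper13.Isom

/-!
# Class fusion, part L: extending an isometry of a nondegenerate invariant subspace by the
identity.
-/

set_option autoImplicit false

namespace Cfsg.Agent.Helper43.Fus

open Matrix QuadraticMap Module Cfsg.Agent.Helper44

universe u v

section abstract

variable {F : Type u} [Field F] {V : Type v} [AddCommGroup V] [Module F V]

/-- the extension of `T : End W` by the identity on the complement `P` -/
noncomputable def extId {W P : Submodule F V} (hWP : IsCompl W P) (T : Module.End F W) :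
    Module.End F V :=
  LinearMap.ofIsCompl hWP (W.subtype ∘ₗ T) P.subtype

theorem extId_left {W P : Submodule F V} (hWP : IsCompl W P) (T : Module.End F W) (w : W) :
    extId hWP T (w : V) = (T w : V) := by
  rw [extId, LinearMap.ofIsCompl_apply_left]
  rfl

theorem extId_left' {W P : Submodule F V} (hWP : IsCompl W P) (T : Module.End F W) (w : V)
    (hw : w ∈ W) : extId hWP T w = (T ⟨w, hw⟩ : V) :=
  extId_left hWP T ⟨w, hw⟩

theorem extId_right {W P : Submodule F V} (hWP : IsCompl W P) (T : Module.End F W) (p : V)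
    (hp : p ∈ P) : extId hWP T p = p := by
  have := LinearMap.ofIsCompl_apply_right hWP (φ := W.subtype ∘ₗ T) (ψ := P.subtype) ⟨p, hp⟩
  exact this

theorem extId_mem {W P : Submodule F V} (hWP : IsCompl W P) (T : Module.End F W) (w : V)
    (hw : w ∈ W) : extId hWP T w ∈ W := by
  rw [extId_left' hWP T w hw]
  exact (T ⟨w, hw⟩).2

theorem extId_pow_left {W P : Submodule F V} (hWP : IsCompl W P) (T : Module.End F W) (i : ℕ)
    (w : W) : (extId hWP T ^ i) (w : V) = ((T ^ i) w : V) := by
  induction i generalizing w with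
  | zero => rfl
  | succ i ih =>
    rw [pow_succ, pow_succ, Module.End.mul_apply, Module.End.mul_apply, extId_left, ih]

theorem extId_pow_right {W P : Submodule F V} (hWP : IsCompl W P) (T : Module.End F W) (i : ℕ)
    (p : V) (hp : p ∈ P) : (extId hWP T ^ i) p = p := by
  induction i with
  | zero => rfl
  | succ i ih => rw [pow_succ, Module.End.mul_apply, extId_right hWP T p hp, ih]

theorem exists_decomp_of_isCompl {W P : Submodule F V} (hWP : IsCompl W P) (y : V) :
    ∃ w : W, ∃ p ∈ P, (w : V) + p = y := by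
  have : y ∈ W ⊔ P := by rw [hWP.sup_eq_top]; exact Submodule.mem_top
  obtain ⟨w, hw, p, hp, rfl⟩ := Submodule.mem_sup.1 this
  exact ⟨⟨w, hw⟩, p, hp, rfl⟩

theorem extId_pow_eq_one {W P : Submodule F V} (hWP : IsCompl W P) (T : Module.End F W) {n : ℕ}
    (hT : T ^ n = 1) : extId hWP T ^ n = 1 := by
  apply LinearMap.ext
  intro y
  obtain ⟨w, p, hp, rfl⟩ := exists_decomp_of_isCompl hWP y
  rw [map_add, extId_pow_left, extId_pow_right hWP T n p hp, hT]
  rfl

theorem extId_isometry (Q : QuadraticForm F V) {W P : Submodule F V} (hWP : IsCompl W P)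
    (horth : ∀ w ∈ W, ∀ p ∈ P, polar Q w p = 0) (T : Module.End F W)
    (hT : ∀ w : W, Q (T w : V) = Q (w : V)) (y : V) : Q (extId hWP T y) = Q y := by
  obtain ⟨w, p, hp, rfl⟩ := exists_decomp_of_isCompl hWP y
  rw [map_add, extId_left, extId_right hWP T p hp]
  have h1 := QuadraticMap.map_add Q ((T w : W) : V) p
  have h2 := QuadraticMap.map_add Q (w : V) p
  rw [h1, h2, hT, horth _ (T w).2 p hp, horth _ w.2 p hp]

theorem extId_commute {W P : Submodule F V} (hWP : IsCompl W P) (T : Module.End F W)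
    (H : Module.End F V) (hWi : W ∈ H.invtSubmodule) (hPi : P ∈ H.invtSubmodule)
    (hTH : ∀ w : W, (T ⟨H w, hWi w.2⟩ : V) = H (T w : V)) (y : V) :
    extId hWP T (H y) = H (extId hWP T y) := by
  obtain ⟨w, p, hp, rfl⟩ := exists_decomp_of_isCompl hWP y
  rw [map_add, map_add, extId_left' hWP T _ (hWi w.2), extId_right hWP T _ (hPi hp), map_add,
    extId_left, extId_right hWP T p hp, hTH, map_add]

end abstract

section concrete

variable {F : Type u} [Field F] {ι : Type} [Fintype ι] [DecidableEq ι]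

/-- an endomorphism of finite order preserving `Q`, as an element of the isometry group -/
noncomputable def isoOfEnd (Q : QuadraticForm F (ι → F)) (c : Module.End F (ι → F)) {n : ℕ}
    (hn : 0 < n) (hcn : c ^ n = 1) (hcQ : ∀ x, Q (c x) = Q x) : ↥(Cfsg.isometryGroup F ⇑Q) :=
  ⟨⟨LinearMap.toMatrix' c, LinearMap.toMatrix' (c ^ (n - 1)),
    by rw [← LinearMap.toMatrix'_mul, ← pow_succ', Nat.sub_add_cancel hn, hcn,
      LinearMap.toMatrix'_one],
    by rw [← LinearMap.toMatrix'_mul, ← pow_succ, Nat.sub_add_cancel hn, hcn,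
      LinearMap.toMatrix'_one]⟩,
    by
      rw [Helper13.mem_isometryGroup_iff]
      intro x
      show Q ((LinearMap.toMatrix' c) *ᵥ x) = Q x
      rw [LinearMap.toMatrix'_mulVec]
      exact hcQ x⟩

theorem isoOfEnd_mulVec (Q : QuadraticForm F (ι → F)) (c : Module.End F (ι → F)) {n : ℕ}
    (hn : 0 < n) (hcn : c ^ n = 1) (hcQ : ∀ x, Q (c x) = Q x) (x : ι → F) :
    (((isoOfEnd Q c hn hcn hcQ : ↥(Cfsg.isometryGroup F ⇑Q)) : GL ι F) : Matrix ι ι F) *ᵥ x
      = c x := by
  show (LinearMap.toMatrix' c) *ᵥ x = c x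
  rw [LinearMap.toMatrix'_mulVec]

theorem isoOfEnd_commute (Q : QuadraticForm F (ι → F)) (c : Module.End F (ι → F)) {n : ℕ}
    (hn : 0 < n) (hcn : c ^ n = 1) (hcQ : ∀ x, Q (c x) = Q x)
    (h : ↥(Cfsg.isometryGroup F ⇑Q))
    (hch : ∀ y, c (Matrix.toLin' ((h : GL ι F) : Matrix ι ι F) y)
      = Matrix.toLin' ((h : GL ι F) : Matrix ι ι F) (c y)) :
    isoOfEnd Q c hn hcn hcQ * h = h * isoOfEnd Q c hn hcn hcQ := by
  apply isometryGroup_ext
  intro x
  rw [isometryGroup_mul_mulVec, isometryGroup_mul_mulVec, isoOfEnd_mulVec, isoOfEnd_mulVec]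
  have := hch x
  rwa [Matrix.toLin'_apply, Matrix.toLin'_apply] at this

end concrete

end Cfsg.Agent.Helper43.Fus
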