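import Mathlib
import Cfsg.Agent.Helper43.SpSSG
import Cfsg.Agent.Helper43.FieldPow

/-!
# Class fusion, part M: the finite field generated by an irreducible cyclic endomorphism.
-/

set_option autoImplicit false

namespace Cfsg.Agent.Helper43.Fus

open Polynomial Module Cfsg.Agent.Helper43.SpSS

universe u v

variable {F : Type u} [Field F] [Fintype F]

/-- the Frobenius identity `p(x)^(q^k) = p(x^(q^k))` for polynomials over a field of `q`
elements -/
theorem frob_aeval {R : Type*} [Ring R] [Algebra F R] (x : R) (p : F[X]) (k : ℕ) :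
    (aeval x p) ^ (Fintype.card F ^ k) = aeval (x ^ (Fintype.card F ^ k)) p := by
  have base : ∀ y : R, (aeval y p) ^ Fintype.card F = aeval (y ^ Fintype.card F) p := by
    intro y
    rw [← map_pow, ← FiniteField.expand_card, expand_aeval]
  induction k with
  | zero => rw [pow_zero, pow_one, pow_one]
  | succ k ih => rw [pow_succ, pow_mul, ih, base, ← pow_mul]

variable {U : Type v} [AddCommGroup U] [Module F U] [FiniteDimensional F U]
  {g : Module.End F U} {f : F[X]} {v : U}

omit [Fintype F] [FiniteDimensional F U] in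
theorem exists_aeval_of_mem_adjoin {a : Module.End F U} (ha : a ∈ Algebra.adjoin F {g}) :
    ∃ p : F[X], aeval g p = a := by
  rw [Algebra.adjoin_singleton_eq_range_aeval] at ha
  exact ha

omit [Fintype F] [FiniteDimensional F U] in
/-- a non-zero element of the field `F[g]` is injective -/
theorem cycIrr_injective_of_mem (h : CycIrr g f v) {a : Module.End F U}
    (ha : a ∈ Algebra.adjoin F {g}) (ha0 : a ≠ 0) (w : U) (hw : a w = 0) : w = 0 := by
  have hne : (⟨a, ha⟩ : Algebra.adjoin F {g}) ≠ 0 := by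
    intro h0
    exact ha0 (congrArg Subtype.val h0)
  obtain ⟨b, hb⟩ := h.isField.mul_inv_cancel hne
  have hb' : a * (b : Module.End F U) = 1 := congrArg Subtype.val hb
  have hcomm : (b : Module.End F U) * a = 1 := by
    have := h.isField.mul_comm ⟨a, ha⟩ b
    rw [← hb']
    exact (congrArg Subtype.val this).symm
  have := LinearMap.congr_fun hcomm w
  rw [Module.End.mul_apply, hw, map_zero, Module.End.one_apply] at this
  exact this.symm

theorem cycIrr_natCard_adjoin (h : CycIrr g f v) :
    Nat.card (Algebra.adjoin F {g}) = Fintype.card F ^ finrank F U := by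
  have hinj : Function.Injective (fun a : Algebra.adjoin F {g} => (a : Module.End F U) v) := by
    intro a b hab
    obtain ⟨p, hp⟩ := exists_aeval_of_mem_adjoin a.2
    obtain ⟨p', hp'⟩ := exists_aeval_of_mem_adjoin b.2
    have h1 : aeval g (p - p') v = 0 := by
      rw [map_sub, LinearMap.sub_apply, hp, hp']
      exact sub_eq_zero.2 hab
    have h2 := h.aeval_eq_zero_iff.2 (h.dvd_of_aeval_apply h1)
    rw [map_sub, hp, hp', sub_eq_zero] at h2
    exact Subtype.ext h2
  have hsurj : Function.Surjective (fun a : Algebra.adjoin F {g} => (a : Module.End F U) v) := by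
    intro x
    obtain ⟨p, hp⟩ := h.span x
    exact ⟨⟨aeval g p, aeval_mem_adjoin_singleton F g⟩, hp⟩
  rw [Nat.card_congr (Equiv.ofBijective _ ⟨hinj, hsurj⟩), Module.natCard_eq_pow_finrank (K := F),
    Nat.card_eq_fintype_card]

/-- the facts about the finite field `F[g]` that we need -/
theorem cycIrr_field_facts (h : CycIrr g f v) :
    (∀ a : Module.End F U, a ∈ Algebra.adjoin F {g} → a ≠ 0 →
      a ^ (Fintype.card F ^ finrank F U - 1) = 1) ∧
    (∀ D : ℕ, D ∣ Fintype.card F ^ finrank F U - 1 → ∃ ξ : Module.End F U,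
      ξ ∈ Algebra.adjoin F {g} ∧ ξ ^ D = 1 ∧ ∀ i : ℕ, 0 < i → i < D → ξ ^ i ≠ 1) := by
  haveI : Finite U := Module.finite_of_finite F
  haveI : Finite (Module.End F U) :=
    Finite.of_injective (fun φ : Module.End F U => (φ : U → U)) DFunLike.coe_injective
  haveI : Finite (Algebra.adjoin F {g}) := Subtype.finite
  letI : Field (Algebra.adjoin F {g}) := h.isField.toField
  letI : Fintype (Algebra.adjoin F {g}) := Fintype.ofFinite _
  have hcard : Fintype.card (Algebra.adjoin F {g}) = Fintype.card F ^ finrank F U := by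
    rw [← Nat.card_eq_fintype_card]
    exact cycIrr_natCard_adjoin h
  constructor
  · intro a ha ha0
    have hne : (⟨a, ha⟩ : Algebra.adjoin F {g}) ≠ 0 := by
      intro h0
      exact ha0 (congrArg Subtype.val h0)
    have := FiniteField.pow_card_sub_one_eq_one (⟨a, ha⟩ : Algebra.adjoin F {g}) hne
    rw [hcard] at this
    exact congrArg Subtype.val this
  · intro D hD
    rw [← hcard] at hD
    obtain ⟨η, hη⟩ := Cfsg.Agent.Helper43.exists_orderOf_eq (F := Algebra.adjoin F {g}) hD
    refine ⟨(η : Module.End F U), η.2, ?_, ?_⟩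
    · have := pow_orderOf_eq_one η
      rw [hη] at this
      exact congrArg Subtype.val this
    · intro i hi hiD hone
      have h1 : η ^ i = 1 := Subtype.ext hone
      have h2 := orderOf_dvd_of_pow_eq_one h1
      rw [hη] at h2
      have := Nat.le_of_dvd hi h2
      omega

omit [Fintype F] [FiniteDimensional F U] in
theorem cycIrr_ne_zero_of_pow (h : CycIrr g f v) {r : ℕ} (hr : 0 < r) (hgr : g ^ r = 1) :
    g ≠ 0 := by
  rintro rfl
  rw [zero_pow hr.ne'] at hgr
  have := LinearMap.congr_fun hgr v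
  rw [LinearMap.zero_apply, Module.End.one_apply] at this
  exact h.ne this.symm

theorem cycIrr_pow_card_sub_one (h : CycIrr g f v) {r : ℕ} (hr : 0 < r) (hgr : g ^ r = 1) :
    g ^ (Fintype.card F ^ finrank F U - 1) = 1 :=
  (cycIrr_field_facts h).1 g (Algebra.self_mem_adjoin_singleton F g)
    (cycIrr_ne_zero_of_pow h hr hgr)

theorem cycIrr_dvd_card_pow_sub_one (h : CycIrr g f v) {r : ℕ} (hr : r.Prime) (hgr : g ^ r = 1)
    (hg1 : g ≠ 1) : r ∣ Fintype.card F ^ finrank F U - 1 := by
  haveI : Fact r.Prime := ⟨hr⟩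
  rw [← orderOf_eq_prime hgr hg1]
  exact orderOf_dvd_of_pow_eq_one (cycIrr_pow_card_sub_one h hr.pos hgr)

omit [FiniteDimensional F U] in
theorem finrank_pos_of_cycIrr [FiniteDimensional F U] (h : CycIrr g f v) : 0 < finrank F U := by
  haveI : Nontrivial U := ⟨⟨v, 0, h.ne⟩⟩
  exact Module.finrank_pos

/-- a semiregular element of prescribed order in `F[g]` -/
theorem cycIrr_exists_semiregular (h : CycIrr g f v) {D : ℕ}
    (hD : D ∣ Fintype.card F ^ finrank F U - 1) :
    ∃ ξ : Module.End F U, ξ ∈ Algebra.adjoin F {g} ∧ ξ ^ D = 1 ∧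
      ∀ i : ℕ, 0 < i → i < D → ∀ w : U, (ξ ^ i) w = w → w = 0 := by
  obtain ⟨ξ, hξ, hξD, hξi⟩ := (cycIrr_field_facts h).2 D hD
  refine ⟨ξ, hξ, hξD, ?_⟩
  intro i hi hiD w hw
  have hmem : ξ ^ i - 1 ∈ Algebra.adjoin F {g} :=
    Subalgebra.sub_mem _ (Subalgebra.pow_mem _ hξ i) (Subalgebra.one_mem _)
  apply cycIrr_injective_of_mem h hmem (sub_ne_zero.2 (hξi i hi hiD)) w
  rw [LinearMap.sub_apply, hw, Module.End.one_apply, sub_self]

/-- in even dimension `2k`, an element of prime order `r` of `F[g]` has `r ∣ q^k + 1` -/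
theorem cycIrr_dvd_of_even (h : CycIrr g f v) {r : ℕ} (hr : r.Prime) (hgr : g ^ r = 1)
    (hg1 : g ≠ 1) {k : ℕ} (hn : finrank F U = 2 * k) : r ∣ Fintype.card F ^ k + 1 := by
  haveI : Fact r.Prime := ⟨hr⟩
  set q := Fintype.card F with hq
  have hq2 : 2 ≤ q := Fintype.one_lt_card
  have hk : 0 < k := by
    have := finrank_pos_of_cycIrr h
    omega
  have hqk : 2 ≤ q ^ k := le_trans hq2 (Nat.le_self_pow hk.ne' q)
  have hdvd := cycIrr_dvd_card_pow_sub_one h hr hgr hg1
  rw [hn, ← hq] at hdvd
  have hfac : q ^ (2 * k) - 1 = (q ^ k - 1) * (q ^ k + 1) := by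
    have h1 : q ^ (2 * k) = q ^ k * q ^ k := by rw [two_mul, pow_add]
    rw [h1]
    obtain ⟨c, hc⟩ : ∃ c, q ^ k = c + 1 := ⟨q ^ k - 1, by omega⟩
    rw [hc]
    simp only [Nat.add_sub_cancel]
    have : (c + 1) * (c + 1) - 1 = c * (c + 1 + 1) := by
      have : (c + 1) * (c + 1) = c * (c + 1 + 1) + 1 := by ring
      omega
    exact this
  rw [hfac] at hdvd
  rcases (Nat.Prime.dvd_mul hr).1 hdvd with h1 | h1
  · exfalso
    have hord : orderOf g = r := orderOf_eq_prime hgr hg1
    have hg1' : g ^ (q ^ k - 1) = 1 := by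
      rw [← hord] at h1
      exact orderOf_dvd_iff_pow_eq_one.1 h1
    have hgq : g ^ (q ^ k) = g := by
      have : q ^ k = (q ^ k - 1) + 1 := by omega
      rw [this, pow_succ, hg1', one_mul]
    -- every element of `F[g]` is fixed by the `q^k`-power map
    obtain ⟨ξ, hξ, hξD, hξi⟩ := (cycIrr_field_facts h).2 (q ^ finrank F U - 1) dvd_rfl
    obtain ⟨p, hp⟩ := exists_aeval_of_mem_adjoin hξ
    have hfix : ξ ^ (q ^ k) = ξ := by
      have hcomm : ∀ a b : Algebra.adjoin F {g}, a * b = b * a := h.isField.mul_comm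
      -- work in the commutative ring `F[g]`
      letI : CommRing (Algebra.adjoin F {g}) :=
        { (inferInstance : Ring (Algebra.adjoin F {g})) with mul_comm := hcomm }
      have key := frob_aeval (F := F) (R := Algebra.adjoin F {g})
        (⟨g, Algebra.self_mem_adjoin_singleton F g⟩ : Algebra.adjoin F {g}) p k
      have key' := congrArg (fun a : Algebra.adjoin F {g} => (a : Module.End F U)) key
      simp only [Subalgebra.coe_pow] at key'
      have e1 : ∀ y : Algebra.adjoin F {g}, ((aeval y p : Algebra.adjoin F {g}) : Module.End F U)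
          = aeval (y : Module.End F U) p := by
        intro y
        exact (Polynomial.aeval_algHom_apply (Algebra.adjoin F {g}).val y p).symm ▸ rfl
      rw [e1, e1] at key'
      simp only [Subalgebra.coe_pow] at key'
      rw [← hq, hgq, hp] at key'
      exact key'
    have hD1 : 0 < q ^ finrank F U - 1 := by
      rw [hn, hfac]
      have : 0 < q ^ k - 1 := by omega
      positivity
    have hone : ξ ^ (q ^ k - 1) = 1 := by
      have e2 : ξ ^ (q ^ k - 1) * ξ = ξ := by
        rw [← pow_succ, Nat.sub_add_cancel (by omega), hfix]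
      have e3 : ξ * ξ ^ (q ^ finrank F U - 1 - 1) = 1 := by
        rw [← pow_succ', Nat.sub_add_cancel hD1, hξD]
      calc ξ ^ (q ^ k - 1) = ξ ^ (q ^ k - 1) * (ξ * ξ ^ (q ^ finrank F U - 1 - 1)) := by
            rw [e3, mul_one]
        _ = (ξ ^ (q ^ k - 1) * ξ) * ξ ^ (q ^ finrank F U - 1 - 1) := by rw [mul_assoc]
        _ = 1 := by rw [e2, e3]
    refine hξi (q ^ k - 1) (by omega) ?_ hone
    rw [hn, hfac]
    have : 1 ≤ q ^ k - 1 := by omega
    nlinarith
  · exact h1

end Cfsg.Agent.Helper43.Fus
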