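import Mathlib
import Cfsg.Agent.Helper43.FusM
import Cfsg.Agent.Helper43.OrthSSB
import Cfsg.Agent.Helper36.AltForm

/-!
# Class fusion, part N: pieces of a fixed-point-free isometry; the self-dual (nondegenerate
irreducible) piece.
-/

set_option autoImplicit false

namespace Cfsg.Agent.Helper43.Fus

open Polynomial QuadraticMap Module Cfsg.Agent.Helper43.SpSS Cfsg.Agent.Helper43.OrthSS

universe u v

variable {F : Type u} [Field F] [Fintype F] {V : Type v} [AddCommGroup V] [Module F V]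
  [FiniteDimensional F V]

/-- the data needed to build an isometry of 2-power order commuting with `H` which is an odd
permutation of the vectors of every non-zero norm -/
def HasPiece (Q : QuadraticForm F V) (H : Module.End F V) (r : ℕ) : Prop :=
  ∃ (W P : Submodule F V) (_ : IsCompl W P) (hWi : W ∈ H.invtSubmodule) (T : Module.End F W)
    (j a : ℕ) (εW t : ℤ),
    (∀ w ∈ W, ∀ p ∈ P, polar Q w p = 0) ∧ P ∈ H.invtSubmodule ∧ finrank F W = 2 * j ∧
    (εW = 1 ∨ εW = -1) ∧ ((Nat.card F : ℕ) : ZMod r) ^ j = ((εW : ℤ) : ZMod r) ∧ 1 ≤ a ∧ Odd t ∧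
    (Nat.card F : ℤ) ^ j - εW = 2 ^ a * t ∧
    (∀ w : W, Q (T w : V) = Q (w : V)) ∧
    (∀ w : W, (T ⟨H w, hWi w.2⟩ : V) = H (T w : V)) ∧ T ^ (2 ^ a) = 1 ∧
    (∀ i : ℕ, 0 < i → i < 2 ^ a → ∀ w : W, (T ^ i) w = w → w = 0)

section fpf

variable {Q : QuadraticForm F V} {H : Module.End F V} {r : ℕ}

omit [Fintype F] in
theorem range_eq_top_of_fpf (hfpf : ∀ x, H x = x → x = 0) : LinearMap.range (H - 1) = ⊤ := by
  have hker : LinearMap.ker (H - 1) = ⊥ := by
    rw [LinearMap.ker_eq_bot']
    intro x hx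
    apply hfpf
    rwa [LinearMap.sub_apply, Module.End.one_apply, sub_eq_zero] at hx
  exact LinearMap.range_eq_top.2
    (LinearMap.injective_iff_surjective.1 (LinearMap.ker_eq_bot.1 hker))

omit [Fintype F] in
theorem delta_surj_on (hd : OData Q H r) (hfpf : ∀ x, H x = x → x = 0) {S : Submodule F V}
    (hS : S ∈ H.invtSubmodule) {x : V} (hx : x ∈ S) : ∃ x' ∈ S, delta H r x' = x := by
  have hi : S ∈ (delta H r).invtSubmodule := by
    rw [Module.End.mem_invtSubmodule]
    intro y hy
    rw [Submodule.mem_comap, delta_eq_aeval]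
    exact aeval_mem_of_invt hS _ hy
  have hinj : Function.Injective (rst (delta H r) hi) := by
    rw [← LinearMap.ker_eq_bot, LinearMap.ker_eq_bot']
    intro z hz
    apply Subtype.ext
    apply hd.delta_inj (by rw [range_eq_top_of_fpf hfpf]; exact Submodule.mem_top)
    exact congrArg Subtype.val hz
  obtain ⟨y, hy⟩ := (LinearMap.injective_iff_surjective.mp hinj) ⟨x, hx⟩
  exact ⟨y, y.2, congrArg Subtype.val hy⟩

omit [Fintype F] in
theorem sympData_of_fpf (hd : OData Q H r) (hfpf : ∀ x, H x = x → x = 0) :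
    SympData (tw Q H r) H where
  alt := hd.tw_alt
  nondeg := by
    refine (LinearMap.IsRefl.nondegenerate_iff_separatingLeft hd.tw_alt.isRefl).mpr ?_
    intro x hx
    exact hd.tw_nondeg_aux x (by rw [range_eq_top_of_fpf hfpf]; exact Submodule.mem_top)
      (fun y _ => hx y)
  isom := hd.tw_isom
  ss := hd.isSemisimple

omit [Fintype F] in
theorem polar_zero_of_tw (hd : OData Q H r) (hfpf : ∀ x, H x = x → x = 0) {S S' : Submodule F V}
    (hS : S ∈ H.invtSubmodule) (h : ∀ x ∈ S, ∀ y ∈ S', tw Q H r x y = 0) :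
    ∀ x ∈ S, ∀ y ∈ S', polar Q x y = 0 := by
  intro x hx y hy
  obtain ⟨x', hx', rfl⟩ := delta_surj_on hd hfpf hS hx
  have := h x' hx' y hy
  rwa [tw_apply, polarBilin_apply_apply] at this

omit [Fintype F] in
theorem nondeg_polar_of_tw (hd : OData Q H r) (hfpf : ∀ x, H x = x → x = 0) {S : Submodule F V}
    (hS : S ∈ H.invtSubmodule) (h : ∀ x ∈ S, (∀ y ∈ S, tw Q H r x y = 0) → x = 0) :
    ∀ x ∈ S, (∀ y ∈ S, polar Q x y = 0) → x = 0 := by
  intro x hx hxo
  obtain ⟨x', hx', rfl⟩ := delta_surj_on hd hfpf hS hx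
  have : x' = 0 := by
    apply h x' hx'
    intro y hy
    rw [tw_apply, polarBilin_apply_apply]
    exact hxo y hy
  rw [this, map_zero]

omit [Fintype F] in
/-- the orthogonal complement of a nondegenerate invariant subspace -/
theorem exists_orth_compl (hd : OData Q H r) {W : Submodule F V} (hWi : W ∈ H.invtSubmodule)
    (hWn : ∀ x ∈ W, (∀ y ∈ W, polar Q x y = 0) → x = 0) :
    ∃ P : Submodule F V, IsCompl W P ∧ (∀ w ∈ W, ∀ p ∈ P, polar Q w p = 0) ∧
      P ∈ H.invtSubmodule := by
  have hsymm : (polarBilin Q).IsRefl := by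
    intro x y hxy
    rw [OData.polar_comm]
    exact hxy
  have hnd : (LinearMap.BilinForm.restrict (polarBilin Q) W).Nondegenerate :=
    nondeg_restrict_of_refl hsymm W (fun x hx hxo => hWn x hx hxo)
  refine ⟨LinearMap.BilinForm.orthogonal (polarBilin Q) W,
    LinearMap.BilinForm.isCompl_orthogonal_of_restrict_nondegenerate hsymm hnd, ?_, ?_⟩
  · intro w hw p hp
    exact (LinearMap.BilinForm.mem_orthogonal_iff.1 hp) w hw
  · rw [Module.End.mem_invtSubmodule]
    intro p hp
    rw [Submodule.mem_comap, LinearMap.BilinForm.mem_orthogonal_iff]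
    intro w hw
    show polarBilin Q w (H p) = 0
    have hw' : (H ^ (r - 1)) w ∈ W := by
      have := aeval_mem_of_invt hWi (X ^ (r - 1) : F[X]) hw
      rwa [map_pow, aeval_X] at this
    rw [← hd.apply_pow_pred w, hd.polar_isom]
    exact (LinearMap.BilinForm.mem_orthogonal_iff.1 hp) _ hw'

end fpf

end Cfsg.Agent.Helper43.Fus
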