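import Mathlib
import Cfsg.Agent.Helper43.FusN

/-!
# Class fusion, part O: the piece attached to a nondegenerate irreducible cyclic subspace.
-/

set_option autoImplicit false

namespace Cfsg.Agent.Helper43.Fus

open Polynomial QuadraticMap Module Cfsg.Agent.Helper43.SpSS Cfsg.Agent.Helper43.OrthSS

universe u v

section adjoint

variable {F : Type u} [Field F] {U : Type v} [AddCommGroup U] [Module F U]

theorem pow_adjoint (B : LinearMap.BilinForm F U) {a a' : Module.End F U}
    (hadj : ∀ x y, B (a x) y = B x (a' y)) (n : ℕ) (x y : U) :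
    B ((a ^ n) x) y = B x ((a' ^ n) y) := by
  induction n generalizing x y with
  | zero => rfl
  | succ n ih =>
    rw [pow_succ, pow_succ', Module.End.mul_apply, Module.End.mul_apply, ih, hadj]

theorem aeval_adjoint (B : LinearMap.BilinForm F U) {a a' : Module.End F U}
    (hadj : ∀ x y, B (a x) y = B x (a' y)) (p : F[X]) (x y : U) :
    B (aeval a p x) y = B x (aeval a' p y) := by
  induction p using Polynomial.induction_on' with
  | add p q hp hq =>
    rw [map_add, map_add, LinearMap.add_apply, LinearMap.add_apply, map_add,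
      LinearMap.add_apply, map_add, hp, hq]
  | monomial n c =>
    rw [aeval_monomial, aeval_monomial, Module.End.mul_apply, Module.End.mul_apply,
      Module.algebraMap_end_apply, Module.algebraMap_end_apply, map_smul, LinearMap.smul_apply,
      map_smul, pow_adjoint B hadj]

end adjoint

variable {F : Type u} [Field F] [Fintype F] {V : Type v} [AddCommGroup V] [Module F V]
  [FiniteDimensional F V]
variable {Q : QuadraticForm F V} {H : Module.End F V} {r : ℕ}

/-- the piece attached to a nondegenerate irreducible cyclic subspace -/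
theorem hasPiece_of_cyc (hd : OData Q H r) (hr : r.Prime) (hfpf : ∀ x, H x = x → x = 0)
    (h2 : (2 : F) ≠ 0) (hqodd : Odd (Fintype.card F)) {f : F[X]} (hf : Irreducible f) {x : V}
    (hx : aeval H f x = 0) (hne : tw Q H r (H x) x ≠ 0) : HasPiece Q H r := by
  have hS := sympData_of_fpf hd hfpf
  have hx0 : x ≠ 0 := by
    rintro rfl
    apply hne
    rw [map_zero]
  set W := cycSub H x with hW
  have hWi : W ∈ H.invtSubmodule := cycSub_mem_invt H x
  have hnd := hS.cyc_nondeg hf hx hne
  have hWtw : ∀ y ∈ W, (∀ z ∈ W, tw Q H r y z = 0) → y = 0 := by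
    intro y hy hyo
    have := hnd.1 ⟨y, hy⟩ (fun z => hyo z z.2)
    exact congrArg Subtype.val this
  have hWn := nondeg_polar_of_tw hd hfpf hWi hWtw
  obtain ⟨P, hWP, horth, hPi⟩ := exists_orth_compl hd hWi hWn
  have heven := Cfsg.Agent.Helper36.even_finrank_of_isAlt_nondegenerate (finrank F W)
    ((tw Q H r).restrict W) (fun y => hd.tw_alt y) hnd rfl
  obtain ⟨k, hk⟩ := heven
  have hk2 : finrank F W = 2 * k := by rw [hk, two_mul]
  set g : Module.End F W := rst H hWi with hg
  have hc : CycIrr g f ⟨x, self_mem_cycSub H x⟩ := cycIrr_rst hf hx hx0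
  have hgr : g ^ r = 1 := by
    apply LinearMap.ext
    intro w
    apply Subtype.ext
    rw [rst_pow_coe, hd.pow_apply]
    rfl
  have hg1 : g ≠ 1 := by
    intro h1
    have := LinearMap.congr_fun h1 ⟨x, self_mem_cycSub H x⟩
    exact hx0 (hfpf x (congrArg Subtype.val this))
  set q := Fintype.card F with hq
  have hdvd : r ∣ q ^ k + 1 := cycIrr_dvd_of_even hc hr hgr hg1 hk2
  have hqW : ((Nat.card F : ℕ) : ZMod r) ^ k = (((-1 : ℤ)) : ZMod r) := by
    rw [Nat.card_eq_fintype_card, ← hq]
    have : ((q ^ k + 1 : ℕ) : ZMod r) = 0 := (ZMod.natCast_eq_zero_iff _ _).2 hdvd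
    push_cast at this ⊢
    exact eq_neg_of_add_eq_zero_left this
  have hq1 : 1 ≤ q := Fintype.card_pos
  have hne0 : q ^ k + 1 ≠ 0 := by omega
  obtain ⟨a, t₀, ht₀, hat⟩ := Nat.exists_eq_two_pow_mul_odd hne0
  have ha : 1 ≤ a := by
    by_contra hlt
    have ha0 : a = 0 := by omega
    rw [ha0, pow_zero, one_mul] at hat
    have hodd : Odd (q ^ k) := hqodd.pow
    rw [← hat] at ht₀
    have : Even (q ^ k + 1) := hodd.add_one
    exact (Nat.not_even_iff_odd.2 ht₀) this
  have hk0 : 0 < k := by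
    have := finrank_pos_of_cycIrr hc
    omega
  have hqk : 1 ≤ q ^ k := Nat.one_le_pow _ _ hq1
  have hD : 2 ^ a ∣ q ^ finrank F W - 1 := by
    have hfac : q ^ (2 * k) - 1 = (q ^ k - 1) * (q ^ k + 1) := by
      have h1 : q ^ (2 * k) = q ^ k * q ^ k := by rw [two_mul, pow_add]
      rw [h1]
      obtain ⟨c, hc'⟩ : ∃ c, q ^ k = c + 1 := ⟨q ^ k - 1, by omega⟩
      rw [hc']
      simp only [Nat.add_sub_cancel]
      have : (c + 1) * (c + 1) = c * (c + 1 + 1) + 1 := by ring
      omega
    rw [hk2, hfac, hat]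
    exact Dvd.dvd.mul_left (Dvd.intro _ rfl) _
  obtain ⟨ξ, hξmem, hξpow, hξsr⟩ := cycIrr_exists_semiregular hc hD
  have hξg : ξ * g = g * ξ := hc.mem_adjoin_iff.1 hξmem
  -- adjoint
  set B : LinearMap.BilinForm F W := LinearMap.BilinForm.restrict (polarBilin Q) W with hB
  have hgq : g ^ (q ^ k + 1) = 1 := by
    obtain ⟨e, he⟩ := hdvd
    rw [he, pow_mul, hgr, one_pow]
  have hBg : ∀ y z : W, B (g y) (g z) = B y z := by
    intro y z
    show polarBilin Q (H y) (H z) = polarBilin Q (y : V) (z : V)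
    exact hd.polar_isom _ _
  have hadj : ∀ y z : W, B (g y) z = B y ((g ^ (q ^ k)) z) := by
    intro y z
    have e : g ((g ^ (q ^ k)) z) = z := by
      rw [← Module.End.mul_apply, ← pow_succ', hgq, Module.End.one_apply]
    conv_lhs => rw [← e]
    exact hBg _ _
  obtain ⟨p, hp⟩ := exists_aeval_of_mem_adjoin hξmem
  have hξadj : ∀ y z : W, B (ξ y) z = B y ((ξ ^ (q ^ k)) z) := by
    intro y z
    rw [← hp, aeval_adjoint B hadj, hq, frob_aeval]
  have hξq : ξ ^ (q ^ k + 1) = 1 := by
    rw [hat, pow_mul, hξpow, one_pow]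
  have hBξ : ∀ y z : W, B (ξ y) (ξ z) = B y z := by
    intro y z
    rw [hξadj, ← Module.End.mul_apply, ← pow_succ, hξq, Module.End.one_apply]
  have hQξ : ∀ w : W, Q (ξ w : V) = Q (w : V) := by
    intro w
    have h1 : polar Q (ξ w : V) (ξ w : V) = polar Q (w : V) (w : V) := hBξ w w
    rw [QuadraticMap.polar_self, QuadraticMap.polar_self, nsmul_eq_mul, nsmul_eq_mul] at h1
    have h3 : (2 : F) * Q (ξ w : V) = 2 * Q (w : V) := by exact_mod_cast h1
    exact mul_left_cancel₀ h2 h3
  refine ⟨W, P, hWP, hWi, ξ, k, a, -1, (t₀ : ℤ), horth, hPi, hk2, Or.inr rfl, hqW, ha, ?_, ?_,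
    hQξ, ?_, hξpow, hξsr⟩
  · exact_mod_cast ht₀
  · rw [Nat.card_eq_fintype_card, ← hq, sub_neg_eq_add]
    exact_mod_cast hat
  · intro w
    have := LinearMap.congr_fun hξg w
    rw [Module.End.mul_apply, Module.End.mul_apply] at this
    exact congrArg Subtype.val this

end Cfsg.Agent.Helper43.Fus
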