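import Mathlib
import Cfsg.Agent.Helper43.FusN

/-!
# Class fusion, part P: the piece attached to a hyperbolic pair of irreducible subspaces.
-/

set_option autoImplicit false

namespace Cfsg.Agent.Helper43.Fus

open Polynomial QuadraticMap Module Cfsg.Agent.Helper43.SpSS Cfsg.Agent.Helper43.OrthSS

universe u v

section aux

variable {F : Type u} [Field F] {V : Type v} [AddCommGroup V] [Module F V]

theorem aeval_rev_of_inv (g g' : Module.End F V) (hinv : g * g' = 1) (hcomm : Commute g g')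
    (p : F[X]) (N : ℕ) (hN : p.natDegree ≤ N) : aeval g (rev N p) = g ^ N * aeval g' p := by
  rw [aeval_rev, aeval_eq_sum_range' (Nat.lt_succ_of_le hN), Finset.mul_sum]
  apply Finset.sum_congr rfl
  intro i hi
  have hi' : i ≤ N := Nat.lt_succ_iff.mp (Finset.mem_range.mp hi)
  have h2 : g ^ i * g' ^ i = 1 := by rw [← hcomm.mul_pow, hinv, one_pow]
  rw [mul_smul_comm]
  congr 1
  conv_rhs => rw [← Nat.sub_add_cancel hi', pow_add, mul_assoc, h2, mul_one]

theorem odd_geom_sum (q : ℤ) (hq : Odd q) (e : ℕ) :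
    Odd (∑ i ∈ Finset.range (2 * e + 1), q ^ i) := by
  induction e with
  | zero => simp
  | succ e ih =>
    have : 2 * (e + 1) + 1 = (2 * e + 1) + 1 + 1 := by ring
    rw [this, Finset.sum_range_succ, Finset.sum_range_succ, add_assoc]
    exact ih.add_even (hq.pow.add_odd hq.pow)

end aux

variable {F : Type u} [Field F] [Fintype F] {V : Type v} [AddCommGroup V] [Module F V]
  [FiniteDimensional F V]
variable {Q : QuadraticForm F V} {H : Module.End F V} {r : ℕ}

/-- the piece attached to a hyperbolic pair `K1 ⊕ K2` with `K1` irreducible -/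
theorem hasPiece_of_hypPair (hd : OData Q H r) (hr : r.Prime) (hfpf : ∀ x, H x = x → x = 0)
    (h2 : (2 : F) ≠ 0) (hqodd : Odd (Fintype.card F)) {f : F[X]} (hf : Irreducible f) {v : V}
    (hv : aeval H f v = 0) (hv0 : v ≠ 0) (hco : IsCoprime (rev f.natDegree f) f)
    {K2 : Submodule F V} (hp : HypPair (tw Q H r) H (cycSub H v) K2) : HasPiece Q H r := by
  have hS := sympData_of_fpf hd hfpf
  set N := f.natDegree with hN
  set K1 := cycSub H v with hK1
  have hK1i : K1 ∈ H.invtSubmodule := hp.inv1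
  have hK2i : K2 ∈ H.invtSubmodule := hp.inv2
  set q := Fintype.card F with hq
  have hq1 : 1 ≤ q := Fintype.card_pos
  have hq2 : 2 ≤ q := Fintype.one_lt_card
  -- the field on `K1`
  set g₁ : Module.End F K1 := rst H hK1i with hg₁
  have hc : CycIrr g₁ f ⟨v, self_mem_cycSub H v⟩ := cycIrr_rst hf hv hv0
  have hgr : g₁ ^ r = 1 := by
    apply LinearMap.ext
    intro w
    apply Subtype.ext
    rw [rst_pow_coe, hd.pow_apply]
    rfl
  have hg1 : g₁ ≠ 1 := by
    intro h1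
    have := LinearMap.congr_fun h1 ⟨v, self_mem_cycSub H v⟩
    exact hv0 (hfpf v (congrArg Subtype.val this))
  set d := finrank F K1 with hdd
  have hdpos : 0 < d := finrank_pos_of_cycIrr hc
  have hdvd : r ∣ q ^ d - 1 := cycIrr_dvd_card_pow_sub_one hc hr hgr hg1
  have hqd : 1 ≤ q ^ d := Nat.one_le_pow _ _ hq1
  have hqW : ((Nat.card F : ℕ) : ZMod r) ^ d = (((1 : ℤ)) : ZMod r) := by
    rw [Nat.card_eq_fintype_card, ← hq]
    have : ((q ^ d - 1 : ℕ) : ZMod r) = 0 := (ZMod.natCast_eq_zero_iff _ _).2 hdvd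
    rw [Nat.cast_sub hqd] at this
    push_cast at this ⊢
    exact sub_eq_zero.1 this
  -- `d` is odd
  have hdodd : Odd d := by
    by_contra hne
    rw [Nat.not_odd_iff_even] at hne
    obtain ⟨k, hk⟩ := hne
    have hk2 : finrank F K1 = 2 * k := by rw [← hdd, hk, two_mul]
    have hdvd2 := cycIrr_dvd_of_even hc hr hgr hg1 hk2
    have hgq : g₁ ^ (q ^ k + 1) = 1 := by
      obtain ⟨e, he⟩ := hdvd2
      rw [he, pow_mul, hgr, one_pow]
    have hinv : g₁ * g₁ ^ (q ^ k) = 1 := by rw [← pow_succ', hgq]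
    have hzero : aeval g₁ (rev N f) = 0 := by
      rw [aeval_rev_of_inv g₁ _ hinv (Commute.pow_right (Commute.refl g₁) _) f N le_rfl, hq,
        ← frob_aeval, hc.aeval_f,
        zero_pow (by positivity), mul_zero]
    have hdvd3 : f ∣ rev N f := hc.aeval_eq_zero_iff.1 hzero
    exact hf.not_isUnit (hco.isUnit_of_dvd' hdvd3 dvd_rfl)
  -- the subspace `W = K1 + K2`
  set W := LinearMap.range (sumMap K1 K2) with hW
  have hWi : W ∈ H.invtSubmodule := hp.range_mem
  have hmemW : ∀ w ∈ W, ∃ x₁ ∈ K1, ∃ x₂ ∈ K2, x₁ + x₂ = w := by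
    rintro _ ⟨⟨x, y⟩, rfl⟩
    exact ⟨x, x.2, y, y.2, (sumMap_apply x y).symm⟩
  have hWmem : ∀ x₁ ∈ K1, ∀ x₂ ∈ K2, x₁ + x₂ ∈ W := by
    intro x₁ h₁ x₂ h₂
    exact ⟨(⟨x₁, h₁⟩, ⟨x₂, h₂⟩), sumMap_apply _ _⟩
  have hnd := hp.range_nondeg hS
  have hWtw : ∀ y ∈ W, (∀ z ∈ W, tw Q H r y z = 0) → y = 0 := by
    intro y hy hyo
    have := hnd.1 ⟨y, hy⟩ (fun z => hyo z z.2)
    exact congrArg Subtype.val this
  have hWn := nondeg_polar_of_tw hd hfpf hWi hWtw
  obtain ⟨P, hWP, horth, hPi⟩ := exists_orth_compl hd hWi hWn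
  have hfinW : finrank F W = 2 * d := by
    rw [hW, LinearMap.finrank_range_of_inj hp.sumMap_injective, Module.finrank_prod,
      hp.finrank_eq, ← hdd, two_mul]
  -- isotropy for the polar form
  have hiso1 := polar_zero_of_tw hd hfpf hK1i hp.iso1
  have hiso2 := polar_zero_of_tw hd hfpf hK2i hp.iso2
  have hQ0 : ∀ {S : Submodule F V}, (∀ x ∈ S, ∀ y ∈ S, polar Q x y = 0) → ∀ x ∈ S, Q x = 0 := by
    intro S hS' x hx
    have h1 := hS' x hx x hx
    rw [QuadraticMap.polar_self, nsmul_eq_mul] at h1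
    have h3 : (2 : F) * Q x = 0 := by exact_mod_cast h1
    exact (mul_eq_zero.1 h3).resolve_left h2
  -- the kernels
  have hK1f : ∀ x ∈ K1, aeval H f x = 0 := by
    intro x hx
    obtain ⟨p, rfl⟩ := mem_cycSub.mp hx
    rw [aeval_comm_apply, hv, map_zero]
  have hK2r : ∀ y ∈ K2, aeval H (rev N f) y = 0 := by
    intro y hy
    apply hp.right _ (aeval_mem_of_invt hK2i _ hy)
    intro x hx
    rw [← hS.isom.adj f N le_rfl, hK1f x hx, map_zero, LinearMap.zero_apply]
  -- the 2-part of `q - 1`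
  have hne0 : q - 1 ≠ 0 := by omega
  obtain ⟨a, t₁, ht₁, hat₁⟩ := Nat.exists_eq_two_pow_mul_odd hne0
  have ha : 1 ≤ a := by
    by_contra hlt
    have ha0 : a = 0 := by omega
    rw [ha0, pow_zero, one_mul] at hat₁
    rw [← hat₁] at ht₁
    have : Even (q - 1) := by
      obtain ⟨c, hc'⟩ := hqodd
      exact ⟨c, by omega⟩
    exact (Nat.not_even_iff_odd.2 ht₁) this
  obtain ⟨ν, hν⟩ := Cfsg.Agent.Helper43.exists_orderOf_eq (F := F) (d := 2 ^ a)
    (by rw [← hq, hat₁]; exact Dvd.intro _ rfl)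
  have hνpow : ν ^ (2 ^ a) = 1 := by rw [← hν]; exact pow_orderOf_eq_one ν
  have hν0 : ν ≠ 0 := by
    rintro rfl
    rw [zero_pow (by positivity)] at hνpow
    exact zero_ne_one hνpow
  have hνi : ∀ i : ℕ, 0 < i → i < 2 ^ a → ν ^ i ≠ 1 := by
    intro i hi hi' h1
    have := Nat.le_of_dvd hi (orderOf_dvd_of_pow_eq_one h1)
    rw [hν] at this
    omega
  have hνinv_i : ∀ i : ℕ, 0 < i → i < 2 ^ a → ν⁻¹ ^ i ≠ 1 := by
    intro i hi hi' h1
    apply hνi i hi hi'
    rw [inv_pow, inv_eq_one] at h1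
    exact h1
  have hνinvpow : ν⁻¹ ^ (2 ^ a) = 1 := by rw [inv_pow, hνpow, inv_one]
  -- the polynomial
  obtain ⟨s, t, hst⟩ := hco
  set p : F[X] := C ν⁻¹ * (s * rev N f) + C ν * (t * f) with hpdef
  have hsplit : ∀ x, aeval H p x = ν⁻¹ • aeval H (s * rev N f) x + ν • aeval H (t * f) x := by
    intro x
    rw [hpdef, map_add, LinearMap.add_apply, map_mul (aeval H) (C ν⁻¹), map_mul (aeval H) (C ν),
      Module.End.mul_apply, Module.End.mul_apply, aeval_C, aeval_C, Module.algebraMap_end_apply,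
      Module.algebraMap_end_apply]
  have hp1 : ∀ x ∈ K1, aeval H p x = ν⁻¹ • x := by
    intro x hx
    have e1 : aeval H (t * f) x = 0 := by
      rw [map_mul, Module.End.mul_apply, hK1f x hx, map_zero]
    have e2 : aeval H (s * rev N f) x = x := by
      have := congrArg (fun u : F[X] => aeval H u x) hst
      simp only [map_add, map_one, LinearMap.add_apply, Module.End.one_apply] at this
      rw [e1, add_zero] at this
      exact this
    rw [hsplit, e1, e2, smul_zero, add_zero]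
  have hp2 : ∀ y ∈ K2, aeval H p y = ν • y := by
    intro y hy
    have e1 : aeval H (s * rev N f) y = 0 := by
      rw [map_mul, Module.End.mul_apply, hK2r y hy, map_zero]
    have e2 : aeval H (t * f) y = y := by
      have := congrArg (fun u : F[X] => aeval H u y) hst
      simp only [map_add, map_one, LinearMap.add_apply, Module.End.one_apply] at this
      rw [e1, zero_add] at this
      exact this
    rw [hsplit, e1, e2, smul_zero, zero_add]
  set Tg : Module.End F V := aeval H p with hTg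
  have hWT : W ∈ Tg.invtSubmodule := by
    rw [Module.End.mem_invtSubmodule]
    intro w hw
    rw [Submodule.mem_comap]
    exact aeval_mem_of_invt hWi p hw
  set T : Module.End F W := rst Tg hWT with hT
  have hTpow : ∀ (i : ℕ), ∀ x₁ ∈ K1, ∀ x₂ ∈ K2,
      (Tg ^ i) (x₁ + x₂) = (ν⁻¹ ^ i) • x₁ + (ν ^ i) • x₂ := by
    intro i
    induction i with
    | zero => intro x₁ _ x₂ _; simp
    | succ i ih =>
      intro x₁ h₁ x₂ h₂
      rw [pow_succ, Module.End.mul_apply, map_add, hp1 x₁ h₁, hp2 x₂ h₂,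
        ih _ (K1.smul_mem _ h₁) _ (K2.smul_mem _ h₂), smul_smul, smul_smul, ← pow_succ,
        ← pow_succ]
  have hTcoe : ∀ (i : ℕ) (w : W), ((T ^ i) w : V) = (Tg ^ i) (w : V) := fun i w =>
    rst_pow_coe hWT i w
  have hdisj : ∀ z, z ∈ K1 → z ∈ K2 → z = 0 := by
    intro z h₁ h₂
    apply hp.left z h₁
    intro y hy
    exact hp.iso2 z h₂ y hy
  refine ⟨W, P, hWP, hWi, T, d, a, 1, (t₁ : ℤ) * ∑ i ∈ Finset.range d, (q : ℤ) ^ i, horth, hPi,
    hfinW, Or.inl rfl, hqW, ha, ?_, ?_, ?_, ?_, ?_, ?_⟩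
  · obtain ⟨e, he⟩ := hdodd
    rw [he]
    exact (by exact_mod_cast ht₁ : Odd (t₁ : ℤ)).mul
      (odd_geom_sum (q : ℤ) (by exact_mod_cast hqodd) e)
  · rw [Nat.card_eq_fintype_card, ← hq]
    have h1 : ((q : ℤ) - 1) = 2 ^ a * (t₁ : ℤ) := by
      have : ((q - 1 : ℕ) : ℤ) = ((2 ^ a * t₁ : ℕ) : ℤ) := by rw [hat₁]
      rw [Nat.cast_sub hq1] at this
      push_cast at this
      exact this
    have h3 := geom_sum_mul (q : ℤ) d
    rw [← h3, h1]
    ring
  · intro w
    obtain ⟨x₁, h₁, x₂, h₂, hw⟩ := hmemW w w.2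
    have e := hTcoe 1 w
    rw [pow_one, pow_one] at e
    rw [e, ← hw, map_add, hp1 x₁ h₁, hp2 x₂ h₂]
    have e1 := QuadraticMap.map_add Q (ν⁻¹ • x₁) (ν • x₂)
    have e2 := QuadraticMap.map_add Q x₁ x₂
    rw [e1, e2, hQ0 hiso1 _ (K1.smul_mem _ h₁), hQ0 hiso2 _ (K2.smul_mem _ h₂), hQ0 hiso1 _ h₁,
      hQ0 hiso2 _ h₂, QuadraticMap.polar_smul_left, QuadraticMap.polar_smul_right, smul_eq_mul,
      smul_eq_mul, ← mul_assoc, inv_mul_cancel₀ hν0, one_mul]
  · intro w
    show Tg (H (w : V)) = H (Tg (w : V))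
    rw [hTg, ← Module.End.mul_apply, ← Module.End.mul_apply]
    congr 1
    exact (commute_aeval (c := H) (g := H) rfl p).symm
  · apply LinearMap.ext
    intro w
    apply Subtype.ext
    obtain ⟨x₁, h₁, x₂, h₂, hw⟩ := hmemW w w.2
    rw [hTcoe, ← hw, hTpow _ x₁ h₁ x₂ h₂, hνpow, hνinvpow, one_smul, one_smul, hw]
    rfl
  · intro i hi hi' w hw
    obtain ⟨x₁, h₁, x₂, h₂, hw'⟩ := hmemW w w.2
    have e := congrArg Subtype.val hw
    rw [hTcoe, ← hw', hTpow _ x₁ h₁ x₂ h₂] at e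
    have e' : (ν⁻¹ ^ i - 1) • x₁ = (1 - ν ^ i) • x₂ := by
      rw [sub_smul, sub_smul, one_smul, one_smul]
      rw [sub_eq_sub_iff_add_eq_add]
      rw [e, add_comm]
    have hz1 : (ν⁻¹ ^ i - 1) • x₁ = 0 :=
      hdisj _ (K1.smul_mem _ h₁) (e' ▸ K2.smul_mem _ h₂)
    have hx1 : x₁ = 0 :=
      (smul_eq_zero.1 hz1).resolve_left (sub_ne_zero.2 (hνinv_i i hi hi'))
    rw [hz1] at e'
    have hx2 : x₂ = 0 :=
      (smul_eq_zero.1 e'.symm).resolve_left (sub_ne_zero.2 (hνi i hi hi').symm)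
    apply Subtype.ext
    rw [← hw', hx1, hx2, add_zero]
    rfl

end Cfsg.Agent.Helper43.Fus
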