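import Mathlib
import Cfsg.Agent.Helper43.FusO
import Cfsg.Agent.Helper43.FusP
import Cfsg.Agent.Helper43.SpSSH

/-!
# Class fusion, part Q: every fixed-point-free isometry of odd prime order has a piece.
-/

set_option autoImplicit false

namespace Cfsg.Agent.Helper43.Fus

open Polynomial QuadraticMap Module Cfsg.Agent.Helper43.SpSS Cfsg.Agent.Helper43.OrthSS

universe u v

variable {F : Type u} [Field F] [Fintype F] {V : Type v} [AddCommGroup V] [Module F V]
  [FiniteDimensional F V]
variable {Q : QuadraticForm F V} {H : Module.End F V} {r : ℕ}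

theorem exists_hasPiece [Nontrivial V] (hd : OData Q H r) (hr : r.Prime)
    (hfpf : ∀ x, H x = x → x = 0) (h2 : (2 : F) ≠ 0) (hqodd : Odd (Fintype.card F)) :
    HasPiece Q H r := by
  have hS := sympData_of_fpf hd hfpf
  obtain ⟨f, v, hf, hv, hv0⟩ := exists_irr_vec H
  by_cases hco : IsCoprime (rev f.natDegree f) f
  · obtain ⟨K2, hp⟩ := hS.exists_hypPair_of_coprime hco hv
    exact hasPiece_of_hypPair hd hr hfpf h2 hqodd hf hv hv0 hco hp
  · have hdvd : f ∣ rev f.natDegree f := by
      by_contra hnd
      exact hco ((hf.coprime_iff_not_dvd).mpr hnd).symm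
    have hlin : ¬ ∃ ε : F, f ∣ X - C ε := by
      rintro ⟨ε, hε⟩
      have hHv : H v = ε • v := eq_smul_of_dvd hε hv
      -- a vector `w` in the kernel with `tw v w ≠ 0`
      have hw : ∃ w, aeval H f w = 0 ∧ tw Q H r v w ≠ 0 := by
        by_contra hno
        push Not at hno
        exact hv0 (hS.ker_nondeg hdvd v (LinearMap.mem_ker.2 hv)
          (fun y hy => hno y (LinearMap.mem_ker.1 hy)))
      obtain ⟨w, hw, hvw⟩ := hw
      have hHw : H w = ε • w := eq_smul_of_dvd hε hw
      have hiso := hS.isom v w
      rw [hHv, hHw, map_smul, map_smul, LinearMap.smul_apply, smul_eq_mul, smul_eq_mul,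
        ← mul_assoc] at hiso
      have hε2 : ε * ε = 1 := by
        have : (ε * ε - 1) * tw Q H r v w = 0 := by rw [sub_mul, hiso, one_mul, sub_self]
        rcases mul_eq_zero.1 this with h | h
        · exact sub_eq_zero.1 h
        · exact absurd h hvw
      rcases mul_self_eq_one_iff.1 hε2 with h1 | h1
      · rw [h1, one_smul] at hHv
        exact hv0 (hfpf v hHv)
      · rw [h1] at hHv
        have hpow : ∀ n : ℕ, (H ^ n) v = ((-1 : F) ^ n) • v := by
          intro n
          induction n with
          | zero => simp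
          | succ n ih =>
            rw [pow_succ, Module.End.mul_apply, hHv, map_smul, ih, smul_smul, pow_succ, mul_comm]
        have h3 := hpow r
        rw [hd.pow_apply, hd.odd.neg_one_pow, neg_smul, one_smul] at h3
        have h4 : (2 : F) • v = 0 := by
          rw [two_smul]
          nth_rewrite 1 [h3]
          exact neg_add_cancel v
        exact hv0 ((smul_eq_zero.1 h4).resolve_left h2)
    obtain ⟨x, hx, hne⟩ := hS.exists_nonisotropic hf hdvd hlin hv hv0
    exact hasPiece_of_cyc hd hr hfpf h2 hqodd hf hx hne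

end Cfsg.Agent.Helper43.Fus
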