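import Mathlib
import Cfsg.Agent.Helper43.FusL
import Cfsg.Agent.Helper43.FusQ
import Cfsg.Agent.Helper43.FusB
import Cfsg.Agent.Helper44.PsoInn

/-!
# Class fusion, part R: an element of `SO ∖ Ω` commuting with a fixed-point-free isometry of odd
prime order.
-/

set_option autoImplicit false

namespace Cfsg.Agent.Helper43.Fus

open Matrix QuadraticMap Module Cfsg.Agent.Helper44 Cfsg.Agent.Helper44.QType
open Cfsg.Agent.Helper43.SpSS Cfsg.Agent.Helper43.OrthSS

universe u

variable {F : Type u} [Field F] [Fintype F] {ι : Type} [Fintype ι] [DecidableEq ι]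

theorem not_dvd_card_of_cast_ne_zero {r : ℕ} (hr : r.Prime) (hrF : (r : F) ≠ 0) :
    ¬ r ∣ Nat.card F := by
  intro hdvd
  haveI : Fact r.Prime := ⟨hr⟩
  obtain ⟨x, hx⟩ := exists_prime_addOrderOf_dvd_card' (G := F) r hdvd
  have h1 : r • x = 0 := by rw [← hx]; exact addOrderOf_nsmul_eq_zero x
  rw [nsmul_eq_mul] at h1
  rcases mul_eq_zero.1 h1 with h | h
  · exact hrF h
  · rw [h, addOrderOf_zero] at hx
    exact hr.one_lt.ne hx

theorem odd_card_of_two_ne_zero (h2 : (2 : F) ≠ 0) : Odd (Fintype.card F) := by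
  rw [← Nat.not_even_iff_odd]
  intro he
  have h3 : ringChar F = 2 :=
    (FiniteField.even_card_iff_char_two (F := F)).2 (Nat.even_iff.1 he)
  apply h2
  have := (CharP.cast_eq_zero_iff F (ringChar F) 2).2 (by rw [h3])
  exact_mod_cast this

/-- **Fixed-point-free case.** An isometry of odd prime order without non-zero fixed vectors
commutes with an isometry of determinant one outside `Ω`. -/
theorem exists_commuting_of_fpf (Q : QuadraticForm F (ι → F)) (h2 : (2 : F) ≠ 0)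
    (hQ : (QuadraticMap.polarBilin Q).Nondegenerate) (h : ↥(Cfsg.isometryGroup F ⇑Q)) {r : ℕ}
    (hr : r.Prime) (hro : Odd r) (hrF : (r : F) ≠ 0) (hhr : h ^ r = 1)
    (hfpf : ∀ u : ι → F, ((h : GL ι F) : Matrix ι ι F) *ᵥ u = u → u = 0) {m : ℕ}
    (hcard : Fintype.card ι = 2 * m) (hm : 0 < m) :
    ∃ c₂ : ↥(Cfsg.isometryGroup F ⇑Q), c₂ * h = h * c₂ ∧ detHom ⇑Q c₂ = 1 ∧
      c₂ ∉ Cfsg.Omega F ⇑Q := by
  haveI : Fact r.Prime := ⟨hr⟩
  have hr2 : r ≠ 2 := by
    rintro rfl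
    exact absurd hro (by decide)
  set H : Module.End F (ι → F) := Matrix.toLin' ((h : GL ι F) : Matrix ι ι F) with hH
  have hd := odata_of Q hQ h hro hrF hhr
  have hfpf' : ∀ x, H x = x → x = 0 := by
    intro x hx
    apply hfpf
    rwa [hH, Matrix.toLin'_apply] at hx
  haveI : Nonempty ι := by
    rw [← Fintype.card_pos_iff, hcard]
    omega
  haveI : Nontrivial (ι → F) := inferInstance
  have hqodd := odd_card_of_two_ne_zero h2
  have hqodd' : Odd (Nat.card F) := by rwa [Nat.card_eq_fintype_card]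
  have hrq := not_dvd_card_of_cast_ne_zero hr hrF
  have hV : finrank F (ι → F) = 2 * m := by rw [Module.finrank_fintype_fun_eq_card, hcard]
  obtain ⟨W, P, hWP, hWi, T, j, a, εW, t, horth, hPi, hj, hεW, hqW, ha, ht, hat, hTQ, hTH, hTpow,
    hTsr⟩ := exists_hasPiece hd hr hfpf' h2 hqodd
  set c : Module.End F (ι → F) := extId hWP T with hc
  have hcpow : c ^ (2 ^ a) = 1 := extId_pow_eq_one hWP T hTpow
  have hcQ : ∀ y, Q (c y) = Q y := extId_isometry Q hWP horth T hTQ
  have hcH : ∀ y, c (H y) = H (c y) := extId_commute hWP T H hWi hPi hTH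
  set c₂ : ↥(Cfsg.isometryGroup F ⇑Q) := isoOfEnd Q c (by positivity : 0 < 2 ^ a) hcpow hcQ
    with hc₂
  have hsign : ∀ e : F, e ≠ 0 → signChar ⇑Q e c₂ = -1 := by
    intro e he
    apply signChar_eq_neg_one_of_count Q c₂ c (isoOfEnd_mulVec Q c _ hcpow hcQ) W P hWP
      (fun p hp => extId_right hWP T p hp) ha hcpow
    · intro i hi hi' w hw hfix
      have h1 := extId_pow_left hWP T i ⟨w, hw⟩
      have h3 : (T ^ i) ⟨w, hw⟩ = ⟨w, hw⟩ := by
        apply Subtype.ext
        rw [← h1]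
        exact hfix
      exact congrArg Subtype.val (hTsr i hi hi' ⟨w, hw⟩ h3)
    · exact fc_sub_fc Q hr2 hd hrq hfpf' hV W P hWP horth hWi hPi hj hεW hqW ht hat hqodd' e he
  obtain ⟨ν, hν⟩ := FiniteField.exists_nonsquare (F := F) (ringChar_ne_two_of_two_ne_zero h2)
  have hν0 : ν ≠ 0 := by
    rintro rfl
    exact hν ⟨0, by simp⟩
  have hdet : detHom ⇑Q c₂ = 1 := by
    rw [← parityChar_eq_one_iff_det Q h2 hQ hν, parityChar, MonoidHom.mul_apply,
      hsign 1 one_ne_zero, hsign ν hν0]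
    rfl
  refine ⟨c₂, isoOfEnd_commute Q c _ hcpow hcQ h hcH, hdet, ?_⟩
  rw [mem_Omega_iff_signChar Q h2 hQ hν c₂ hdet, hsign ν hν0]
  decide

end Cfsg.Agent.Helper43.Fus
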