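import Mathlib
import Cfsg.Agent.Helper43.FusR
import Cfsg.Agent.Helper43.FusD
import Cfsg.Agent.Helper44.OmegaIndex
import Cfsg.Agent.Helper44.MinusForm

/-!
# Class fusion, part S: an element of `SO ∖ Ω` commuting with an isometry of odd prime order.
-/

set_option autoImplicit false

namespace Cfsg.Agent.Helper43.Fus

open Matrix QuadraticMap Module Polynomial Cfsg.Agent.Helper44
open Cfsg.Agent.Helper43.SpSS Cfsg.Agent.Helper43.OrthSS

universe u

variable {F : Type u} [Field F] [Fintype F] {ι : Type} [Fintype ι] [DecidableEq ι]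

/-- **Fixed-vector case.** If the isometry `h` of odd order fixes a non-singular vector, it commutes
with a product of two reflections outside `Ω`. -/
theorem exists_commuting_of_fixed (Q : QuadraticForm F (ι → F)) (h2 : (2 : F) ≠ 0)
    (hQ : (QuadraticMap.polarBilin Q).Nondegenerate) (h : ↥(Cfsg.isometryGroup F ⇑Q)) {r : ℕ}
    (hro : Odd r) (hrF : (r : F) ≠ 0) (hhr : h ^ r = 1) {m : ℕ}
    (hcard : Fintype.card ι = 2 * m) (u : ι → F)
    (hu : ((h : GL ι F) : Matrix ι ι F) *ᵥ u = u) (hQu : Q u ≠ 0) :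
    ∃ c₂ : ↥(Cfsg.isometryGroup F ⇑Q), c₂ * h = h * c₂ ∧ detHom ⇑Q c₂ = 1 ∧
      c₂ ∉ Cfsg.Omega F ⇑Q := by
  set H : Module.End F (ι → F) := Matrix.toLin' ((h : GL ι F) : Matrix ι ι F) with hH
  have hd := odata_of Q hQ h hro hrF hhr
  have hHu : H u = u := by rw [hH, Matrix.toLin'_apply]; exact hu
  have hV : finrank F (ι → F) = 2 * m := by rw [Module.finrank_fintype_fun_eq_card, hcard]
  -- the dimension of the fixed space is even and positive
  have hrk := LinearMap.finrank_range_add_finrank_ker (H - 1)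
  have heven : Even (finrank F (LinearMap.range (H - 1))) :=
    Cfsg.Agent.Helper36.even_finrank_of_isAlt_nondegenerate _ _ hd.sympData.alt
      hd.sympData.nondeg rfl
  have hu0 : u ≠ 0 := by
    rintro rfl
    exact hQu (map_zero Q)
  have hker_pos : 0 < finrank F (LinearMap.ker (H - 1)) := by
    rw [Module.finrank_pos_iff_exists_ne_zero]
    refine ⟨⟨u, ?_⟩, fun h0 => hu0 (congrArg Subtype.val h0)⟩
    rw [LinearMap.mem_ker, LinearMap.sub_apply, Module.End.one_apply, hHu, sub_self]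
  have hker2 : 2 ≤ finrank F (LinearMap.ker (H - 1)) := by
    obtain ⟨e, he⟩ := heven
    omega
  -- the functional `polar u`
  set φ : (ι → F) →ₗ[F] F := polarBilin Q u with hφ
  have hrkφ := LinearMap.finrank_range_add_finrank_ker φ
  have hrφ : finrank F (LinearMap.range φ) ≤ 1 := by
    have := Submodule.finrank_le (LinearMap.range φ)
    rwa [Module.finrank_self] at this
  have hinf := Submodule.finrank_sup_add_finrank_inf_eq (LinearMap.ker (H - 1)) (LinearMap.ker φ)
  have hsup := Submodule.finrank_le (LinearMap.ker (H - 1) ⊔ LinearMap.ker φ)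
  have hU_pos : 0 < finrank F ↥(LinearMap.ker (H - 1) ⊓ LinearMap.ker φ) := by omega
  obtain ⟨⟨x, hx⟩, hx0⟩ := Module.finrank_pos_iff_exists_ne_zero.1 hU_pos
  have hx0' : x ≠ 0 := fun h0 => hx0 (Subtype.ext h0)
  have hmemU : ∀ y, y ∈ LinearMap.ker (H - 1) ⊓ LinearMap.ker φ ↔ (H y = y ∧ polar Q u y = 0) := by
    intro y
    rw [Submodule.mem_inf, LinearMap.mem_ker, LinearMap.mem_ker, LinearMap.sub_apply,
      Module.End.one_apply, sub_eq_zero]
    rfl
  -- a non-singular vector in `U`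
  have hw₀ : ∃ w₀, H w₀ = w₀ ∧ polar Q u w₀ = 0 ∧ Q w₀ ≠ 0 := by
    by_contra hno
    push Not at hno
    have hQU : ∀ y, H y = y → polar Q u y = 0 → Q y = 0 := hno
    obtain ⟨hxfix, hxu⟩ := (hmemU x).1 hx
    apply hx0'
    apply hQ.1
    intro z
    obtain ⟨z₀, z₁, hz₀, hz₁, rfl⟩ := hd.exists_decomp z
    have h1 : polarBilin Q x z₁ = 0 := by
      rw [OData.polar_comm]
      exact hd.orth hxfix hz₁
    have hpuu : polar Q u u ≠ 0 := by
      rw [QuadraticMap.polar_self, nsmul_eq_mul]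
      exact mul_ne_zero (by exact_mod_cast h2) hQu
    set α : F := polar Q u z₀ / polar Q u u with hα
    set z₀' : ι → F := z₀ - α • u with hz₀'
    have hz₀'fix : H z₀' = z₀' := by rw [hz₀', map_sub, map_smul, hz₀, hHu]
    have hz₀'u : polar Q u z₀' = 0 := by
      rw [hz₀', QuadraticMap.polar_sub_right, QuadraticMap.polar_smul_right, hα, smul_eq_mul,
        div_mul_cancel₀ _ hpuu, sub_self]
    have h3 : polar Q x z₀' = 0 := by
      have e1 : H (x + z₀') = x + z₀' := by rw [map_add, hxfix, hz₀'fix]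
      have e2 : polar Q u (x + z₀') = 0 := by rw [QuadraticMap.polar_add_right, hxu, hz₀'u, add_zero]
      rw [QuadraticMap.polar, hQU _ e1 e2, hQU _ hxfix hxu, hQU _ hz₀'fix hz₀'u]
      ring
    have h4 : polar Q x u = 0 := by rw [QuadraticMap.polar_comm]; exact hxu
    have h5 : z₀ = z₀' + α • u := by rw [hz₀']; abel
    rw [map_add, h1, add_zero, polarBilin_apply_apply, h5, QuadraticMap.polar_add_right, h3,
      QuadraticMap.polar_smul_right, h4, smul_zero, add_zero]
  obtain ⟨w₀, hw₀fix, hw₀u, hQw₀⟩ := hw₀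
  -- a fixed vector of norm `ν * Q u`
  obtain ⟨ν, hν⟩ := FiniteField.exists_nonsquare (F := F) (ringChar_ne_two_of_two_ne_zero h2)
  have hν0 : ν ≠ 0 := by
    rintro rfl
    exact hν ⟨0, by simp⟩
  have hcardF : Fintype.card F % 2 = 1 :=
    FiniteField.odd_card_of_char_ne_two (ringChar_ne_two_of_two_ne_zero h2)
  have hf : degree (C (Q u) * X ^ 2 - C (ν * Q u) : F[X]) = 2 := by
    rw [degree_sub_C, degree_C_mul_X_pow 2 hQu]
    · rfl
    · rw [degree_C_mul_X_pow 2 hQu]
      norm_num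
  have hg : degree (C (Q w₀) * X ^ 2 : F[X]) = 2 := by
    rw [degree_C_mul_X_pow 2 hQw₀]
    rfl
  obtain ⟨a, b, hab⟩ := FiniteField.exists_root_sum_quadratic hf hg hcardF
  simp only [eval_sub, eval_mul, eval_C, eval_pow, eval_X] at hab
  set w : ι → F := a • u + b • w₀ with hw
  have hQw : Q w = ν * Q u := by
    rw [hw, QuadraticMap.map_add ⇑Q, QuadraticMap.map_smul, QuadraticMap.map_smul,
      QuadraticMap.polar_smul_left, QuadraticMap.polar_smul_right, hw₀u]
    simp only [smul_eq_mul, mul_zero, add_zero]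
    linear_combination hab
  have hQw0 : Q w ≠ 0 := by rw [hQw]; exact mul_ne_zero hν0 hQu
  have hwfix : ((h : GL ι F) : Matrix ι ι F) *ᵥ w = w := by
    have : H w = w := by rw [hw, map_add, map_smul, map_smul, hHu, hw₀fix]
    rwa [hH, Matrix.toLin'_apply] at this
  refine ⟨refl Q u hQu * refl Q w hQw0, ?_, ?_, ?_⟩
  · rw [mul_assoc, refl_commute_of_fixed Q h w hwfix hQw0, ← mul_assoc,
      refl_commute_of_fixed Q h u hu hQu, mul_assoc]
  · rw [map_mul, ← reflT_of_ne Q u hQu, ← reflT_of_ne Q w hQw0, detHom_reflT Q u hQu,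
      detHom_reflT Q w hQw0]
    simp
  · have hdet : detHom ⇑Q (refl Q u hQu * refl Q w hQw0) = 1 := by
      rw [map_mul, ← reflT_of_ne Q u hQu, ← reflT_of_ne Q w hQw0, detHom_reflT Q u hQu,
        detHom_reflT Q w hQw0]
      simp
    rw [mem_Omega_iff_signChar Q h2 hQ hν _ hdet, map_mul, ← reflT_of_ne Q u hQu,
      ← reflT_of_ne Q w hQw0]
    have hsq : IsSquare (Q w) ↔ ¬ IsSquare (Q u) := by
      rw [hQw, mul_comm]
      exact isSquare_mul_nonsquare_iff hQu hν
    by_cases hs : IsSquare (Q u)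
    · rw [(signChar_reflT Q h2 hν u hQu).1 hs,
        (signChar_reflT Q h2 hν w hQw0).2 (by rw [hsq]; exact not_not.2 hs), one_mul]
      decide
    · rw [(signChar_reflT Q h2 hν u hQu).2 hs, (signChar_reflT Q h2 hν w hQw0).1 (hsq.2 hs),
        mul_one]
      decide

/-- every isometry of odd prime order (prime to the characteristic) of an even-dimensional
nondegenerate quadratic space commutes with an isometry of determinant one outside `Ω` -/
theorem exists_commuting_not_mem_Omega (Q : QuadraticForm F (ι → F)) (h2 : (2 : F) ≠ 0)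
    (hQ : (QuadraticMap.polarBilin Q).Nondegenerate) (h : ↥(Cfsg.isometryGroup F ⇑Q)) {r : ℕ}
    (hr : r.Prime) (hro : Odd r) (hrF : (r : F) ≠ 0) (hhr : h ^ r = 1) {m : ℕ}
    (hcard : Fintype.card ι = 2 * m) (hm : 0 < m) :
    ∃ c₂ : ↥(Cfsg.isometryGroup F ⇑Q), c₂ * h = h * c₂ ∧ detHom ⇑Q c₂ = 1 ∧
      c₂ ∉ Cfsg.Omega F ⇑Q := by
  rcases fixed_dichotomy Q hQ h hro hrF hhr with ⟨u, hu, hQu⟩ | hfpf
  · exact exists_commuting_of_fixed Q h2 hQ h hro hrF hhr hcard u hu hQu
  · exact exists_commuting_of_fpf Q h2 hQ h hr hro hrF hhr hfpf hcard hm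

end Cfsg.Agent.Helper43.Fus
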