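import Mathlib
import Cfsg.Agent.Helper43.FusG
import Cfsg.Agent.Helper43.FusS
import Cfsg.Agent.Helper44.InndiagPlus

/-!
# Class fusion, part T: the plus-type orthogonal groups.
-/

set_option autoImplicit false

namespace Cfsg.Agent.Helper43.Fus

open Matrix QuadraticMap Module Cfsg.Agent.Helper44

universe u

variable {F : Type u} [Field F] [Fintype F]

theorem fusion_plus (hodd : Odd (Fintype.card F)) {m : ℕ} (hm : 4 ≤ m)
    (x : MulAut (Cfsg.POmega F (Cfsg.quadFormPlus m F)))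
    (hx : x ∈ Cfsg.pgoAut F (Cfsg.quadFormPlus m F)) {r : ℕ} (hr : r.Prime) (hro : Odd r)
    (hrF : (r : F) ≠ 0) (hxr : x ^ r = 1) :
    (∀ y : MulAut (Cfsg.POmega F (Cfsg.quadFormPlus m F)),
      (Cfsg.IsConjUnder (Cfsg.Inn (Cfsg.POmega F (Cfsg.quadFormPlus m F))) x y ↔
        Cfsg.IsConjUnder (Cfsg.inndiagPOmegaPlus m F) x y) ∧
      (Cfsg.IsConjUnder (Cfsg.psoAut F (Cfsg.quadFormPlus m F)) x y ↔
        Cfsg.IsConjUnder (Cfsg.inndiagPOmegaPlus m F) x y)) ∧
    (∀ y : MulAut (Cfsg.POmega F (Cfsg.quadFormPlus m F)),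
      Cfsg.IsConjUnder (Cfsg.poAut F (Cfsg.quadFormPlus m F)) x y ↔
        Cfsg.IsConjUnder (Cfsg.pgoAut F (Cfsg.quadFormPlus m F)) x y) := by
  have h2 : (2 : F) ≠ 0 := two_ne_zero_of_odd_card rfl hodd
  have hQ := nondegenerate_plusForm (F := F) m
  have hcard : Fintype.card (Fin m ⊕ Fin m) = 2 * m := by
    rw [Fintype.card_sum, Fintype.card_fin]; omega
  have hn : 7 ≤ Fintype.card (Fin m ⊕ Fin m) := by rw [hcard]; omega
  obtain ⟨t, _, _, ht⟩ := exists_nonsingular_perp_pair (plusForm m F) hQ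
    (by rw [Module.finrank_fintype_fun_eq_card]; omega) 0 0
  have hGeq := inndiag_eq_map (F := F) (m := m) h2 ht
  rw [hGeq]
  apply fusion (plusForm m F) h2 hQ hn ht m hcard x hx hro hrF hxr
  intro _ h hhr
  exact exists_commuting_not_mem_Omega (plusForm m F) h2 hQ h hr hro hrF hhr hcard (by omega)

end Cfsg.Agent.Helper43.Fus
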