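import Cfsg.Agent.Helper43.G2Abs
import Cfsg.Agent.Helper22.G2D3
import Cfsg.Agent.Helper35.G2D4
import Cfsg.Agent.Helper80.G2D5
import Cfsg.Agent.Helper80.G2D6

/-!
# The abstract part of S4632: a group whose involution centralizer is `(S ∘ S).2`
-/

set_option autoImplicit false

namespace Cfsg.Agent.Helper43.G2S

open Cfsg.Agent.Helper42

variable {G S : Type*} [Group G] [Group S] [Finite G] [Finite S]

/-- assembly of the abstract part -/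
theorem abs_main (m : S × S →* G) (t z0 : G) (ζ : S) (τ : S →* S)
    (hζ1 : ζ ≠ 1) (hζ2 : ζ * ζ = 1) (hζc : ∀ s, s * ζ = ζ * s)
    (hker : ∀ s₁ s₂, m (s₁, s₂) = 1 ↔ (s₁ = 1 ∧ s₂ = 1) ∨ (s₁ = ζ ∧ s₂ = ζ))
    (hz0 : m (ζ, 1) = z0) (ht2 : t * t = 1)
    (htm : ∀ s₁ s₂, t * m (s₁, s₂) * t⁻¹ = m (τ s₁, τ s₂))
    (htz : t * z0 = z0 * t)
    (hcent : ∀ g : G, g * z0 = z0 * g → g ∈ m.range ∨ ∃ l ∈ m.range, g = t * l)
    (h4 : ∃ y : S, y * y = ζ)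
    (hEA : ∀ Q : Sylow 2 S, EA 2 (Q : Subgroup S))
    (hcomm1 : ∀ s : S, s ≠ 1 → s ≠ ζ → ∀ a b : S, s * a = a * s → s * b = b * s → a * b = b * a)
    (hcomm2 : ∀ s a b : S, τ (s * a * s⁻¹) = a → τ (s * b * s⁻¹) = b → a * b = b * a) :
    ∃ P₀ : Sylow 2 G, EA 2 (P₀ : Subgroup G) := by
  obtain ⟨P, Q₁, Q₂, hc⟩ :=
    Cfsg.Agent.Helper22.G2S.exists_cand m t z0 ζ τ hζ2 hζc hker hz0 ht2 htm htz hcent
  have hea : EA 2 P := Cfsg.Agent.Helper35.G2S.cand_EA m t z0 ht2 hEA P Q₁ Q₂ hc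
  have hcen := Cfsg.Agent.Helper80.G2S.cand_center m t z0 ζ τ hζ1 hζ2 hker hz0 htm h4 hEA
    hcomm1 hcomm2 P Q₁ Q₂ hc
  have hz1 : z0 ≠ 1 := by
    intro h
    rw [← hz0] at h
    rcases (hker ζ 1).1 h with ⟨h1, -⟩ | ⟨-, h1⟩
    · exact hζ1 h1
    · exact hζ1 h1.symm
  have hz2 : z0 * z0 = 1 := by
    rw [← hz0, ← map_mul, Prod.mk_mul_mk, hζ2, mul_one]
    exact map_one m
  have hzP : z0 ∈ P := Cfsg.Agent.Helper80.G2S.z0_mem_of_max z0 P hz2 hc.isP hc.le_cent hc.max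
  obtain ⟨P', hP'⟩ :=
    Cfsg.Agent.Helper80.G2S.sylow_of_center z0 P hz1 hzP hc.isP hc.le_cent hc.max hcen
  refine ⟨P', ?_⟩
  rw [hP']
  exact hea

end Cfsg.Agent.Helper43.G2S
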