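import Cfsg.Agent.Helper43.G2Defs

set_option autoImplicit false

namespace Cfsg.Agent.Helper43.G2S

open Matrix Cfsg.Lie

variable {F : Type*} [Field F]

theorem Z0M_aut (x y : Fin 8 → F) :
    Z0M *ᵥ zornMul x y = zornMul (Z0M *ᵥ x) (Z0M *ᵥ y) := by
  simp only [Z0M_mulVec]
  ext i
  fin_cases i <;> simp [zornMul, dot3, cross3] <;> ring

theorem PhiM_aut (B : Matrix (Fin 2) (Fin 2) F) (hB : B.det = 1) (x y : Fin 8 → F) :
    PhiM B *ᵥ zornMul x y = zornMul (PhiM B *ᵥ x) (PhiM B *ᵥ y) := by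
  rw [Matrix.det_fin_two] at hB
  simp only [PhiM_mulVec]
  ext i
  fin_cases i <;> simp [zornMul, dot3, cross3]
  all_goals grind

theorem PsiM_aut (p : Matrix (Fin 2) (Fin 2) F) (hp : p.det = 1) (x y : Fin 8 → F) :
    PsiM p *ᵥ zornMul x y = zornMul (PsiM p *ᵥ x) (PsiM p *ᵥ y) := by
  rw [Matrix.det_fin_two] at hp
  simp only [PsiM_mulVec]
  ext i
  fin_cases i <;> simp [zornMul, dot3, cross3]
  all_goals grind

theorem TM_aut (ν : F) (hν : ν ≠ 0) (x y : Fin 8 → F) :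
    TM ν *ᵥ zornMul x y = zornMul (TM ν *ᵥ x) (TM ν *ᵥ y) := by
  simp only [TM_mulVec]
  ext i
  fin_cases i <;> simp [zornMul, dot3, cross3]
  all_goals (field_simp; try ring)

end Cfsg.Agent.Helper43.G2S
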