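import Mathlib
import Cfsg.Prelude.Def_G2

/-!
# The centralizer of an involution in `G₂(F)`: explicit automorphisms of the Zorn algebra

Coordinates `(α, a₁, a₂, a₃, b₁, b₂, b₃, β)`.  `H₀` is the quaternion subalgebra on the coordinates
`0, 1, 4, 7` (a copy of `M₂(F)`), `M` its orthogonal complement on the coordinates `2, 3, 5, 6`.
-/

set_option autoImplicit false

namespace Cfsg.Agent.Helper43.G2S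

open Matrix Cfsg.Lie

variable {F : Type*} [Field F]

/-- `Φ(B)`: `B` on `(a₂,a₃)`, the transposed adjugate on `(b₂,b₃)`, identity on `H₀` -/
def PhiM (B : Matrix (Fin 2) (Fin 2) F) : Matrix (Fin 8) (Fin 8) F :=
  !![1, 0, 0, 0, 0, 0, 0, 0;
     0, 1, 0, 0, 0, 0, 0, 0;
     0, 0, B 0 0, B 0 1, 0, 0, 0, 0;
     0, 0, B 1 0, B 1 1, 0, 0, 0, 0;
     0, 0, 0, 0, 1, 0, 0, 0;
     0, 0, 0, 0, 0, B 1 1, -B 1 0, 0;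
     0, 0, 0, 0, 0, -B 0 1, B 0 0, 0;
     0, 0, 0, 0, 0, 0, 0, 1]

/-- `Ψ(p)`: `h ↦ p h adj(p)` on `H₀`, the transposed adjugate on `u₁ = (a₂,b₃)`, `u₂ = (a₃,-b₂)` -/
def PsiM (p : Matrix (Fin 2) (Fin 2) F) : Matrix (Fin 8) (Fin 8) F :=
  !![p 0 0 * p 1 1, -(p 0 0 * p 1 0), 0, 0, p 0 1 * p 1 1, 0, 0, -(p 0 1 * p 1 0);
     -(p 0 0 * p 0 1), p 0 0 * p 0 0, 0, 0, -(p 0 1 * p 0 1), 0, 0, p 0 1 * p 0 0;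
     0, 0, p 1 1, 0, 0, 0, -p 1 0, 0;
     0, 0, 0, p 1 1, 0, p 1 0, 0, 0;
     p 1 0 * p 1 1, -(p 1 0 * p 1 0), 0, 0, p 1 1 * p 1 1, 0, 0, -(p 1 1 * p 1 0);
     0, 0, 0, p 0 1, 0, p 0 0, 0, 0;
     0, 0, -p 0 1, 0, 0, 0, p 0 0, 0;
     -(p 1 0 * p 0 1), p 1 0 * p 0 0, 0, 0, -(p 1 1 * p 0 1), 0, 0, p 1 1 * p 0 0]

/-- the involution `t_ν` -/
def TM (ν : F) : Matrix (Fin 8) (Fin 8) F :=
  !![0, 0, 0, 0, 0, 0, 0, 1;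
     0, 0, 0, 0, -ν, 0, 0, 0;
     0, 0, 0, 0, 0, -1, 0, 0;
     0, 0, 0, 0, 0, 0, -ν⁻¹, 0;
     0, -ν⁻¹, 0, 0, 0, 0, 0, 0;
     0, 0, -1, 0, 0, 0, 0, 0;
     0, 0, 0, -ν, 0, 0, 0, 0;
     1, 0, 0, 0, 0, 0, 0, 0]

/-- the central involution `z₀` of the centralizer -/
def Z0M : Matrix (Fin 8) (Fin 8) F :=
  !![1, 0, 0, 0, 0, 0, 0, 0;
     0, 1, 0, 0, 0, 0, 0, 0;
     0, 0, -1, 0, 0, 0, 0, 0;
     0, 0, 0, -1, 0, 0, 0, 0;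
     0, 0, 0, 0, 1, 0, 0, 0;
     0, 0, 0, 0, 0, -1, 0, 0;
     0, 0, 0, 0, 0, 0, -1, 0;
     0, 0, 0, 0, 0, 0, 0, 1]

/-- the matrix `b₀ = [[0,-ν],[1,0]]` of determinant `ν` -/
def b0 (ν : F) : Matrix (Fin 2) (Fin 2) F := !![0, -ν; 1, 0]

/-- embedding of `M₂(F)` as `H₀` -/
def vecH (h : Matrix (Fin 2) (Fin 2) F) : Fin 8 → F := ![h 0 0, h 0 1, 0, 0, h 1 0, 0, 0, h 1 1]

/-- embedding of `F² × F²` as `M`: `u₁ = (a₂, b₃)`, `u₂ = (a₃, -b₂)` -/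
def vecM (u₁ u₂ : Fin 2 → F) : Fin 8 → F := ![0, 0, u₁ 0, u₂ 0, 0, -(u₂ 1), u₁ 1, 0]

theorem PhiM_mulVec (B : Matrix (Fin 2) (Fin 2) F) (x : Fin 8 → F) :
    PhiM B *ᵥ x = ![x 0, x 1, B 0 0 * x 2 + B 0 1 * x 3, B 1 0 * x 2 + B 1 1 * x 3, x 4,
      B 1 1 * x 5 - B 1 0 * x 6, -(B 0 1 * x 5) + B 0 0 * x 6, x 7] := by
  ext i
  fin_cases i <;> simp [PhiM, Matrix.mulVec, dotProduct, Fin.sum_univ_eight] <;> ring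

theorem PsiM_mulVec (p : Matrix (Fin 2) (Fin 2) F) (x : Fin 8 → F) :
    PsiM p *ᵥ x = ![(p 0 0 * x 0 + p 0 1 * x 4) * p 1 1 - (p 0 0 * x 1 + p 0 1 * x 7) * p 1 0,
      -((p 0 0 * x 0 + p 0 1 * x 4) * p 0 1) + (p 0 0 * x 1 + p 0 1 * x 7) * p 0 0,
      p 1 1 * x 2 - p 1 0 * x 6, p 1 1 * x 3 + p 1 0 * x 5,
      (p 1 0 * x 0 + p 1 1 * x 4) * p 1 1 - (p 1 0 * x 1 + p 1 1 * x 7) * p 1 0,
      p 0 1 * x 3 + p 0 0 * x 5, -(p 0 1 * x 2) + p 0 0 * x 6,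
      -((p 1 0 * x 0 + p 1 1 * x 4) * p 0 1) + (p 1 0 * x 1 + p 1 1 * x 7) * p 0 0] := by
  ext i
  fin_cases i <;> simp [PsiM, Matrix.mulVec, dotProduct, Fin.sum_univ_eight] <;> ring

theorem TM_mulVec (ν : F) (x : Fin 8 → F) :
    TM ν *ᵥ x = ![x 7, -(ν * x 4), -x 5, -(ν⁻¹ * x 6), -(ν⁻¹ * x 1), -x 2, -(ν * x 3), x 0] := by
  ext i
  fin_cases i <;> simp [TM, Matrix.mulVec, dotProduct, Fin.sum_univ_eight]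

theorem Z0M_mulVec (x : Fin 8 → F) :
    Z0M *ᵥ x = ![x 0, x 1, -x 2, -x 3, x 4, -x 5, -x 6, x 7] := by
  ext i
  fin_cases i <;> simp [Z0M, Matrix.mulVec, dotProduct, Fin.sum_univ_eight]

end Cfsg.Agent.Helper43.G2S
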