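import Cfsg.Agent.Helper43.G2Vec
import Cfsg.Agent.Helper73.G2B2
import Cfsg.Agent.Helper73.G2B4
import Cfsg.Agent.Helper93.G2B3

set_option autoImplicit false

namespace Cfsg.Agent.Helper43.G2S

open Matrix Cfsg.Lie

section final2

variable {F : Type*} [Field F]

theorem cjM_neg_one (ν : F) (hν : ν ≠ 0) : tau ν hν (-1 : SL2 F) = -1 := by
  apply Subtype.ext
  rw [coe_tau]
  ext i j
  fin_cases i <;> fin_cases j <;> simp [cjM]

theorem phi_z0_comm (B : SL2 F) : phi B * z0 = z0 * phi B := by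
  unfold z0
  rw [← map_mul, ← map_mul]
  congr 1
  simp

theorem psi_z0_comm (p : SL2 F) : psi p * z0 = z0 * psi p := by
  unfold z0
  exact ((phi_psi_comm (-1) p).eq).symm

theorem tEl_z0_comm (ν : F) (hν : ν ≠ 0) : tEl ν hν * z0 = z0 * tEl ν hν := by
  unfold z0
  rw [tEl_mul_phi, cjM_neg_one]

theorem z0_mul_self : (z0 : G2 F) * z0 = 1 := by
  unfold z0
  rw [← map_mul]
  simp

/-- an element agreeing with `k` on `H₀` lies in `k φ(SL₂)` -/
theorem eq_mul_phi_of_agree (h2 : (2 : F) ≠ 0) (g k : G2 F) (hg : g * z0 = z0 * g)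
    (hk : k * z0 = z0 * k)
    (hag : ∀ h : Matrix (Fin 2) (Fin 2) F,
      (g : GL (Fin 8) F).1 *ᵥ vecH h = (k : GL (Fin 8) F).1 *ᵥ vecH h) :
    ∃ B : SL2 F, g = k * phi B := by
  have hk' : k⁻¹ * z0 = z0 * k⁻¹ := by
    rw [eq_mul_inv_iff_mul_eq, mul_assoc, ← hk, ← mul_assoc, inv_mul_cancel, one_mul]
  have hz : k⁻¹ * g * z0 = z0 * (k⁻¹ * g) := by
    rw [mul_assoc, hg, ← mul_assoc, hk', mul_assoc]
  obtain ⟨B, hB⟩ := Cfsg.Agent.Helper73.G2S.eq_phi_of_fix h2 (k⁻¹ * g) hz (fun h => by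
    rw [coe_mul_G2, ← Matrix.mulVec_mulVec, hag, Matrix.mulVec_mulVec, ← coe_mul_G2,
      inv_mul_cancel]
    exact Matrix.one_mulVec _)
  exact ⟨B, by rw [← hB, mul_inv_cancel_left]⟩

theorem cent_cases' [Finite F] (h2 : (2 : F) ≠ 0) (ν : F) (hν0 : ν ≠ 0) (hν : ¬ IsSquare ν)
    (g : G2 F) (hg : g * z0 = z0 * g) :
    g ∈ (mHom (F := F)).range ∨ ∃ l ∈ (mHom (F := F)).range, g = tEl ν hν0 * l := by
  obtain ⟨p, hp⟩ := Cfsg.Agent.Helper73.G2S.exists_conj_of_comm h2 g hg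
  obtain ⟨c, p₁, hc, hdec⟩ := Cfsg.Agent.Helper93.G2S.gl2_decomp h2 ν hν p
  have hadj : p₁.1 * p₁.1.adjugate = 1 := by
    rw [Matrix.mul_adjugate, p₁.2, one_smul]
  rcases hdec with hdec | hdec
  · -- square determinant
    have hinv : (p⁻¹).1 = c⁻¹ • p₁.1.adjugate := by
      apply Units.inv_eq_of_mul_eq_one_right
      rw [hdec, Matrix.smul_mul, Matrix.mul_smul, smul_smul, mul_inv_cancel₀ hc, one_smul, hadj]
    have hconj : ∀ h : Matrix (Fin 2) (Fin 2) F,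
        p.1 * h * (p⁻¹).1 = p₁.1 * h * p₁.1.adjugate := by
      intro h
      rw [hinv, hdec, Matrix.smul_mul, Matrix.smul_mul, Matrix.mul_smul, smul_smul,
        mul_inv_cancel₀ hc, one_smul]
    obtain ⟨B, hB⟩ := eq_mul_phi_of_agree h2 g (psi p₁) hg (psi_z0_comm p₁) (fun h => by
      rw [hp, hconj, coe_psi, PsiM_vecH])
    left
    refine ⟨(B, p₁), ?_⟩
    rw [mHom_apply, (phi_psi_comm B p₁).eq, hB]
  · -- nonsquare determinant
    have hb0 : b0 ν * (ν⁻¹ • (b0 ν).adjugate) = 1 := by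
      rw [Matrix.mul_smul, Matrix.mul_adjugate, det_b0, smul_smul, inv_mul_cancel₀ hν0, one_smul]
    have hinv : (p⁻¹).1 = c⁻¹ • (p₁.1.adjugate * (ν⁻¹ • (b0 ν).adjugate)) := by
      apply Units.inv_eq_of_mul_eq_one_right
      rw [hdec, Matrix.smul_mul, Matrix.mul_smul, smul_smul, mul_inv_cancel₀ hc, one_smul,
        Matrix.mul_assoc, ← Matrix.mul_assoc p₁.1, hadj, Matrix.one_mul, hb0]
    have hconj : ∀ h : Matrix (Fin 2) (Fin 2) F,
        p.1 * h * (p⁻¹).1 = cjM ν (p₁.1 * h * p₁.1.adjugate) := by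
      intro h
      have e1 : cjM ν (p₁.1 * h * p₁.1.adjugate) =
          cjM ν (p₁.1 * h * p₁.1.adjugate) * (b0 ν * (ν⁻¹ • (b0 ν).adjugate)) := by
        rw [hb0, Matrix.mul_one]
      rw [e1, ← Matrix.mul_assoc, cjM_mul_b0 ν hν0, hinv, hdec, Matrix.smul_mul, Matrix.smul_mul,
        Matrix.mul_smul, smul_smul, mul_inv_cancel₀ hc, one_smul]
      simp only [Matrix.mul_assoc]
    have hkz : tEl ν hν0 * psi p₁ * z0 = z0 * (tEl ν hν0 * psi p₁) := by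
      rw [mul_assoc, psi_z0_comm, ← mul_assoc, tEl_z0_comm, mul_assoc]
    obtain ⟨B, hB⟩ := eq_mul_phi_of_agree h2 g (tEl ν hν0 * psi p₁) hg hkz (fun h => by
      rw [hp, hconj, coe_mul_G2, ← Matrix.mulVec_mulVec, coe_psi, PsiM_vecH, coe_tEl, TM_vecH])
    right
    refine ⟨mHom (B, p₁), ⟨(B, p₁), rfl⟩, ?_⟩
    rw [mHom_apply, (phi_psi_comm B p₁).eq, hB, mul_assoc]

end final2

end Cfsg.Agent.Helper43.G2S
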