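import Cfsg.Agent.Helper43.G2Fin
import Cfsg.Agent.Helper43.G2AbsMain
import Cfsg.Agent.Helper93.G2K
import Cfsg.Agent.Helper76.G2C
import Cfsg.Agent.S4627

set_option autoImplicit false

namespace Cfsg.Agent.Helper43.G2S

open Matrix Cfsg.Lie Cfsg.Agent.Helper42

section final3

variable {F : Type*} [Field F] [Fintype F]

theorem two_ne_zero_of_odd_card (hF : Odd (Fintype.card F)) : (2 : F) ≠ 0 := by
  intro h
  have h2 : ringChar F = 2 := by
    have : ringChar F ∣ 2 := ringChar.dvd (R := F) (x := 2) (by exact_mod_cast h)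
    have hp := CharP.char_is_prime F (ringChar F)
    exact (Nat.prime_dvd_prime_iff_eq hp Nat.prime_two).1 this
  have := FiniteField.even_card_of_char_two h2
  rcases hF with ⟨k, hk⟩
  omega

theorem neg_one_ne_one_sl2 (h2 : (2 : F) ≠ 0) : (-1 : SL2 F) ≠ 1 := by
  intro h
  have h1 := congrArg (fun s : SL2 F => s.1 0 0) h
  simp only [Matrix.SpecialLinearGroup.coe_neg, Matrix.SpecialLinearGroup.coe_one,
    Matrix.neg_apply, Matrix.one_apply_eq] at h1
  apply h2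
  have : (2 : F) = 1 - (-1) := by ring
  rw [this, h1, sub_self]

theorem mHom_ker_iff (B p : SL2 F) :
    mHom (B, p) = 1 ↔ (B = 1 ∧ p = 1) ∨ (B = -1 ∧ p = -1) := by
  constructor
  · intro h
    have h1 : PhiM B.1 * PsiM p.1 = 1 := by
      have := congrArg (fun g : G2 F => (g : GL (Fin 8) F).1) h
      simpa [mHom_apply, coe_mul_G2] using this
    rcases Cfsg.Agent.Helper93.G2S.PhiM_mul_PsiM_eq_one B.1 p.1 B.2 p.2 h1 with ⟨hB, hp⟩ | ⟨hB, hp⟩
    · left
      exact ⟨Subtype.ext hB, Subtype.ext hp⟩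
    · right
      refine ⟨Subtype.ext ?_, Subtype.ext ?_⟩
      · rw [hB]; simp
      · rw [hp]; simp
  · rintro (⟨rfl, rfl⟩ | ⟨rfl, rfl⟩)
    · exact map_one _
    · rw [mHom_apply, psi_neg_one]
      exact z0_mul_self

theorem exists_order_four : ∃ y : SL2 F, y * y = -1 := by
  refine ⟨⟨!![0, -1; 1, 0], by simp [Matrix.det_fin_two]⟩, ?_⟩
  apply Subtype.ext
  change (!![0, -1; 1, 0] : Matrix (Fin 2) (Fin 2) F) * !![0, -1; 1, 0] =
    ((-1 : SL2 F) : Matrix (Fin 2) (Fin 2) F)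
  rw [Matrix.SpecialLinearGroup.coe_neg, Matrix.SpecialLinearGroup.coe_one]
  ext i j
  fin_cases i <;> fin_cases j <;> simp [Matrix.mul_apply, Fin.sum_univ_two]

theorem sl2_sylow_EA (hF : Odd (Fintype.card F)) (Q : Sylow 2 (SL2 F)) :
    EA 2 (Q : Subgroup (SL2 F)) := by
  have hq : 4 ∣ Fintype.card F + 1 ∨ (4 ∣ Fintype.card F - 1 ∧ ∃ j : ℕ, 1 = 2 ^ j) := by
    obtain ⟨k, hk⟩ := hF
    rcases Nat.even_or_odd k with ⟨l, hl⟩ | ⟨l, hl⟩
    · right
      refine ⟨⟨l, by omega⟩, 0, by norm_num⟩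
    · left
      exact ⟨l + 1, by omega⟩
  exact Cfsg.Agent.S4627.result hF 1 le_rfl hq Q

theorem g2_main' (hF : Odd (Fintype.card F)) (P : Sylow 2 (Cfsg.Lie.G2 F)) :
    EA 2 (P : Subgroup (Cfsg.Lie.G2 F)) := by
  have h2 : (2 : F) ≠ 0 := two_ne_zero_of_odd_card hF
  have hch : ringChar F ≠ 2 := by
    intro h
    have := FiniteField.even_card_of_char_two h
    rcases hF with ⟨k, hk⟩
    omega
  obtain ⟨ν, hν⟩ := FiniteField.exists_nonsquare hch
  have hν0 : ν ≠ 0 := by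
    rintro rfl
    exact hν ⟨0, by simp⟩
  obtain ⟨P₀, hP₀⟩ := abs_main (G := G2 F) (S := SL2 F) mHom (tEl ν hν0) z0 (-1) (tau ν hν0)
    (neg_one_ne_one_sl2 h2) (by simp) (fun s => by simp) mHom_ker_iff mHom_neg_one_left
    (tEl_mul_self ν hν0) (fun s₁ s₂ => tEl_conj_mHom ν hν0 s₁ s₂) (tEl_z0_comm ν hν0)
    (fun g hg => cent_cases' h2 ν hν0 hν g hg) exists_order_four (sl2_sylow_EA hF)
    (fun s h1 h2' a b ha hb => Cfsg.Agent.Helper76.G2S.sl2_comm1 s h1 h2' a b ha hb)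
    (fun s a b ha hb => Cfsg.Agent.Helper76.G2S.sl2_comm2 ν hν0 hν s a b ha hb)
  exact EA.of_mulEquiv (Sylow.equiv P₀ P) hP₀

end final3

end Cfsg.Agent.Helper43.G2S
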