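import Cfsg.Agent.Helper43.G2Aut

set_option autoImplicit false

namespace Cfsg.Agent.Helper43.G2S

open Matrix Cfsg.Lie

variable {F : Type*} [Field F]

theorem mat_ext_mulVec {M N : Matrix (Fin 8) (Fin 8) F} (h : ∀ x, M *ᵥ x = N *ᵥ x) : M = N :=
  Matrix.ext_of_mulVec_single fun _ => h _

/-- conjugation by `b₀ ν`, written out -/
def cjM (ν : F) (B : Matrix (Fin 2) (Fin 2) F) : Matrix (Fin 2) (Fin 2) F :=
  !![B 1 1, -(ν * B 1 0); -(ν⁻¹ * B 0 1), B 0 0]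

theorem PhiM_one : PhiM (1 : Matrix (Fin 2) (Fin 2) F) = 1 := by
  apply mat_ext_mulVec
  intro x
  rw [PhiM_mulVec, Matrix.one_mulVec]
  ext i
  fin_cases i <;> simp

theorem PsiM_one : PsiM (1 : Matrix (Fin 2) (Fin 2) F) = 1 := by
  apply mat_ext_mulVec
  intro x
  rw [PsiM_mulVec, Matrix.one_mulVec]
  ext i
  fin_cases i <;> simp

theorem PhiM_mul (B B' : Matrix (Fin 2) (Fin 2) F) : PhiM (B * B') = PhiM B * PhiM B' := by
  apply mat_ext_mulVec
  intro x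
  rw [← Matrix.mulVec_mulVec]
  simp only [PhiM_mulVec]
  ext i
  fin_cases i <;> simp [Matrix.mul_apply, Fin.sum_univ_two] <;> ring

theorem PsiM_mul (p p' : Matrix (Fin 2) (Fin 2) F) : PsiM (p * p') = PsiM p * PsiM p' := by
  apply mat_ext_mulVec
  intro x
  rw [← Matrix.mulVec_mulVec]
  simp only [PsiM_mulVec]
  ext i
  fin_cases i <;> simp [Matrix.mul_apply, Fin.sum_univ_two] <;> ring

theorem PhiM_PsiM_comm (B p : Matrix (Fin 2) (Fin 2) F) : PhiM B * PsiM p = PsiM p * PhiM B := by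
  apply mat_ext_mulVec
  intro x
  rw [← Matrix.mulVec_mulVec, ← Matrix.mulVec_mulVec]
  simp only [PhiM_mulVec, PsiM_mulVec]
  ext i
  fin_cases i <;> simp <;> ring

theorem TM_sq (ν : F) (hν : ν ≠ 0) : TM ν * TM ν = 1 := by
  apply mat_ext_mulVec
  intro x
  rw [← Matrix.mulVec_mulVec, Matrix.one_mulVec]
  simp only [TM_mulVec]
  ext i
  fin_cases i <;> simp <;> field_simp

theorem TM_PhiM (ν : F) (hν : ν ≠ 0) (B : Matrix (Fin 2) (Fin 2) F) :
    TM ν * PhiM B = PhiM (cjM ν B) * TM ν := by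
  apply mat_ext_mulVec
  intro x
  rw [← Matrix.mulVec_mulVec, ← Matrix.mulVec_mulVec]
  simp only [TM_mulVec, PhiM_mulVec]
  ext i
  fin_cases i <;> simp [cjM] <;> field_simp <;> ring

theorem TM_PsiM (ν : F) (hν : ν ≠ 0) (p : Matrix (Fin 2) (Fin 2) F) :
    TM ν * PsiM p = PsiM (cjM ν p) * TM ν := by
  apply mat_ext_mulVec
  intro x
  rw [← Matrix.mulVec_mulVec, ← Matrix.mulVec_mulVec]
  simp only [TM_mulVec, PsiM_mulVec]
  ext i
  fin_cases i <;> simp [cjM] <;> field_simp <;> ring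

theorem PhiM_neg_one : PhiM (-1 : Matrix (Fin 2) (Fin 2) F) = Z0M := by
  apply mat_ext_mulVec
  intro x
  rw [PhiM_mulVec, Z0M_mulVec]
  ext i
  fin_cases i <;> simp

theorem PsiM_neg_one : PsiM (-1 : Matrix (Fin 2) (Fin 2) F) = Z0M := by
  apply mat_ext_mulVec
  intro x
  rw [PsiM_mulVec, Z0M_mulVec]
  ext i
  fin_cases i <;> simp

theorem cjM_one (ν : F) : cjM ν (1 : Matrix (Fin 2) (Fin 2) F) = 1 := by
  ext i j
  fin_cases i <;> fin_cases j <;> simp [cjM]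

theorem cjM_mul (ν : F) (hν : ν ≠ 0) (B B' : Matrix (Fin 2) (Fin 2) F) :
    cjM ν (B * B') = cjM ν B * cjM ν B' := by
  ext i j
  fin_cases i <;> fin_cases j <;> simp [cjM, Matrix.mul_apply, Fin.sum_univ_two] <;> field_simp <;> ring

theorem det_cjM (ν : F) (hν : ν ≠ 0) (B : Matrix (Fin 2) (Fin 2) F) : (cjM ν B).det = B.det := by
  simp [cjM, Matrix.det_fin_two]
  field_simp

/-- `cjM ν B` is `b₀ B b₀⁻¹` -/
theorem cjM_mul_b0 (ν : F) (hν : ν ≠ 0) (B : Matrix (Fin 2) (Fin 2) F) :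
    cjM ν B * b0 ν = b0 ν * B := by
  ext i j
  fin_cases i <;> fin_cases j <;> simp [cjM, b0, Matrix.mul_apply, Fin.sum_univ_two] <;> field_simp

theorem det_b0 (ν : F) : (b0 ν).det = ν := by
  simp [b0, Matrix.det_fin_two]

end Cfsg.Agent.Helper43.G2S
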