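import Mathlib
import Cfsg.Agent.Helper43.QuadF2

set_option autoImplicit false

namespace Cfsg.Agent.Helper43

open Classical

/-- A function `Q : V → 𝔽₂` on an elementary abelian 2-group with nondegenerate bi-additive
polarization `f`. -/
structure IsQF2 {V : Type*} [AddCommGroup V] (Q : V → ZMod 2) (f : V → V → ZMod 2) : Prop where
  two : ∀ v : V, v + v = 0
  polar : ∀ u v, Q (u + v) = Q u + Q v + f u v
  add_left : ∀ u u' v, f (u + u') v = f u v + f u' v
  nondeg : ∀ s, s ≠ 0 → ∃ u, f u s ≠ 0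

namespace IsQF2

variable {V : Type*} [AddCommGroup V] {Q : V → ZMod 2} {f : V → V → ZMod 2}

theorem z2_add_self (a : ZMod 2) : a + a = 0 := CharTwo.add_self_eq_zero a

theorem z2_eq_of_add_eq_zero {a b : ZMod 2} (h : a + b = 0) : a = b := by
  revert a b; decide

theorem symm (h : IsQF2 Q f) (u v : V) : f u v = f v u := by
  have h1 := h.polar u v
  have h2 := h.polar v u
  rw [add_comm v u] at h2
  have : Q u + Q v + f u v = Q v + Q u + f v u := by rw [← h1, ← h2]
  have h3 : Q v + Q u = Q u + Q v := add_comm _ _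
  rw [h3] at this
  exact add_left_cancel this

theorem add_right (h : IsQF2 Q f) (u v v' : V) : f u (v + v') = f u v + f u v' := by
  rw [h.symm, h.add_left, h.symm v u, h.symm v' u]

theorem zero_left (h : IsQF2 Q f) (v : V) : f 0 v = 0 := by
  have := h.add_left 0 0 v
  rw [add_zero] at this
  exact left_eq_add.mp this

theorem zero_right (h : IsQF2 Q f) (v : V) : f v 0 = 0 := by
  rw [h.symm, h.zero_left]

theorem map_zero (h : IsQF2 Q f) : Q 0 = 0 := by
  have := h.polar 0 0
  rw [add_zero, h.zero_left, add_zero] at this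
  exact left_eq_add.mp this

theorem self (h : IsQF2 Q f) (v : V) : f v v = 0 := by
  have := h.polar v v
  rw [h.two, h.map_zero, z2_add_self, zero_add] at this
  exact this.symm

variable [Fintype V]

/-- The Gauss sum `S(Q) = Σ (-1)^{Q v}`. -/
noncomputable def gsum (Q : V → ZMod 2) : ℤ := ∑ v : V, sgn2 (Q v)

theorem sum_sgn2_eq_zero (h : IsQF2 Q f) (s : V) (hs : s ≠ 0) :
    ∑ u : V, sgn2 (f u s) = 0 := by
  obtain ⟨u0, hu0⟩ := h.nondeg s hs
  have h1 : f u0 s = 1 := by
    rcases zmod2_cases (f u0 s) with h' | h'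
    · exact absurd h' hu0
    · exact h'
  have h2 : ∑ u : V, sgn2 (f u s) = ∑ u : V, sgn2 (f (u + u0) s) :=
    (Fintype.sum_equiv (Equiv.addRight u0) _ _ (fun u => rfl)).symm
  have h3 : ∑ u : V, sgn2 (f (u + u0) s) = - ∑ u : V, sgn2 (f u s) := by
    rw [← Finset.sum_neg_distrib]
    apply Finset.sum_congr rfl
    intro u _
    rw [h.add_left, h1, sgn2_add, sgn2_one]
    ring
  omega

theorem gsum_mul_self (h : IsQF2 Q f) : gsum Q * gsum Q = (Fintype.card V : ℤ) := by
  unfold gsum
  rw [Finset.sum_mul_sum]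
  have h1 : ∀ u : V, ∑ v : V, sgn2 (Q u) * sgn2 (Q v) = ∑ s : V, sgn2 (Q s) * sgn2 (f u s) := by
    intro u
    rw [← Fintype.sum_equiv (Equiv.addLeft u) (fun s => sgn2 (Q u) * sgn2 (Q (u + s)))
      (fun v => sgn2 (Q u) * sgn2 (Q v)) (fun s => rfl)]
    apply Finset.sum_congr rfl
    intro s _
    rw [h.polar u s, ← sgn2_add, ← sgn2_add]
    congr 1
    calc Q u + (Q u + Q s + f u s) = (Q u + Q u) + Q s + f u s := by ring
      _ = Q s + f u s := by rw [z2_add_self, zero_add]
  rw [Finset.sum_congr rfl (fun u _ => h1 u), Finset.sum_comm]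
  have h2 : ∀ s : V, ∑ u : V, sgn2 (Q s) * sgn2 (f u s)
        = if s = 0 then (Fintype.card V : ℤ) else 0 := by
    intro s
    rw [← Finset.mul_sum]
    split_ifs with hs
    · subst hs
      rw [h.map_zero, sgn2_zero, one_mul]
      have : ∀ u : V, sgn2 (f u 0) = 1 := by
        intro u
        rw [h.zero_right, sgn2_zero]
      rw [Finset.sum_congr rfl (fun u _ => this u)]
      simp
    · rw [h.sum_sgn2_eq_zero s hs, mul_zero]
  rw [Finset.sum_congr rfl (fun s _ => h2 s)]
  simp

theorem gsum_ne_zero (h : IsQF2 Q f) : gsum Q ≠ 0 := by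
  intro h0
  have := h.gsum_mul_self
  rw [h0, mul_zero] at this
  have hpos : (0 : ℤ) < (Fintype.card V : ℤ) := by
    have : Nonempty V := ⟨0⟩
    exact_mod_cast Fintype.card_pos
  omega

/-- Translating by `w`: `S(Q + f(·,w)) = (-1)^{Q w} S(Q)`. -/
theorem gsum_translate (h : IsQF2 Q f) (w : V) :
    gsum (fun v => Q v + f v w) = sgn2 (Q w) * gsum Q := by
  unfold gsum
  rw [← Fintype.sum_equiv (Equiv.addRight w)
    (fun v => sgn2 (Q (v + w) + f (v + w) w)) (fun v => sgn2 (Q v + f v w)) (fun v => rfl)]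
  rw [Finset.mul_sum]
  apply Finset.sum_congr rfl
  intro v _
  rw [h.polar v w, h.add_left, h.self, add_zero, ← sgn2_add]
  congr 1
  calc Q v + Q w + f v w + f v w = Q v + Q w + (f v w + f v w) := by ring
    _ = Q w + Q v := by rw [z2_add_self, add_zero, add_comm]

/-- Invariance under bijections. -/
theorem gsum_comp_equiv {W : Type*} [Fintype W] (Q : V → ZMod 2) (g : W ≃ V) :
    gsum (fun w => Q (g w)) = gsum Q :=
  Fintype.sum_equiv g _ _ (fun _ => rfl)

/-- Number of zeros of `Q` in terms of the Gauss sum: `2 N = |V| + S(Q)`. -/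
theorem two_mul_card_zeros (Q : V → ZMod 2) :
    2 * ((Finset.univ.filter (fun v => Q v = 0)).card : ℤ) = (Fintype.card V : ℤ) + gsum Q := by
  unfold gsum
  have h1 : ∀ v : V, sgn2 (Q v) = 2 * (if Q v = 0 then (1 : ℤ) else 0) - 1 := by
    intro v
    unfold sgn2
    split_ifs <;> norm_num
  rw [Finset.sum_congr rfl (fun v _ => h1 v), Finset.sum_sub_distrib, ← Finset.mul_sum,
    Finset.sum_boole]
  simp

end IsQF2

end Cfsg.Agent.Helper43
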