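import Mathlib
import Cfsg.Agent.Helper43.GaussF2

set_option autoImplicit false

namespace Cfsg.Agent.Helper43

open Classical

namespace IsQF2

variable {V : Type*} [AddCommGroup V] [Fintype V] {Q : V → ZMod 2} {f : V → V → ZMod 2}

/-- Orthogonality relation on a subgroup `U`: the character `u ↦ (-1)^{f(v,u)}` sums to `|U|` or `0`. -/
theorem sum_sub_sgn2 (h : IsQF2 Q f) (U : AddSubgroup V) (v : V) :
    ∑ u : U, sgn2 (f v (u : V)) = if (∀ u : U, f v (u : V) = 0) then (Fintype.card U : ℤ) else 0 := by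
  split_ifs with hv
  · rw [Finset.sum_congr rfl (fun u _ => by rw [hv u, sgn2_zero])]
    simp
  · push_neg at hv
    obtain ⟨u0, hu0⟩ := hv
    have h1 : f v (u0 : V) = 1 := by
      rcases zmod2_cases (f v (u0 : V)) with h' | h'
      · exact absurd h' hu0
      · exact h'
    have h2 : ∑ u : U, sgn2 (f v (u : V)) = ∑ u : U, sgn2 (f v ((u + u0 : U) : V)) :=
      (Fintype.sum_equiv (Equiv.addRight u0) _ _ (fun u => rfl)).symm
    have h3 : ∑ u : U, sgn2 (f v ((u + u0 : U) : V)) = - ∑ u : U, sgn2 (f v (u : V)) := by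
      rw [← Finset.sum_neg_distrib]
      apply Finset.sum_congr rfl
      intro u _
      rw [AddSubgroup.coe_add, h.add_right, h1, sgn2_add, sgn2_one]
      ring
    omega

/-- The orthogonal of a subgroup, as a finset. -/
noncomputable def orth (f : V → V → ZMod 2) (U : AddSubgroup V) : Finset V :=
  Finset.univ.filter (fun v => ∀ u : U, f v (u : V) = 0)

theorem mem_orth (U : AddSubgroup V) (v : V) : v ∈ orth f U ↔ ∀ u : U, f v (u : V) = 0 := by
  unfold orth; simp

/-- `|U^⊥| · |U| = |V|`. -/
theorem card_orth_mul (h : IsQF2 Q f) (U : AddSubgroup V) :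
    ((orth f U).card : ℤ) * (Fintype.card U : ℤ) = (Fintype.card V : ℤ) := by
  have h1 : ∑ v : V, ∑ u : U, sgn2 (f v (u : V)) = ((orth f U).card : ℤ) * (Fintype.card U : ℤ) := by
    rw [Finset.sum_congr rfl (fun v _ => h.sum_sub_sgn2 U v)]
    rw [← Finset.sum_filter]
    simp [orth]
  have h2 : ∑ v : V, ∑ u : U, sgn2 (f v (u : V)) = (Fintype.card V : ℤ) := by
    rw [Finset.sum_comm]
    have : ∀ u : U, ∑ v : V, sgn2 (f v (u : V)) = if u = 0 then (Fintype.card V : ℤ) else 0 := by
      intro u
      split_ifs with hu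
      · subst hu
        rw [Finset.sum_congr rfl (fun v _ => by rw [AddSubgroup.coe_zero, h.zero_right, sgn2_zero])]
        simp
      · apply h.sum_sgn2_eq_zero
        intro h0
        apply hu
        exact Subtype.ext h0
    rw [Finset.sum_congr rfl (fun u _ => this u)]
    simp
  rw [← h1, h2]

/-- If `Q` vanishes on `U` then `S(Q) = Σ_{v ∈ U^⊥} (-1)^{Q v}`. -/
theorem gsum_eq_sum_orth (h : IsQF2 Q f) (U : AddSubgroup V) (hU : ∀ u : U, Q (u : V) = 0) :
    gsum Q = ∑ v ∈ orth f U, sgn2 (Q v) := by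
  have hpos : (0 : ℤ) < (Fintype.card U : ℤ) := by
    have : Nonempty U := ⟨0⟩
    exact_mod_cast Fintype.card_pos
  have h1 : ∑ u : U, ∑ v : V, sgn2 (Q (v + (u : V))) = (Fintype.card U : ℤ) * gsum Q := by
    have : ∀ u : U, ∑ v : V, sgn2 (Q (v + (u : V))) = gsum Q := by
      intro u
      exact Fintype.sum_equiv (Equiv.addRight (u : V)) _ _ (fun v => rfl)
    rw [Finset.sum_congr rfl (fun u _ => this u)]
    simp
  have h2 : ∑ u : U, ∑ v : V, sgn2 (Q (v + (u : V)))
      = (Fintype.card U : ℤ) * ∑ v ∈ orth f U, sgn2 (Q v) := by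
    rw [Finset.sum_comm]
    have : ∀ v : V, ∑ u : U, sgn2 (Q (v + (u : V)))
        = sgn2 (Q v) * (if (∀ u : U, f v (u : V) = 0) then (Fintype.card U : ℤ) else 0) := by
      intro v
      rw [← h.sum_sub_sgn2 U v, Finset.mul_sum]
      apply Finset.sum_congr rfl
      intro u _
      rw [h.polar, hU u, add_zero, sgn2_add]
    rw [Finset.sum_congr rfl (fun v _ => this v)]
    simp only [mul_ite, mul_zero]
    rw [← Finset.sum_filter, Finset.mul_sum]
    apply Finset.sum_congr rfl
    intro v _
    ring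
  have h3 : (Fintype.card U : ℤ) * gsum Q = (Fintype.card U : ℤ) * ∑ v ∈ orth f U, sgn2 (Q v) := by
    rw [← h1, h2]
  exact mul_left_cancel₀ hpos.ne' h3

theorem sub_orth_of_singular (h : IsQF2 Q f) (U : AddSubgroup V) (hU : ∀ u : U, Q (u : V) = 0) :
    ∀ u : U, (u : V) ∈ orth f U := by
  intro u
  rw [mem_orth]
  intro u'
  have h1 := h.polar (u : V) (u' : V)
  have h2 := hU (u + u')
  rw [AddSubgroup.coe_add] at h2
  rw [h2, hU u, hU u', zero_add, zero_add] at h1
  exact h1.symm

/-- A totally singular subgroup has `|U|² ≤ |V|`. -/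
theorem card_sq_le_of_singular (h : IsQF2 Q f) (U : AddSubgroup V) (hU : ∀ u : U, Q (u : V) = 0) :
    Fintype.card U * Fintype.card U ≤ Fintype.card V := by
  have h1 := h.card_orth_mul U
  have h2 : Fintype.card U ≤ (orth f U).card := by
    rw [← Finset.card_univ]
    apply Finset.card_le_card_of_injOn (fun u : U => (u : V))
    · intro u _
      exact h.sub_orth_of_singular U hU u
    · intro a _ b _ hab
      exact Subtype.ext hab
  have h3 : (orth f U).card * Fintype.card U = Fintype.card V := by exact_mod_cast h1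
  calc Fintype.card U * Fintype.card U ≤ (orth f U).card * Fintype.card U :=
        Nat.mul_le_mul_right _ h2
    _ = Fintype.card V := h3

/-- If `Q` vanishes on `U` and `|U|² = |V|`, the Gauss sum is `|U|`. -/
theorem gsum_eq_card_of_maximal_singular (h : IsQF2 Q f) (U : AddSubgroup V)
    (hU : ∀ u : U, Q (u : V) = 0) (hcard : Fintype.card U * Fintype.card U = Fintype.card V) :
    gsum Q = (Fintype.card U : ℤ) := by
  rw [h.gsum_eq_sum_orth U hU]
  have hposU : 0 < Fintype.card U := by
    have : Nonempty U := ⟨0⟩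
    exact Fintype.card_pos
  have h1 := h.card_orth_mul U
  have h3 : (orth f U).card * Fintype.card U = Fintype.card V := by exact_mod_cast h1
  have hc : (orth f U).card = Fintype.card U := by
    rw [← hcard] at h3
    exact Nat.eq_of_mul_eq_mul_right hposU h3
  -- the image of U in V
  let Uf : Finset V := Finset.univ.image (fun u : U => (u : V))
  have hUf_card : Uf.card = Fintype.card U := by
    rw [Finset.card_image_of_injective _ (fun a b hab => Subtype.ext hab), Finset.card_univ]
  have hsub : Uf ⊆ orth f U := by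
    intro v hv
    obtain ⟨u, _, rfl⟩ := Finset.mem_image.mp hv
    exact h.sub_orth_of_singular U hU u
  have heq : Uf = orth f U := Finset.eq_of_subset_of_card_le hsub (by rw [hc, hUf_card])
  rw [← heq]
  have : ∀ v ∈ Uf, sgn2 (Q v) = 1 := by
    intro v hv
    obtain ⟨u, _, rfl⟩ := Finset.mem_image.mp hv
    rw [hU u, sgn2_zero]
  rw [Finset.sum_congr rfl this]
  simp [hUf_card]

end IsQF2

end Cfsg.Agent.Helper43
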