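import Mathlib
import Cfsg.Agent.Helper43.GaussF2Sub

set_option autoImplicit false

namespace Cfsg.Agent.Helper43

open Classical Module

namespace IsQF2

variable {V : Type*} [AddCommGroup V] [Fintype V] {Q : V → ZMod 2} {f : V → V → ZMod 2}

theorem translate (h : IsQF2 Q f) (w : V) : IsQF2 (fun v => Q v + f v w) f where
  two := h.two
  polar := by
    intro u v
    show Q (u + v) + f (u + v) w = Q u + f u w + (Q v + f v w) + f u v
    rw [h.polar, h.add_left]
    ring
  add_left := h.add_left
  nondeg := h.nondeg

variable [Module (ZMod 2) V]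

theorem card_submodule (U : Submodule (ZMod 2) V) :
    Fintype.card U.toAddSubgroup = 2 ^ finrank (ZMod 2) U := by
  have h1 : Nat.card U = 2 ^ finrank (ZMod 2) U := by
    rw [Module.natCard_eq_pow_finrank (K := ZMod 2) (V := U)]
    simp
  rw [← Nat.card_eq_fintype_card, ← h1]
  rfl

theorem card_space : Fintype.card V = 2 ^ finrank (ZMod 2) V := by
  have h1 : Nat.card V = 2 ^ finrank (ZMod 2) V := by
    rw [Module.natCard_eq_pow_finrank (K := ZMod 2) (V := V)]
    simp
  rw [← Nat.card_eq_fintype_card, ← h1]

/-- A totally singular subspace has at most half the dimension. -/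
theorem two_mul_finrank_le_of_singular (h : IsQF2 Q f) (U : Submodule (ZMod 2) V)
    (hU : ∀ u ∈ U, Q u = 0) : 2 * finrank (ZMod 2) U ≤ finrank (ZMod 2) V := by
  have h1 := h.card_sq_le_of_singular U.toAddSubgroup (fun u => hU u u.2)
  rw [card_submodule, card_space, ← pow_add] at h1
  have := (Nat.pow_le_pow_iff_right (by norm_num : 1 < 2)).mp h1
  omega

/-- If a totally singular subspace has exactly half the dimension, the Gauss sum is positive. -/
theorem gsum_eq_of_singular_half (h : IsQF2 Q f) (U : Submodule (ZMod 2) V)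
    (hU : ∀ u ∈ U, Q u = 0) (hdim : 2 * finrank (ZMod 2) U = finrank (ZMod 2) V) :
    gsum Q = (2 : ℤ) ^ finrank (ZMod 2) U := by
  have h1 := h.gsum_eq_card_of_maximal_singular U.toAddSubgroup (fun u => hU u u.2) ?_
  · rw [h1, card_submodule]
    push_cast
    rfl
  · rw [card_submodule, card_space, ← pow_add, ← hdim]
    congr 1
    omega

end IsQF2

end Cfsg.Agent.Helper43
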