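import Mathlib
import Cfsg.Prelude.Def_Classical

set_option autoImplicit false

namespace Cfsg.Agent.Helper43

/-- A linear action of a group `G` on `F^ι` preserving `Q` gives a homomorphism into the isometry
group of `Q`; it is injective if the action is faithful. -/
theorem exists_hom_isometryGroup {ι : Type} [Fintype ι] [DecidableEq ι] {F : Type*} [Field F]
    (Q : (ι → F) → F) {G : Type*} [Group G] (ρ : G →* Module.End F (ι → F))
    (hQ : ∀ σ v, Q (ρ σ v) = Q v) (hinj : Function.Injective ρ) :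
    ∃ φ : G →* ↥(Cfsg.isometryGroup F Q), Function.Injective φ := by
  let ψ : G →* GL ι F :=
    (Matrix.GeneralLinearGroup.toLin (n := ι) (R := F)).symm.toMonoidHom.comp ρ.toHomUnits
  have hψ : ∀ σ v, ((ψ σ : GL ι F) : Matrix ι ι F).mulVec v = ρ σ v := by
    intro σ v
    have h1 : Matrix.GeneralLinearGroup.toLin (ψ σ) = ρ.toHomUnits σ := by
      simp [ψ]
    have h2 : ((Matrix.GeneralLinearGroup.toLin (ψ σ) : (Module.End F (ι → F))ˣ) :
        Module.End F (ι → F)) = Matrix.toLin' ((ψ σ : GL ι F) : Matrix ι ι F) := rfl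
    have h3 : Matrix.toLin' ((ψ σ : GL ι F) : Matrix ι ι F) = ρ σ := by
      rw [← h2, h1]; rfl
    rw [← Matrix.toLin'_apply, h3]
  have hmem : ∀ σ, ψ σ ∈ Cfsg.isometryGroup F Q := by
    intro σ u _
    show Q (((ψ σ : GL ι F) : Matrix ι ι F).mulVec u) = Q u
    rw [hψ, hQ]
  refine ⟨ψ.codRestrict _ hmem, ?_⟩
  intro σ τ h
  have h1 : ψ σ = ψ τ := congrArg Subtype.val h
  apply hinj
  apply LinearMap.ext
  intro v
  rw [← hψ, ← hψ, h1]

end Cfsg.Agent.Helper43
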