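import Mathlib
import Cfsg.Agent.Helper43.JTSp
import Cfsg.Agent.Helper43.SpCountE

set_option autoImplicit false

namespace Cfsg.Agent.Helper43.JT

open Module Matrix
open Cfsg.Agent.Helper43 Cfsg.Agent.Helper43.SpSS Cfsg.Agent.Helper43.SpCount

universe u

variable {F : Type u} [Field F]

section conj

variable {ι κ : Type} [Fintype ι] [DecidableEq ι] [Fintype κ] [DecidableEq κ]

/-- The linear equivalence attached to a reindexing and a conjugating unit. -/
noncomputable def conjEquiv (e : ι ≃ κ) (c : (Matrix κ κ F)ˣ) : (ι → F) ≃ₗ[F] (κ → F) :=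
  (LinearEquiv.funCongrLeft F F e.symm).trans
    (Matrix.toLin'OfInv (M := (c : Matrix κ κ F)) (M' := ((c⁻¹ : (Matrix κ κ F)ˣ) : Matrix κ κ F))
      (by rw [← Units.val_mul, mul_inv_cancel, Units.val_one])
      (by rw [← Units.val_mul, inv_mul_cancel, Units.val_one])).symm

theorem conjEquiv_apply (e : ι ≃ κ) (c : (Matrix κ κ F)ˣ) (x : ι → F) :
    conjEquiv e c x = (c : Matrix κ κ F) *ᵥ (x ∘ e.symm) := by
  unfold conjEquiv
  rw [LinearEquiv.trans_apply]
  show Matrix.toLin' (c : Matrix κ κ F) ((LinearEquiv.funCongrLeft F F e.symm) x) = _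
  rw [Matrix.toLin'_apply]
  rfl

/-- Conjugate matrices (after reindexing) give conjugate endomorphisms. -/
theorem conjEquiv_intertwine (e : ι ≃ κ) (c : (Matrix κ κ F)ˣ) (J : Matrix ι ι F)
    (A : Matrix κ κ F) (h : (c : Matrix κ κ F) * Matrix.reindex e e J = A * c) (x : ι → F) :
    conjEquiv e c (Matrix.toLin' (J - 1) x) = Matrix.toLin' (A - 1) (conjEquiv e c x) := by
  rw [conjEquiv_apply, conjEquiv_apply, Matrix.toLin'_apply, Matrix.toLin'_apply]
  have h1 : ((J - 1) *ᵥ x) ∘ e.symm = (Matrix.reindex e e J - 1) *ᵥ (x ∘ e.symm) := by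
    rw [Matrix.sub_mulVec, Matrix.sub_mulVec, Matrix.one_mulVec, Matrix.one_mulVec,
      Matrix.reindex_apply, Matrix.submatrix_mulVec_equiv]
    have h2 : (x ∘ e.symm) ∘ e.symm.symm = x := by
      funext i
      simp
    rw [h2]
    rfl
  rw [h1, Matrix.mulVec_mulVec, Matrix.mulVec_mulVec, mul_sub, sub_mul, h, mul_one, one_mul]

end conj

section main

variable [Fintype F]

theorem exists_symp_conj_iff {m t : ℕ} (d : Fin t → ℕ) (hsum : ∑ k, d k = 2 * m) :
    (∃ e : ((k : Fin t) × Fin (d k)) ≃ (Fin m ⊕ Fin m),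
      ∃ A : Matrix.symplecticGroup (Fin m) F,
        IsConj (Matrix.reindex e e (Cfsg.jordanTypeMatrix d F))
          (A : Matrix (Fin m ⊕ Fin m) (Fin m ⊕ Fin m) F)) ↔ SpReal (Nd d F) := by
  constructor
  · rintro ⟨e, A, c, hc⟩
    have hc' : (c : Matrix (Fin m ⊕ Fin m) (Fin m ⊕ Fin m) F)
        * Matrix.reindex e e (Cfsg.jordanTypeMatrix d F)
        = (A : Matrix (Fin m ⊕ Fin m) (Fin m ⊕ Fin m) F) * c := hc
    have h1 := spReal_of_mem_symplectic A.2
    refine h1.conj (conjEquiv e c).symm ?_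
    intro y
    have h2 := conjEquiv_intertwine e c (Cfsg.jordanTypeMatrix d F) _ hc' ((conjEquiv e c).symm y)
    rw [LinearEquiv.apply_symm_apply] at h2
    rw [← h2, LinearEquiv.symm_apply_apply]
    rfl
  · rintro ⟨B, halt, hnd, hiso⟩
    have hcard : Fintype.card ((k : Fin t) × Fin (d k)) = Fintype.card (Fin m ⊕ Fin m) := by
      rw [Fintype.card_sigma, Fintype.card_sum, Fintype.card_fin, ← two_mul, ← hsum]
      apply Finset.sum_congr rfl
      intro k _
      rw [Fintype.card_fin]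
    have hdim : finrank F (((k : Fin t) × Fin (d k)) → F) = finrank F (Fin m ⊕ Fin m → F) := by
      rw [Module.finrank_fintype_fun_eq_card, Module.finrank_fintype_fun_eq_card, hcard]
    obtain ⟨φ, hφ⟩ := exists_isometry_alt halt hnd (Bn_alt (n := m) (F := F))
      (Bn_nondeg (n := m) (F := F)) hdim
    let e : ((k : Fin t) × Fin (d k)) ≃ (Fin m ⊕ Fin m) := Fintype.equivOfCardEq hcard
    let ψ : (((k : Fin t) × Fin (d k)) → F) ≃ₗ[F] (Fin m ⊕ Fin m → F) :=
      LinearEquiv.funCongrLeft F F e.symm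
    have hψ : ∀ x, ψ x = x ∘ e.symm := fun x => rfl
    set J := Cfsg.jordanTypeMatrix d F with hJ
    let g : Module.End F (((k : Fin t) × Fin (d k)) → F) := Matrix.toLin' J
    have hg : ∀ x, g x = x + Nd d F x := by
      intro x
      show Matrix.toLin' J x = x + Matrix.toLin' (J - 1) x
      rw [Matrix.toLin'_apply, Matrix.toLin'_apply, Matrix.sub_mulVec, Matrix.one_mulVec]
      abel
    have hgiso : ∀ x y, B (g x) (g y) = B x y := by
      intro x y
      rw [hg, hg]
      exact hiso x y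
    let g' : Module.End F (Fin m ⊕ Fin m → F) := φ.conj g
    have hg' : ∀ u, g' u = φ (g (φ.symm u)) := fun u => LinearEquiv.conj_apply_apply _ _ _
    let A : Matrix (Fin m ⊕ Fin m) (Fin m ⊕ Fin m) F := LinearMap.toMatrix' g'
    have hA : Matrix.toLin' A = g' := Matrix.toLin'_toMatrix' _
    have hAv : ∀ v, A *ᵥ v = g' v := by
      intro v
      rw [← Matrix.toLin'_apply, hA]
    have hAmem : A ∈ Matrix.symplecticGroup (Fin m) F := by
      rw [Cfsg.Agent.Helper13.mem_symplecticGroup_iff_preserves]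
      intro u v
      rw [hAv, hAv, ← Bn_apply, ← Bn_apply, hg', hg', hφ, hgiso, ← hφ,
        LinearEquiv.apply_symm_apply, LinearEquiv.apply_symm_apply]
    let χ : (Fin m ⊕ Fin m → F) ≃ₗ[F] (Fin m ⊕ Fin m → F) := ψ.symm.trans φ
    let c : (Matrix (Fin m ⊕ Fin m) (Fin m ⊕ Fin m) F)ˣ :=
      ⟨LinearMap.toMatrix' χ.toLinearMap, LinearMap.toMatrix' χ.symm.toLinearMap, by
        rw [← LinearMap.toMatrix'_comp, LinearEquiv.comp_symm, LinearMap.toMatrix'_id], by
        rw [← LinearMap.toMatrix'_comp, LinearEquiv.symm_comp, LinearMap.toMatrix'_id]⟩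
    have hcv : ∀ v, (c : Matrix (Fin m ⊕ Fin m) (Fin m ⊕ Fin m) F) *ᵥ v = χ v := by
      intro v
      show LinearMap.toMatrix' χ.toLinearMap *ᵥ v = χ v
      rw [← Matrix.toLin'_apply, Matrix.toLin'_toMatrix']
      rfl
    refine ⟨e, ⟨A, hAmem⟩, c, ?_⟩
    show (c : Matrix (Fin m ⊕ Fin m) (Fin m ⊕ Fin m) F) * Matrix.reindex e e J = A * c
    apply (Matrix.toLin' (R := F)).injective
    apply LinearMap.ext
    intro y
    rw [Matrix.toLin'_apply, Matrix.toLin'_apply, ← Matrix.mulVec_mulVec, ← Matrix.mulVec_mulVec,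
      hcv, hcv, hAv, hg']
    have h1 : Matrix.reindex e e J *ᵥ y = ψ (g (ψ.symm y)) := by
      rw [Matrix.reindex_apply, Matrix.submatrix_mulVec_equiv, hψ]
      rfl
    rw [h1]
    show φ (ψ.symm (ψ (g (ψ.symm y)))) = φ (g (φ.symm (φ (ψ.symm y))))
    rw [LinearEquiv.symm_apply_apply, LinearEquiv.symm_apply_apply]

end main

end Cfsg.Agent.Helper43.JT
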