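import Mathlib
import Cfsg.Prelude.Def_Classical
import Cfsg.Agent.Helper43.JTSpConj
import Cfsg.Agent.Helper43.JTQuadA
import Cfsg.Agent.Helper13.Isom

set_option autoImplicit false

namespace Cfsg.Agent.Helper43.JT

open Module Matrix
open Cfsg.Agent.Helper43

universe u

variable {F : Type u} [Field F] [Fintype F] [CharP F 2]

theorem exists_quad_conj_iff {m t : ℕ} (d : Fin t → ℕ) (hsum : ∑ k, d k = 2 * m) :
    (∃ Q : QuadraticForm F (Fin (2 * m) → F), (QuadraticMap.polarBilin Q).Nondegenerate ∧
      ∃ e : ((k : Fin t) × Fin (d k)) ≃ Fin (2 * m), ∃ A : ↥(Cfsg.isometryGroup F ⇑Q),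
        IsConj (Matrix.reindex e e (Cfsg.jordanTypeMatrix d F))
          ((A : Matrix.GeneralLinearGroup (Fin (2 * m)) F) :
            Matrix (Fin (2 * m)) (Fin (2 * m)) F)) ↔ SpReal (Nd d F) := by
  constructor
  · rintro ⟨Q, hQ, e, A, c, hc⟩
    set MA : Matrix (Fin (2 * m)) (Fin (2 * m)) F :=
      ((A : Matrix.GeneralLinearGroup (Fin (2 * m)) F) : Matrix (Fin (2 * m)) (Fin (2 * m)) F)
      with hMA
    have hc' : (c : Matrix (Fin (2 * m)) (Fin (2 * m)) F)
        * Matrix.reindex e e (Cfsg.jordanTypeMatrix d F) = MA * c := hc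
    have hAiso : ∀ v, Q (MA *ᵥ v) = Q v :=
      (Cfsg.Agent.Helper13.mem_isometryGroup_iff (⇑Q)
        (A : Matrix.GeneralLinearGroup (Fin (2 * m)) F)).mp A.2
    have h1 : SpReal (Matrix.toLin' (MA - 1)) := by
      refine ⟨QuadraticMap.polarBilin Q, ?_, hQ, ?_⟩
      · intro x
        rw [QuadraticMap.polarBilin_apply_apply, QuadraticMap.polar_self, two_smul]
        exact CharTwo.add_self_eq_zero _
      · intro x y
        have h2 : ∀ z : Fin (2 * m) → F, z + Matrix.toLin' (MA - 1) z = MA *ᵥ z := by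
          intro z
          rw [Matrix.toLin'_apply, Matrix.sub_mulVec, Matrix.one_mulVec]
          abel
        rw [h2, h2, QuadraticMap.polarBilin_apply_apply, QuadraticMap.polarBilin_apply_apply]
        exact Cfsg.Agent.Helper13.polar_mulVec_of_isometry Q MA hAiso x y
    refine h1.conj (conjEquiv e c).symm ?_
    intro y
    have h2 := conjEquiv_intertwine e c (Cfsg.jordanTypeMatrix d F) _ hc' ((conjEquiv e c).symm y)
    rw [LinearEquiv.apply_symm_apply] at h2
    rw [← h2, LinearEquiv.symm_apply_apply]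
    rfl
  · intro hS
    have hcard : Fintype.card ((k : Fin t) × Fin (d k)) = Fintype.card (Fin (2 * m)) := by
      rw [Fintype.card_sigma, Fintype.card_fin, ← hsum]
      apply Finset.sum_congr rfl
      intro k _
      rw [Fintype.card_fin]
    let e : ((k : Fin t) × Fin (d k)) ≃ Fin (2 * m) := Fintype.equivOfCardEq hcard
    set J := Cfsg.jordanTypeMatrix d F with hJ
    set M : Matrix (Fin (2 * m)) (Fin (2 * m)) F := Matrix.reindex e e J with hM
    have hW : SpReal (Matrix.toLin' (M - 1)) := by
      refine hS.conj (conjEquiv e 1) ?_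
      intro x
      exact conjEquiv_intertwine e 1 J M (by rw [Units.val_one, one_mul, mul_one]) x
    obtain ⟨B, halt, hnd, hiso⟩ := hW
    have hMx : ∀ z : Fin (2 * m) → F, z + Matrix.toLin' (M - 1) z = Matrix.toLin' M z := by
      intro z
      rw [Matrix.toLin'_apply, Matrix.toLin'_apply, Matrix.sub_mulVec, Matrix.one_mulVec]
      abel
    have hu : ∀ x y, B (Matrix.toLin' M x) (Matrix.toLin' M y) = B x y := by
      intro x y
      rw [← hMx, ← hMx]
      exact hiso x y
    obtain ⟨Q, hpolar, hinv⟩ := exists_invariant_quadratic B halt (Matrix.toLin' M) hu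
    have hpB : QuadraticMap.polarBilin Q = B := by
      apply LinearMap.ext
      intro x
      apply LinearMap.ext
      intro y
      rw [QuadraticMap.polarBilin_apply_apply, hpolar]
    have hMu : IsUnit M := by
      rw [← Matrix.mulVec_injective_iff_isUnit]
      intro x y hxy
      have h1 : M *ᵥ (x - y) = 0 := by rw [Matrix.mulVec_sub, hxy, sub_self]
      have h2 : x - y = 0 := by
        apply hnd.1
        intro z
        rw [← hu, Matrix.toLin'_apply, h1, map_zero, LinearMap.zero_apply]
      exact sub_eq_zero.mp h2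
    refine ⟨Q, by rw [hpB]; exact hnd, e, ⟨hMu.unit, ?_⟩, ?_⟩
    · rw [Cfsg.Agent.Helper13.mem_isometryGroup_iff]
      intro v
      rw [IsUnit.unit_spec, ← Matrix.toLin'_apply]
      exact hinv v
    · show IsConj M ((hMu.unit : (Matrix (Fin (2 * m)) (Fin (2 * m)) F)ˣ) :
        Matrix (Fin (2 * m)) (Fin (2 * m)) F)
      rw [IsUnit.unit_spec]

end Cfsg.Agent.Helper43.JT
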