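import Cfsg.Agent.Helper43.JordanSplit

set_option autoImplicit false

namespace Cfsg.Agent.Helper43.SS

open Polynomial Module

universe u v w

section

variable (F : Type u) [Field F]

/-- `X ^ k` kills the module. -/
def Kills (M : Type v) [AddCommGroup M] [Module F[X] M] (k : ℕ) : Prop :=
  ∀ m : M, (X : F[X]) ^ k • m = 0

/-- Nilpotent modules. -/
def IsNilp (M : Type v) [AddCommGroup M] [Module F[X] M] : Prop := ∃ k, Kills F M k

/-- The dimension of the kernel of `X ^ k`. -/
noncomputable def dk (M : Type v) [AddCommGroup M] [Module F[X] M] [Module F M]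
    [IsScalarTower F F[X] M] (k : ℕ) : ℕ := finrank F (LinearMap.ker ((xEnd F M) ^ k))

end

variable {F : Type u} [Field F]

theorem Kills.mono {M : Type v} [AddCommGroup M] [Module F[X] M] {j k : ℕ} (h : Kills F M j)
    (hjk : j ≤ k) : Kills F M k := by
  intro m
  obtain ⟨d, rfl⟩ := Nat.exists_eq_add_of_le hjk
  rw [pow_add, mul_comm, mul_smul, h m, smul_zero]

theorem Kills.of_equiv {M : Type v} [AddCommGroup M] [Module F[X] M] {N : Type w} [AddCommGroup N]
    [Module F[X] N] (E : M ≃ₗ[F[X]] N) {k : ℕ} (h : Kills F M k) : Kills F N k := by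
  intro n
  rw [← E.apply_symm_apply n, ← map_smul, h, map_zero]

theorem Kills.submodule {M : Type v} [AddCommGroup M] [Module F[X] M] (M' : Submodule F[X] M)
    {k : ℕ} (h : Kills F M k) : Kills F M' k := by
  intro m
  apply Subtype.ext
  rw [Submodule.coe_smul, h]
  rfl

theorem xEnd_pow_apply {M : Type v} [AddCommGroup M] [Module F[X] M] [Module F M]
    [IsScalarTower F F[X] M] (k : ℕ) (m : M) : ((xEnd F M) ^ k) m = (X : F[X]) ^ k • m := by
  rw [← aeval_xEnd, map_pow, aeval_X]

theorem mem_ker_xEnd_pow {M : Type v} [AddCommGroup M] [Module F[X] M] [Module F M]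
    [IsScalarTower F F[X] M] (k : ℕ) (m : M) :
    m ∈ LinearMap.ker ((xEnd F M) ^ k) ↔ (X : F[X]) ^ k • m = 0 := by
  rw [LinearMap.mem_ker, xEnd_pow_apply]

theorem dk_congr {M : Type v} [AddCommGroup M] [Module F[X] M] [Module F M]
    [IsScalarTower F F[X] M] {N : Type w} [AddCommGroup N] [Module F[X] N] [Module F N]
    [IsScalarTower F F[X] N] (E : M ≃ₗ[F[X]] N) (k : ℕ) : dk F M k = dk F N k := by
  unfold dk
  have h : (LinearMap.ker ((xEnd F M) ^ k)).map (E.restrictScalars F).toLinearMap
      = LinearMap.ker ((xEnd F N) ^ k) := by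
    ext n
    rw [Submodule.mem_map, mem_ker_xEnd_pow]
    constructor
    · rintro ⟨m, hm, rfl⟩
      rw [mem_ker_xEnd_pow] at hm
      show (X : F[X]) ^ k • E m = 0
      rw [← map_smul, hm, map_zero]
    · intro hn
      refine ⟨E.symm n, ?_, E.apply_symm_apply n⟩
      rw [mem_ker_xEnd_pow, ← map_smul, hn, map_zero]
  rw [← h]
  exact (LinearEquiv.finrank_map_eq (E.restrictScalars F) _).symm

theorem dk_prod {A : Type v} [AddCommGroup A] [Module F[X] A] [Module F A]
    [IsScalarTower F F[X] A] {B : Type w} [AddCommGroup B] [Module F[X] B] [Module F B]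
    [IsScalarTower F F[X] B] [Module.Finite F A] [Module.Finite F B] (k : ℕ) :
    dk F (A × B) k = dk F A k + dk F B k := by
  unfold dk
  rw [← Module.finrank_prod]
  let e : LinearMap.ker ((xEnd F (A × B)) ^ k)
      ≃ₗ[F] (LinearMap.ker ((xEnd F A) ^ k) × LinearMap.ker ((xEnd F B) ^ k)) :=
    { toFun := fun z => (⟨z.1.1, by
          have := (mem_ker_xEnd_pow k z.1).mp z.2
          rw [mem_ker_xEnd_pow]
          exact congrArg Prod.fst this⟩, ⟨z.1.2, by
          have := (mem_ker_xEnd_pow k z.1).mp z.2
          rw [mem_ker_xEnd_pow]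
          exact congrArg Prod.snd this⟩)
      map_add' := fun _ _ => rfl
      map_smul' := fun _ _ => rfl
      invFun := fun w => ⟨(w.1.1, w.2.1), by
          rw [mem_ker_xEnd_pow]
          have h1 := (mem_ker_xEnd_pow k w.1.1).mp w.1.2
          have h2 := (mem_ker_xEnd_pow k w.2.1).mp w.2.2
          exact Prod.ext h1 h2⟩
      left_inv := fun _ => rfl
      right_inv := fun _ => rfl }
  exact e.finrank_eq

theorem dk_eq_finrank_iff {M : Type v} [AddCommGroup M] [Module F[X] M] [Module F M]
    [IsScalarTower F F[X] M] [Module.Finite F M] (k : ℕ) :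
    dk F M k = finrank F M ↔ Kills F M k := by
  unfold dk
  constructor
  · intro h m
    have htop := Submodule.eq_top_of_finrank_eq h
    rw [← mem_ker_xEnd_pow, htop]
    trivial
  · intro h
    have htop : LinearMap.ker ((xEnd F M) ^ k) = ⊤ := by
      rw [eq_top_iff]
      intro m _
      rw [mem_ker_xEnd_pow]
      exact h m
    rw [htop, finrank_top]

/-- Existence of an element of maximal order in a nonzero nilpotent module. -/
theorem exists_max_order {M : Type v} [AddCommGroup M] [Module F[X] M] [Nontrivial M]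
    (h : IsNilp F M) : ∃ (e : ℕ) (m₀ : M), Kills F M (e + 1) ∧ (X : F[X]) ^ e • m₀ ≠ 0 := by
  classical
  have hk0 : Nat.find h ≠ 0 := by
    intro h0
    have hk := Nat.find_spec h
    rw [h0] at hk
    obtain ⟨m, hm⟩ := exists_ne (0 : M)
    have := hk m
    rw [pow_zero, one_smul] at this
    exact hm this
  obtain ⟨e, he⟩ := Nat.exists_eq_succ_of_ne_zero hk0
  have hmin : ¬ Kills F M e := Nat.find_min h (by omega)
  unfold Kills at hmin
  push Not at hmin
  obtain ⟨m₀, hm₀⟩ := hmin
  refine ⟨e, m₀, ?_, hm₀⟩
  have := Nat.find_spec h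
  rwa [he] at this

theorem IsNilp.submodule {M : Type v} [AddCommGroup M] [Module F[X] M] (M' : Submodule F[X] M)
    (h : IsNilp F M) : IsNilp F M' := by
  obtain ⟨k, hk⟩ := h
  exact ⟨k, hk.submodule M'⟩

theorem IsNilp.of_equiv {M : Type v} [AddCommGroup M] [Module F[X] M] {N : Type w} [AddCommGroup N]
    [Module F[X] N] (E : M ≃ₗ[F[X]] N) (h : IsNilp F M) : IsNilp F N := by
  obtain ⟨k, hk⟩ := h
  exact ⟨k, hk.of_equiv E⟩

/-- Nilpotent modules with the same kernel dimensions are isomorphic. -/
theorem nonempty_equiv_of_dk_eq : ∀ (d : ℕ) (M : Type v) [AddCommGroup M] [Module F[X] M]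
    [Module F M] [IsScalarTower F F[X] M] [Module.Finite F M]
    (N : Type w) [AddCommGroup N] [Module F[X] N]
    [Module F N] [IsScalarTower F F[X] N] [Module.Finite F N],
    finrank F M = d → IsNilp F M → IsNilp F N → (∀ k, dk F M k = dk F N k) →
    Nonempty (M ≃ₗ[F[X]] N) := by
  intro d
  induction d using Nat.strong_induction_on with
  | _ d ih =>
    intro M _ _ _ _ _ N _ _ _ _ _ hd hM hN hdk
    have hrank : finrank F N = finrank F M := by
      obtain ⟨a, ha⟩ := hM
      obtain ⟨b, hb⟩ := hN
      have h1 := (dk_eq_finrank_iff (max a b)).mpr (ha.mono (le_max_left a b))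
      have h2 := (dk_eq_finrank_iff (max a b)).mpr (hb.mono (le_max_right a b))
      rw [← h1, ← h2, hdk]
    have hkills : ∀ k, Kills F M k ↔ Kills F N k := by
      intro k
      rw [← dk_eq_finrank_iff, ← dk_eq_finrank_iff, hdk k, hrank]
    rcases subsingleton_or_nontrivial M with hMs | hMn
    · have hNs : Subsingleton N := by
        rw [← Module.finrank_zero_iff (R := F), hrank]
        exact Module.finrank_zero_of_subsingleton
      exact ⟨LinearEquiv.ofSubsingleton M N⟩
    · have hNn : Nontrivial N := by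
        rw [← Module.finrank_pos_iff (R := F), hrank]
        exact Module.finrank_pos
      obtain ⟨e, m₀, hK, hm₀⟩ := exists_max_order hM
      obtain ⟨e', n₀, hK', hn₀⟩ := exists_max_order hN
      have hee' : e = e' := by
        apply le_antisymm
        · by_contra hlt
          push Not at hlt
          have h1 : Kills F M (e' + 1) := (hkills _).mpr hK'
          exact hm₀ ((h1.mono (by omega)) m₀)
        · by_contra hlt
          push Not at hlt
          have h1 : Kills F N (e + 1) := (hkills _).mp hK
          exact hn₀ ((h1.mono (by omega)) n₀)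
      subst hee'
      obtain ⟨M', ⟨E⟩⟩ := exists_split_nilp M e hK m₀ hm₀
      obtain ⟨N', ⟨E'⟩⟩ := exists_split_nilp N e hK' n₀ hn₀
      haveI := finite_sub M'
      haveI := finite_sub N'
      haveI : Module.Finite F (Qr ((X : F[X]) ^ (e + 1))) := (monic_X_pow (e + 1)).finite_quotient
      have hfr := finrank_of_split _ (monic_X_pow (e + 1)) M' E
      rw [natDegree_X_pow] at hfr
      have hdk' : ∀ k, dk F M' k = dk F N' k := by
        intro k
        have h1 := dk_congr E k
        have h2 := dk_congr E' k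
        rw [dk_prod] at h1 h2
        have := hdk k
        omega
      obtain ⟨E''⟩ := ih (finrank F M') (by omega) M' N' rfl (hM.submodule M') (hN.submodule N') hdk'
      exact ⟨E.symm.trans ((LinearEquiv.prodCongr (LinearEquiv.refl _ _) E'').trans E')⟩

end Cfsg.Agent.Helper43.SS
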