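import Cfsg.Agent.Helper43.JordanDk

set_option autoImplicit false

namespace Cfsg.Agent.Helper43.SS

open Polynomial Module

universe u v w

section

variable (F : Type u) [Field F]

/-- The direct product of the cyclic modules `F[X]/(X^a)`, `a ∈ l`. -/
abbrev PiQ (l : List ℕ) : Type u := (i : Fin l.length) → Qr ((X : F[X]) ^ l.get i)

/-- Splitting off the first factor. -/
noncomputable def piQCons (a : ℕ) (l : List ℕ) :
    (Qr ((X : F[X]) ^ a) × PiQ F l) ≃ₗ[F[X]] PiQ F (a :: l) :=
  Fin.consLinearEquiv F[X] (fun i : Fin (l.length + 1) => Qr ((X : F[X]) ^ (a :: l).get i))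

instance finite_Qr_X_pow (a : ℕ) : Module.Finite F (Qr ((X : F[X]) ^ a)) :=
  (monic_X_pow a).finite_quotient

end

variable {F : Type u} [Field F]

theorem kills_Qr_iff (a j : ℕ) : Kills F (Qr ((X : F[X]) ^ a)) j ↔ a ≤ j := by
  constructor
  · intro h
    have h1 := h (Submodule.Quotient.mk 1)
    rw [← Submodule.Quotient.mk_smul, smul_eq_mul, mul_one, Submodule.Quotient.mk_eq_zero,
      Ideal.mem_span_singleton] at h1
    exact (pow_dvd_pow_iff X_ne_zero not_isUnit_X).mp h1
  · intro haj q
    obtain ⟨g, rfl⟩ := Submodule.Quotient.mk_surjective _ q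
    rw [← Submodule.Quotient.mk_smul, Submodule.Quotient.mk_eq_zero, Ideal.mem_span_singleton,
      smul_eq_mul]
    exact Dvd.dvd.mul_right (pow_dvd_pow X haj) g

theorem kills_PiQ (l : List ℕ) (j : ℕ) (h : ∀ a ∈ l, a ≤ j) : Kills F (PiQ F l) j := by
  intro f
  funext i
  show (X : F[X]) ^ j • f i = 0
  exact (kills_Qr_iff (l.get i) j).mpr (h _ (List.get_mem l i)) (f i)

theorem le_of_kills_PiQ_cons (a : ℕ) (l : List ℕ) (j : ℕ) (h : Kills F (PiQ F (a :: l)) j) :
    a ≤ j := by
  have h1 : Kills F (Qr ((X : F[X]) ^ a) × PiQ F l) j := h.of_equiv (piQCons F a l).symm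
  rw [← kills_Qr_iff (F := F)]
  intro q
  have := h1 (q, 0)
  exact congrArg Prod.fst this

theorem isNilp_PiQ (l : List ℕ) : IsNilp F (PiQ F l) :=
  ⟨l.sum, kills_PiQ l l.sum (fun _ ha => List.single_le_sum (fun _ _ => Nat.zero_le _) _ ha)⟩

theorem finrank_PiQ (l : List ℕ) : finrank F (PiQ F l) = l.sum := by
  rw [Module.finrank_pi_fintype]
  have : ∀ i : Fin l.length, finrank F (Qr ((X : F[X]) ^ l.get i)) = l[i.1] := by
    intro i
    rw [finrank_quotient_span_eq_natDegree, natDegree_X_pow]
    rfl
  rw [Finset.sum_congr rfl (fun i _ => this i)]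
  exact Fin.sum_univ_getElem l



/-- Every nilpotent module is a product of cyclic modules with non-increasing exponents. -/
theorem exists_PiQ : ∀ (d : ℕ) (M : Type v) [AddCommGroup M] [Module F[X] M]
    [Module F M] [IsScalarTower F F[X] M] [Module.Finite F M],
    finrank F M = d → IsNilp F M →
    ∃ l : List ℕ, l.Pairwise (· ≥ ·) ∧ (∀ a ∈ l, 0 < a) ∧ (∀ a ∈ l, ∀ j, Kills F M j → a ≤ j) ∧
      Nonempty (M ≃ₗ[F[X]] PiQ F l) := by
  intro d
  induction d using Nat.strong_induction_on with
  | _ d ih =>
    intro M _ _ _ _ _ hd hM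
    rcases subsingleton_or_nontrivial M with hMs | hMn
    · haveI : IsEmpty (Fin ([] : List ℕ).length) := (inferInstance : IsEmpty (Fin 0))
      haveI : Subsingleton (PiQ F []) := Unique.instSubsingleton
      refine ⟨[], List.Pairwise.nil, ?_, ?_, ⟨LinearEquiv.ofSubsingleton M (PiQ F [])⟩⟩
      · intro a ha; exact absurd ha (List.not_mem_nil)
      · intro a ha; exact absurd ha (List.not_mem_nil)
    · obtain ⟨e, m₀, hK, hm₀⟩ := exists_max_order hM
      obtain ⟨M', ⟨E⟩⟩ := exists_split_nilp M e hK m₀ hm₀
      haveI := finite_sub M'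
      have hfr := finrank_of_split _ (monic_X_pow (e + 1)) M' E
      rw [natDegree_X_pow] at hfr
      obtain ⟨l', hsorted, hpos, hbound, ⟨E'⟩⟩ :=
        ih (finrank F M') (by omega) M' rfl (hM.submodule M')
      refine ⟨(e + 1) :: l', ?_, ?_, ?_, ?_⟩
      · rw [List.pairwise_cons]
        refine ⟨?_, hsorted⟩
        intro a ha
        exact hbound a ha (e + 1) (hK.submodule M')
      · intro a ha
        rcases List.mem_cons.mp ha with rfl | ha'
        · exact Nat.succ_pos e
        · exact hpos a ha'
      · intro a ha j hj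
        rcases List.mem_cons.mp ha with rfl | ha'
        · by_contra hlt
          push Not at hlt
          exact hm₀ ((hj.mono (by omega)) m₀)
        · exact hbound a ha' j (hj.submodule M')
      · exact ⟨E.symm.trans ((LinearEquiv.prodCongr (LinearEquiv.refl _ _) E').trans
          (piQCons F (e + 1) l'))⟩

/-- Uniqueness of the exponents. -/
theorem list_eq_of_equiv : ∀ (l l' : List ℕ), l.Pairwise (· ≥ ·) → l'.Pairwise (· ≥ ·) →
    (∀ a ∈ l, 0 < a) → (∀ a ∈ l', 0 < a) → Nonempty (PiQ F l ≃ₗ[F[X]] PiQ F l') → l = l' := by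
  intro l
  induction l with
  | nil =>
    intro l' _ _ _ hpos' ⟨E⟩
    cases l' with
    | nil => rfl
    | cons a' l'' =>
      exfalso
      have h1 := (E.restrictScalars F).finrank_eq
      rw [finrank_PiQ, finrank_PiQ, List.sum_nil, List.sum_cons] at h1
      have := hpos' a' (List.mem_cons_self)
      omega
  | cons a l₁ ih =>
    intro l' hs hs' hpos hpos' ⟨E⟩
    cases l' with
    | nil =>
      exfalso
      have h1 := (E.restrictScalars F).finrank_eq
      rw [finrank_PiQ, finrank_PiQ, List.sum_nil, List.sum_cons] at h1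
      have := hpos a (List.mem_cons_self)
      omega
    | cons a' l₁' =>
      rw [List.pairwise_cons] at hs hs'
      have haa' : a = a' := by
        apply le_antisymm
        · have hk : Kills F (PiQ F (a' :: l₁')) a' := by
            apply kills_PiQ
            intro b hb
            rcases List.mem_cons.mp hb with rfl | hb'
            · exact le_rfl
            · exact hs'.1 b hb'
          exact le_of_kills_PiQ_cons a l₁ a' (hk.of_equiv E.symm)
        · have hk : Kills F (PiQ F (a :: l₁)) a := by
            apply kills_PiQ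
            intro b hb
            rcases List.mem_cons.mp hb with rfl | hb'
            · exact le_rfl
            · exact hs.1 b hb'
          exact le_of_kills_PiQ_cons a' l₁' a (hk.of_equiv E)
      subst haa'
      congr 1
      apply ih l₁' hs.2 hs'.2 (fun b hb => hpos b (List.mem_cons_of_mem _ hb))
        (fun b hb => hpos' b (List.mem_cons_of_mem _ hb))
      have E2 : (Qr ((X : F[X]) ^ a) × PiQ F l₁) ≃ₗ[F[X]] (Qr ((X : F[X]) ^ a) × PiQ F l₁') :=
        (piQCons F a l₁).trans (E.trans (piQCons F a l₁').symm)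
      have hdk : ∀ k, dk F (PiQ F l₁) k = dk F (PiQ F l₁') k := by
        intro k
        have h1 := dk_congr E2 k
        rw [dk_prod, dk_prod] at h1
        omega
      exact nonempty_equiv_of_dk_eq _ (PiQ F l₁) (PiQ F l₁') rfl (isNilp_PiQ l₁) (isNilp_PiQ l₁') hdk

end Cfsg.Agent.Helper43.SS
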