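import Cfsg.Agent.Helper43.SSMod

set_option autoImplicit false

namespace Cfsg.Agent.Helper43.SS

open Polynomial Module

universe u v w

variable {F : Type u} [Field F]

theorem C_smul' {M : Type v} [AddCommGroup M] [Module F[X] M] [Module F M]
    [IsScalarTower F F[X] M] (a : F) (y : M) : (C a : F[X]) • y = a • y := by
  rw [← smul_one_smul F[X] a y]
  congr 1
  rw [Polynomial.smul_eq_C_mul, mul_one]

/-- An `F`-subspace stable under `X` is stable under all polynomials. -/
theorem smul_mem_of_X_smul_mem {M : Type v} [AddCommGroup M] [Module F[X] M] [Module F M]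
    [IsScalarTower F F[X] M] (W : Submodule F M) (hW : ∀ y ∈ W, (X : F[X]) • y ∈ W)
    (p : F[X]) (y : M) (hy : y ∈ W) : p • y ∈ W := by
  have hpow : ∀ n : ℕ, (X : F[X]) ^ n • y ∈ W := by
    intro n
    induction n with
    | zero => simpa using hy
    | succ n ih =>
      rw [pow_succ', mul_smul]
      exact hW _ ih
  induction p using Polynomial.induction_on' with
  | add p q hp hq => rw [add_smul]; exact W.add_mem hp hq
  | monomial n a =>
    rw [← C_mul_X_pow_eq_monomial, mul_smul, C_smul']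
    exact W.smul_mem a (hpow n)

/-- Bezout-type key lemma for an element of exact order `X^(e+1)`. -/
theorem key_bezout {M : Type v} [AddCommGroup M] [Module F[X] M] (e : ℕ) (m₀ : M)
    (he : (X : F[X]) ^ (e + 1) • m₀ = 0) (p : F[X]) :
    (X : F[X]) ^ (e + 1) ∣ p ∨ ∃ q : F[X], (q * p) • m₀ = (X : F[X]) ^ e • m₀ := by
  classical
  have hg : EuclideanDomain.gcd p ((X : F[X]) ^ (e + 1)) ∣ (X : F[X]) ^ (e + 1) :=
    EuclideanDomain.gcd_dvd_right _ _
  obtain ⟨j, hj, u, hu⟩ := (dvd_prime_pow Polynomial.prime_X _).mp hg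
  have hbez := EuclideanDomain.gcd_eq_gcd_ab p ((X : F[X]) ^ (e + 1))
  set g := EuclideanDomain.gcd p ((X : F[X]) ^ (e + 1)) with hgdef
  set a := EuclideanDomain.gcdA p ((X : F[X]) ^ (e + 1))
  set b := EuclideanDomain.gcdB p ((X : F[X]) ^ (e + 1))
  rcases Nat.eq_or_lt_of_le hj with hje | hjlt
  · left
    have h1 : g ∣ p := EuclideanDomain.gcd_dvd_left _ _
    have h2 : Associated g ((X : F[X]) ^ (e + 1)) := ⟨u, by rw [hu, hje]⟩
    exact h2.dvd_iff_dvd_left.mp h1
  · right
    have hj' : j ≤ e := by omega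
    refine ⟨(X : F[X]) ^ (e - j) * a * (u : F[X]), ?_⟩
    have h1 : p * a = g - (X : F[X]) ^ (e + 1) * b := by rw [hbez]; ring
    have h2 : (X : F[X]) ^ (e - j) * a * (u : F[X]) * p
        = (X : F[X]) ^ e - ((X : F[X]) ^ (e - j) * b * (u : F[X])) * (X : F[X]) ^ (e + 1) := by
      calc (X : F[X]) ^ (e - j) * a * (u : F[X]) * p
          = (X : F[X]) ^ (e - j) * (u : F[X]) * (p * a) := by ring
        _ = (X : F[X]) ^ (e - j) * (u : F[X]) * (g - (X : F[X]) ^ (e + 1) * b) := by rw [h1]
        _ = (X : F[X]) ^ (e - j) * (g * (u : F[X]))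
            - ((X : F[X]) ^ (e - j) * b * (u : F[X])) * (X : F[X]) ^ (e + 1) := by ring
        _ = (X : F[X]) ^ (e - j) * (X : F[X]) ^ j
            - ((X : F[X]) ^ (e - j) * b * (u : F[X])) * (X : F[X]) ^ (e + 1) := by rw [hu]
        _ = (X : F[X]) ^ e - ((X : F[X]) ^ (e - j) * b * (u : F[X])) * (X : F[X]) ^ (e + 1) := by
            rw [← pow_add, Nat.sub_add_cancel hj']
    rw [h2, sub_smul, mul_smul, he, smul_zero, sub_zero]

/-- Splitting off a cyclic summand of maximal order. -/
theorem exists_split_nilp (M : Type v) [AddCommGroup M] [Module F[X] M] [Module F M]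
    [IsScalarTower F F[X] M] [Module.Finite F M] (e : ℕ)
    (hM : ∀ m : M, (X : F[X]) ^ (e + 1) • m = 0) (m₀ : M) (hm₀ : (X : F[X]) ^ e • m₀ ≠ 0) :
    ∃ M' : Submodule F[X] M, Nonempty ((Qr ((X : F[X]) ^ (e + 1)) × M') ≃ₗ[F[X]] M) := by
  -- a functional detecting the socle element
  obtain ⟨φ, hφ⟩ : ∃ φ : Module.Dual F M, φ ((X : F[X]) ^ e • m₀) ≠ 0 := by
    by_contra hcon
    push Not at hcon
    exact hm₀ ((Module.forall_dual_apply_eq_zero_iff F _).mp hcon)
  -- the complement
  let M' : Submodule F[X] M :=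
    { carrier := {y | ∀ p : F[X], φ (p • y) = 0}
      add_mem' := by
        intro a b ha hb p
        rw [smul_add, map_add, ha p, hb p, add_zero]
      zero_mem' := by
        intro p
        rw [smul_zero, map_zero]
      smul_mem' := by
        intro c y hy p
        rw [← mul_smul]
        exact hy _ }
  have hM'mem : ∀ y : M, y ∈ M' ↔ ∀ p : F[X], φ (p • y) = 0 := fun y => Iff.rfl
  -- the cyclic part
  have hle : (Ideal.span {(X : F[X]) ^ (e + 1)} : Submodule F[X] F[X])
      ≤ LinearMap.ker (LinearMap.toSpanSingleton F[X] M m₀) := by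
    rw [Ideal.span_singleton_le_iff_mem]
    show (LinearMap.toSpanSingleton F[X] M m₀) ((X : F[X]) ^ (e + 1)) = 0
    rw [LinearMap.toSpanSingleton_apply]
    exact hM m₀
  let ι : Qr ((X : F[X]) ^ (e + 1)) →ₗ[F[X]] M :=
    Submodule.liftQ _ (LinearMap.toSpanSingleton F[X] M m₀) hle
  have hι : ∀ p : F[X], ι (Submodule.Quotient.mk p) = p • m₀ := by
    intro p
    show Submodule.liftQ _ (LinearMap.toSpanSingleton F[X] M m₀) hle (Submodule.Quotient.mk p) = _
    rw [Submodule.liftQ_apply, LinearMap.toSpanSingleton_apply]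
  let Ψ : (Qr ((X : F[X]) ^ (e + 1)) × M') →ₗ[F[X]] M := ι.coprod M'.subtype
  have hΨ : ∀ q y, Ψ (q, y) = ι q + (y : M) := by
    intro q y
    show ι.coprod M'.subtype (q, y) = _
    rw [LinearMap.coprod_apply]
    rfl
  -- injectivity
  have hinj : Function.Injective Ψ := by
    rw [← LinearMap.ker_eq_bot, LinearMap.ker_eq_bot']
    rintro ⟨q, y⟩ h0
    rw [hΨ] at h0
    obtain ⟨p, rfl⟩ := Submodule.Quotient.mk_surjective _ q
    rw [hι] at h0
    have hpy : p • m₀ = -(y : M) := eq_neg_of_add_eq_zero_left h0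
    rcases key_bezout e m₀ (hM m₀) p with hdvd | ⟨q', hq'⟩
    · have hq0 : (Submodule.Quotient.mk p : Qr ((X : F[X]) ^ (e + 1))) = 0 := by
        rw [Submodule.Quotient.mk_eq_zero]
        exact Ideal.mem_span_singleton.mpr hdvd
      have hy0 : (y : M) = 0 := by
        obtain ⟨s, rfl⟩ := hdvd
        rw [mul_smul, smul_comm, hM, smul_zero] at hpy
        exact neg_eq_zero.mp hpy.symm
      rw [hq0]
      exact Prod.ext rfl (Subtype.ext hy0)
    · exfalso
      apply hφ
      rw [← hq', mul_smul, hpy, smul_neg, map_neg, neg_eq_zero]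
      exact y.2 q'
  -- dimension count
  let Λ : M →ₗ[F] (Fin (e + 1) → F) :=
    LinearMap.pi (fun j => φ ∘ₗ ((xEnd F M) ^ (j : ℕ)))
  have hΛ : ∀ (y : M) (j : Fin (e + 1)), Λ y j = φ ((X : F[X]) ^ (j : ℕ) • y) := by
    intro y j
    show φ (((xEnd F M) ^ (j : ℕ)) y) = _
    congr 1
    rw [← aeval_xEnd, map_pow, aeval_X]
  have hstab : ∀ y ∈ LinearMap.ker Λ, (X : F[X]) • y ∈ LinearMap.ker Λ := by
    intro y hy
    rw [LinearMap.mem_ker] at hy ⊢
    funext j
    rw [hΛ, ← mul_smul, ← pow_succ]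
    by_cases hj : (j : ℕ) + 1 < e + 1
    · have := congrFun hy ⟨(j : ℕ) + 1, hj⟩
      rw [hΛ] at this
      exact this
    · have hj' : (j : ℕ) + 1 = e + 1 := by have := j.2; omega
      rw [hj', hM, map_zero]
      rfl
  have hkerM' : ∀ y ∈ LinearMap.ker Λ, y ∈ M' := by
    intro y hy p
    have h1 := smul_mem_of_X_smul_mem (LinearMap.ker Λ) hstab p y hy
    rw [LinearMap.mem_ker] at h1
    have := congrFun h1 ⟨0, Nat.succ_pos e⟩
    rw [hΛ] at this
    simpa using this
  haveI : Module.Finite F M' :=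
    Module.Finite.of_injective ((M'.subtype).restrictScalars F) Subtype.val_injective
  haveI : Module.Finite F (Qr ((X : F[X]) ^ (e + 1))) := (monic_X_pow (e + 1)).finite_quotient
  have hdim1 : finrank F (LinearMap.ker Λ) ≤ finrank F M' := by
    let inc : LinearMap.ker Λ →ₗ[F] M' :=
      { toFun := fun y => ⟨y.1, hkerM' y.1 y.2⟩
        map_add' := fun _ _ => rfl
        map_smul' := fun _ _ => rfl }
    apply LinearMap.finrank_le_finrank_of_injective (f := inc)
    intro a b hab
    apply Subtype.ext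
    exact congrArg (fun z : M' => (z : M)) hab
  have hdim2 : finrank F M ≤ (e + 1) + finrank F (LinearMap.ker Λ) := by
    rw [← LinearMap.finrank_range_add_finrank_ker Λ]
    have : finrank F (LinearMap.range Λ) ≤ e + 1 := by
      have := Submodule.finrank_le (LinearMap.range Λ)
      rwa [Module.finrank_fin_fun] at this
    omega
  have hdim3 : finrank F (Qr ((X : F[X]) ^ (e + 1)) × M') = (e + 1) + finrank F M' := by
    rw [Module.finrank_prod, finrank_quotient_span_eq_natDegree, natDegree_X_pow]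
  have hdim4 : finrank F (Qr ((X : F[X]) ^ (e + 1)) × M') ≤ finrank F M :=
    LinearMap.finrank_le_finrank_of_injective (f := Ψ.restrictScalars F) hinj
  have hdim : finrank F (Qr ((X : F[X]) ^ (e + 1)) × M') = finrank F M := by omega
  have hsurj : Function.Surjective Ψ :=
    (LinearMap.injective_iff_surjective_of_finrank_eq_finrank (f := Ψ.restrictScalars F) hdim).mp hinj
  exact ⟨M', ⟨LinearEquiv.ofBijective Ψ ⟨hinj, hsurj⟩⟩⟩

end Cfsg.Agent.Helper43.SS
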