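import Mathlib

set_option autoImplicit false

/-!
# Arithmetic for the number of pairs of complementary totally isotropic subspaces
-/

namespace Cfsg.Agent.Helper43.Lagr

open Polynomial

theorem prod_gl_eq (q d : ℕ) (hq : 1 ≤ q) :
    ∏ i : Fin d, (q ^ d - q ^ (i : ℕ))
      = (∏ i ∈ Finset.range d, q ^ i) * ∏ i ∈ Finset.range d, (q ^ (i + 1) - 1) := by
  rw [Fin.prod_univ_eq_prod_range (fun i => q ^ d - q ^ i) d,
    ← Finset.prod_range_reflect (fun i => q ^ (i + 1) - 1) d, ← Finset.prod_mul_distrib]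
  apply Finset.prod_congr rfl
  intro i hi
  rw [Finset.mem_range] at hi
  have h1 : d - 1 - i + 1 = d - i := by omega
  rw [h1, Nat.mul_sub, mul_one, ← pow_add]
  congr 2
  omega

theorem prod_sp_eq (q d : ℕ) (hq : 1 ≤ q) :
    ∏ i ∈ Finset.range d, (q ^ (2 * (i + 1)) - 1)
      = (∏ i ∈ Finset.range d, (q ^ (i + 1) - 1)) * ∏ i ∈ Finset.range d, (q ^ (i + 1) + 1) := by
  rw [← Finset.prod_mul_distrib]
  apply Finset.prod_congr rfl
  intro i _
  have h1 : 1 ≤ q ^ (i + 1) := Nat.one_le_pow _ _ hq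
  have h2 : q ^ (2 * (i + 1)) = q ^ (i + 1) * q ^ (i + 1) := by rw [← pow_add]; congr 1; omega
  rw [h2]
  zify [h1, Nat.one_le_iff_ne_zero.mpr (Nat.mul_ne_zero (by omega) (by omega) :
    q ^ (i + 1) * q ^ (i + 1) ≠ 0)]
  ring

/-- a prime dividing the number of pairs, and not dividing `q`, divides some `q ^ i + 1`. -/
theorem exists_dvd_pow_add_one {q d N r : ℕ} (hq : 2 ≤ q) (hr : r.Prime) (hrq : ¬ r ∣ q)
    (hN : N * ∏ i : Fin d, (q ^ d - q ^ (i : ℕ))
      = q ^ (d ^ 2) * ∏ i ∈ Finset.range d, (q ^ (2 * (i + 1)) - 1))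
    (hrN : r ∣ N) : ∃ i, 1 ≤ i ∧ i ≤ d ∧ r ∣ q ^ i + 1 := by
  rw [prod_gl_eq q d (by omega), prod_sp_eq q d (by omega)] at hN
  set T := ∏ i ∈ Finset.range d, (q ^ (i + 1) - 1) with hT
  have hTpos : 0 < T := by
    apply Finset.prod_pos
    intro i _
    have : 2 ≤ q ^ (i + 1) := by
      calc 2 ≤ q := hq
        _ = q ^ 1 := (pow_one q).symm
        _ ≤ q ^ (i + 1) := Nat.pow_le_pow_right (by omega) (by omega)
    omega
  have h1 : N * (∏ i ∈ Finset.range d, q ^ i) * T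
      = q ^ (d ^ 2) * (∏ i ∈ Finset.range d, (q ^ (i + 1) + 1)) * T := by
    rw [mul_assoc, hN]; ring
  have h2 := Nat.eq_of_mul_eq_mul_right hTpos h1
  have h3 : r ∣ q ^ (d ^ 2) * ∏ i ∈ Finset.range d, (q ^ (i + 1) + 1) := by
    rw [← h2]
    exact Dvd.dvd.mul_right hrN _
  rcases (Nat.Prime.dvd_mul hr).mp h3 with h | h
  · exact absurd (hr.dvd_of_dvd_pow h) hrq
  · rw [Prime.dvd_finsetProd_iff hr.prime] at h
    obtain ⟨i, hi, hri⟩ := h
    rw [Finset.mem_range] at hi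
    exact ⟨i + 1, by omega, by omega, hri⟩

/-- if an odd prime `r` divides `q ^ i + 1` then the order of `q` modulo `r` is even. -/
theorem orderOf_even_of_dvd {q r i : ℕ} (hr : r.Prime) (hr2 : r ≠ 2) (hi0 : 1 ≤ i)
    (hi : r ∣ q ^ i + 1) :
    Even (orderOf (q : ZMod r)) ∧ 0 < orderOf (q : ZMod r) ∧ orderOf (q : ZMod r) ≤ 2 * i := by
  have : Fact r.Prime := ⟨hr⟩
  have h1 : (q : ZMod r) ^ i = -1 := by
    have : ((q ^ i + 1 : ℕ) : ZMod r) = 0 := (ZMod.natCast_eq_zero_iff _ _).mpr hi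
    push_cast at this
    exact eq_neg_of_add_eq_zero_left this
  have h2 : (q : ZMod r) ^ (2 * i) = 1 := by
    rw [mul_comm, pow_mul, h1, neg_one_sq]
  have hdvd : orderOf (q : ZMod r) ∣ 2 * i := orderOf_dvd_of_pow_eq_one h2
  have hndvd : ¬ orderOf (q : ZMod r) ∣ i := by
    intro h
    have h3 : (q : ZMod r) ^ i = 1 := orderOf_dvd_iff_pow_eq_one.mp h
    rw [h1] at h3
    have h4 : ((2 : ℕ) : ZMod r) = 0 := by
      have : (1 : ZMod r) + 1 = 0 := by
        nth_rewrite 1 [← h3]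
        ring
      push_cast
      rw [← this]; ring
    rw [ZMod.natCast_eq_zero_iff] at h4
    exact hr2 ((Nat.prime_dvd_prime_iff_eq hr Nat.prime_two).mp h4)
  have hpos : 0 < orderOf (q : ZMod r) := by
    apply Nat.pos_of_ne_zero
    intro h0
    rw [h0] at hdvd
    have := Nat.eq_zero_of_zero_dvd hdvd
    omega
  refine ⟨?_, hpos, Nat.le_of_dvd (by omega) hdvd⟩
  by_contra hodd
  rw [Nat.not_even_iff_odd] at hodd
  apply hndvd
  have hcop : Nat.Coprime (orderOf (q : ZMod r)) 2 := by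
    exact Nat.coprime_two_right.mpr hodd
  exact hcop.dvd_of_dvd_mul_left hdvd

/-- an irreducible factor of the cyclotomic polynomial of the right degree. -/
theorem exists_factor_cyclotomic {F : Type*} [Field F] [Fintype F] (p : ℕ) [Fact p.Prime]
    [CharP F p] {q : ℕ} (hF : Fintype.card F = q) (r : ℕ) (hr : r.Prime) (hrp : r ≠ p) :
    ∃ P : F[X], P.Monic ∧ Irreducible P ∧ P ∣ (X ^ r - 1 : F[X]) ∧
      P.natDegree = orderOf (q : ZMod r) := by
  have hp : p.Prime := Fact.out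
  haveI : Fact r.Prime := ⟨hr⟩
  obtain ⟨f, -, hcard⟩ := FiniteField.card F p
  have hK : Fintype.card F = p ^ (f : ℕ) := hcard
  have hn : p.Coprime r := (Nat.coprime_primes hp hr).mpr hrp.symm
  have hord : orderOf (ZMod.unitOfCoprime (p ^ (f : ℕ)) (hn.pow_left f)) = orderOf (q : ZMod r) := by
    rw [← orderOf_units, ZMod.coe_unitOfCoprime, ← hK, hF]
  have hnu : ¬ IsUnit (cyclotomic r F) := by
    intro hu
    have := natDegree_eq_zero_of_isUnit hu
    rw [natDegree_cyclotomic, Nat.totient_prime hr] at this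
    have := hr.two_le
    omega
  obtain ⟨P, hPm, hPi, hPd⟩ := exists_monic_irreducible_factor _ hnu
  refine ⟨P, hPm, hPi, ?_, ?_⟩
  · rw [← cyclotomic_prime_mul_X_sub_one F r]
    exact Dvd.dvd.mul_right hPd _
  · rw [← hord]
    exact natDegree_of_dvd_cyclotomic_of_irreducible hK hn hPd hPi

end Cfsg.Agent.Helper43.Lagr

namespace Cfsg.Agent.Helper43.Lagr

/-- for odd `q` the number of pairs is even. -/
theorem even_of_card_eq {q d N : ℕ} (hq : Odd q) (hq2 : 2 ≤ q) (hd : 1 ≤ d)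
    (hN : N * ∏ i : Fin d, (q ^ d - q ^ (i : ℕ))
      = q ^ (d ^ 2) * ∏ i ∈ Finset.range d, (q ^ (2 * (i + 1)) - 1)) : 2 ∣ N := by
  have hq1 : 1 ≤ q := hq.pos
  rw [prod_gl_eq q d hq1, prod_sp_eq q d hq1] at hN
  set T := ∏ i ∈ Finset.range d, (q ^ (i + 1) - 1) with hT
  have hTpos : 0 < T := by
    apply Finset.prod_pos
    intro i _
    have : 2 ≤ q ^ (i + 1) := by
      calc 2 ≤ q := hq2
        _ = q ^ 1 := (pow_one q).symm
        _ ≤ q ^ (i + 1) := Nat.pow_le_pow_right (by omega) (by omega)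
    omega
  have h1 : N * (∏ i ∈ Finset.range d, q ^ i) * T
      = q ^ (d ^ 2) * (∏ i ∈ Finset.range d, (q ^ (i + 1) + 1)) * T := by
    rw [mul_assoc, hN]; ring
  have h2 := Nat.eq_of_mul_eq_mul_right hTpos h1
  have h3 : 2 ∣ N * ∏ i ∈ Finset.range d, q ^ i := by
    rw [h2]
    apply Dvd.dvd.mul_left
    apply Dvd.dvd.trans _ (Finset.dvd_prod_of_mem _ (Finset.mem_range.mpr hd))
    have : Odd (q ^ (0 + 1)) := hq.pow
    have := this.add_one
    exact even_iff_two_dvd.mp this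
  rcases (Nat.Prime.dvd_mul Nat.prime_two).mp h3 with h | h
  · exact h
  · exfalso
    rw [Prime.dvd_finsetProd_iff Nat.prime_two.prime] at h
    obtain ⟨i, -, hi⟩ := h
    have := Nat.prime_two.dvd_of_dvd_pow hi
    rw [← even_iff_two_dvd] at this
    exact (Nat.not_even_iff_odd.mpr hq) this

end Cfsg.Agent.Helper43.Lagr
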