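import Mathlib
import Cfsg.Agent.Helper43.SylDefs
import Cfsg.Agent.Helper44.Spinor

/-!
# Block, permutation and sign isometries of the model forms
-/

set_option autoImplicit false
set_option linter.unusedSectionVars false
set_option linter.unusedVariables false

namespace Cfsg.Agent.Helper43.Syl

open Matrix Cfsg.Agent.Helper44

variable {F : Type*} [Field F] {k j : ℕ}

/-- the `p`-th plane part of a vector -/
def pl (v : Idx k j → F) (p : Fin k) : Fin 2 → F := fun a => v (Sum.inl (a, p))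

/-- the line part of a vector -/
def ln (v : Idx k j → F) : Fin j → F := fun i => v (Sum.inr i)

theorem ext_pl_ln {v w : Idx k j → F} (h1 : ∀ p, pl v p = pl w p) (h2 : ln v = ln w) : v = w := by
  funext i
  rcases i with ⟨a, p⟩ | i
  · exact congrFun (h1 p) a
  · exact congrFun h2 i

theorem mForm_eq (γ : Fin j → F) (v : Idx k j → F) :
    mForm k j γ v = ∑ p, E2 F (pl v p) + ∑ i, γ i * (ln v i * ln v i) := by
  rw [mForm_apply, Fintype.sum_sum_type, Fintype.sum_prod_type, Finset.sum_comm]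
  congr 1

/-! ### a general constructor -/

section ofLin

variable {ι : Type} [Fintype ι] [DecidableEq ι]

/-- a linear equivalence as an element of `GL` -/
noncomputable def glOfLin (g : (ι → F) ≃ₗ[F] (ι → F)) : GL ι F :=
  ⟨LinearMap.toMatrix' g.toLinearMap, LinearMap.toMatrix' g.symm.toLinearMap, by
    rw [← LinearMap.toMatrix'_comp, LinearEquiv.comp_coe, LinearEquiv.symm_trans_self,
      LinearEquiv.refl_toLinearMap, LinearMap.toMatrix'_id], by
    rw [← LinearMap.toMatrix'_comp, LinearEquiv.comp_coe, LinearEquiv.self_trans_symm,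
      LinearEquiv.refl_toLinearMap, LinearMap.toMatrix'_id]⟩

theorem glOfLin_mulVec (g : (ι → F) ≃ₗ[F] (ι → F)) (v : ι → F) :
    ((glOfLin g : GL ι F) : Matrix ι ι F) *ᵥ v = g v := by
  show LinearMap.toMatrix' g.toLinearMap *ᵥ v = g v
  rw [LinearMap.toMatrix'_mulVec]
  rfl

/-- an isometry from a linear equivalence preserving the form -/
noncomputable def ofLin (Q : (ι → F) → F) (e : (ι → F) ≃ₗ[F] (ι → F)) (he : ∀ v, Q (e v) = Q v) :
    Cfsg.isometryGroup F Q :=
  ⟨glOfLin e, (Cfsg.Agent.Helper13.mem_isometryGroup_iff Q _).2 (fun v => by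
    rw [glOfLin_mulVec]; exact he v)⟩

theorem ofLin_mulVec (Q : (ι → F) → F) (e : (ι → F) ≃ₗ[F] (ι → F)) (he : ∀ v, Q (e v) = Q v)
    (v : ι → F) : ((ofLin Q e he).1 : Matrix ι ι F) *ᵥ v = e v :=
  glOfLin_mulVec e v

end ofLin

/-! ### block matrices -/

/-- the block matrix with blocks `g p` on the planes and the identity on the lines -/
def bMat (j : ℕ) (g : Fin k → Matrix (Fin 2) (Fin 2) F) : Matrix (Idx k j) (Idx k j) F :=
  fromBlocks (blockDiagonal g) 0 0 1

theorem bMat_mul (g h : Fin k → Matrix (Fin 2) (Fin 2) F) :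
    bMat j (g * h) = bMat j g * bMat j h := by
  unfold bMat
  rw [fromBlocks_multiply]
  simp only [Matrix.mul_zero, Matrix.zero_mul, add_zero, zero_add, Matrix.mul_one]
  rw [← blockDiagonal_mul]
  rfl

theorem bMat_one : bMat j (1 : Fin k → Matrix (Fin 2) (Fin 2) F) = 1 := by
  unfold bMat
  rw [blockDiagonal_one, fromBlocks_one]

theorem det_bMat (g : Fin k → Matrix (Fin 2) (Fin 2) F) : (bMat j g).det = ∏ p, (g p).det := by
  unfold bMat
  rw [det_fromBlocks_zero₂₁, det_blockDiagonal, det_one, mul_one]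

theorem pl_bMat_mulVec (g : Fin k → Matrix (Fin 2) (Fin 2) F) (v : Idx k j → F) (p : Fin k) :
    pl (bMat j g *ᵥ v) p = g p *ᵥ pl v p := by
  funext a
  unfold bMat pl
  rw [fromBlocks_mulVec]
  simp only [Sum.elim_inl, Pi.add_apply, Matrix.zero_mulVec, Pi.zero_apply, add_zero]
  rw [Matrix.mulVec, Matrix.mulVec, dotProduct, dotProduct, Fintype.sum_prod_type]
  apply Finset.sum_congr rfl
  intro a' _
  rw [Finset.sum_eq_single p]
  · rw [blockDiagonal_apply, if_pos rfl]
    rfl
  · intro p' _ hp'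
    rw [blockDiagonal_apply, if_neg (fun h => hp' h.symm), zero_mul]
  · simp

theorem ln_bMat_mulVec (g : Fin k → Matrix (Fin 2) (Fin 2) F) (v : Idx k j → F) :
    ln (bMat j g *ᵥ v) = ln v := by
  funext i
  unfold bMat ln
  rw [fromBlocks_mulVec]
  simp

/-- `bMat` as a monoid homomorphism -/
def bMatHom (k j : ℕ) (F : Type*) [Field F] :
    (Fin k → Matrix (Fin 2) (Fin 2) F) →* Matrix (Idx k j) (Idx k j) F where
  toFun := bMat j
  map_one' := bMat_one
  map_mul' := bMat_mul

/-- the block homomorphism on general linear groups -/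
def bGL (k j : ℕ) (F : Type*) [Field F] : (Fin k → GL (Fin 2) F) →* GL (Idx k j) F :=
  (Units.map (bMatHom k j F)).comp MulEquiv.piUnits.symm.toMonoidHom

theorem bGL_coe (g : Fin k → GL (Fin 2) F) :
    ((bGL k j F g : GL (Idx k j) F) : Matrix (Idx k j) (Idx k j) F) =
      bMat j (fun p => ((g p : GL (Fin 2) F) : Matrix (Fin 2) (Fin 2) F)) := rfl

/-- the block homomorphism on isometry groups -/
def bHom (k j : ℕ) (γ : Fin j → F) :
    (Fin k → Cfsg.isometryGroup F ⇑(E2 F)) →* Cfsg.isometryGroup F ⇑(mForm k j γ) where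
  toFun g := ⟨bGL k j F (fun p => (g p).1), by
    rw [Cfsg.Agent.Helper13.mem_isometryGroup_iff]
    intro v
    rw [mForm_eq, mForm_eq, bGL_coe, ln_bMat_mulVec]
    congr 1
    apply Finset.sum_congr rfl
    intro p _
    rw [pl_bMat_mulVec]
    exact isometryGroup_apply (g p) _⟩
  map_one' := by
    apply Subtype.ext
    exact map_one (bGL k j F)
  map_mul' g h := by
    apply Subtype.ext
    exact map_mul (bGL k j F) (fun p => (g p).1) (fun p => (h p).1)

theorem pl_bHom (γ : Fin j → F) (g : Fin k → Cfsg.isometryGroup F ⇑(E2 F)) (v : Idx k j → F)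
    (p : Fin k) :
    pl (((bHom k j γ g).1 : Matrix (Idx k j) (Idx k j) F) *ᵥ v) p =
      ((g p).1 : Matrix (Fin 2) (Fin 2) F) *ᵥ pl v p :=
  pl_bMat_mulVec _ v p

theorem ln_bHom (γ : Fin j → F) (g : Fin k → Cfsg.isometryGroup F ⇑(E2 F)) (v : Idx k j → F) :
    ln (((bHom k j γ g).1 : Matrix (Idx k j) (Idx k j) F) *ᵥ v) = ln v :=
  ln_bMat_mulVec _ v

theorem det_bHom (γ : Fin j → F) (g : Fin k → Cfsg.isometryGroup F ⇑(E2 F)) :
    ((bHom k j γ g).1 : Matrix (Idx k j) (Idx k j) F).det =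
      ∏ p, ((g p).1 : Matrix (Fin 2) (Fin 2) F).det :=
  det_bMat _

end Cfsg.Agent.Helper43.Syl
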