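import Mathlib
import Cfsg.Prelude.Def_Classical
import Cfsg.Agent.Helper43.SylMatA
import Cfsg.Agent.Helper44.Spinor

/-!
# `Ω₇(q)`, `q ≡ ±3 (mod 8)`: the monomial model

The form is the sum of seven squares `Q7`.  `dg ε` is the diagonal sign isometry, `pm σ` the
permutation isometry; `S0` is the group of all `dg ε * pm σ` with `∏ ε = 1` and `σ` in the Sylow
`2`-subgroup `P0 = ⟨(0 2)(1 3), (0 1)(4 5)⟩` of `A₇`.
-/

set_option autoImplicit false

namespace Cfsg.Agent.Helper43.O7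

open Matrix Cfsg.Agent.Helper43.Syl Cfsg.Agent.Helper44

variable (F : Type*) [Field F]

/-- the sum of seven squares -/
noncomputable def Q7 : QuadraticForm F (Fin 7 → F) :=
  QuadraticMap.weightedSumSquares F (fun _ : Fin 7 => (1 : F))

theorem Q7_apply (v : Fin 7 → F) : Q7 F v = ∑ i, v i * v i := by
  unfold Q7
  rw [QuadraticMap.weightedSumSquares_apply]
  simp

/-- an integer sign in the field -/
def sg (s : ℤˣ) : F := ((s : ℤ) : F)

@[simp] theorem sg_one : sg F 1 = 1 := by simp [sg]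

@[simp] theorem sg_neg_one : sg F (-1) = -1 := by simp [sg]

theorem sg_mul (s t : ℤˣ) : sg F (s * t) = sg F s * sg F t := by simp [sg]

theorem sg_mul_self (s : ℤˣ) : sg F s * sg F s = 1 := by
  rw [← sg_mul, Int.units_mul_self, sg_one]

theorem sg_eq_or (s : ℤˣ) : sg F s = 1 ∨ sg F s = -1 := by
  rcases Int.units_eq_one_or s with rfl | rfl
  · left; simp
  · right; simp

theorem sg_ne_zero (s : ℤˣ) : sg F s ≠ 0 := by
  intro h
  have := sg_mul_self F s
  rw [h, mul_zero] at this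
  exact zero_ne_one this

theorem sg_injective (h2 : (2 : F) ≠ 0) : Function.Injective (sg F) := by
  intro s t h
  rcases Int.units_eq_one_or s with rfl | rfl <;> rcases Int.units_eq_one_or t with rfl | rfl
  · rfl
  · exfalso
    rw [sg_one, sg_neg_one] at h
    apply h2
    linear_combination h
  · exfalso
    rw [sg_one, sg_neg_one] at h
    apply h2
    linear_combination -h
  · rfl

/-- the linear equivalence `v ↦ (ε i * v i)` -/
noncomputable def dgLin (ε : Fin 7 → ℤˣ) : (Fin 7 → F) ≃ₗ[F] (Fin 7 → F) where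
  toFun v := fun i => sg F (ε i) * v i
  invFun v := fun i => sg F (ε i) * v i
  map_add' v w := by
    funext i
    simp only [Pi.add_apply]
    ring
  map_smul' c v := by
    funext i
    simp only [Pi.smul_apply, smul_eq_mul, RingHom.id_apply]
    ring
  left_inv v := by
    funext i
    show sg F (ε i) * (sg F (ε i) * v i) = v i
    rw [← mul_assoc, sg_mul_self, one_mul]
  right_inv v := by
    funext i
    show sg F (ε i) * (sg F (ε i) * v i) = v i
    rw [← mul_assoc, sg_mul_self, one_mul]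

theorem dgLin_apply (ε : Fin 7 → ℤˣ) (v : Fin 7 → F) (i : Fin 7) :
    dgLin F ε v i = sg F (ε i) * v i := rfl

theorem dgLin_Q7 (ε : Fin 7 → ℤˣ) (v : Fin 7 → F) : Q7 F (dgLin F ε v) = Q7 F v := by
  rw [Q7_apply, Q7_apply]
  apply Finset.sum_congr rfl
  intro i _
  rw [dgLin_apply]
  linear_combination (v i * v i) * sg_mul_self F (ε i)

/-- the diagonal sign isometries -/
noncomputable def dg : (Fin 7 → ℤˣ) →* Cfsg.isometryGroup F ⇑(Q7 F) where
  toFun ε := ofLin ⇑(Q7 F) (dgLin F ε) (dgLin_Q7 F ε)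
  map_one' := by
    apply isometryGroup_ext
    intro v
    rw [ofLin_mulVec, isometryGroup_one_mulVec]
    funext i
    rw [dgLin_apply]
    simp
  map_mul' ε δ := by
    apply isometryGroup_ext
    intro v
    rw [ofLin_mulVec, isometryGroup_mul_mulVec, ofLin_mulVec, ofLin_mulVec]
    funext i
    rw [dgLin_apply, dgLin_apply, dgLin_apply, Pi.mul_apply, sg_mul]
    ring

theorem dg_mulVec (ε : Fin 7 → ℤˣ) (v : Fin 7 → F) :
    ((dg F ε).1 : Matrix (Fin 7) (Fin 7) F) *ᵥ v = fun i => sg F (ε i) * v i := by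
  show ((ofLin ⇑(Q7 F) (dgLin F ε) (dgLin_Q7 F ε)).1 : Matrix (Fin 7) (Fin 7) F) *ᵥ v = _
  rw [ofLin_mulVec]
  rfl

theorem pmLin_Q7 (σ : Equiv.Perm (Fin 7)) (v : Fin 7 → F) :
    Q7 F (LinearEquiv.funCongrLeft F F σ⁻¹ v) = Q7 F v := by
  rw [Q7_apply, Q7_apply]
  exact Equiv.sum_comp σ⁻¹ (fun i => v i * v i)

/-- the permutation isometries: `pm σ` sends the basis vector `e_j` to `e_{σ j}` -/
noncomputable def pm : Equiv.Perm (Fin 7) →* Cfsg.isometryGroup F ⇑(Q7 F) where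
  toFun σ := ofLin ⇑(Q7 F) (LinearEquiv.funCongrLeft F F σ⁻¹) (pmLin_Q7 F σ)
  map_one' := by
    apply isometryGroup_ext
    intro v
    rw [ofLin_mulVec, isometryGroup_one_mulVec]
    rfl
  map_mul' σ τ := by
    apply isometryGroup_ext
    intro v
    rw [ofLin_mulVec, isometryGroup_mul_mulVec, ofLin_mulVec, ofLin_mulVec]
    funext i
    simp [LinearEquiv.funCongrLeft_apply, LinearMap.funLeft_apply, _root_.mul_inv_rev]

theorem pm_mulVec (σ : Equiv.Perm (Fin 7)) (v : Fin 7 → F) :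
    ((pm F σ).1 : Matrix (Fin 7) (Fin 7) F) *ᵥ v = fun i => v (σ⁻¹ i) := by
  show ((ofLin ⇑(Q7 F) (LinearEquiv.funCongrLeft F F σ⁻¹) (pmLin_Q7 F σ)).1 :
    Matrix (Fin 7) (Fin 7) F) *ᵥ v = _
  rw [ofLin_mulVec]
  rfl

/-- the monomial relation -/
theorem pm_mul_dg (σ : Equiv.Perm (Fin 7)) (ε : Fin 7 → ℤˣ) :
    pm F σ * dg F ε = dg F (fun i => ε (σ⁻¹ i)) * pm F σ := by
  apply isometryGroup_ext
  intro v
  rw [isometryGroup_mul_mulVec, isometryGroup_mul_mulVec, pm_mulVec, dg_mulVec, dg_mulVec,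
    pm_mulVec]

theorem pm_mul_dg_mul_inv (σ : Equiv.Perm (Fin 7)) (ε : Fin 7 → ℤˣ) :
    pm F σ * dg F ε * (pm F σ)⁻¹ = dg F (fun i => ε (σ⁻¹ i)) := by
  rw [pm_mul_dg, mul_assoc, mul_inv_cancel, mul_one]

theorem dg_mul_self (ε : Fin 7 → ℤˣ) : dg F ε * dg F ε = 1 := by
  rw [← map_mul]
  have : ε * ε = 1 := by
    funext i
    simp [Int.units_mul_self]
  rw [this, map_one]

theorem dg_inv (ε : Fin 7 → ℤˣ) : (dg F ε)⁻¹ = dg F ε :=
  inv_eq_of_mul_eq_one_left (dg_mul_self F ε)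

/-- entries of the monomial matrices -/
theorem mon_apply (ε : Fin 7 → ℤˣ) (σ : Equiv.Perm (Fin 7)) (k l : Fin 7) :
    (((dg F ε * pm F σ).1 : GL (Fin 7) F) : Matrix (Fin 7) (Fin 7) F) k l =
      if k = σ l then sg F (ε k) else 0 := by
  have h := congrFun (isometryGroup_mul_mulVec (dg F ε) (pm F σ) (Pi.single l 1)) k
  rw [Matrix.mulVec_single_one] at h
  rw [Matrix.col_apply] at h
  rw [h, dg_mulVec, pm_mulVec]
  simp only
  by_cases hk : k = σ l
  · rw [if_pos hk, hk]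
    simp
  · rw [if_neg hk]
    have : σ⁻¹ k ≠ l := by
      intro h'
      apply hk
      rw [← h']
      simp
    rw [Pi.single_apply, if_neg this, mul_zero]

/-- uniqueness of the monomial decomposition -/
theorem mon_inj (h2 : (2 : F) ≠ 0) {ε δ : Fin 7 → ℤˣ} {σ ρ : Equiv.Perm (Fin 7)}
    (h : dg F ε * pm F σ = dg F δ * pm F ρ) : ε = δ ∧ σ = ρ := by
  have hσ : σ = ρ := by
    ext l
    have h1 := mon_apply F ε σ (σ l) l
    rw [if_pos rfl, h, mon_apply] at h1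
    by_cases hk : σ l = ρ l
    · rw [hk]
    · rw [if_neg hk] at h1
      exact absurd h1.symm (sg_ne_zero F _)
  refine ⟨?_, hσ⟩
  funext k
  have h1 := mon_apply F ε σ k (σ⁻¹ k)
  rw [h, mon_apply, ← hσ] at h1
  simp at h1
  exact (sg_injective F h2 h1).symm

/-! ### the `2`-group -/

/-- `(0 2)(1 3)` -/
def tau : Equiv.Perm (Fin 7) := Equiv.swap 0 2 * Equiv.swap 1 3

/-- `(0 1)(4 5)` -/
def tau2 : Equiv.Perm (Fin 7) := Equiv.swap 0 1 * Equiv.swap 4 5

/-- a Sylow `2`-subgroup of `A₇` -/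
def P0 : Subgroup (Equiv.Perm (Fin 7)) := Subgroup.closure {tau, tau2}

/-- the `2`-group `S0 = 2⁶ : P0` of monomial isometries -/
noncomputable def S0 : Subgroup (Cfsg.isometryGroup F ⇑(Q7 F)) where
  carrier := {x | ∃ (ε : Fin 7 → ℤˣ) (σ : Equiv.Perm (Fin 7)), ∏ i, ε i = 1 ∧ σ ∈ P0 ∧
    x = dg F ε * pm F σ}
  one_mem' := ⟨1, 1, by simp, Subgroup.one_mem _, by simp⟩
  mul_mem' := by
    rintro _ _ ⟨ε, σ, hε, hσ, rfl⟩ ⟨δ, ρ, hδ, hρ, rfl⟩
    refine ⟨ε * (fun i => δ (σ⁻¹ i)), σ * ρ, ?_, Subgroup.mul_mem _ hσ hρ, ?_⟩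
    · rw [Finset.prod_congr rfl (fun i _ => Pi.mul_apply ε _ i), Finset.prod_mul_distrib, hε, one_mul]
      rw [Equiv.prod_comp σ⁻¹ δ, hδ]
    · rw [map_mul, map_mul, mul_assoc, ← mul_assoc (pm F σ), pm_mul_dg]
      simp only [mul_assoc]
  inv_mem' := by
    rintro _ ⟨ε, σ, hε, hσ, rfl⟩
    refine ⟨fun i => ε (σ i), σ⁻¹, ?_, Subgroup.inv_mem _ hσ, ?_⟩
    · rw [Equiv.prod_comp σ ε, hε]
    · rw [_root_.mul_inv_rev, dg_inv, ← map_inv, pm_mul_dg]
      simp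

theorem mem_S0 {x : Cfsg.isometryGroup F ⇑(Q7 F)} :
    x ∈ S0 F ↔ ∃ (ε : Fin 7 → ℤˣ) (σ : Equiv.Perm (Fin 7)), ∏ i, ε i = 1 ∧ σ ∈ P0 ∧
      x = dg F ε * pm F σ := Iff.rfl

theorem dg_mem_S0 {ε : Fin 7 → ℤˣ} (hε : ∏ i, ε i = 1) : dg F ε ∈ S0 F :=
  ⟨ε, 1, hε, Subgroup.one_mem _, by simp⟩

theorem pm_mem_S0 {σ : Equiv.Perm (Fin 7)} (hσ : σ ∈ P0) : pm F σ ∈ S0 F :=
  ⟨1, σ, by simp, hσ, by simp⟩

/-- the central sign vectors `(s,s,s,s,t,t,1)` -/
def cvec (s t : ℤˣ) : Fin 7 → ℤˣ := ![s, s, s, s, t, t, 1]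

end Cfsg.Agent.Helper43.O7
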