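import Cfsg.Agent.Helper43.O7Orth

set_option autoImplicit false

namespace Cfsg.Agent.Helper43.O7

open Matrix Cfsg.Agent.Helper44

variable {F : Type*} [Field F]

/-- L6: an isometry centralizing `-1 ⊕ 1` (on the first six coordinates) has last column `± e₆` -/
theorem col_six (h2 : (2 : F) ≠ 0) (g : Cfsg.isometryGroup F ⇑(Q7 F))
    (hg : g * dg F (cvec (-1) (-1)) * g⁻¹ = dg F (cvec (-1) (-1))) :
    ∃ s : ℤˣ, ∀ k, (g.1 : Matrix (Fin 7) (Fin 7) F) k 6 = if k = 6 then sg F s else 0 := by
  have hcomm : g * dg F (cvec (-1) (-1)) = dg F (cvec (-1) (-1)) * g := by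
    have := congrArg (fun x => x * g) hg
    simp only [inv_mul_cancel_right] at this
    exact this
  -- apply both sides to `e₆`
  have hv := congrArg (fun x : Cfsg.isometryGroup F ⇑(Q7 F) =>
    ((x.1 : GL (Fin 7) F) : Matrix (Fin 7) (Fin 7) F) *ᵥ (Pi.single 6 1)) hcomm
  rw [isometryGroup_mul_mulVec, isometryGroup_mul_mulVec, dg_mulVec, dg_mulVec] at hv
  have he : (fun i : Fin 7 => sg F (cvec (-1) (-1) i) * (Pi.single 6 1 : Fin 7 → F) i) =
      Pi.single 6 1 := by
    funext i
    fin_cases i <;> simp [cvec]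
  rw [he, Matrix.mulVec_single_one] at hv
  -- entries off the diagonal vanish
  have h0 : ∀ k : Fin 7, k ≠ 6 → (g.1 : Matrix (Fin 7) (Fin 7) F) k 6 = 0 := by
    intro k hk
    have h1 := congrFun hv k
    simp only [Matrix.col_apply] at h1
    have h3 : sg F (cvec (-1) (-1) k) = -1 := by
      revert hk
      fin_cases k <;> simp [cvec]
    rw [h3] at h1
    have h4 : 2 * (g.1 : Matrix (Fin 7) (Fin 7) F) k 6 = 0 := by linear_combination h1
    rcases mul_eq_zero.1 h4 with h5 | h5
    · exact absurd h5 h2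
    · exact h5
  -- the diagonal entry squares to one
  have h1 := congrFun (congrFun (transpose_mul_self h2 g) 6) 6
  rw [Matrix.mul_apply, Matrix.one_apply_eq, Finset.sum_eq_single 6] at h1
  · rw [Matrix.transpose_apply] at h1
    have h3 : ((g.1 : Matrix (Fin 7) (Fin 7) F) 6 6 - 1) * ((g.1 : Matrix (Fin 7) (Fin 7) F) 6 6 + 1) = 0 := by
      linear_combination h1
    rcases mul_eq_zero.1 h3 with h4 | h4
    · refine ⟨1, fun k => ?_⟩
      by_cases hk : k = 6
      · rw [if_pos hk, hk, sg_one]
        linear_combination h4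
      · rw [if_neg hk]
        exact h0 k hk
    · refine ⟨-1, fun k => ?_⟩
      by_cases hk : k = 6
      · rw [if_pos hk, hk, sg_neg_one]
        linear_combination h4
      · rw [if_neg hk]
        exact h0 k hk
  · intro b _ hb
    rw [Matrix.transpose_apply, h0 b hb, mul_zero]
  · intro h
    exact absurd (Finset.mem_univ _) h

end Cfsg.Agent.Helper43.O7
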