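import Mathlib
import Cfsg.Agent.Helper43.SylMatA

/-!
# Sign and permutation isometries of the model forms
-/

set_option autoImplicit false
set_option linter.unusedSectionVars false
set_option linter.unusedVariables false

namespace Cfsg.Agent.Helper43.Syl

open Matrix Cfsg.Agent.Helper44

variable {F : Type*} [Field F] {k j : ℕ}

/-! ### sign matrices -/

/-- the matrix acting as the identity on the planes and diagonally on the lines -/
def zMat (k : ℕ) (s : Fin j → F) : Matrix (Idx k j) (Idx k j) F :=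
  fromBlocks 1 0 0 (diagonal s)

theorem zMat_mul (s t : Fin j → F) : zMat k (s * t) = zMat k s * zMat k t := by
  unfold zMat
  rw [fromBlocks_multiply]
  simp only [Matrix.mul_zero, Matrix.zero_mul, add_zero, zero_add, Matrix.mul_one]
  rw [diagonal_mul_diagonal]
  rfl

theorem zMat_one : zMat k (1 : Fin j → F) = 1 := by
  unfold zMat
  rw [← fromBlocks_one]
  congr 1

theorem det_zMat (s : Fin j → F) : (zMat k s).det = ∏ i, s i := by
  unfold zMat
  rw [det_fromBlocks_zero₂₁, det_one, one_mul, det_diagonal]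

theorem pl_zMat_mulVec (s : Fin j → F) (v : Idx k j → F) (p : Fin k) :
    pl (zMat k s *ᵥ v) p = pl v p := by
  funext a
  unfold zMat pl
  rw [fromBlocks_mulVec]
  simp

theorem ln_zMat_mulVec (s : Fin j → F) (v : Idx k j → F) (i : Fin j) :
    ln (zMat k s *ᵥ v) i = s i * ln v i := by
  unfold zMat ln
  rw [fromBlocks_mulVec]
  simp [mulVec_diagonal]

/-- `zMat` as a monoid homomorphism -/
def zMatHom (k j : ℕ) (F : Type*) [Field F] : (Fin j → F) →* Matrix (Idx k j) (Idx k j) F where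
  toFun := zMat k
  map_one' := zMat_one
  map_mul' := zMat_mul

/-- the sign homomorphism on general linear groups -/
def zGL (k j : ℕ) (F : Type*) [Field F] : (Fin j → Fˣ) →* GL (Idx k j) F :=
  (Units.map (zMatHom k j F)).comp MulEquiv.piUnits.symm.toMonoidHom

theorem zGL_coe (s : Fin j → Fˣ) :
    ((zGL k j F s : GL (Idx k j) F) : Matrix (Idx k j) (Idx k j) F) =
      zMat k (fun i => ((s i : Fˣ) : F)) := rfl

/-- an integer sign in the field -/
def sgn (F : Type*) [Field F] : ℤˣ →* Fˣ := Units.map (Int.castRingHom F).toMonoidHom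

theorem sgn_mul_self (s : ℤˣ) : ((sgn F s : Fˣ) : F) * ((sgn F s : Fˣ) : F) = 1 := by
  rw [← Units.val_mul, ← map_mul, Int.units_mul_self, map_one, Units.val_one]

theorem sgn_neg_one : ((sgn F (-1) : Fˣ) : F) = -1 := by
  simp [sgn]

theorem sgn_one : ((sgn F 1 : Fˣ) : F) = 1 := by
  simp [sgn]

theorem sgn_injective (h2 : (2 : F) ≠ 0) : Function.Injective (sgn F) := by
  intro s t h
  have h' : ((sgn F s : Fˣ) : F) = ((sgn F t : Fˣ) : F) := by rw [h]
  rcases Int.units_eq_one_or s with rfl | rfl <;> rcases Int.units_eq_one_or t with rfl | rfl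
  · rfl
  · exfalso
    rw [sgn_one, sgn_neg_one] at h'
    apply h2
    linear_combination h'
  · exfalso
    rw [sgn_one, sgn_neg_one] at h'
    apply h2
    linear_combination -h'
  · rfl

/-- the sign homomorphism on isometry groups -/
def zHom (k j : ℕ) (γ : Fin j → F) :
    (Fin j → ℤˣ) →* Cfsg.isometryGroup F ⇑(mForm k j γ) where
  toFun s := ⟨zGL k j F (fun i => sgn F (s i)), by
    rw [Cfsg.Agent.Helper13.mem_isometryGroup_iff]
    intro v
    rw [mForm_eq, mForm_eq, zGL_coe]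
    congr 1
    · apply Finset.sum_congr rfl
      intro p _
      rw [pl_zMat_mulVec]
    · apply Finset.sum_congr rfl
      intro i _
      rw [ln_zMat_mulVec]
      linear_combination (γ i * (ln v i * ln v i)) * sgn_mul_self (F := F) (s i)⟩
  map_one' := by
    apply Subtype.ext
    have : (fun i : Fin j => sgn F ((1 : Fin j → ℤˣ) i)) = 1 := by
      funext i
      simp
    show zGL k j F (fun i => sgn F ((1 : Fin j → ℤˣ) i)) = 1
    rw [this, map_one]
  map_mul' s t := by
    apply Subtype.ext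
    have : (fun i : Fin j => sgn F ((s * t) i)) = (fun i => sgn F (s i)) * (fun i => sgn F (t i)) := by
      funext i
      simp
    show zGL k j F (fun i => sgn F ((s * t) i)) = _
    rw [this, map_mul]
    rfl

theorem pl_zHom (γ : Fin j → F) (s : Fin j → ℤˣ) (v : Idx k j → F) (p : Fin k) :
    pl (((zHom k j γ s).1 : Matrix (Idx k j) (Idx k j) F) *ᵥ v) p = pl v p :=
  pl_zMat_mulVec _ v p

theorem ln_zHom (γ : Fin j → F) (s : Fin j → ℤˣ) (v : Idx k j → F) (i : Fin j) :
    ln (((zHom k j γ s).1 : Matrix (Idx k j) (Idx k j) F) *ᵥ v) i =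
      ((sgn F (s i) : Fˣ) : F) * ln v i :=
  ln_zMat_mulVec _ v i

theorem det_zHom (γ : Fin j → F) (s : Fin j → ℤˣ) :
    ((zHom k j γ s).1 : Matrix (Idx k j) (Idx k j) F).det = ∏ i, ((sgn F (s i) : Fˣ) : F) :=
  det_zMat _

/-! ### permutation isometries -/

/-- the permutation of the index set moving the two rows of the planes by `τ 0` and `τ 1` -/
def pgPerm (j : ℕ) (τ : Fin 2 → Equiv.Perm (Fin k)) : Equiv.Perm (Idx k j) :=
  Equiv.sumCongr (Equiv.prodCongrRight τ) (Equiv.refl _)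

theorem pgPerm_symm_inl (τ : Fin 2 → Equiv.Perm (Fin k)) (a : Fin 2) (p : Fin k) :
    (pgPerm j τ).symm (Sum.inl (a, p)) = Sum.inl (a, (τ a).symm p) := rfl

theorem pgPerm_symm_inr (τ : Fin 2 → Equiv.Perm (Fin k)) (i : Fin j) :
    (pgPerm j τ).symm (Sum.inr i) = Sum.inr i := rfl

theorem wt_pgPerm_symm (γ : Fin j → F) (τ : Fin 2 → Equiv.Perm (Fin k)) (i : Idx k j) :
    wt k j γ ((pgPerm j τ).symm i) = wt k j γ i := by
  rcases i with ⟨a, p⟩ | i <;> rfl

/-- the permutation isometry -/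
noncomputable def pgIso (γ : Fin j → F) (τ : Fin 2 → Equiv.Perm (Fin k)) :
    Cfsg.isometryGroup F ⇑(mForm k j γ) :=
  ofLin ⇑(mForm k j γ) (LinearEquiv.funCongrLeft F F (pgPerm j τ).symm) (fun v => by
    rw [mForm_apply, mForm_apply]
    rw [← Equiv.sum_comp (pgPerm j τ)]
    apply Finset.sum_congr rfl
    intro i _
    have h := wt_pgPerm_symm γ τ (pgPerm j τ i)
    rw [Equiv.symm_apply_apply] at h
    rw [← h]
    simp [LinearEquiv.funCongrLeft_apply, LinearMap.funLeft_apply])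

theorem pgIso_mulVec (γ : Fin j → F) (τ : Fin 2 → Equiv.Perm (Fin k)) (v : Idx k j → F)
    (i : Idx k j) :
    (((pgIso γ τ).1 : Matrix (Idx k j) (Idx k j) F) *ᵥ v) i = v ((pgPerm j τ).symm i) := by
  unfold pgIso
  rw [ofLin_mulVec]
  rfl

theorem pl_pgIso (γ : Fin j → F) (τ : Fin 2 → Equiv.Perm (Fin k)) (v : Idx k j → F) (p : Fin k)
    (a : Fin 2) :
    pl (((pgIso γ τ).1 : Matrix (Idx k j) (Idx k j) F) *ᵥ v) p a = pl v ((τ a).symm p) a := by
  unfold pl
  rw [pgIso_mulVec, pgPerm_symm_inl]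

theorem ln_pgIso (γ : Fin j → F) (τ : Fin 2 → Equiv.Perm (Fin k)) (v : Idx k j → F) :
    ln (((pgIso γ τ).1 : Matrix (Idx k j) (Idx k j) F) *ᵥ v) = ln v := by
  funext i
  unfold ln
  rw [pgIso_mulVec, pgPerm_symm_inr]

/-- the permutation isometries as a homomorphism -/
noncomputable def pgHom (k j : ℕ) (γ : Fin j → F) :
    (Fin 2 → Equiv.Perm (Fin k)) →* Cfsg.isometryGroup F ⇑(mForm k j γ) where
  toFun := pgIso γ
  map_one' := by
    apply isometryGroup_ext
    intro v
    rw [isometryGroup_one_mulVec]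
    funext i
    rw [pgIso_mulVec]
    rcases i with ⟨a, p⟩ | i <;> rfl
  map_mul' τ τ' := by
    apply isometryGroup_ext
    intro v
    rw [isometryGroup_mul_mulVec]
    funext i
    rw [pgIso_mulVec, pgIso_mulVec, pgIso_mulVec]
    rcases i with ⟨a, p⟩ | i <;> rfl

theorem pl_pgHom (γ : Fin j → F) (τ : Fin 2 → Equiv.Perm (Fin k)) (v : Idx k j → F) (p : Fin k)
    (a : Fin 2) :
    pl (((pgHom k j γ τ).1 : Matrix (Idx k j) (Idx k j) F) *ᵥ v) p a = pl v ((τ a).symm p) a :=
  pl_pgIso γ τ v p a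

theorem ln_pgHom (γ : Fin j → F) (τ : Fin 2 → Equiv.Perm (Fin k)) (v : Idx k j → F) :
    ln (((pgHom k j γ τ).1 : Matrix (Idx k j) (Idx k j) F) *ᵥ v) = ln v :=
  ln_pgIso γ τ v

/-- the plane permutations -/
noncomputable def pHom (k j : ℕ) (γ : Fin j → F) :
    Equiv.Perm (Fin k) →* Cfsg.isometryGroup F ⇑(mForm k j γ) :=
  (pgHom k j γ).comp ⟨⟨fun σ _ => σ, rfl⟩, fun _ _ => rfl⟩

theorem pHom_eq (γ : Fin j → F) (σ : Equiv.Perm (Fin k)) :
    pHom k j γ σ = pgHom k j γ (fun _ => σ) := rfl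

theorem pl_pHom (γ : Fin j → F) (σ : Equiv.Perm (Fin k)) (v : Idx k j → F) (p : Fin k) :
    pl (((pHom k j γ σ).1 : Matrix (Idx k j) (Idx k j) F) *ᵥ v) p = pl v (σ.symm p) := by
  funext a
  rw [pHom_eq, pl_pgHom]

theorem ln_pHom (γ : Fin j → F) (σ : Equiv.Perm (Fin k)) (v : Idx k j → F) :
    ln (((pHom k j γ σ).1 : Matrix (Idx k j) (Idx k j) F) *ᵥ v) = ln v :=
  ln_pgHom γ _ v

end Cfsg.Agent.Helper43.Syl
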