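import Mathlib
import Cfsg.Agent.Helper43.SylMatB

/-!
# Relations between the block, sign and permutation isometries
-/

set_option autoImplicit false
set_option linter.unusedSectionVars false
set_option linter.unusedVariables false

namespace Cfsg.Agent.Helper43.Syl

open Matrix Cfsg.Agent.Helper44

variable {F : Type*} [Field F] {k j : ℕ}

theorem iso_ext_pl_ln (γ : Fin j → F) {x y : Cfsg.isometryGroup F ⇑(mForm k j γ)}
    (h1 : ∀ v p, pl ((x.1 : Matrix (Idx k j) (Idx k j) F) *ᵥ v) p =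
      pl ((y.1 : Matrix (Idx k j) (Idx k j) F) *ᵥ v) p)
    (h2 : ∀ v, ln ((x.1 : Matrix (Idx k j) (Idx k j) F) *ᵥ v) =
      ln ((y.1 : Matrix (Idx k j) (Idx k j) F) *ᵥ v)) : x = y :=
  isometryGroup_ext (fun v => ext_pl_ln (h1 v) (h2 v))

theorem pHom_mul_bHom (γ : Fin j → F) (σ : Equiv.Perm (Fin k))
    (g : Fin k → Cfsg.isometryGroup F ⇑(E2 F)) :
    pHom k j γ σ * bHom k j γ g = bHom k j γ (fun p => g (σ.symm p)) * pHom k j γ σ := by
  apply iso_ext_pl_ln
  · intro v p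
    rw [isometryGroup_mul_mulVec, isometryGroup_mul_mulVec, pl_pHom, pl_bHom, pl_bHom, pl_pHom]
  · intro v
    rw [isometryGroup_mul_mulVec, isometryGroup_mul_mulVec, ln_pHom, ln_bHom, ln_bHom, ln_pHom]

theorem zHom_mul_bHom (γ : Fin j → F) (s : Fin j → ℤˣ)
    (g : Fin k → Cfsg.isometryGroup F ⇑(E2 F)) :
    zHom k j γ s * bHom k j γ g = bHom k j γ g * zHom k j γ s := by
  apply iso_ext_pl_ln
  · intro v p
    rw [isometryGroup_mul_mulVec, isometryGroup_mul_mulVec, pl_zHom, pl_bHom, pl_bHom, pl_zHom]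
  · intro v
    funext i
    rw [isometryGroup_mul_mulVec, isometryGroup_mul_mulVec, ln_zHom, ln_bHom, ln_bHom, ln_zHom]

theorem zHom_mul_pgHom (γ : Fin j → F) (s : Fin j → ℤˣ) (τ : Fin 2 → Equiv.Perm (Fin k)) :
    zHom k j γ s * pgHom k j γ τ = pgHom k j γ τ * zHom k j γ s := by
  apply iso_ext_pl_ln
  · intro v p
    funext a
    rw [isometryGroup_mul_mulVec, isometryGroup_mul_mulVec, pl_zHom, pl_pgHom, pl_pgHom, pl_zHom]
  · intro v
    funext i
    rw [isometryGroup_mul_mulVec, isometryGroup_mul_mulVec, ln_zHom, ln_pgHom, ln_pgHom, ln_zHom]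

theorem zHom_mul_pHom (γ : Fin j → F) (s : Fin j → ℤˣ) (σ : Equiv.Perm (Fin k)) :
    zHom k j γ s * pHom k j γ σ = pHom k j γ σ * zHom k j γ s :=
  zHom_mul_pgHom γ s _

/-! ### the coordinate flip of the plane -/

/-- the coordinate flip of the Euclidean plane -/
noncomputable def flip (F : Type*) [Field F] : Cfsg.isometryGroup F ⇑(E2 F) :=
  ofLin ⇑(E2 F) (LinearEquiv.funCongrLeft F F (Equiv.swap (0 : Fin 2) 1)) (fun v => by
    rw [E2_apply, E2_apply]
    simp only [LinearEquiv.funCongrLeft_apply, LinearMap.funLeft_apply, Equiv.swap_apply_left,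
      Equiv.swap_apply_right]
    ring)

theorem flip_mulVec (w : Fin 2 → F) (a : Fin 2) :
    (((flip F).1 : Matrix (Fin 2) (Fin 2) F) *ᵥ w) a = w (Equiv.swap (0 : Fin 2) 1 a) := by
  unfold flip
  rw [ofLin_mulVec]
  rfl

theorem flip_mul_pgHom (γ : Fin j → F) (τ : Fin 2 → Equiv.Perm (Fin k)) :
    bHom k j γ (fun _ => flip F) * pgHom k j γ τ =
      pgHom k j γ (fun a => τ (Equiv.swap (0 : Fin 2) 1 a)) * bHom k j γ (fun _ => flip F) := by
  apply iso_ext_pl_ln
  · intro v p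
    funext a
    rw [isometryGroup_mul_mulVec, isometryGroup_mul_mulVec, pl_bHom, flip_mulVec, pl_pgHom,
      pl_pgHom, pl_bHom, flip_mulVec]
  · intro v
    rw [isometryGroup_mul_mulVec, isometryGroup_mul_mulVec, ln_bHom, ln_pgHom, ln_pgHom, ln_bHom]

/-- every character with values in a group of exponent two kills the plane permutations -/
theorem hom_pHom_eq_one {A : Type*} [CommGroup A] (hA : ∀ a : A, a * a = 1) (γ : Fin j → F)
    (θ : Cfsg.isometryGroup F ⇑(mForm k j γ) →* A) (σ : Equiv.Perm (Fin k)) :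
    θ (pHom k j γ σ) = 1 := by
  have h1 : (fun _ : Fin 2 => σ) = Pi.mulSingle 0 σ * Pi.mulSingle 1 σ := by
    funext a
    fin_cases a <;> simp [Pi.mulSingle_apply]
  have h2 : (fun a : Fin 2 => (Pi.mulSingle 0 σ : Fin 2 → Equiv.Perm (Fin k))
      (Equiv.swap (0 : Fin 2) 1 a)) = Pi.mulSingle 1 σ := by
    funext a
    fin_cases a <;> simp [Pi.mulSingle_apply]
  have h3 := congrArg θ (flip_mul_pgHom γ (Pi.mulSingle 0 σ : Fin 2 → Equiv.Perm (Fin k)))
  rw [map_mul, map_mul, h2, mul_comm] at h3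
  have h4 : θ (pgHom k j γ (Pi.mulSingle 0 σ)) = θ (pgHom k j γ (Pi.mulSingle 1 σ)) :=
    mul_right_cancel h3
  rw [pHom_eq, h1, map_mul, map_mul, h4]
  exact hA _

end Cfsg.Agent.Helper43.Syl
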