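import Mathlib
import Cfsg.Agent.Helper43.SylMatC

/-!
# The subgroup `(D wr T) × {±1}^j` of the isometry group of the model form
-/

set_option autoImplicit false
set_option linter.unusedSectionVars false
set_option linter.unusedVariables false

namespace Cfsg.Agent.Helper43.Syl

open Matrix Cfsg.Agent.Helper44

/-! ### a generic semidirect product subgroup -/

section generic

variable {N T G : Type*} [Group N] [Group T] [Group G]

/-- the subgroup of products `f n * h t` -/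
def sdSub (f : N →* G) (h : T →* G) (act : T → N → N)
    (hact : ∀ t n, h t * f n = f (act t n) * h t) : Subgroup G where
  carrier := {x | ∃ n t, x = f n * h t}
  mul_mem' := by
    rintro _ _ ⟨n, t, rfl⟩ ⟨n', t', rfl⟩
    refine ⟨n * act t n', t * t', ?_⟩
    rw [map_mul, map_mul, mul_assoc, ← mul_assoc (h t), hact]
    simp only [mul_assoc]
  one_mem' := ⟨1, 1, by simp⟩
  inv_mem' := by
    rintro _ ⟨n, t, rfl⟩
    refine ⟨act t⁻¹ n⁻¹, t⁻¹, ?_⟩
    rw [← hact, _root_.mul_inv_rev, map_inv, map_inv]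

theorem mem_sdSub {f : N →* G} {h : T →* G} {act : T → N → N}
    {hact : ∀ t n, h t * f n = f (act t n) * h t} {x : G} :
    x ∈ sdSub f h act hact ↔ ∃ n t, x = f n * h t := Iff.rfl

theorem card_sdSub (f : N →* G) (h : T →* G) (act : T → N → N)
    (hact : ∀ t n, h t * f n = f (act t n) * h t)
    (hinj : ∀ n n' t t', f n * h t = f n' * h t' → n = n' ∧ t = t') :
    Nat.card (sdSub f h act hact) = Nat.card N * Nat.card T := by
  rw [← Nat.card_prod]
  symm
  apply Nat.card_congr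
  refine Equiv.ofBijective (fun x : N × T => ⟨f x.1 * h x.2, x.1, x.2, rfl⟩) ⟨?_, ?_⟩
  · rintro ⟨n, t⟩ ⟨n', t'⟩ hx
    have h' : f n * h t = f n' * h t' := congrArg Subtype.val hx
    obtain ⟨rfl, rfl⟩ := hinj _ _ _ _ h'
    rfl
  · rintro ⟨g, n, t, rfl⟩
    exact ⟨⟨n, t⟩, rfl⟩

end generic

variable {F : Type*} [Field F] {k j : ℕ}

/-! ### the normal part -/

/-- blocks from a subgroup `D` of the plane group, and signs -/
noncomputable def nHom (γ : Fin j → F) (D : Subgroup (Cfsg.isometryGroup F ⇑(E2 F))) :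
    (Fin k → D) × (Fin j → ℤˣ) →* Cfsg.isometryGroup F ⇑(mForm k j γ) :=
  MonoidHom.noncommCoprod
    ((bHom k j γ).comp (Pi.monoidHom (fun p => (D.subtype).comp (Pi.evalMonoidHom _ p))))
    (zHom k j γ) (fun g s => (zHom_mul_bHom γ s _).symm)

theorem nHom_apply (γ : Fin j → F) (D : Subgroup (Cfsg.isometryGroup F ⇑(E2 F)))
    (n : (Fin k → D) × (Fin j → ℤˣ)) :
    nHom γ D n = bHom k j γ (fun p => (n.1 p).1) * zHom k j γ n.2 := rfl

/-- the action of the plane permutations on the normal part -/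
def nAct (D : Subgroup (Cfsg.isometryGroup F ⇑(E2 F))) (T : Subgroup (Equiv.Perm (Fin k)))
    (σ : T) (n : (Fin k → D) × (Fin j → ℤˣ)) : (Fin k → D) × (Fin j → ℤˣ) :=
  (fun p => n.1 (σ.1.symm p), n.2)

theorem pHom_mul_nHom (γ : Fin j → F) (D : Subgroup (Cfsg.isometryGroup F ⇑(E2 F)))
    (T : Subgroup (Equiv.Perm (Fin k))) (σ : T) (n : (Fin k → D) × (Fin j → ℤˣ)) :
    ((pHom k j γ).comp T.subtype) σ * nHom γ D n =
      nHom γ D (nAct D T σ n) * ((pHom k j γ).comp T.subtype) σ := by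
  show pHom k j γ σ.1 * nHom γ D n = nHom γ D (nAct D T σ n) * pHom k j γ σ.1
  rw [nHom_apply, nHom_apply, ← mul_assoc, pHom_mul_bHom, mul_assoc, mul_assoc, zHom_mul_pHom]
  rfl

/-- the subgroup `(D wr T) × {±1}^j` -/
noncomputable def SS (γ : Fin j → F) (D : Subgroup (Cfsg.isometryGroup F ⇑(E2 F)))
    (T : Subgroup (Equiv.Perm (Fin k))) : Subgroup (Cfsg.isometryGroup F ⇑(mForm k j γ)) :=
  sdSub (nHom γ D) ((pHom k j γ).comp T.subtype) (nAct D T) (pHom_mul_nHom γ D T)

theorem mem_SS (γ : Fin j → F) (D : Subgroup (Cfsg.isometryGroup F ⇑(E2 F)))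
    (T : Subgroup (Equiv.Perm (Fin k))) (x : Cfsg.isometryGroup F ⇑(mForm k j γ)) :
    x ∈ SS γ D T ↔ ∃ (n : (Fin k → D) × (Fin j → ℤˣ)) (σ : T), x = nHom γ D n * pHom k j γ σ.1 :=
  Iff.rfl

/-! ### the action of a word on vectors -/

theorem pl_word (γ : Fin j → F) (D : Subgroup (Cfsg.isometryGroup F ⇑(E2 F)))
    (n : (Fin k → D) × (Fin j → ℤˣ)) (σ : Equiv.Perm (Fin k)) (v : Idx k j → F) (p : Fin k) :
    pl (((nHom γ D n * pHom k j γ σ).1 : Matrix (Idx k j) (Idx k j) F) *ᵥ v) p =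
      (((n.1 p).1).1 : Matrix (Fin 2) (Fin 2) F) *ᵥ pl v (σ.symm p) := by
  rw [nHom_apply, isometryGroup_mul_mulVec, isometryGroup_mul_mulVec, pl_bHom, pl_zHom, pl_pHom]

theorem ln_word (γ : Fin j → F) (D : Subgroup (Cfsg.isometryGroup F ⇑(E2 F)))
    (n : (Fin k → D) × (Fin j → ℤˣ)) (σ : Equiv.Perm (Fin k)) (v : Idx k j → F) (i : Fin j) :
    ln (((nHom γ D n * pHom k j γ σ).1 : Matrix (Idx k j) (Idx k j) F) *ᵥ v) i =
      ((sgn F (n.2 i) : Fˣ) : F) * ln v i := by
  rw [nHom_apply, isometryGroup_mul_mulVec, isometryGroup_mul_mulVec, ln_bHom, ln_zHom, ln_pHom]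

theorem E2_mulVec_eq_zero (g : Cfsg.isometryGroup F ⇑(E2 F)) {w : Fin 2 → F}
    (h : (g.1 : Matrix (Fin 2) (Fin 2) F) *ᵥ w = 0) : w = 0 := by
  have h1 := isometryGroup_mul_mulVec g⁻¹ g w
  rw [inv_mul_cancel, isometryGroup_one_mulVec, h, Matrix.mulVec_zero] at h1
  exact h1

/-- the vector with all coordinates of the plane `q` equal to `w` and all others zero -/
def planeVec (k j : ℕ) (q : Fin k) (w : Fin 2 → F) : Idx k j → F :=
  Sum.elim (fun ap => if ap.2 = q then w ap.1 else 0) (fun _ => 0)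

theorem pl_planeVec_self (q : Fin k) (w : Fin 2 → F) : pl (planeVec k j q w) q = w := by
  funext a
  simp [pl, planeVec]

theorem pl_planeVec_of_ne (q : Fin k) (w : Fin 2 → F) {p : Fin k} (h : p ≠ q) :
    pl (planeVec k j q w) p = 0 := by
  funext a
  simp [pl, planeVec, h]

theorem word_inj (h2 : (2 : F) ≠ 0) (γ : Fin j → F)
    (D : Subgroup (Cfsg.isometryGroup F ⇑(E2 F)))
    (n n' : (Fin k → D) × (Fin j → ℤˣ)) (σ σ' : Equiv.Perm (Fin k))
    (h : nHom γ D n * pHom k j γ σ = nHom γ D n' * pHom k j γ σ') : n = n' ∧ σ = σ' := by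
  have hs : n.2 = n'.2 := by
    funext i
    apply sgn_injective h2
    apply Units.ext
    have h1 := ln_word γ D n σ (fun _ => 1) i
    rw [h, ln_word] at h1
    simpa [ln] using h1.symm
  have hσ : σ = σ' := by
    have hsymm : σ.symm = σ'.symm := by
      ext p
      by_contra hne
      have hne' : σ'.symm p ≠ σ.symm p := fun e => hne (by rw [e])
      have h1 := pl_word γ D n σ (planeVec k j (σ.symm p) (fun _ => 1)) p
      rw [h, pl_word, pl_planeVec_self, pl_planeVec_of_ne _ _ hne', Matrix.mulVec_zero] at h1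
      have h3 := E2_mulVec_eq_zero _ h1.symm
      have h4 := congrFun h3 0
      simp at h4
    have := congrArg Equiv.symm hsymm
    simpa using this
  subst hσ
  refine ⟨?_, rfl⟩
  apply Prod.ext _ hs
  funext p
  apply Subtype.ext
  apply isometryGroup_ext
  intro w
  have h1 := pl_word γ D n σ (planeVec k j (σ.symm p) w) p
  rw [h, pl_word, pl_planeVec_self] at h1
  exact h1.symm

theorem card_SS [Finite F] (h2 : (2 : F) ≠ 0) (γ : Fin j → F)
    (D : Subgroup (Cfsg.isometryGroup F ⇑(E2 F))) (T : Subgroup (Equiv.Perm (Fin k))) :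
    Nat.card (SS γ D T) = Nat.card D ^ k * 2 ^ j * Nat.card T := by
  unfold SS
  rw [card_sdSub]
  · rw [Nat.card_prod, Nat.card_fun, Nat.card_fun]
    simp
  · intro n n' t t' h
    obtain ⟨h1, h3⟩ := word_inj h2 γ D n n' t.1 t'.1 h
    exact ⟨h1, Subtype.ext h3⟩

end Cfsg.Agent.Helper43.Syl
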