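import Mathlib
import Cfsg.Agent.Helper43.SylMatD
import Cfsg.Agent.Helper44.PsoInn
import Cfsg.Agent.Helper42.SylowEA

/-!
# The subgroup `SS` as a group: generators and their spinor values
-/

set_option autoImplicit false
set_option linter.unusedSectionVars false
set_option linter.unusedVariables false

namespace Cfsg.Agent.Helper43.Syl

open Matrix Cfsg.Agent.Helper44 Cfsg.Agent.Helper42

/-! ### values of `omegaChar` on isometries of determinant `-1` -/

section general

variable {F : Type*} [Field F] [Fintype F] {ι : Type} [Fintype ι] [DecidableEq ι]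

theorem omegaChar_of_det_neg_one (h2 : (2 : F) ≠ 0) (Q : QuadraticForm F (ι → F))
    (hQ : (QuadraticMap.polarBilin Q).Nondegenerate) {c : F} (hc : ¬ IsSquare c)
    (x : Cfsg.isometryGroup F ⇑Q) (hdet : ((x.1 : GL ι F) : Matrix ι ι F).det = -1) :
    omegaChar Q c x = (-1, 1) ∨ omegaChar Q c x = (-1, -1) := by
  have h1 : parityChar Q c x ≠ 1 := by
    intro h
    rw [parityChar_eq_one_iff_det Q h2 hQ hc] at h
    have h3 : ((detHom ⇑Q x : Fˣ) : F) = 1 := by rw [h]; rfl
    have h4 : ((detHom ⇑Q x : Fˣ) : F) = ((x.1 : GL ι F) : Matrix ι ι F).det := rfl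
    rw [h4, hdet] at h3
    apply h2
    linear_combination -h3
  have h5 : parityChar Q c x = -1 := (Int.units_eq_one_or _).resolve_left h1
  rw [omegaChar, MonoidHom.prod_apply, h5]
  rcases Int.units_eq_one_or (signChar (⇑Q) c x) with h | h
  · left; rw [h]
  · right; rw [h]

theorem omegaChar_mul_self (Q : QuadraticForm F (ι → F)) (c : F) (x : Cfsg.isometryGroup F ⇑Q) :
    omegaChar Q c x * omegaChar Q c x = 1 :=
  Prod.ext (Int.units_mul_self _) (Int.units_mul_self _)

theorem omegaChar_conj (Q : QuadraticForm F (ι → F)) (c : F) (x y : Cfsg.isometryGroup F ⇑Q) :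
    omegaChar Q c (y * x * y⁻¹) = omegaChar Q c x := by
  rw [map_mul, map_mul, map_inv, mul_comm, ← mul_assoc, inv_mul_cancel, one_mul]

end general

variable {F : Type*} [Field F] {k j : ℕ}

/-! ### the normal part: special elements -/

section npart

variable (D : Subgroup (Cfsg.isometryGroup F ⇑(E2 F)))

/-- a single block -/
noncomputable def bN (j : ℕ) (p : Fin k) (d : D) : (Fin k → D) × (Fin j → ℤˣ) := (Pi.mulSingle p d, 1)

/-- a single sign -/
noncomputable def zN (k : ℕ) (i : Fin j) : (Fin k → D) × (Fin j → ℤˣ) := (1, Pi.mulSingle i (-1))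

theorem bN_mul (p : Fin k) (d d' : D) : bN D j p (d * d') = bN D j p d * bN D j p d' := by
  unfold bN
  rw [Prod.mk_mul_mk, mul_one, Pi.mulSingle_mul]

theorem bN_one (p : Fin k) : bN D j p 1 = 1 := by
  unfold bN
  rw [Pi.mulSingle_one]
  rfl

/-- `bN` as a homomorphism -/
noncomputable def bNHom (j : ℕ) (p : Fin k) : D →* (Fin k → D) × (Fin j → ℤˣ) where
  toFun := bN D j p
  map_one' := bN_one D p
  map_mul' := bN_mul D p

theorem zN_mul_self (i : Fin j) : zN D k i * zN D k i = 1 := by
  unfold zN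
  rw [Prod.mk_mul_mk, mul_one, ← Pi.mulSingle_mul]
  have : (-1 : ℤˣ) * -1 = 1 := by decide
  rw [this, Pi.mulSingle_one]
  rfl

theorem bN_commute_bN {p p' : Fin k} (h : p ≠ p') (d d' : D) :
    Commute (bN D j p d) (bN D j p' d') := by
  unfold bN
  show _ * _ = _ * _
  have h1 := (Pi.mulSingle_commute (f := fun _ : Fin k => D) h d d').eq
  rw [Prod.mk_mul_mk, Prod.mk_mul_mk, h1]

theorem bN_commute_zN (p : Fin k) (d : D) (i : Fin j) : Commute (bN D j p d) (zN D k i) := by
  unfold bN zN
  show _ * _ = _ * _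
  rw [Prod.mk_mul_mk, Prod.mk_mul_mk, mul_one, one_mul, mul_one, one_mul]

theorem zN_commute_zN (i i' : Fin j) : Commute (zN D k i) (zN D k i') := by
  unfold zN
  show _ * _ = _ * _
  rw [Prod.mk_mul_mk, Prod.mk_mul_mk, mul_comm]

theorem conj_bN (n : (Fin k → D) × (Fin j → ℤˣ)) (p : Fin k) (d : D) :
    n * bN D j p d * n⁻¹ = bN D j p (n.1 p * d * (n.1 p)⁻¹) := by
  unfold bN
  apply Prod.ext
  · funext p'
    by_cases hp : p' = p
    · subst hp
      simp
    · simp [Pi.mulSingle_apply, hp]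
  · simp

theorem conj_zN (n : (Fin k → D) × (Fin j → ℤˣ)) (i : Fin j) :
    n * zN D k i * n⁻¹ = zN D k i := by
  unfold zN
  apply Prod.ext
  · simp
  · show n.2 * Pi.mulSingle i (-1) * n.2⁻¹ = Pi.mulSingle i (-1)
    rw [mul_comm, ← mul_assoc, inv_mul_cancel, one_mul]

theorem nAct_bN (T : Subgroup (Equiv.Perm (Fin k))) (σ : T) (p : Fin k) (d : D) :
    nAct D T σ (bN D j p d) = bN D j (σ.1 p) d := by
  unfold nAct bN
  apply Prod.ext
  · funext p'
    show (Pi.mulSingle p d : Fin k → D) (σ.1.symm p') = (Pi.mulSingle (σ.1 p) d : Fin k → D) p'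
    by_cases hp : p' = σ.1 p
    · subst hp
      simp
    · have : σ.1.symm p' ≠ p := fun e => hp (by rw [← e]; simp)
      simp [Pi.mulSingle_apply, hp, this]
  · rfl

theorem nAct_zN (T : Subgroup (Equiv.Perm (Fin k))) (σ : T) (i : Fin j) :
    nAct D T σ (zN D k i) = zN D k i := rfl

end npart

end Cfsg.Agent.Helper43.Syl
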