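import Mathlib
import Cfsg.Agent.Helper43.SylMatE
import Cfsg.Agent.Helper22.SylWD

/-!
# `SS ∩ Ω` has elementary abelian abelianization
-/

set_option autoImplicit false
set_option linter.unusedSectionVars false
set_option linter.unusedVariables false

namespace Cfsg.Agent.Helper43.Syl

open Matrix Cfsg.Agent.Helper44 Cfsg.Agent.Helper42

variable {F : Type*} [Field F] {k j : ℕ}
variable (γ : Fin j → F) (D : Subgroup (Cfsg.isometryGroup F ⇑(E2 F)))
  (T : Subgroup (Equiv.Perm (Fin k)))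

/-- the normal part inside `SS` -/
noncomputable def fS : (Fin k → D) × (Fin j → ℤˣ) →* SS γ D T :=
  (nHom γ D).codRestrict (SS γ D T) (fun n => ⟨n, 1, by rw [map_one, mul_one]⟩)

/-- the permutation part inside `SS` -/
noncomputable def hS : T →* SS γ D T :=
  ((pHom k j γ).comp T.subtype).codRestrict (SS γ D T) (fun σ => ⟨1, σ, by rw [map_one, one_mul]⟩)

theorem coe_fS (n : (Fin k → D) × (Fin j → ℤˣ)) : (fS γ D T n).1 = nHom γ D n := rfl

theorem coe_hS (σ : T) : (hS γ D T σ).1 = pHom k j γ σ.1 := rfl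

theorem exists_eq_fS_mul_hS (x : SS γ D T) : ∃ n σ, x = fS γ D T n * hS γ D T σ := by
  obtain ⟨x, n, σ, rfl⟩ := x
  exact ⟨n, σ, Subtype.ext rfl⟩

theorem hS_mul_fS (σ : T) (n : (Fin k → D) × (Fin j → ℤˣ)) :
    hS γ D T σ * fS γ D T n = fS γ D T (nAct D T σ n) * hS γ D T σ :=
  Subtype.ext (pHom_mul_nHom γ D T σ n)

theorem conj_fS (n m : (Fin k → D) × (Fin j → ℤˣ)) (σ : T) :
    (fS γ D T n * hS γ D T σ) * fS γ D T m * (fS γ D T n * hS γ D T σ)⁻¹ =
      fS γ D T (n * nAct D T σ m * n⁻¹) := by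
  rw [mul_assoc (fS γ D T n), hS_mul_fS, _root_.mul_inv_rev, map_mul, map_mul, map_inv]
  group

/-- the reflections generating `SS` together with the permutations -/
def RR : Set (SS γ D T) :=
  {x | ∃ (p : Fin k) (d : D),
      ((d.1.1 : GL (Fin 2) F) : Matrix (Fin 2) (Fin 2) F).det = -1 ∧ x = fS γ D T (bN D j p d)} ∪
    {x | ∃ i : Fin j, x = fS γ D T (zN D k i)}

theorem RR_mul_self (hD2 : ∀ g : Cfsg.isometryGroup F ⇑(E2 F),
      ((g.1 : GL (Fin 2) F) : Matrix (Fin 2) (Fin 2) F).det = -1 → g * g = 1) :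
    ∀ r ∈ RR γ D T, r * r = 1 := by
  rintro r (⟨p, d, hd, rfl⟩ | ⟨i, rfl⟩)
  · rw [← map_mul, ← bN_mul]
    have : d * d = 1 := Subtype.ext (hD2 d.1 hd)
    rw [this, bN_one, map_one]
  · rw [← map_mul, zN_mul_self, map_one]

theorem RR_conj : ∀ g r : SS γ D T, r ∈ RR γ D T → g * r * g⁻¹ ∈ RR γ D T := by
  intro g r hr
  obtain ⟨n, σ, rfl⟩ := exists_eq_fS_mul_hS γ D T g
  rcases hr with ⟨p, d, hd, rfl⟩ | ⟨i, rfl⟩
  · left
    rw [conj_fS, nAct_bN, conj_bN]
    refine ⟨σ.1 p, _, ?_, rfl⟩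
    show ((((n.1 (σ.1 p)).1 * d.1 * ((n.1 (σ.1 p)).1)⁻¹ : Cfsg.isometryGroup F ⇑(E2 F)).1 :
      GL (Fin 2) F) : Matrix (Fin 2) (Fin 2) F).det = -1
    have h1 : ((((n.1 (σ.1 p)).1 * d.1 * ((n.1 (σ.1 p)).1)⁻¹ : Cfsg.isometryGroup F ⇑(E2 F)).1 :
        GL (Fin 2) F) : Matrix (Fin 2) (Fin 2) F) =
        (((n.1 (σ.1 p)).1.1 : GL (Fin 2) F) : Matrix (Fin 2) (Fin 2) F) *
          ((d.1.1 : GL (Fin 2) F) : Matrix (Fin 2) (Fin 2) F) *
          (((((n.1 (σ.1 p)).1.1 : GL (Fin 2) F))⁻¹ : GL (Fin 2) F) : Matrix (Fin 2) (Fin 2) F) := rfl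
    rw [h1, Matrix.det_mul, Matrix.det_mul, hd, mul_comm, ← mul_assoc, ← Matrix.det_mul,
      ← Units.val_mul, inv_mul_cancel, Units.val_one, Matrix.det_one, one_mul]
  · right
    rw [conj_fS, nAct_zN, conj_zN]
    exact ⟨i, rfl⟩

/-- `SS` is generated by `RR` and the permutations, provided `D` is generated by its elements of
determinant `-1` -/
theorem closure_RR (hDgen : Subgroup.closure {d : Cfsg.isometryGroup F ⇑(E2 F) |
      d ∈ D ∧ ((d.1 : GL (Fin 2) F) : Matrix (Fin 2) (Fin 2) F).det = -1} = D) :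
    Subgroup.closure (RR γ D T ∪ Set.range (hS γ D T)) = ⊤ := by
  rw [eq_top_iff]
  intro x _
  set H := Subgroup.closure (RR γ D T ∪ Set.range (hS γ D T)) with hH
  obtain ⟨n, σ, rfl⟩ := exists_eq_fS_mul_hS γ D T x
  have hb : ∀ (p : Fin k) (d : D), fS γ D T (bN D j p d) ∈ H := by
    intro p d
    have h1 : D ≤ (H.comap ((fS γ D T).comp (bNHom D j p))).map D.subtype := by
      refine hDgen.symm.le.trans ?_
      rw [Subgroup.closure_le]
      rintro d' ⟨hd', hdet⟩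
      refine ⟨⟨d', hd'⟩, ?_, rfl⟩
      show fS γ D T (bN D j p ⟨d', hd'⟩) ∈ H
      apply Subgroup.subset_closure
      left
      left
      exact ⟨p, ⟨d', hd'⟩, hdet, rfl⟩
    obtain ⟨d', hd', hdd⟩ := h1 d.2
    have : d' = d := Subtype.ext hdd
    rw [← this]
    exact hd'
  have hz : ∀ i : Fin j, fS γ D T (zN D k i) ∈ H := by
    intro i
    apply Subgroup.subset_closure
    left
    right
    exact ⟨i, rfl⟩
  have h1 : ∀ g : Fin k → D, fS γ D T (g, 1) ∈ H := by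
    intro g
    have : g ∈ H.comap ((fS γ D T).comp (MonoidHom.inl _ _)) := by
      apply Subgroup.pi_mem_of_mulSingle_mem
      intro p
      exact hb p (g p)
    exact this
  have h2 : ∀ s : Fin j → ℤˣ, fS γ D T (1, s) ∈ H := by
    intro s
    have : s ∈ H.comap ((fS γ D T).comp (MonoidHom.inr _ _)) := by
      apply Subgroup.pi_mem_of_mulSingle_mem
      intro i
      rcases Int.units_eq_one_or (s i) with h | h
      · rw [h, Pi.mulSingle_one]
        exact Subgroup.one_mem _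
      · rw [h]
        exact hz i
    exact this
  have h3 : fS γ D T n ∈ H := by
    have : n = (n.1, 1) * (1, n.2) := by
      rw [Prod.mk_mul_mk, mul_one, one_mul]
    rw [this, map_mul]
    exact H.mul_mem (h1 _) (h2 _)
  refine H.mul_mem h3 (Subgroup.subset_closure ?_)
  right
  exact ⟨σ, rfl⟩

end Cfsg.Agent.Helper43.Syl
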