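import Mathlib
import Cfsg.Agent.Helper43.SylMatF

/-!
# `SS ∩ Ω` has elementary abelian abelianization: the spinor bookkeeping
-/

set_option autoImplicit false
set_option linter.unusedSectionVars false
set_option linter.unusedVariables false

namespace Cfsg.Agent.Helper43.Syl

open Matrix Cfsg.Agent.Helper44 Cfsg.Agent.Helper42
open scoped commutatorElement

variable {F : Type*} [Field F] {k j : ℕ}
variable (γ : Fin j → F) (D : Subgroup (Cfsg.isometryGroup F ⇑(E2 F)))
  (T : Subgroup (Equiv.Perm (Fin k)))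

theorem det_nHom (n : (Fin k → D) × (Fin j → ℤˣ)) :
    (((nHom γ D n).1 : GL (Idx k j) F) : Matrix (Idx k j) (Idx k j) F).det =
      (∏ p, (((n.1 p).1.1 : GL (Fin 2) F) : Matrix (Fin 2) (Fin 2) F).det) *
        ∏ i, ((sgn F (n.2 i) : Fˣ) : F) := by
  rw [nHom_apply]
  have h1 : (((bHom k j γ (fun p => (n.1 p).1) * zHom k j γ n.2).1 : GL (Idx k j) F) :
      Matrix (Idx k j) (Idx k j) F) =
      (((bHom k j γ (fun p => (n.1 p).1)).1 : GL (Idx k j) F) : Matrix (Idx k j) (Idx k j) F) *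
        (((zHom k j γ n.2).1 : GL (Idx k j) F) : Matrix (Idx k j) (Idx k j) F) := rfl
  rw [h1, Matrix.det_mul, det_bHom, det_zHom]

theorem det_nHom_bN (p : Fin k) (d : D) :
    (((nHom γ D (bN D j p d)).1 : GL (Idx k j) F) : Matrix (Idx k j) (Idx k j) F).det =
      ((d.1.1 : GL (Fin 2) F) : Matrix (Fin 2) (Fin 2) F).det := by
  rw [det_nHom]
  have h1 : ∏ i : Fin j, ((sgn F ((bN D j p d).2 i) : Fˣ) : F) = 1 := by
    apply Finset.prod_eq_one
    intro i _
    exact sgn_one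
  rw [h1, mul_one, Finset.prod_eq_single p]
  · show ((((Pi.mulSingle p d : Fin k → D) p).1.1 : GL (Fin 2) F) : Matrix (Fin 2) (Fin 2) F).det = _
    rw [Pi.mulSingle_eq_same]
  · intro p' _ hp'
    show ((((Pi.mulSingle p d : Fin k → D) p').1.1 : GL (Fin 2) F) : Matrix (Fin 2) (Fin 2) F).det = 1
    rw [Pi.mulSingle_eq_of_ne hp']
    exact Matrix.det_one
  · intro h
    exact absurd (Finset.mem_univ p) h

theorem det_nHom_zN (i : Fin j) :
    (((nHom γ D (zN D k i)).1 : GL (Idx k j) F) : Matrix (Idx k j) (Idx k j) F).det = -1 := by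
  rw [det_nHom]
  have h1 : ∏ p : Fin k, ((((zN D k i).1 p).1.1 : GL (Fin 2) F) : Matrix (Fin 2) (Fin 2) F).det
      = 1 := by
    apply Finset.prod_eq_one
    intro p _
    exact Matrix.det_one
  rw [h1, one_mul, Finset.prod_eq_single i]
  · show ((sgn F ((Pi.mulSingle i (-1) : Fin j → ℤˣ) i) : Fˣ) : F) = -1
    rw [Pi.mulSingle_eq_same]
    exact sgn_neg_one
  · intro i' _ hi'
    show ((sgn F ((Pi.mulSingle i (-1) : Fin j → ℤˣ) i') : Fˣ) : F) = 1
    rw [Pi.mulSingle_eq_of_ne hi']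
    exact sgn_one
  · intro h
    exact absurd (Finset.mem_univ i) h

theorem det_of_mem_RR (r : SS γ D T) (hr : r ∈ RR γ D T) :
    ((r.1.1 : GL (Idx k j) F) : Matrix (Idx k j) (Idx k j) F).det = -1 := by
  rcases hr with ⟨p, d, hd, rfl⟩ | ⟨i, rfl⟩
  · rw [coe_fS, det_nHom_bN, hd]
  · rw [coe_fS, det_nHom_zN]

/-- moving a block to another plane is a conjugation in the full isometry group -/
theorem nHom_bN_conj (σ : Equiv.Perm (Fin k)) (p : Fin k) (d : D) :
    nHom γ D (bN D j (σ p) d) = pHom k j γ σ * nHom γ D (bN D j p d) * (pHom k j γ σ)⁻¹ := by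
  have h := pHom_mul_nHom γ D (⊤ : Subgroup (Equiv.Perm (Fin k))) ⟨σ, Subgroup.mem_top σ⟩
    (bN D j p d)
  rw [nAct_bN] at h
  rw [eq_mul_inv_iff_mul_eq]
  exact h.symm

theorem sq_eq_one_of_commute {G : Type*} [Group G] {r r' : G} (h : Commute r r') (hr : r * r = 1)
    (hr' : r' * r' = 1) : (r * r') * (r * r') = 1 := by
  rw [h.symm.mul_mul_mul_comm, hr, hr', one_mul]

theorem sq_eq_commutator {G : Type*} [Group G] {r r' c : G} (hrc : Commute r c)
    (hr'c : Commute r' c) (hr : r * r = 1) (hr' : r' * r' = 1) (hc : c * c = 1) :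
    (r * r') * (r * r') = ⁅r * c, r' * c⁆ := by
  have hx2 : (r * c) * (r * c) = 1 := by
    rw [hrc.symm.mul_mul_mul_comm, hr, hc, one_mul]
  have hy2 : (r' * c) * (r' * c) = 1 := by
    rw [hr'c.symm.mul_mul_mul_comm, hr', hc, one_mul]
  have hxy : (r * c) * (r' * c) = r * r' := by
    rw [hr'c.symm.mul_mul_mul_comm, hc, mul_one]
  rw [commutatorElement_def, inv_eq_of_mul_eq_one_right hx2, inv_eq_of_mul_eq_one_right hy2,
    mul_assoc ((r * c) * (r' * c)), hxy]

section finite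

variable [Fintype F] (h2 : (2 : F) ≠ 0)
  (hQ : (QuadraticMap.polarBilin (mForm k j γ)).Nondegenerate) {c : F} (hc : ¬ IsSquare c)

/-- the restriction of the spinor/determinant character to `SS` -/
noncomputable def thS (c : F) : SS γ D T →* ℤˣ × ℤˣ :=
  (omegaChar (mForm k j γ) c).comp (SS γ D T).subtype

theorem thS_apply (c : F) (x : SS γ D T) : thS γ D T c x = omegaChar (mForm k j γ) c x.1 := rfl

theorem thS_mul_self (c : F) (x : SS γ D T) : thS γ D T c x * thS γ D T c x = 1 :=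
  omegaChar_mul_self _ _ _

include h2 hQ hc in
theorem thS_RR : ∀ r ∈ RR γ D T, thS γ D T c r = (-1, 1) ∨ thS γ D T c r = (-1, -1) := by
  intro r hr
  exact omegaChar_of_det_neg_one h2 _ hQ hc r.1 (det_of_mem_RR γ D T r hr)

theorem thS_hS (c : F) (σ : T) : thS γ D T c (hS γ D T σ) = 1 := by
  rw [thS_apply, coe_hS]
  exact hom_pHom_eq_one (fun a => Prod.ext (Int.units_mul_self _) (Int.units_mul_self _)) γ _ σ.1

theorem thS_hS_sq (c : F) (hT : EA 2 T) (σ : T) :
    hS γ D T σ * hS γ D T σ ∈ ⁅(thS γ D T c).ker, (thS γ D T c).ker⁆ := by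
  let φ : T →* (thS γ D T c).ker :=
    (hS γ D T).codRestrict (thS γ D T c).ker (fun σ => thS_hS γ D T c σ)
  have h1 : φ (σ ^ 2) ∈ commutator (thS γ D T c).ker := map_commutator_le φ ⟨_, hT σ, rfl⟩
  rw [← Subgroup.map_subtype_commutator]
  refine ⟨φ (σ ^ 2), h1, ?_⟩
  show hS γ D T (σ ^ 2) = _
  rw [pow_two, map_mul]

include h2 hQ hc in
theorem thS_pair (hk : 2 ≤ k) (hD2 : ∀ g : Cfsg.isometryGroup F ⇑(E2 F),
      ((g.1 : GL (Fin 2) F) : Matrix (Fin 2) (Fin 2) F).det = -1 → g * g = 1) :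
    ∀ r ∈ RR γ D T, ∀ r' ∈ RR γ D T, thS γ D T c r = thS γ D T c r' →
      (r * r') * (r * r') ∈ ⁅(thS γ D T c).ker, (thS γ D T c).ker⁆ := by
  intro r hr r' hr' hθ
  have hr2 := RR_mul_self γ D T hD2 r hr
  have hr'2 := RR_mul_self γ D T hD2 r' hr'
  have hcomm : Commute r r' → (r * r') * (r * r') ∈ ⁅(thS γ D T c).ker, (thS γ D T c).ker⁆ := by
    intro h
    rw [sq_eq_one_of_commute h hr2 hr'2]
    exact Subgroup.one_mem _
  rcases hr with ⟨p, d, hd, rfl⟩ | ⟨i, rfl⟩ <;> rcases hr' with ⟨p', d', hd', rfl⟩ | ⟨i', rfl⟩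
  · by_cases hp : p = p'
    · subst hp
      haveI : Nontrivial (Fin k) := Fin.nontrivial_iff_two_le.2 hk
      obtain ⟨p'', hp''⟩ := exists_ne p
      have hcR : fS γ D T (bN D j p'' d) ∈ RR γ D T := Or.inl ⟨p'', d, hd, rfl⟩
      have hc2 := RR_mul_self γ D T hD2 _ hcR
      have hθc : thS γ D T c (fS γ D T (bN D j p'' d)) = thS γ D T c (fS γ D T (bN D j p d)) := by
        rw [thS_apply, thS_apply, coe_fS, coe_fS]
        have h1 := nHom_bN_conj γ D (Equiv.swap p p'') p d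
        rw [Equiv.swap_apply_left] at h1
        rw [h1, omegaChar_conj]
      have hrc : Commute (fS γ D T (bN D j p d)) (fS γ D T (bN D j p'' d)) :=
        (bN_commute_bN D (Ne.symm hp'') d d).map (fS γ D T)
      have hr'c : Commute (fS γ D T (bN D j p d')) (fS γ D T (bN D j p'' d)) :=
        (bN_commute_bN D (Ne.symm hp'') d' d).map (fS γ D T)
      rw [sq_eq_commutator hrc hr'c hr2 hr'2 hc2]
      apply Subgroup.commutator_mem_commutator
      · rw [MonoidHom.mem_ker, map_mul, hθc]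
        exact thS_mul_self γ D T c _
      · rw [MonoidHom.mem_ker, map_mul, hθc, ← hθ]
        exact thS_mul_self γ D T c _
    · exact hcomm ((bN_commute_bN D hp d d').map (fS γ D T))
  · exact hcomm ((bN_commute_zN D p d i').map (fS γ D T))
  · exact hcomm ((bN_commute_zN D p' d' i).symm.map (fS γ D T))
  · exact hcomm ((zN_commute_zN D i i').map (fS γ D T))

include h2 hQ hc in
/-- the main structural result: the intersection of `SS` with `Ω` has elementary abelian
abelianization -/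
theorem EA_ker_thS (hk : 2 ≤ k) (hD2 : ∀ g : Cfsg.isometryGroup F ⇑(E2 F),
      ((g.1 : GL (Fin 2) F) : Matrix (Fin 2) (Fin 2) F).det = -1 → g * g = 1)
    (hDgen : Subgroup.closure {d : Cfsg.isometryGroup F ⇑(E2 F) |
      d ∈ D ∧ ((d.1 : GL (Fin 2) F) : Matrix (Fin 2) (Fin 2) F).det = -1} = D)
    (hT : EA 2 T) : EA 2 (thS γ D T c).ker := by
  apply Cfsg.Agent.Helper22.SylWD.EA_ker (thS γ D T c) (RR γ D T) (Set.range (hS γ D T))
    (closure_RR γ D T hDgen) (RR_mul_self γ D T hD2) (RR_conj γ D T) ?_ (-1, 1) (-1, -1)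
    (by decide) (by decide) (by decide) (thS_RR γ D T h2 hQ hc) (thS_pair γ D T h2 hQ hc hk hD2)
  rintro _ ⟨σ, rfl⟩
  exact ⟨thS_hS γ D T c σ, thS_hS_sq γ D T c hT σ⟩

end finite

end Cfsg.Agent.Helper43.Syl
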