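import Mathlib
import Cfsg.Agent.Helper43.SylMatG
import Cfsg.Agent.Helper42.SylowEA3
import Cfsg.Agent.Helper49.SylWC
import Cfsg.Agent.Helper60.SylWB

/-!
# Sylow 2-subgroups of `Ω` of the model forms
-/

set_option autoImplicit false
set_option linter.unusedSectionVars false
set_option linter.unusedVariables false

namespace Cfsg.Agent.Helper43.Syl

open Matrix Cfsg.Agent.Helper44 Cfsg.Agent.Helper42

variable {F : Type*} [Field F] [Fintype F] {k j : ℕ}

/-- the kernel of `thS` is isomorphic to the part of `SS` inside `Ω`, as a subgroup of `Ω` -/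
noncomputable def kerEquiv (γ : Fin j → F) (D : Subgroup (Cfsg.isometryGroup F ⇑(E2 F)))
    (T : Subgroup (Equiv.Perm (Fin k))) (c : F)
    (hker : (omegaChar (mForm k j γ) c).ker = Cfsg.Omega F ⇑(mForm k j γ)) :
    (thS γ D T c).ker ≃* ((SS γ D T).subgroupOf (Cfsg.Omega F ⇑(mForm k j γ))) where
  toFun x := ⟨⟨x.1.1, by
    rw [← hker]
    exact x.2⟩, x.1.2⟩
  invFun y := ⟨⟨y.1.1, y.2⟩, by
    show y.1.1 ∈ (omegaChar (mForm k j γ) c).ker
    rw [hker]
    exact y.1.2⟩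
  left_inv x := rfl
  right_inv y := rfl
  map_mul' x y := rfl

theorem card_ker_thS_aux {G A : Type*} [Group G] [Group A] [Finite G] [Finite A] (θ : G →* A)
    {N : ℕ} (hG : Nat.card G = 2 ^ N) (hA : Nat.card A = 4) :
    ∃ e, N ≤ e + 2 ∧ Nat.card θ.ker = 2 ^ e := by
  have h1 := Subgroup.card_mul_index θ.ker
  rw [hG, Subgroup.index_ker] at h1
  have h2 : Nat.card θ.range ∣ 2 ^ 2 := by
    have := Subgroup.card_subgroup_dvd_card θ.range
    rw [hA] at this
    exact this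
  obtain ⟨f, hf, hf'⟩ := (Nat.dvd_prime_pow Nat.prime_two).1 h2
  have h3 : Nat.card θ.ker ∣ 2 ^ N := ⟨_, h1.symm⟩
  obtain ⟨e, he, he'⟩ := (Nat.dvd_prime_pow Nat.prime_two).1 h3
  refine ⟨e, ?_, he'⟩
  rw [he', hf', ← pow_add] at h1
  have := Nat.pow_right_injective (le_refl 2) h1
  omega

theorem finrank_idx (k j : ℕ) : Module.finrank F (Idx k j → F) = 2 * k + j := by
  rw [Module.finrank_fintype_fun_eq_card]
  simp [Idx]

/-- Sylow `2`-subgroups of `Ω` of a model form have elementary abelian abelianization, given the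
`2`-part of the order of the isometry group -/
theorem sylow_Omega_mForm_EA (hF : Odd (Fintype.card F)) (hk : 2 ≤ k) (γ : Fin j → F)
    (hγ : ∀ i, γ i ≠ 0)
    (hcard : padicValNat 2 (Nat.card (Cfsg.isometryGroup F ⇑(mForm k j γ))) =
      k * padicValNat 2 (Nat.card (Cfsg.isometryGroup F ⇑(E2 F))) + padicValNat 2 k.factorial + j)
    (P : Sylow 2 (Cfsg.Omega F ⇑(mForm k j γ))) :
    EA 2 (P : Subgroup (Cfsg.Omega F ⇑(mForm k j γ))) := by
  have h2 : (2 : F) ≠ 0 := Cfsg.Agent.Helper60.Syl.two_ne_zero_of_odd hF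
  have hQ := Cfsg.Agent.Helper60.Syl.nondeg_mForm hF k j γ hγ
  obtain ⟨c, hc⟩ := FiniteField.exists_nonsquare (ringChar_ne_two_of_two_ne_zero h2)
  have hker := ker_omegaChar (mForm k j γ) h2 hQ hc
  let D : Sylow 2 (Cfsg.isometryGroup F ⇑(E2 F)) := default
  let T : Sylow 2 (Equiv.Perm (Fin k)) := default
  have hEA := EA_ker_thS γ (D : Subgroup (Cfsg.isometryGroup F ⇑(E2 F)))
    (T : Subgroup (Equiv.Perm (Fin k))) h2 hQ hc hk
    (fun g hg => Cfsg.Agent.Helper49.Syl.E2_mul_self_of_det h2 g hg)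
    (Cfsg.Agent.Helper49.Syl.E2_sylow_closure hF D) (sylow_perm_EA 2 k T)
  -- orders
  set a := padicValNat 2 (Nat.card (Cfsg.isometryGroup F ⇑(E2 F))) with ha
  set N := k * a + padicValNat 2 k.factorial + j with hN
  have hSS : Nat.card (SS γ (D : Subgroup (Cfsg.isometryGroup F ⇑(E2 F)))
      (T : Subgroup (Equiv.Perm (Fin k)))) = 2 ^ N := by
    rw [card_SS h2, D.card_eq_multiplicity, T.card_eq_multiplicity,
      Nat.factorization_def _ Nat.prime_two, Nat.factorization_def _ Nat.prime_two,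
      Nat.card_perm, Nat.card_fin, ← pow_mul, ← pow_add, ← pow_add]
    congr 1
    rw [hN, ha]
    ring
  obtain ⟨e, he, hKe⟩ := card_ker_thS_aux (thS γ (D : Subgroup (Cfsg.isometryGroup F ⇑(E2 F)))
    (T : Subgroup (Equiv.Perm (Fin k))) c) hSS (by
      rw [Nat.card_prod]
      simp)
  have hP0 : Nat.card ((SS γ (D : Subgroup (Cfsg.isometryGroup F ⇑(E2 F)))
      (T : Subgroup (Equiv.Perm (Fin k)))).subgroupOf (Cfsg.Omega F ⇑(mForm k j γ))) = 2 ^ e := by
    rw [← hKe]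
    exact (Nat.card_congr (kerEquiv γ _ _ c hker).toEquiv).symm
  have hidx := index_Omega_eq_four (mForm k j γ) h2 hQ (by rw [finrank_idx]; omega)
  have hΩ := Subgroup.card_mul_index (Cfsg.Omega F ⇑(mForm k j γ))
  rw [hidx] at hΩ
  have hΩpos : Nat.card (Cfsg.Omega F ⇑(mForm k j γ)) ≠ 0 := Nat.card_pos.ne'
  have hv : padicValNat 2 (Nat.card (Cfsg.Omega F ⇑(mForm k j γ))) + 2 = N := by
    rw [← hcard, ← hΩ, padicValNat.mul hΩpos (by norm_num)]
    congr 1
    have : (4 : ℕ) = 2 ^ 2 := by norm_num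
    rw [this, padicValNat.prime_pow]
  have hdvd : 2 ^ e ∣ Nat.card (Cfsg.Omega F ⇑(mForm k j γ)) := by
    rw [← hP0]
    exact Subgroup.card_subgroup_dvd_card _
  have hle : e ≤ padicValNat 2 (Nat.card (Cfsg.Omega F ⇑(mForm k j γ))) :=
    (padicValNat_dvd_iff_le hΩpos).1 hdvd
  have hee : e = (Nat.card (Cfsg.Omega F ⇑(mForm k j γ))).factorization 2 := by
    rw [Nat.factorization_def _ Nat.prime_two]
    omega
  rw [hee] at hP0
  have hP0EA : EA 2 ((SS γ (D : Subgroup (Cfsg.isometryGroup F ⇑(E2 F)))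
      (T : Subgroup (Equiv.Perm (Fin k)))).subgroupOf (Cfsg.Omega F ⇑(mForm k j γ))) :=
    EA.of_mulEquiv (kerEquiv γ _ _ c hker) hEA
  exact EA.of_mulEquiv ((Sylow.ofCard _ hP0).equiv P) hP0EA

end Cfsg.Agent.Helper43.Syl
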