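import Mathlib
import Cfsg.Agent.Helper43.SylMatH
import Cfsg.Agent.Helper44.QTypeAniso
import Cfsg.Agent.Helper44.StdNondeg
import Cfsg.Agent.Helper44.OrthRealizeC
import Cfsg.Agent.Helper45.IsoEquiv
import Cfsg.Agent.Helper49.SylWA
import Cfsg.Agent.S0287
import Cfsg.Agent.S0288

/-!
# Transport of the Sylow statement to forms isometric to a model form
-/

set_option autoImplicit false
set_option linter.unusedSectionVars false
set_option linter.unusedVariables false

namespace Cfsg.Agent.Helper43.Syl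

open Matrix Cfsg.Agent.Helper44 Cfsg.Agent.Helper42 Cfsg.Agent.Helper44.QType

section transport

variable {G₁ G₂ : Type*} [Group G₁] [Group G₂]

/-- an isomorphism of groups restricts to the commutator subgroups -/
noncomputable def commEquiv (e : G₁ ≃* G₂) : commutator G₁ ≃* commutator G₂ where
  toFun x := ⟨e x.1, map_commutator_le e.toMonoidHom ⟨x.1, x.2, rfl⟩⟩
  invFun y := ⟨e.symm y.1, map_commutator_le e.symm.toMonoidHom ⟨y.1, y.2, rfl⟩⟩
  left_inv x := Subtype.ext (e.symm_apply_apply _)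
  right_inv y := Subtype.ext (e.apply_symm_apply _)
  map_mul' x y := Subtype.ext (map_mul e _ _)

theorem sylow_EA_of_mulEquiv [Finite G₁] (e : G₁ ≃* G₂)
    (h : ∀ P : Sylow 2 G₂, EA 2 (P : Subgroup G₂)) (P : Sylow 2 G₁) :
    EA 2 (P : Subgroup G₁) := by
  haveI : Finite G₂ := Finite.of_equiv _ e.toEquiv
  have hcard : Nat.card ((P : Subgroup G₁).map e.toMonoidHom) =
      2 ^ (Nat.card G₂).factorization 2 := by
    rw [Subgroup.card_map_of_injective e.injective, P.card_eq_multiplicity,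
      Nat.card_congr e.toEquiv]
  have h1 := h (Sylow.ofCard _ hcard)
  exact EA.of_mulEquiv (e.subgroupMap (P : Subgroup G₁)).symm h1

theorem sylow_commutator_EA_of_mulEquiv [Finite G₁] (e : G₁ ≃* G₂)
    (h : ∀ P : Sylow 2 (commutator G₂), EA 2 (P : Subgroup (commutator G₂)))
    (P : Sylow 2 (commutator G₁)) : EA 2 (P : Subgroup (commutator G₁)) :=
  sylow_EA_of_mulEquiv (commEquiv e) h P

end transport

variable {F : Type*} [Field F] [Fintype F]

/-- transport along an isomorphism of isometry groups -/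
theorem sylow_Omega_EA_of_equiv {ι : Type} [Fintype ι] [DecidableEq ι]
    (hF : Odd (Fintype.card F)) (Q : (ι → F) → F) {k j : ℕ} (hk : 2 ≤ k) (γ : Fin j → F)
    (hγ : ∀ i, γ i ≠ 0)
    (e : Nonempty (Cfsg.isometryGroup F Q ≃* Cfsg.isometryGroup F ⇑(mForm k j γ)))
    (hcard : padicValNat 2 (Nat.card (Cfsg.isometryGroup F Q)) =
      k * padicValNat 2 (Nat.card (Cfsg.isometryGroup F ⇑(E2 F))) + padicValNat 2 k.factorial + j)
    (P : Sylow 2 (Cfsg.Omega F Q)) : EA 2 (P : Subgroup (Cfsg.Omega F Q)) := by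
  obtain ⟨e⟩ := e
  refine sylow_commutator_EA_of_mulEquiv e (fun P' => ?_) P
  exact sylow_Omega_mForm_EA hF hk γ hγ (by rw [← Nat.card_congr e.toEquiv]; exact hcard) P'

/-! ### the order of the plane group -/

theorem chi_eq_one_iff (hF : Odd (Fintype.card F)) : chi F = 1 ↔ Fintype.card F % 4 = 1 := by
  classical
  unfold chi
  have h := FiniteField.isSquare_neg_one_iff (F := F)
  have hodd : Fintype.card F % 2 = 1 := Nat.odd_iff.1 hF
  constructor
  · intro h1
    have hs : IsSquare (-1 : F) := by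
      by_contra hs
      rw [if_neg hs] at h1
      exact absurd h1 (by norm_num)
    have := h.1 hs
    omega
  · intro h1
    have hs : IsSquare (-1 : F) := h.2 (by omega)
    rw [if_pos hs]

theorem chi_eq_neg_one_iff (hF : Odd (Fintype.card F)) : chi F = -1 ↔ Fintype.card F % 4 = 3 := by
  classical
  have hodd : Fintype.card F % 2 = 1 := Nat.odd_iff.1 hF
  have h1 := chi_eq_one_iff hF
  have h2 : chi F = 1 ∨ chi F = -1 := by
    unfold chi
    split_ifs
    · left; rfl
    · right; rfl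
  constructor
  · intro h
    have : ¬ (Fintype.card F % 4 = 1) := by
      rw [← h1, h]
      norm_num
    omega
  · intro h
    rcases h2 with h3 | h3
    · rw [h1] at h3
      omega
    · exact h3

theorem finrank_fin_two : Module.finrank F (Fin 2 → F) = 2 * 1 := by
  rw [Module.finrank_fintype_fun_eq_card]
  simp

theorem aniso_sum_squares (hs : ¬ IsSquare (-1 : F)) :
    ∀ z₁ z₂ : F, z₁ ^ 2 + 0 * z₁ * z₂ + 1 * z₂ ^ 2 = 0 → z₁ = 0 ∧ z₂ = 0 := by
  intro z₁ z₂ h
  by_cases hz : z₂ = 0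
  · subst hz
    have : z₁ ^ 2 = 0 := by linear_combination h
    exact ⟨pow_eq_zero_iff (two_ne_zero) |>.mp this, rfl⟩
  · exfalso
    apply hs
    refine ⟨z₁ / z₂, ?_⟩
    field_simp
    linear_combination -h

theorem disc_ne_zero (h2 : (2 : F) ≠ 0) (a b : F)
    (hab : ∀ z₁ z₂ : F, z₁ ^ 2 + a * z₁ * z₂ + b * z₂ ^ 2 = 0 → z₁ = 0 ∧ z₂ = 0) :
    a ^ 2 - 4 * b ≠ 0 := by
  intro h
  have h1 := (hab a (-2) (by linear_combination -h)).2
  apply h2
  linear_combination -h1

theorem card_iso_E2 (hF : Odd (Fintype.card F)) :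
    Nat.card (Cfsg.isometryGroup F ⇑(E2 F)) = 2 * ee (Fintype.card F) := by
  have h2 : (2 : F) ≠ 0 := Cfsg.Agent.Helper60.Syl.two_ne_zero_of_odd hF
  have hodd : Fintype.card F % 2 = 1 := Nat.odd_iff.1 hF
  have hT := Cfsg.Agent.Helper60.Syl.hasType_E2 hF
  have hnd := Cfsg.Agent.Helper60.Syl.E2_nondeg' hF
  by_cases hq : Fintype.card F % 4 = 1
  · rw [(chi_eq_one_iff hF).2 hq] at hT
    obtain ⟨C, hC⟩ := exists_isometry_of_hasType (E2 F) (plusForm 1 F) finrank_fin_two
      (by rw [Module.finrank_fintype_fun_eq_card]; simp) hnd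
      ((nondeg_iff _).mp (nondegenerate_plusForm 1)) hT
      (by rw [plusForm_coe]; exact hasType_plus 1)
    obtain ⟨e⟩ := Cfsg.Agent.Helper45.nonempty_mulEquiv_of_linearEquiv (⇑(E2 F))
      (Cfsg.quadFormPlus 1 F) C (fun w => hC w)
    rw [Nat.card_congr e.toEquiv, Cfsg.Agent.S0287.result rfl 1 (le_refl 1)]
    unfold ee
    rw [if_pos hq]
    simp
  · have hq3 : Fintype.card F % 4 = 3 := by omega
    rw [(chi_eq_neg_one_iff hF).2 hq3] at hT
    have hs : ¬ IsSquare (-1 : F) := by
      rw [FiniteField.isSquare_neg_one_iff]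
      omega
    have hab := aniso_sum_squares hs
    obtain ⟨C, hC⟩ := exists_isometry_of_hasType (E2 F) (minusForm 0 F 0 1) finrank_fin_two
      (by rw [Module.finrank_fintype_fun_eq_card]; simp) hnd
      ((nondeg_iff _).mp (nondegenerate_minusForm 0 0 1 (disc_ne_zero h2 0 1 hab))) hT
      (by rw [minusForm_coe]; exact hasType_minus 0 0 1 hab)
    obtain ⟨e⟩ := Cfsg.Agent.Helper45.nonempty_mulEquiv_of_linearEquiv (⇑(E2 F))
      (Cfsg.quadFormMinus 0 F 0 1) C (fun w => hC w)
    rw [Nat.card_congr e.toEquiv]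
    have := Cfsg.Agent.S0288.result (F := F) rfl 1 (le_refl 1) 0 1 hab
    simp only [Nat.sub_self] at this
    rw [this]
    unfold ee
    rw [if_neg hq]
    simp

end Cfsg.Agent.Helper43.Syl
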