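import Cfsg.Agent.Helper43.O7Skel
import Cfsg.Agent.Helper43.SylMatI
import Cfsg.Agent.Helper44.OrthOddA
import Cfsg.Agent.Helper45.IsoEquiv
import Cfsg.Agent.Helper85.SimpleCrit
import Cfsg.Agent.Helper51.O7G2
import Cfsg.Agent.Helper11.O7G1

set_option autoImplicit false

namespace Cfsg.Agent.Helper43.O7

open Matrix Cfsg Cfsg.FusionSystem Cfsg.Agent.Helper43.Syl Cfsg.Agent.Helper44 Cfsg.Agent.Helper85 Cfsg.Agent.Helper44.QType
  Cfsg.Agent.Helper85.Tab

/-! ## generic leaves -/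

section generic

variable {G : Type*} [Group G]

/-- G1 -/
theorem final_of_selfNorm [Finite G] (p : ℕ) [Fact p.Prime] (S : Sylow p G)
    (hS1 : (S : Subgroup G) ≠ ⊥) (hN : SelfNorm (S : Subgroup G))
    (hT : NoStrClosed (S : Subgroup G)) :
    (groupFusionSystem (S : Subgroup G)).autGroup (S : Subgroup G) = Inn ↥(S : Subgroup G) ∧
    (∀ T : Subgroup G, (groupFusionSystem (S : Subgroup G)).StronglyClosed T →
      T = ⊥ ∨ T = (S : Subgroup G)) ∧
    (groupFusionSystem (S : Subgroup G)).IsSimple p := 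
  Cfsg.Agent.Helper11.O7.final_of_selfNorm p S hS1 hN hT

variable {G₂ : Type*} [Group G₂]

/-- G2a -/
theorem selfNorm_comap_equiv (e : G ≃* G₂) {S : Subgroup G₂} (h : SelfNorm S) :
    SelfNorm (S.comap e.toMonoidHom) := 
  Cfsg.Agent.Helper51.O7.selfNorm_comap_equiv e h

/-- G2b -/
theorem noStrClosed_comap_equiv (e : G ≃* G₂) {S : Subgroup G₂} (h : NoStrClosed S) :
    NoStrClosed (S.comap e.toMonoidHom) := 
  Cfsg.Agent.Helper51.O7.noStrClosed_comap_equiv e h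

/-- transport of the two properties to every Sylow subgroup of an isomorphic group -/
theorem transport_sylow [Finite G] [Finite G₂] (p : ℕ) [Fact p.Prime] (e : G ≃* G₂)
    (P₂ : Sylow p G₂) (h1 : (P₂ : Subgroup G₂) ≠ ⊥) (hN : SelfNorm (P₂ : Subgroup G₂))
    (hT : NoStrClosed (P₂ : Subgroup G₂)) (S : Sylow p G) :
    (S : Subgroup G) ≠ ⊥ ∧ SelfNorm (S : Subgroup G) ∧ NoStrClosed (S : Subgroup G) := by
  have hle : (P₂ : Subgroup G₂) ≤ e.toMonoidHom.range := by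
    intro x _
    exact ⟨e.symm x, e.apply_symm_apply x⟩
  set P₁ : Sylow p G := P₂.comapOfInjective e.toMonoidHom e.injective hle with hP₁
  have hP₁c : (P₁ : Subgroup G) = (P₂ : Subgroup G₂).comap e.toMonoidHom :=
    Sylow.coe_comapOfInjective _ _ _ _
  have hP₁N : SelfNorm (P₁ : Subgroup G) := by
    rw [hP₁c]
    exact selfNorm_comap_equiv e hN
  have hP₁T : NoStrClosed (P₁ : Subgroup G) := by
    rw [hP₁c]
    exact noStrClosed_comap_equiv e hT
  have hP₁1 : (P₁ : Subgroup G) ≠ ⊥ := by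
    rw [hP₁c]
    intro h
    apply h1
    rw [eq_bot_iff]
    intro x hx
    have : e.symm x ∈ (P₂ : Subgroup G₂).comap e.toMonoidHom := by
      rw [Subgroup.mem_comap]
      show e (e.symm x) ∈ _
      rw [e.apply_symm_apply]
      exact hx
    rw [h, Subgroup.mem_bot] at this
    rw [Subgroup.mem_bot]
    have h3 := congrArg e this
    rwa [e.apply_symm_apply, map_one] at h3
  obtain ⟨a, ha⟩ := MulAction.exists_smul_eq G P₁ S
  have hcoe : (S : Subgroup G) = cj a (P₁ : Subgroup G) := by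
    rw [← ha]
    rfl
  refine ⟨?_, ?_, ?_⟩
  · rw [hcoe]
    intro h
    apply hP₁1
    have := congrArg (cj a⁻¹) h
    rw [cj_inv_cj] at this
    rw [this]
    exact Subgroup.map_bot _
  · rw [hcoe]
    exact selfNorm_cj hP₁N a
  · rw [hcoe]
    exact noStrClosed_cj hP₁T a

end generic

variable {F : Type*} [Field F] [Fintype F]

/-- a Sylow `2`-subgroup of `Ω(Q7)` with the two properties -/
theorem exists_good_sylow (h2 : (2 : F) ≠ 0) (hns : ¬ IsSquare (2 : F)) :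
    ∃ P : Sylow 2 ↥(Cfsg.Omega F ⇑(Q7 F)),
      (P : Subgroup ↥(Cfsg.Omega F ⇑(Q7 F))) ≠ ⊥ ∧
      SelfNorm (P : Subgroup ↥(Cfsg.Omega F ⇑(Q7 F))) ∧
      NoStrClosed (P : Subgroup ↥(Cfsg.Omega F ⇑(Q7 F))) := by
  have hSH := S0_le_Omega (F := F) h2 hns
  have hSN := selfNormIn_S0 (F := F) h2 hns
  set U : Subgroup ↥(Cfsg.Omega F ⇑(Q7 F)) := (S0 F).subgroupOf (Cfsg.Omega F ⇑(Q7 F)) with hU
  have hUp : IsPGroup 2 U := by
    intro x
    refine ⟨3, ?_⟩
    apply Subtype.ext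
    apply Subtype.ext
    have := S0_pow_eight (F := F) x.1.1 x.2
    simpa using this
  have hUN : ∀ x ∈ Subgroup.normalizer (U : Set ↥(Cfsg.Omega F ⇑(Q7 F))),
      (∃ a : ℕ, x ^ (2 ^ a) = 1) → x ∈ U := by
    intro g hg _
    rw [Subgroup.mem_normalizer_iff] at hg
    show (g : Cfsg.isometryGroup F ⇑(Q7 F)) ∈ S0 F
    apply hSN g g.2
    intro x
    by_cases hx : x ∈ Cfsg.Omega F ⇑(Q7 F)
    · have := hg ⟨x, hx⟩
      rw [Subgroup.mem_subgroupOf, Subgroup.mem_subgroupOf] at this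
      exact this
    · constructor
      · intro hxS
        exact absurd (hSH hxS) hx
      · intro hxS
        exfalso
        apply hx
        have h1 : (g : Cfsg.isometryGroup F ⇑(Q7 F))⁻¹ *
            ((g : Cfsg.isometryGroup F ⇑(Q7 F)) * x * (g : Cfsg.isometryGroup F ⇑(Q7 F))⁻¹) *
            (g : Cfsg.isometryGroup F ⇑(Q7 F)) ∈ Cfsg.Omega F ⇑(Q7 F) :=
          Subgroup.mul_mem _ (Subgroup.mul_mem _ (Subgroup.inv_mem _ g.2) (hSH hxS)) g.2
        have e : (g : Cfsg.isometryGroup F ⇑(Q7 F))⁻¹ *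
            ((g : Cfsg.isometryGroup F ⇑(Q7 F)) * x * (g : Cfsg.isometryGroup F ⇑(Q7 F))⁻¹) *
            (g : Cfsg.isometryGroup F ⇑(Q7 F)) = x := by group
        rw [e] at h1
        exact h1
  obtain ⟨P, hP⟩ := Cfsg.Agent.Helper84.PSU.exists_sylow_eq 2 U hUp hUN
  refine ⟨P, ?_, ?_, ?_⟩
  · rw [hP]
    intro h
    have hz : dg F ![-1, -1, 1, 1, 1, 1, 1] ∈ S0 F :=
      dg_mem_S0 F (by rw [Fin.prod_univ_seven]; simp)
    have : (⟨dg F ![-1, -1, 1, 1, 1, 1, 1], hSH hz⟩ : ↥(Cfsg.Omega F ⇑(Q7 F))) ∈ U := hz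
    rw [h, Subgroup.mem_bot] at this
    have h3 : dg F ![-1, -1, 1, 1, 1, 1, 1] = dg F 1 := by
      rw [map_one]
      exact congrArg Subtype.val this
    have h4 := congrFun (dg_injective h2 h3) 0
    revert h4
    decide
  · rw [hP]
    exact selfNorm_subgroupOf hSH hSN
  · rw [hP]
    exact noStrClosed_subgroupOf hSH (noStrClosedIn_S0 h2 hns)

theorem finrank_fin7 : Module.finrank F (Fin 7 → F) = 2 * 3 + 1 := by
  rw [Module.finrank_fintype_fun_eq_card]
  simp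

/-- the statement, for the standard form -/
theorem main (hq : Fintype.card F % 8 = 3 ∨ Fintype.card F % 8 = 5)
    (S : Sylow 2 ↥(Cfsg.Omega F (Cfsg.quadFormOdd 3 F))) :
    (groupFusionSystem (S : Subgroup ↥(Cfsg.Omega F (Cfsg.quadFormOdd 3 F)))).autGroup
        (S : Subgroup ↥(Cfsg.Omega F (Cfsg.quadFormOdd 3 F))) =
      Inn ↥(S : Subgroup ↥(Cfsg.Omega F (Cfsg.quadFormOdd 3 F))) ∧
    (∀ T : Subgroup ↥(Cfsg.Omega F (Cfsg.quadFormOdd 3 F)),
      (groupFusionSystem (S : Subgroup ↥(Cfsg.Omega F (Cfsg.quadFormOdd 3 F)))).StronglyClosed T →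
        T = ⊥ ∨ T = (S : Subgroup ↥(Cfsg.Omega F (Cfsg.quadFormOdd 3 F)))) ∧
    (groupFusionSystem (S : Subgroup ↥(Cfsg.Omega F (Cfsg.quadFormOdd 3 F)))).IsSimple 2 := by
  have hodd : Odd (Fintype.card F) := by
    rw [Nat.odd_iff]
    omega
  have h2 : (2 : F) ≠ 0 := Cfsg.Agent.Helper60.Syl.two_ne_zero_of_odd hodd
  have hns : ¬ IsSquare (2 : F) := by
    rw [FiniteField.isSquare_two_iff]
    omega
  obtain ⟨a, g, ha, hg⟩ := exists_similarity_odd (Q7 F) (finrank_fin7 (F := F))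
    (Cfsg.Agent.Helper60.Syl.wss_nondeg_aux h2 (fun _ : Fin 7 => (1 : F)) (fun _ => one_ne_zero))
  obtain ⟨e1⟩ := Cfsg.Agent.Helper45.nonempty_mulEquiv_of_linearEquiv (⇑(Q7 F))
    (fun w => a * Cfsg.quadFormOdd 3 F w) g (fun w => hg w)
  have hsub : Cfsg.isometryGroup F (fun w => a * Cfsg.quadFormOdd 3 F w) =
      Cfsg.isometryGroup F (Cfsg.quadFormOdd 3 F) :=
    Subgroup.ext (fun x => mem_isometryGroup_smul_iff (Cfsg.quadFormOdd 3 F) a ha x)
  let e : Cfsg.isometryGroup F (Cfsg.quadFormOdd 3 F) ≃* Cfsg.isometryGroup F ⇑(Q7 F) :=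
    ((e1.trans (MulEquiv.subgroupCongr hsub))).symm
  obtain ⟨P, hP1, hPN, hPT⟩ := exists_good_sylow (F := F) h2 hns
  obtain ⟨hS1, hSN, hST⟩ := transport_sylow 2 (commEquiv e) P hP1 hPN hPT S
  exact final_of_selfNorm 2 S hS1 hSN hST

end Cfsg.Agent.Helper43.O7
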