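import Cfsg.Agent.Helper43.O7Defs

set_option autoImplicit false

namespace Cfsg.Agent.Helper43.O7

open Matrix Cfsg.Agent.Helper43.Syl Cfsg.Agent.Helper44

variable {F : Type*} [Field F]

theorem Q7_eq_dot (v : Fin 7 → F) : Q7 F v = v ⬝ᵥ v := by
  rw [Q7_apply]
  rfl

/-- isometries of `Q7` are orthogonal matrices -/
theorem transpose_mul_self (h2 : (2 : F) ≠ 0) (g : Cfsg.isometryGroup F ⇑(Q7 F)) :
    ((g.1 : GL (Fin 7) F) : Matrix (Fin 7) (Fin 7) F)ᵀ * (g.1 : Matrix (Fin 7) (Fin 7) F) = 1 := by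
  set A : Matrix (Fin 7) (Fin 7) F := (g.1 : Matrix (Fin 7) (Fin 7) F) with hA
  have hQ : ∀ v : Fin 7 → F, (A *ᵥ v) ⬝ᵥ (A *ᵥ v) = v ⬝ᵥ v := by
    intro v
    have := isometryGroup_apply g v
    rw [Q7_eq_dot, Q7_eq_dot] at this
    exact this
  have hB : ∀ v w : Fin 7 → F, (A *ᵥ v) ⬝ᵥ (A *ᵥ w) = v ⬝ᵥ w := by
    intro v w
    have h1 := hQ (v + w)
    rw [Matrix.mulVec_add, add_dotProduct, dotProduct_add, dotProduct_add, hQ v, hQ w,
      add_dotProduct, dotProduct_add, dotProduct_add, dotProduct_comm (A *ᵥ w) (A *ᵥ v),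
      dotProduct_comm w v] at h1
    have h3 : 2 * ((A *ᵥ v) ⬝ᵥ (A *ᵥ w)) = 2 * (v ⬝ᵥ w) := by linear_combination h1
    exact mul_left_cancel₀ h2 h3
  ext i j
  have h := hB (Pi.single i 1) (Pi.single j 1)
  rw [Matrix.mulVec_single_one, Matrix.mulVec_single_one] at h
  rw [Matrix.mul_apply, Matrix.one_apply]
  have e1 : ∑ k, Aᵀ i k * A k j = A.col i ⬝ᵥ A.col j := by
    rfl
  rw [e1, h]
  simp [Pi.single_apply, dotProduct, eq_comm]

theorem self_mul_transpose (h2 : (2 : F) ≠ 0) (g : Cfsg.isometryGroup F ⇑(Q7 F)) :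
    ((g.1 : GL (Fin 7) F) : Matrix (Fin 7) (Fin 7) F) * (g.1 : Matrix (Fin 7) (Fin 7) F)ᵀ = 1 :=
  mul_eq_one_comm.1 (transpose_mul_self h2 g)

theorem inv_eq_transpose (h2 : (2 : F) ≠ 0) (g : Cfsg.isometryGroup F ⇑(Q7 F)) :
    (((g⁻¹).1 : GL (Fin 7) F) : Matrix (Fin 7) (Fin 7) F) =
      (g.1 : Matrix (Fin 7) (Fin 7) F)ᵀ := by
  have h1 : (((g⁻¹).1 : GL (Fin 7) F) : Matrix (Fin 7) (Fin 7) F) *
      (g.1 : Matrix (Fin 7) (Fin 7) F) = 1 := by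
    have : g⁻¹ * g = 1 := inv_mul_cancel g
    have h := congrArg (fun x : Cfsg.isometryGroup F ⇑(Q7 F) =>
      ((x.1 : GL (Fin 7) F) : Matrix (Fin 7) (Fin 7) F)) this
    exact h
  calc (((g⁻¹).1 : GL (Fin 7) F) : Matrix (Fin 7) (Fin 7) F)
      = (((g⁻¹).1 : GL (Fin 7) F) : Matrix (Fin 7) (Fin 7) F) *
          ((g.1 : Matrix (Fin 7) (Fin 7) F) * (g.1 : Matrix (Fin 7) (Fin 7) F)ᵀ) := by
        rw [self_mul_transpose h2, mul_one]
    _ = (g.1 : Matrix (Fin 7) (Fin 7) F)ᵀ := by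
        rw [← mul_assoc, h1, one_mul]

/-- entries of a diagonal sign matrix -/
theorem dg_apply (ε : Fin 7 → ℤˣ) (k l : Fin 7) :
    (((dg F ε).1 : GL (Fin 7) F) : Matrix (Fin 7) (Fin 7) F) k l =
      if k = l then sg F (ε k) else 0 := by
  have h := mon_apply F ε 1 k l
  rw [map_one, mul_one] at h
  rw [h]
  rfl

/-- entries of a conjugate of a diagonal sign matrix by an isometry -/
theorem conj_dg_apply (h2 : (2 : F) ≠ 0) (g : Cfsg.isometryGroup F ⇑(Q7 F)) (ε : Fin 7 → ℤˣ)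
    (k l : Fin 7) :
    ((((g * dg F ε * g⁻¹).1 : GL (Fin 7) F) : Matrix (Fin 7) (Fin 7) F)) k l =
      ∑ a, sg F (ε a) * (g.1 : Matrix (Fin 7) (Fin 7) F) k a *
        (g.1 : Matrix (Fin 7) (Fin 7) F) l a := by
  have e : ((((g * dg F ε * g⁻¹).1 : GL (Fin 7) F) : Matrix (Fin 7) (Fin 7) F)) =
      (g.1 : Matrix (Fin 7) (Fin 7) F) * ((dg F ε).1 : Matrix (Fin 7) (Fin 7) F) *
        (g.1 : Matrix (Fin 7) (Fin 7) F)ᵀ := by
    rw [← inv_eq_transpose h2]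
    rfl
  rw [e, Matrix.mul_apply]
  apply Finset.sum_congr rfl
  intro a _
  rw [Matrix.mul_apply, Finset.sum_eq_single a]
  · rw [dg_apply, if_pos rfl, Matrix.transpose_apply]
    ring
  · intro b _ hb
    rw [dg_apply, if_neg hb, mul_zero]
  · intro h
    exact absurd (Finset.mem_univ a) h

theorem trace_conj (g x : Cfsg.isometryGroup F ⇑(Q7 F)) :
    ((((g * x * g⁻¹).1 : GL (Fin 7) F) : Matrix (Fin 7) (Fin 7) F)).trace =
      ((x.1 : GL (Fin 7) F) : Matrix (Fin 7) (Fin 7) F).trace := by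
  have e : ((((g * x * g⁻¹).1 : GL (Fin 7) F) : Matrix (Fin 7) (Fin 7) F)) =
      (g.1 : Matrix (Fin 7) (Fin 7) F) * (x.1 : Matrix (Fin 7) (Fin 7) F) *
        (((g⁻¹).1 : GL (Fin 7) F) : Matrix (Fin 7) (Fin 7) F) := rfl
  rw [e, Matrix.trace_mul_cycle]
  have h1 : (((g⁻¹).1 : GL (Fin 7) F) : Matrix (Fin 7) (Fin 7) F) *
      (g.1 : Matrix (Fin 7) (Fin 7) F) = 1 := by
    have : g⁻¹ * g = 1 := inv_mul_cancel g
    exact congrArg (fun x : Cfsg.isometryGroup F ⇑(Q7 F) =>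
      ((x.1 : GL (Fin 7) F) : Matrix (Fin 7) (Fin 7) F)) this
  rw [h1, one_mul]

theorem trace_dg (ε : Fin 7 → ℤˣ) :
    (((dg F ε).1 : GL (Fin 7) F) : Matrix (Fin 7) (Fin 7) F).trace = ∑ i, sg F (ε i) := by
  rw [Matrix.trace]
  apply Finset.sum_congr rfl
  intro i _
  rw [Matrix.diag_apply, dg_apply, if_pos rfl]

end Cfsg.Agent.Helper43.O7
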