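import Cfsg.Agent.Helper43.O7Orth

set_option autoImplicit false

namespace Cfsg.Agent.Helper43.O7

open Matrix

variable {F : Type*} [Field F]

/-- L5: the trace separates the central sign vectors -/
theorem cvec_eq_of_trace (h2 : (2 : F) ≠ 0) (s t s' t' : ℤˣ)
    (h : (∑ i, sg F (cvec s t i)) = ∑ i, sg F (cvec s' t' i))
    (h1 : (s = 1 ∧ t = 1) ↔ (s' = 1 ∧ t' = 1)) : s = s' ∧ t = t' := by
  have h4 : (4 : F) ≠ 0 := by
    have : (4 : F) = 2 * 2 := by norm_num
    rw [this]
    exact mul_ne_zero h2 h2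
  have h8 : (8 : F) ≠ 0 := by
    have : (8 : F) = 2 * 4 := by norm_num
    rw [this]
    exact mul_ne_zero h2 h4
  simp only [Fin.sum_univ_seven, cvec, Matrix.cons_val] at h
  rcases Int.units_eq_one_or s with rfl | rfl <;> rcases Int.units_eq_one_or t with rfl | rfl <;>
    rcases Int.units_eq_one_or s' with rfl | rfl <;>
    rcases Int.units_eq_one_or t' with rfl | rfl <;>
    simp only [sg_one, sg_neg_one] at h
  all_goals first
    | exact ⟨rfl, rfl⟩
    | (exfalso; apply h4; linear_combination h)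
    | (exfalso; apply h4; linear_combination -h)
    | (exfalso; apply h8; linear_combination h)
    | (exfalso; apply h8; linear_combination -h)
    | (exfalso; apply h2; linear_combination (1/2 : F) * h)
    | (exfalso; simp at h1)
  
theorem sign_tau : Equiv.Perm.sign tau = 1 := by decide

theorem sign_tau2 : Equiv.Perm.sign tau2 = 1 := by decide

/-- L10a -/
theorem sign_of_mem_P0 (σ : Equiv.Perm (Fin 7)) (hσ : σ ∈ P0) : Equiv.Perm.sign σ = 1 := by
  have hle : P0 ≤ (Equiv.Perm.sign (α := Fin 7)).ker := by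
    rw [P0, Subgroup.closure_le]
    rintro x (rfl | rfl)
    · exact sign_tau
    · exact sign_tau2
  exact hle hσ

/-- L14 -/
theorem tau_conj_tau2 :
    ∃ π : Equiv.Perm (Fin 7), Equiv.Perm.sign π = 1 ∧ π * tau * π⁻¹ = tau2 := by
  refine ⟨Equiv.swap 1 4 * Equiv.swap 4 3 * Equiv.swap 3 5 * Equiv.swap 5 2, by decide, ?_⟩
  unfold tau tau2
  decide

end Cfsg.Agent.Helper43.O7
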