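import Cfsg.Agent.Helper43.O7Orth
import Cfsg.Agent.Helper44.OmegaIndex
import Cfsg.Agent.Helper60.SylWB
import Cfsg.Agent.Helper85.TabGroup
import Cfsg.Agent.Helper84.PSUGen
import Cfsg.Agent.Helper81.O7L13
import Cfsg.Agent.Helper69.O7L9
import Cfsg.Agent.Helper63.O7L12
import Cfsg.Agent.Helper55.O7L4b
import Cfsg.Agent.Helper5.O7L4a
import Cfsg.Agent.Helper47.O7L8
import Cfsg.Agent.Helper47.O7L7
import Cfsg.Agent.Helper43.O7Small
import Cfsg.Agent.Helper43.O7L6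
import Cfsg.Agent.Helper37.O7L2
import Cfsg.Agent.Helper37.O7L1
import Cfsg.Agent.Helper20.O7L10b

set_option autoImplicit false

namespace Cfsg.Agent.Helper43.O7

open Matrix Cfsg.Agent.Helper43.Syl Cfsg.Agent.Helper44 Cfsg.Agent.Helper85 Cfsg.Agent.Helper85.Tab

variable {F : Type*} [Field F] [Fintype F]

/-! ## leaves -/

/-- L1 -/
theorem theta_dg (h2 : (2 : F) ≠ 0) (hns : ¬ IsSquare (2 : F)) (ε : Fin 7 → ℤˣ) :
    omegaChar (Q7 F) (2 : F) (dg F ε) = (∏ i, ε i, 1) := 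
  Cfsg.Agent.Helper37.O7.theta_dg h2 hns ε

/-- L2 -/
theorem theta_pm (h2 : (2 : F) ≠ 0) (hns : ¬ IsSquare (2 : F)) (σ : Equiv.Perm (Fin 7)) :
    omegaChar (Q7 F) (2 : F) (pm F σ) = (Equiv.Perm.sign σ, Equiv.Perm.sign σ) := 
  Cfsg.Agent.Helper37.O7.theta_pm h2 hns σ

/-- L4a -/
theorem center_S0 (h2 : (2 : F) ≠ 0) (y : Cfsg.isometryGroup F ⇑(Q7 F)) (hy : y ∈ S0 F)
    (hc : ∀ x ∈ S0 F, y * x = x * y) : ∃ s t : ℤˣ, y = dg F (cvec s t) := 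
  Cfsg.Agent.Helper5.O7.center_S0 h2 y hy hc

/-- L4b -/
theorem cvec_central (s t : ℤˣ) (x : Cfsg.isometryGroup F ⇑(Q7 F)) (hx : x ∈ S0 F) :
    dg F (cvec s t) * x = x * dg F (cvec s t) := 
  Cfsg.Agent.Helper55.O7.cvec_central s t x hx

/-- L7 -/
theorem cols_mono (h2 : (2 : F) ≠ 0) (hns : ¬ IsSquare (2 : F))
    (g : Cfsg.isometryGroup F ⇑(Q7 F))
    (h6 : ∃ s : ℤˣ, ∀ k, (g.1 : Matrix (Fin 7) (Fin 7) F) k 6 = if k = 6 then sg F s else 0)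
    (hg : ∀ i : Fin 7, i ≠ 6 →
      g * dg F (Pi.mulSingle i (-1) * Pi.mulSingle 6 (-1)) * g⁻¹ ∈ S0 F) :
    ∀ i : Fin 7, ∃ (j : Fin 7) (s : ℤˣ),
      ∀ k, (g.1 : Matrix (Fin 7) (Fin 7) F) k i = if k = j then sg F s else 0 := 
  Cfsg.Agent.Helper47.O7.cols_mono h2 hns g h6 hg

/-- L8 -/
theorem mono_decomp (g : Cfsg.isometryGroup F ⇑(Q7 F))
    (hg : ∀ i : Fin 7, ∃ (j : Fin 7) (s : ℤˣ),
      ∀ k, (g.1 : Matrix (Fin 7) (Fin 7) F) k i = if k = j then sg F s else 0) :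
    ∃ (ε : Fin 7 → ℤˣ) (σ : Equiv.Perm (Fin 7)), g = dg F ε * pm F σ := 
  Cfsg.Agent.Helper47.O7.mono_decomp g hg

/-- L9 -/
theorem P0_selfnorm (σ : Equiv.Perm (Fin 7)) (hσ : Equiv.Perm.sign σ = 1)
    (h : ∀ ρ ∈ P0, σ * ρ * σ⁻¹ ∈ P0) : σ ∈ P0 := 
  Cfsg.Agent.Helper69.O7.P0_selfnorm σ hσ h

/-- L10b -/
theorem S0_pow_eight (x : Cfsg.isometryGroup F ⇑(Q7 F)) (hx : x ∈ S0 F) : x ^ 8 = 1 := 
  Cfsg.Agent.Helper20.O7.S0_pow_eight x hx

/-- L12 -/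
theorem even_weight_gen (X : Subgroup (Fin 7 → ℤˣ))
    (hX : ∀ ε ∈ X, ∀ π : Equiv.Perm (Fin 7), Equiv.Perm.sign π = 1 → (fun i => ε (π⁻¹ i)) ∈ X)
    (hne : ∃ ε ∈ X, ε ≠ 1 ∧ ∏ i, ε i = 1) : ∀ ε : Fin 7 → ℤˣ, ∏ i, ε i = 1 → ε ∈ X := 
  Cfsg.Agent.Helper63.O7.even_weight_gen X hX hne

/-- L13 -/
theorem hadamard_conj (h2 : (2 : F) ≠ 0) :
    ∃ h ∈ Cfsg.Omega F ⇑(Q7 F),
      h * dg F ![-1, -1, 1, 1, 1, 1, 1] * h⁻¹ = dg F ![-1, -1, -1, -1, 1, 1, 1] * pm F tau := 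
  Cfsg.Agent.Helper81.O7.hadamard_conj h2

/-! ## glue -/

theorem nondeg_Q7 (h2 : (2 : F) ≠ 0) : (QuadraticMap.polarBilin (Q7 F)).Nondegenerate :=
  Cfsg.Agent.Helper60.Syl.wss_nondeg h2 (fun _ : Fin 7 => (1 : F)) (fun _ => one_ne_zero)

theorem mon_mem_Omega_iff (h2 : (2 : F) ≠ 0) (hns : ¬ IsSquare (2 : F)) (ε : Fin 7 → ℤˣ)
    (σ : Equiv.Perm (Fin 7)) :
    dg F ε * pm F σ ∈ Cfsg.Omega F ⇑(Q7 F) ↔ (∏ i, ε i = 1 ∧ Equiv.Perm.sign σ = 1) := by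
  rw [← ker_omegaChar (Q7 F) h2 (nondeg_Q7 h2) hns, MonoidHom.mem_ker, map_mul, theta_dg h2 hns,
    theta_pm h2 hns, Prod.mk_mul_mk, Prod.mk_eq_one, one_mul]
  constructor
  · rintro ⟨h1, h3⟩
    rw [h3, mul_one] at h1
    exact ⟨h1, h3⟩
  · rintro ⟨h1, h3⟩
    rw [h1, h3]
    exact ⟨rfl, rfl⟩

theorem S0_le_Omega (h2 : (2 : F) ≠ 0) (hns : ¬ IsSquare (2 : F)) :
    S0 F ≤ Cfsg.Omega F ⇑(Q7 F) := by
  rintro _ ⟨ε, σ, hε, hσ, rfl⟩
  exact (mon_mem_Omega_iff h2 hns ε σ).2 ⟨hε, sign_of_mem_P0 σ hσ⟩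

theorem pm_mem_Omega (h2 : (2 : F) ≠ 0) (hns : ¬ IsSquare (2 : F)) {π : Equiv.Perm (Fin 7)}
    (hπ : Equiv.Perm.sign π = 1) : pm F π ∈ Cfsg.Omega F ⇑(Q7 F) := by
  have := (mon_mem_Omega_iff h2 hns 1 π).2 ⟨by simp, hπ⟩
  rwa [map_one, one_mul] at this

theorem prod_cvec (s t : ℤˣ) : ∏ i, cvec s t i = 1 := by
  rw [Fin.prod_univ_seven]
  simp only [cvec, Matrix.cons_val]
  rcases Int.units_eq_one_or s with rfl | rfl <;> rcases Int.units_eq_one_or t with rfl | rfl <;>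
    simp

theorem cvec_eq_one_iff (s t : ℤˣ) : cvec s t = 1 ↔ s = 1 ∧ t = 1 := by
  constructor
  · intro h
    have h0 := congrFun h 0
    have h4 := congrFun h 4
    simp only [cvec, Matrix.cons_val] at h0 h4
    exact ⟨h0, h4⟩
  · rintro ⟨rfl, rfl⟩
    funext i
    fin_cases i <;> rfl

theorem dg_injective (h2 : (2 : F) ≠ 0) : Function.Injective (dg F) := by
  intro ε δ h
  have : dg F ε * pm F 1 = dg F δ * pm F 1 := by rw [h]
  exact (mon_inj F h2 this).1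

/-- an element normalizing `S0` centralizes the centre of `S0` -/
theorem conj_cvec_eq (h2 : (2 : F) ≠ 0) (g : Cfsg.isometryGroup F ⇑(Q7 F))
    (hg : ∀ x, x ∈ S0 F ↔ g * x * g⁻¹ ∈ S0 F) (s t : ℤˣ) :
    g * dg F (cvec s t) * g⁻¹ = dg F (cvec s t) := by
  set z := dg F (cvec s t) with hz
  have hzS : z ∈ S0 F := dg_mem_S0 F (prod_cvec s t)
  have h1 : g * z * g⁻¹ ∈ S0 F := (hg z).1 hzS
  have hcz : ∀ x ∈ S0 F, g * z * g⁻¹ * x = x * (g * z * g⁻¹) := by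
    intro x hx
    have hx' : g⁻¹ * x * g ∈ S0 F := by
      rw [hg]
      have e : g * (g⁻¹ * x * g) * g⁻¹ = x := by group
      rw [e]
      exact hx
    have := cvec_central s t _ hx'
    rw [← hz] at this
    calc g * z * g⁻¹ * x = g * (z * (g⁻¹ * x * g)) * g⁻¹ := by group
      _ = g * ((g⁻¹ * x * g) * z) * g⁻¹ := by rw [this]
      _ = x * (g * z * g⁻¹) := by group
  obtain ⟨s', t', h3⟩ := center_S0 h2 _ h1 hcz
  have htr := trace_conj g z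
  rw [h3, trace_dg, hz, trace_dg] at htr
  have hiff : (s = 1 ∧ t = 1) ↔ (s' = 1 ∧ t' = 1) := by
    rw [← cvec_eq_one_iff, ← cvec_eq_one_iff]
    constructor
    · intro h
      rw [hz, h, map_one] at h3
      have h4 : dg F (cvec s' t') = dg F 1 := by
        rw [map_one, ← h3]
        group
      exact dg_injective h2 h4
    · intro h
      rw [h, map_one] at h3
      have h4 : z = 1 := by
        have e : z = g⁻¹ * (g * z * g⁻¹) * g := by group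
        rw [e, h3]
        group
      rw [hz] at h4
      have h5 : dg F (cvec s t) = dg F 1 := by rw [h4, map_one]
      exact dg_injective h2 h5
  obtain ⟨rfl, rfl⟩ := cvec_eq_of_trace h2 s t s' t' htr.symm hiff
  exact h3

theorem prod_pair (i : Fin 7) (hi : i ≠ 6) :
    ∏ k, ((Pi.mulSingle i (-1) * Pi.mulSingle 6 (-1) : Fin 7 → ℤˣ)) k = 1 := by
  revert hi
  fin_cases i <;> decide

/-- **`S0` is self-normalizing in `Ω₇`.** -/
theorem selfNormIn_S0 (h2 : (2 : F) ≠ 0) (hns : ¬ IsSquare (2 : F)) :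
    SelfNormIn (Cfsg.Omega F ⇑(Q7 F)) (S0 F) := by
  intro g hgΩ hg
  have hcen := conj_cvec_eq h2 g hg
  have h6 := col_six h2 g (hcen (-1) (-1))
  have hcols := cols_mono h2 hns g h6 (fun i hi => (hg _).1 (dg_mem_S0 F (prod_pair i hi)))
  obtain ⟨ε, σ, rfl⟩ := mono_decomp g hcols
  obtain ⟨hε, hσ⟩ := (mon_mem_Omega_iff h2 hns ε σ).1 hgΩ
  refine ⟨ε, σ, hε, ?_, rfl⟩
  apply P0_selfnorm σ hσ
  intro ρ hρ
  obtain ⟨δ, ρ', -, hρ', heq⟩ := (hg (pm F ρ)).1 (pm_mem_S0 F hρ)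
  have e : dg F ε * pm F σ * pm F ρ * (dg F ε * pm F σ)⁻¹ =
      dg F (ε * fun i => ε ((σ * ρ * σ⁻¹)⁻¹ i)) * pm F (σ * ρ * σ⁻¹) := by
    have e1 : (dg F ε * pm F σ)⁻¹ = (pm F σ)⁻¹ * dg F ε := by rw [_root_.mul_inv_rev, dg_inv]
    rw [e1, map_mul (dg F), mul_assoc (dg F ε) (dg F _), ← pm_mul_dg, map_mul, map_mul, map_inv]
    group
  rw [e] at heq
  rw [(mon_inj F h2 heq).2]
  exact hρ'

theorem isPGroup_S0 : IsPGroup 2 (S0 F) := by
  intro x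
  refine ⟨3, ?_⟩
  apply Subtype.ext
  have := S0_pow_eight x.1 x.2
  rw [Subgroup.coe_pow]
  exact this

/-- **No proper nontrivial subgroup of `S0` is strongly closed in `Ω₇`.** -/
theorem noStrClosedIn_S0 (h2 : (2 : F) ≠ 0) (hns : ¬ IsSquare (2 : F)) :
    NoStrClosedIn (Cfsg.Omega F ⇑(Q7 F)) (S0 F) := by
  intro T hTS hcl
  by_cases hT : T = ⊥
  · left; exact hT
  right
  apply le_antisymm hTS
  have hSH := S0_le_Omega (F := F) h2 hns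
  -- `T` is a nontrivial normal subgroup of `S0`
  have hnorm : (T.subgroupOf (S0 F)).Normal := by
    constructor
    intro t ht s
    rw [Subgroup.mem_subgroupOf] at ht ⊢
    have h1 : ((s : Cfsg.isometryGroup F ⇑(Q7 F)) * t * (s : Cfsg.isometryGroup F ⇑(Q7 F))⁻¹) ∈
        S0 F := (S0 F).mul_mem ((S0 F).mul_mem s.2 t.2) ((S0 F).inv_mem s.2)
    exact hcl _ ht _ (hSH s.2) h1
  have hne : T.subgroupOf (S0 F) ≠ ⊥ := by
    intro h
    apply hT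
    rw [eq_bot_iff]
    intro t ht
    have : (⟨t, hTS ht⟩ : S0 F) ∈ T.subgroupOf (S0 F) := Subgroup.mem_subgroupOf.2 ht
    rw [h, Subgroup.mem_bot] at this
    rw [Subgroup.mem_bot]
    exact congrArg Subtype.val this
  have hmeet := Cfsg.Agent.Helper63.normal_inf_center_ne_bot (isPGroup_S0 (F := F))
    (T.subgroupOf (S0 F)) hne
  obtain ⟨⟨y, hy⟩, hy1⟩ := (Subgroup.ne_bot_iff_exists_ne_one).1 hmeet
  obtain ⟨hyT, hyZ⟩ := Subgroup.mem_inf.1 hy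
  rw [Subgroup.mem_subgroupOf] at hyT
  have hyc : ∀ x ∈ S0 F, (y : Cfsg.isometryGroup F ⇑(Q7 F)) * x = x * y := by
    intro x hx
    have := (Subgroup.mem_center_iff.1 hyZ) ⟨x, hx⟩
    exact (congrArg Subtype.val this).symm
  obtain ⟨s, t, hst⟩ := center_S0 h2 _ y.2 hyc
  -- the diagonal group lies in `T`
  have hX : ∀ ε : Fin 7 → ℤˣ, ∏ i, ε i = 1 → dg F ε ∈ T := by
    have hprod : ∀ ε : Fin 7 → ℤˣ, dg F ε ∈ T → ∏ i, ε i = 1 := by
      intro ε hε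
      obtain ⟨ε', σ', hε', -, heq⟩ := hTS hε
      have : dg F ε * pm F 1 = dg F ε' * pm F σ' := by rw [map_one, mul_one]; exact heq
      rw [(mon_inj F h2 this).1]
      exact hε'
    apply even_weight_gen (T.comap (dg F))
    · intro ε hε π hπ
      rw [Subgroup.mem_comap] at hε ⊢
      rw [← pm_mul_dg_mul_inv]
      apply hcl _ hε _ (pm_mem_Omega h2 hns hπ)
      rw [pm_mul_dg_mul_inv]
      apply dg_mem_S0
      rw [Equiv.prod_comp π⁻¹ ε]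
      exact hprod ε hε
    · refine ⟨cvec s t, ?_, ?_, prod_cvec s t⟩
      · rw [Subgroup.mem_comap, ← hst]
        exact hyT
      · intro h
        apply hy1
        apply Subtype.ext
        apply Subtype.ext
        show (y : Cfsg.isometryGroup F ⇑(Q7 F)) = 1
        rw [hst, h, map_one]
  -- the Hadamard conjugation
  obtain ⟨h, hΩ, hconj⟩ := hadamard_conj (F := F) h2
  have hz1 : dg F ![-1, -1, 1, 1, 1, 1, 1] ∈ T := hX _ (by rw [Fin.prod_univ_seven]; simp)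
  have hz12 : dg F ![-1, -1, -1, -1, 1, 1, 1] ∈ T := hX _ (by rw [Fin.prod_univ_seven]; simp)
  have htauP : tau ∈ P0 := Subgroup.subset_closure (by simp)
  have htau2P : tau2 ∈ P0 := Subgroup.subset_closure (by simp)
  have h3 : dg F ![-1, -1, -1, -1, 1, 1, 1] * pm F tau ∈ T := by
    rw [← hconj]
    apply hcl _ hz1 _ hΩ
    rw [hconj]
    exact ⟨_, _, by rw [Fin.prod_univ_seven]; simp, htauP, rfl⟩
  have htau : pm F tau ∈ T := by
    have := T.mul_mem (T.inv_mem hz12) h3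
    rwa [inv_mul_cancel_left] at this
  obtain ⟨π, hπ, hπc⟩ := tau_conj_tau2
  have htau2 : pm F tau2 ∈ T := by
    rw [← hπc, map_mul, map_mul, map_inv]
    apply hcl _ htau _ (pm_mem_Omega h2 hns hπ)
    rw [← map_inv, ← map_mul, ← map_mul, hπc]
    exact pm_mem_S0 F htau2P
  have hP0 : P0 ≤ T.comap (pm F) := by
    rw [P0, Subgroup.closure_le]
    rintro x (rfl | rfl)
    · exact htau
    · exact htau2
  rintro _ ⟨ε, σ, hε, hσ, rfl⟩
  exact T.mul_mem (hX ε hε) (hP0 hσ)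

end Cfsg.Agent.Helper43.O7
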