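import Mathlib
import Cfsg.Agent.Helper43.OrthInvD
import Cfsg.Agent.Helper45.OmegaInvol

set_option autoImplicit false

/-!
# Representatives of the involution classes of `O⁻_2m(F)` in characteristic two
-/

namespace Cfsg.Agent.Helper43.OrthInv

open Matrix QuadraticMap Module Cfsg.Agent.Helper45.WittQuad Cfsg.Agent.Helper43.SpInv
open Cfsg.Agent.Helper44

variable {F : Type*} [Field F]

section rk

variable {l n : Type*} [Fintype l] [Fintype n] [DecidableEq l] [DecidableEq n]

/-- The rank of a block diagonal matrix. -/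
theorem rank_fromBlocks_diag (A : Matrix l l F) (D : Matrix n n F) :
    (fromBlocks A (0 : Matrix l n F) (0 : Matrix n l F) D).rank = A.rank + D.rank := by
  let Φ : (LinearMap.range A.mulVecLin × LinearMap.range D.mulVecLin) →ₗ[F] (l ⊕ n → F) :=
    { toFun := fun p => Sum.elim (p.1 : l → F) (p.2 : n → F)
      map_add' := by
        intro x y
        funext i
        cases i <;> simp
      map_smul' := by
        intro c x
        funext i
        cases i <;> simp }
  have hΦ : Function.Injective Φ := by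
    intro x y hxy
    apply Prod.ext
    · apply Subtype.ext
      funext i
      exact congrFun hxy (Sum.inl i)
    · apply Subtype.ext
      funext i
      exact congrFun hxy (Sum.inr i)
  have hrange : LinearMap.range
      (fromBlocks A (0 : Matrix l n F) (0 : Matrix n l F) D).mulVecLin = LinearMap.range Φ := by
    ext v
    constructor
    · rintro ⟨x, rfl⟩
      refine ⟨(⟨A *ᵥ (x ∘ Sum.inl), ⟨x ∘ Sum.inl, rfl⟩⟩, ⟨D *ᵥ (x ∘ Sum.inr), ⟨x ∘ Sum.inr, rfl⟩⟩), ?_⟩
      show Sum.elim (A *ᵥ (x ∘ Sum.inl)) (D *ᵥ (x ∘ Sum.inr))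
        = (fromBlocks A (0 : Matrix l n F) (0 : Matrix n l F) D) *ᵥ x
      rw [fromBlocks_mulVec]
      funext i
      cases i <;> simp
    · rintro ⟨⟨⟨u, ⟨x, rfl⟩⟩, ⟨w, ⟨y, rfl⟩⟩⟩, rfl⟩
      refine ⟨Sum.elim x y, ?_⟩
      show (fromBlocks A (0 : Matrix l n F) (0 : Matrix n l F) D) *ᵥ (Sum.elim x y)
        = Sum.elim (A *ᵥ x) (D *ᵥ y)
      rw [fromBlocks_mulVec]
      funext i
      cases i <;> simp
  unfold Matrix.rank
  rw [hrange, LinearMap.finrank_range_of_inj hΦ, Module.finrank_prod]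

omit [DecidableEq l] in
theorem rank_pos_of_ne_zero (A : Matrix l l F) (hA : A ≠ 0) : 1 ≤ A.rank := by
  rw [Nat.one_le_iff_ne_zero]
  intro h0
  unfold Matrix.rank at h0
  rw [Submodule.finrank_eq_zero, LinearMap.range_eq_bot] at h0
  apply hA
  rw [Matrix.ext_iff_mulVec]
  intro v
  have := congrArg (fun f : (l → F) →ₗ[F] (l → F) => f v) h0
  simp only [Matrix.mulVecLin_apply, LinearMap.zero_apply] at this
  rw [this, Matrix.zero_mulVec]

end rk

/-- The reflection of the anisotropic plane. -/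
def R2 (a : F) : Matrix (Fin 2) (Fin 2) F := !![1, a; 0, 1]

theorem R2_mul_self [CharP F 2] (a : F) : R2 a * R2 a = 1 := by
  unfold R2
  rw [Matrix.mul_fin_two, Matrix.one_fin_two]
  have : a + a = 0 := CharTwo.add_self_eq_zero a
  simp [this]

theorem R2_mulVec (a : F) (z : Fin 2 → F) : R2 a *ᵥ z = ![z 0 + a * z 1, z 1] := by
  unfold R2
  funext i
  fin_cases i <;> simp [Matrix.mulVec, dotProduct, Fin.sum_univ_two]

theorem R2_norm [CharP F 2] (a c : F) (z : Fin 2 → F) :
    (R2 a *ᵥ z) 0 ^ 2 + a * (R2 a *ᵥ z) 0 * (R2 a *ᵥ z) 1 + c * (R2 a *ᵥ z) 1 ^ 2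
      = z 0 ^ 2 + a * z 0 * z 1 + c * z 1 ^ 2 := by
  rw [R2_mulVec]
  simp only [Matrix.cons_val_zero, Matrix.cons_val_one]
  have h2 : (2 : F) = 0 := CharTwo.two_eq_zero
  linear_combination (a * z 0 * z 1 + a ^ 2 * z 1 ^ 2) * h2

theorem rank_R2_sub_one [CharP F 2] {a : F} (ha : a ≠ 0) : (R2 a - 1).rank = 1 := by
  have h0 := Cfsg.Agent.S2166.sub_one_sq (R2 a) (R2_mul_self a)
  have h1 := Matrix.rank_add_rank_le_card_of_mul_eq_zero h0
  rw [Fintype.card_fin] at h1
  have h2 : 1 ≤ (R2 a - 1).rank := by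
    apply rank_pos_of_ne_zero
    intro h
    have := congrFun (congrFun h 0) 1
    unfold R2 at this
    simp at this
    exact ha this
  omega

end Cfsg.Agent.Helper43.OrthInv
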