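import Mathlib
import Cfsg.Agent.Helper43.OrthInvE

set_option autoImplicit false

/-!
# The involution classes of `O⁻_2m(F)` in characteristic two
-/

namespace Cfsg.Agent.Helper43.OrthInv

open Matrix QuadraticMap Module Cfsg.Agent.Helper45.WittQuad Cfsg.Agent.Helper43.SpInv
open Cfsg.Agent.Helper44

variable {F : Type*} [Field F] {k : ℕ}

/-- Block diagonal matrices on the minus-type space. -/
def bd (A : Matrix (Fin k ⊕ Fin k) (Fin k ⊕ Fin k) F) (R : Matrix (Fin 2) (Fin 2) F) :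
    Matrix ((Fin k ⊕ Fin k) ⊕ Fin 2) ((Fin k ⊕ Fin k) ⊕ Fin 2) F :=
  fromBlocks A 0 0 R

theorem bd_mul_self {A : Matrix (Fin k ⊕ Fin k) (Fin k ⊕ Fin k) F} {R : Matrix (Fin 2) (Fin 2) F}
    (hA : A * A = 1) (hR : R * R = 1) : bd A R * bd A R = 1 := by
  unfold bd
  rw [fromBlocks_multiply, hA, hR]
  simp [fromBlocks_one]

theorem bd_mulVec_inl (A : Matrix (Fin k ⊕ Fin k) (Fin k ⊕ Fin k) F) (R : Matrix (Fin 2) (Fin 2) F)
    (v : (Fin k ⊕ Fin k) ⊕ Fin 2 → F) : (bd A R *ᵥ v) ∘ Sum.inl = A *ᵥ (v ∘ Sum.inl) := by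
  unfold bd
  rw [fromBlocks_mulVec]
  funext i
  simp

theorem bd_mulVec_inr (A : Matrix (Fin k ⊕ Fin k) (Fin k ⊕ Fin k) F) (R : Matrix (Fin 2) (Fin 2) F)
    (v : (Fin k ⊕ Fin k) ⊕ Fin 2 → F) : (bd A R *ᵥ v) ∘ Sum.inr = R *ᵥ (v ∘ Sum.inr) := by
  unfold bd
  rw [fromBlocks_mulVec]
  funext i
  simp

/-- the anisotropic binary form -/
def Nf (a c : F) (z : Fin 2 → F) : F := z 0 ^ 2 + a * z 0 * z 1 + c * z 1 ^ 2

theorem quadFormMinus_split (a c : F) (v : (Fin k ⊕ Fin k) ⊕ Fin 2 → F) :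
    Cfsg.quadFormMinus k F a c v = Cfsg.quadFormPlus k F (v ∘ Sum.inl) + Nf a c (v ∘ Sum.inr) := rfl

theorem quadFormMinus_bd (a c : F) {A : Matrix (Fin k ⊕ Fin k) (Fin k ⊕ Fin k) F}
    {R : Matrix (Fin 2) (Fin 2) F}
    (hA : ∀ x, Cfsg.quadFormPlus k F (A *ᵥ x) = Cfsg.quadFormPlus k F x)
    (hR : ∀ z, Nf a c (R *ᵥ z) = Nf a c z) (v : (Fin k ⊕ Fin k) ⊕ Fin 2 → F) :
    Cfsg.quadFormMinus k F a c (bd A R *ᵥ v) = Cfsg.quadFormMinus k F a c v := by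
  rw [quadFormMinus_split, quadFormMinus_split, bd_mulVec_inl, bd_mulVec_inr, hA, hR]

theorem bd_sub_one (A : Matrix (Fin k ⊕ Fin k) (Fin k ⊕ Fin k) F) (R : Matrix (Fin 2) (Fin 2) F) :
    bd A R - 1 = fromBlocks (A - 1) 0 0 (R - 1) := by
  unfold bd
  rw [← fromBlocks_one, sub_eq_add_neg, fromBlocks_neg, fromBlocks_add]
  simp [sub_eq_add_neg]

theorem rank_bd_sub_one (A : Matrix (Fin k ⊕ Fin k) (Fin k ⊕ Fin k) F)
    (R : Matrix (Fin 2) (Fin 2) F) : (bd A R - 1).rank = (A - 1).rank + (R - 1).rank := by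
  rw [bd_sub_one, rank_fromBlocks_diag]

theorem Nf_zero (a c : F) : Nf a c 0 = 0 := by
  unfold Nf
  simp

theorem tauQ_bd_one [CharP F 2] (a c : F) (A : Matrix (Fin k ⊕ Fin k) (Fin k ⊕ Fin k) F) :
    tauQ (Cfsg.quadFormMinus k F a c) (bd A 1) ↔ tauQ (Cfsg.quadFormPlus k F) A := by
  have key : ∀ v : (Fin k ⊕ Fin k) ⊕ Fin 2 → F,
      Cfsg.quadFormMinus k F a c (v + bd A 1 *ᵥ v)
        = Cfsg.quadFormPlus k F (v ∘ Sum.inl + A *ᵥ (v ∘ Sum.inl)) := by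
    intro v
    rw [quadFormMinus_split]
    have h1 : (v + bd A 1 *ᵥ v) ∘ Sum.inl = v ∘ Sum.inl + A *ᵥ (v ∘ Sum.inl) := by
      rw [← bd_mulVec_inl A 1 v]
      rfl
    have h2 : (v + bd A 1 *ᵥ v) ∘ Sum.inr = 0 := by
      have : (v + bd A 1 *ᵥ v) ∘ Sum.inr = v ∘ Sum.inr + (bd A 1 *ᵥ v) ∘ Sum.inr := rfl
      rw [this, bd_mulVec_inr, Matrix.one_mulVec]
      funext i
      exact CharTwo.add_self_eq_zero _
    rw [h1, h2, Nf_zero, add_zero]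
  constructor
  · intro h x
    have := h (Sum.elim x 0)
    rw [key] at this
    exact this
  · intro h v
    rw [key]
    exact h _

theorem not_tauQ_bd_R2 [CharP F 2] {a : F} (ha : a ≠ 0) (c : F)
    (A : Matrix (Fin k ⊕ Fin k) (Fin k ⊕ Fin k) F) :
    ¬ tauQ (Cfsg.quadFormMinus k F a c) (bd A (R2 a)) := by
  intro h
  have h1 := h (Sum.elim 0 ![0, 1])
  rw [quadFormMinus_split] at h1
  have h2 : (Sum.elim (0 : Fin k ⊕ Fin k → F) ![0, 1]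
      + bd A (R2 a) *ᵥ (Sum.elim (0 : Fin k ⊕ Fin k → F) ![0, 1])) ∘ Sum.inl = 0 := by
    have : (Sum.elim (0 : Fin k ⊕ Fin k → F) ![0, 1]
      + bd A (R2 a) *ᵥ (Sum.elim (0 : Fin k ⊕ Fin k → F) ![0, 1])) ∘ Sum.inl
      = (Sum.elim (0 : Fin k ⊕ Fin k → F) ![0, 1]) ∘ Sum.inl
        + (bd A (R2 a) *ᵥ (Sum.elim (0 : Fin k ⊕ Fin k → F) ![0, 1])) ∘ Sum.inl := rfl
    rw [this, bd_mulVec_inl]
    simp
  have h3 : (Sum.elim (0 : Fin k ⊕ Fin k → F) ![0, 1]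
      + bd A (R2 a) *ᵥ (Sum.elim (0 : Fin k ⊕ Fin k → F) ![0, 1])) ∘ Sum.inr = ![a, 0] := by
    have : (Sum.elim (0 : Fin k ⊕ Fin k → F) ![0, 1]
      + bd A (R2 a) *ᵥ (Sum.elim (0 : Fin k ⊕ Fin k → F) ![0, 1])) ∘ Sum.inr
      = (Sum.elim (0 : Fin k ⊕ Fin k → F) ![0, 1]) ∘ Sum.inr
        + (bd A (R2 a) *ᵥ (Sum.elim (0 : Fin k ⊕ Fin k → F) ![0, 1])) ∘ Sum.inr := rfl
    rw [this, bd_mulVec_inr, Sum.elim_comp_inr, R2_mulVec]
    funext i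
    fin_cases i
    · simp
    · simp
      exact CharTwo.add_self_eq_zero _
  rw [h2, h3] at h1
  have h4 : Cfsg.quadFormPlus k F (0 : Fin k ⊕ Fin k → F) = 0 := by
    unfold Cfsg.quadFormPlus
    simp
  rw [h4, zero_add] at h1
  unfold Nf at h1
  simp at h1
  exact ha h1

end Cfsg.Agent.Helper43.OrthInv
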