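import Mathlib
import Cfsg.Agent.Helper43.OrthInvF
import Cfsg.Agent.Helper45.OmegaParity

set_option autoImplicit false

/-!
# The involution classes of `O⁻_2m(F)` in characteristic two: the count
-/

namespace Cfsg.Agent.Helper43.OrthInv

open Matrix QuadraticMap Module Cfsg.Agent.Helper45.WittQuad Cfsg.Agent.Helper43.SpInv
open Cfsg.Agent.Helper44

variable {F : Type*} [Field F] {k : ℕ}

/-- The index set of the classes (minus type). -/
def idxMinusEquiv (k : ℕ) :
    {p : Fin (k + 1) × Bool // p.2 = true → (Even (p.1.val + 1) ∧ p.1.val + 1 ≤ k)} ≃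
    Fin (k + 1) ⊕ {s : Fin k // Even (s.val + 1)} where
  toFun p := if h : p.1.2 = true then Sum.inr ⟨⟨p.1.1.val, by have := (p.2 h).2; omega⟩, (p.2 h).1⟩
    else Sum.inl p.1.1
  invFun x := Sum.elim (fun s => ⟨(s, false), by simp⟩)
    (fun s => ⟨(⟨s.1.val, by have := s.1.2; omega⟩, true), fun _ => ⟨s.2, by
      have := s.1.2
      show s.1.val + 1 ≤ k
      omega⟩⟩) x
  left_inv p := by
    obtain ⟨⟨s, b⟩, hp⟩ := p
    cases b
    · simp
    · simp
  right_inv x := by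
    rcases x with s | s
    · simp
    · simp

theorem card_idxMinus (k : ℕ) :
    Nat.card {p : Fin (k + 1) × Bool // p.2 = true → (Even (p.1.val + 1) ∧ p.1.val + 1 ≤ k)}
      = (k + 1) + k / 2 := by
  rw [Nat.card_congr (idxMinusEquiv k), Nat.card_sum, Nat.card_congr (Cfsg.Agent.S2593.oddEquiv k),
    Nat.card_fin, Nat.card_fin]

/-- The representative matrices (minus type). -/
def RepM (F : Type*) [Field F] (k s : ℕ) (b : Bool) (a : F) :
    Matrix ((Fin k ⊕ Fin k) ⊕ Fin 2) ((Fin k ⊕ Fin k) ⊕ Fin 2) F :=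
  if s ≤ k then bd (Rep F k s b) 1 else bd (Ps F k k) (R2 a)

theorem RepM_mul_self [CharP F 2] (s : ℕ) (b : Bool) (a : F) :
    RepM F k s b a * RepM F k s b a = 1 := by
  unfold RepM
  split_ifs
  · exact bd_mul_self (Rep_mul_self s b) (one_mul 1)
  · exact bd_mul_self (Ps_mul_self k) (R2_mul_self a)

theorem RepM_isometry [CharP F 2] {s : ℕ} (hs1 : 1 ≤ s) (b : Bool) (a c : F)
    (v : (Fin k ⊕ Fin k) ⊕ Fin 2 → F) :
    Cfsg.quadFormMinus k F a c (RepM F k s b a *ᵥ v) = Cfsg.quadFormMinus k F a c v := by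
  unfold RepM
  split_ifs with h
  · exact quadFormMinus_bd a c (fun x => Rep_isometry hs1 h b x)
      (fun z => by rw [Matrix.one_mulVec]) v
  · exact quadFormMinus_bd a c (fun x => quadFormPlus_Ps k x) (fun z => R2_norm a c z) v

theorem rank_RepM_sub_one [CharP F 2] {a : F} (ha : a ≠ 0) {s : ℕ} (hs : s ≤ k + 1) (b : Bool)
    (hb : b = true → Even s ∧ s ≤ k) : (RepM F k s b a - 1).rank = s := by
  unfold RepM
  split_ifs with h
  · rw [rank_bd_sub_one, rank_Rep_sub_one h b (fun hb' => (hb hb').1), sub_self, Matrix.rank_zero,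
      add_zero]
  · rw [rank_bd_sub_one, rank_Ps_sub_one le_rfl, rank_R2_sub_one ha]
    omega

theorem tauQ_RepM_iff [CharP F 2] {a : F} (ha : a ≠ 0) (c : F) {s : ℕ} (hs1 : 1 ≤ s) (b : Bool)
    (hb : b = true → s ≤ k) :
    tauQ (Cfsg.quadFormMinus k F a c) (RepM F k s b a) ↔ b = true := by
  unfold RepM
  split_ifs with h
  · rw [tauQ_bd_one, tauQ_Rep_iff hs1 h]
  · constructor
    · intro h1
      exact absurd h1 (not_tauQ_bd_R2 ha c _)
    · intro h1
      exact absurd (hb h1) h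

/-- The number of classes of involutions of `O⁻_{2k+2}(F)`. -/
theorem card_involution_classes_minus [Fintype F] [CharP F 2] (k : ℕ) (a c : F)
    (hac : ∀ z₁ z₂ : F, z₁ ^ 2 + a * z₁ * z₂ + c * z₂ ^ 2 = 0 → z₁ = 0 ∧ z₂ = 0) :
    Nat.card {C : ConjClasses ↥(Cfsg.isometryGroup F (Cfsg.quadFormMinus k F a c)) //
      ∃ g : ↥(Cfsg.isometryGroup F (Cfsg.quadFormMinus k F a c)),
        ConjClasses.mk g = C ∧ orderOf g = 2} = (k + 1) + k / 2 := by
  classical
  rw [← card_idxMinus k]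
  set Q : QuadraticForm F ((Fin k ⊕ Fin k) ⊕ Fin 2 → F) := minusForm k F a c with hQdef
  have hD : a ^ 2 - 4 * c ≠ 0 := Cfsg.Agent.Helper45.OmegaParity.disc_ne_zero_of_aniso a c hac
  have ha : a ≠ 0 := by
    intro h0
    apply hD
    have h4 : (4 : F) = 0 := by
      have h2 : (2 : F) = 0 := CharTwo.two_eq_zero
      have : (4 : F) = 2 * 2 := by norm_num
      rw [this, h2, zero_mul]
    rw [h0, h4]
    ring
  have hQ : (polarBilin Q).Nondegenerate := nondegenerate_minusForm k a c hD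
  have hGdet : IsUnit (gramMinus k F a c).det := by
    rw [det_gramMinus]
    exact ((isUnit_one.neg).pow (k + 1)).mul (isUnit_iff_ne_zero.mpr hD)
  -- the representatives
  let T : {p : Fin (k + 1) × Bool // p.2 = true → (Even (p.1.val + 1) ∧ p.1.val + 1 ≤ k)} →
      ↥(Cfsg.isometryGroup F (Cfsg.quadFormMinus k F a c)) :=
    fun p => ⟨glOfInv (RepM F k (p.1.1.val + 1) p.1.2 a) (RepM_mul_self _ _ _), by
      rw [Cfsg.Agent.Helper45.WittQuad.mem_isometryGroup_iff]
      intro x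
      exact RepM_isometry (by omega) p.1.2 a c x⟩
  have hTcoe : ∀ p, (((T p : ↥(Cfsg.isometryGroup F (Cfsg.quadFormMinus k F a c))) :
      GL ((Fin k ⊕ Fin k) ⊕ Fin 2) F) :
      Matrix ((Fin k ⊕ Fin k) ⊕ Fin 2) ((Fin k ⊕ Fin k) ⊕ Fin 2) F)
      = RepM F k (p.1.1.val + 1) p.1.2 a := fun p => rfl
  have hTrank : ∀ p, ((((T p : ↥(Cfsg.isometryGroup F (Cfsg.quadFormMinus k F a c))) :
      GL ((Fin k ⊕ Fin k) ⊕ Fin 2) F) :
      Matrix ((Fin k ⊕ Fin k) ⊕ Fin 2) ((Fin k ⊕ Fin k) ⊕ Fin 2) F) - 1).rank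
      = p.1.1.val + 1 := by
    intro p
    rw [hTcoe, rank_RepM_sub_one ha (by have := p.1.1.2; omega) p.1.2 p.2]
  have hTtau : ∀ p, tauQ (Cfsg.quadFormMinus k F a c)
      (((T p : ↥(Cfsg.isometryGroup F (Cfsg.quadFormMinus k F a c))) :
      GL ((Fin k ⊕ Fin k) ⊕ Fin 2) F) :
      Matrix ((Fin k ⊕ Fin k) ⊕ Fin 2) ((Fin k ⊕ Fin k) ⊕ Fin 2) F) ↔ p.1.2 = true := by
    intro p
    rw [hTcoe]
    exact tauQ_RepM_iff ha c (by omega) p.1.2 (fun hb => (p.2 hb).2)
  have hTord : ∀ p, orderOf (T p) = 2 := by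
    intro p
    apply orderOf_eq_two_of
    · apply Subtype.ext
      exact glOfInv_mul_self _ _
    · intro h1
      have h2 := hTrank p
      rw [h1] at h2
      simp at h2
  refine card_classes_of_reps (J := ℕ × Prop) (fun g => orderOf g = 2)
    (fun g : ↥(Cfsg.isometryGroup F (Cfsg.quadFormMinus k F a c)) =>
      ((((g : GL ((Fin k ⊕ Fin k) ⊕ Fin 2) F) :
        Matrix ((Fin k ⊕ Fin k) ⊕ Fin 2) ((Fin k ⊕ Fin k) ⊕ Fin 2) F) - 1).rank,
      tauQ (Cfsg.quadFormMinus k F a c)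
        ((g : GL ((Fin k ⊕ Fin k) ⊕ Fin 2) F) :
          Matrix ((Fin k ⊕ Fin k) ⊕ Fin 2) ((Fin k ⊕ Fin k) ⊕ Fin 2) F)))
    T hTord ?_ ?_ ?_
  · intro g h hg hh
    have := isConj_iff_invariants Q hQ g h (mul_self_of_orderOf g hg) (mul_self_of_orderOf h hh)
    rw [Prod.ext_iff, eq_iff_iff]
    exact this
  · intro p p' hpp
    rw [Prod.ext_iff, eq_iff_iff] at hpp
    obtain ⟨h2, h3⟩ := hpp
    simp only at h2 h3
    rw [hTrank, hTrank] at h2
    rw [hTtau, hTtau] at h3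
    apply Subtype.ext
    apply Prod.ext
    · apply Fin.ext
      omega
    · exact Bool.eq_iff_iff.mpr h3
  · intro g hg
    obtain ⟨hr1, hr2⟩ := rank_bounds g hg
    rw [Fintype.card_sum, Fintype.card_sum, Fintype.card_fin, Fintype.card_fin] at hr2
    set A : Matrix ((Fin k ⊕ Fin k) ⊕ Fin 2) ((Fin k ⊕ Fin k) ⊕ Fin 2) F :=
      (((g : ↥(Cfsg.isometryGroup F (Cfsg.quadFormMinus k F a c))) :
      GL ((Fin k ⊕ Fin k) ⊕ Fin 2) F) :
      Matrix ((Fin k ⊕ Fin k) ⊕ Fin 2) ((Fin k ⊕ Fin k) ⊕ Fin 2) F) with hA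
    have hgQ := (Cfsg.Agent.Helper45.WittQuad.mem_isometryGroup_iff (Cfsg.quadFormMinus k F a c)
      (g : GL ((Fin k ⊕ Fin k) ⊕ Fin 2) F)).1 g.2
    let s : Fin (k + 1) := ⟨(A - 1).rank - 1, by omega⟩
    let b : Bool := decide (tauQ (Cfsg.quadFormMinus k F a c) A)
    have hs : s.val + 1 = (A - 1).rank := by
      show (A - 1).rank - 1 + 1 = _
      omega
    have hb : b = true ↔ tauQ (Cfsg.quadFormMinus k F a c) A := by
      simp [b]
    have hidx : b = true → (Even (s.val + 1) ∧ s.val + 1 ≤ k) := by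
      intro hbt
      have htau := hb.mp hbt
      rw [hs]
      refine ⟨even_rank_of_tauQ Q (gramMinus k F a c) (polarBilin_minusForm k a c) hGdet A hgQ htau,
        ?_⟩
      have hW := Cfsg.Agent.Helper45.OmegaParity.minus_ts_finrank_le k a c hac
        (LinearMap.range (A - 1).mulVecLin) (by
          rintro w ⟨v, rfl⟩
          rw [Matrix.mulVecLin_apply, Matrix.sub_mulVec, Matrix.one_mulVec]
          have h1 : A *ᵥ v - v = v + A *ᵥ v := by
            rw [sub_eq_add_neg, add_comm]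
            congr 1
            rw [neg_eq_iff_add_eq_zero]
            funext i
            exact CharTwo.add_self_eq_zero _
          rw [h1]
          exact htau v)
      exact hW
    refine ⟨⟨(s, b), hidx⟩, ?_⟩
    rw [Prod.ext_iff, eq_iff_iff]
    refine ⟨?_, ?_⟩
    · simp only
      rw [hTrank]
      exact hs
    · simp only
      rw [hTtau]
      exact hb

end Cfsg.Agent.Helper43.OrthInv
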