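import Mathlib
import Cfsg.Agent.Helper43.OrthInvI

set_option autoImplicit false

/-!
# The involution classes of `Ω⁺_2m(F)` in characteristic two: the count
-/

namespace Cfsg.Agent.Helper43.OrthInv

open Matrix QuadraticMap Module Cfsg.Agent.Helper45.OmegaParity
open Cfsg.Agent.Helper44

variable {F : Type*} [Field F] {m : ℕ}

set_option maxHeartbeats 1000000 in
/-- The number of classes of involutions of `Ω⁺_2m(F)`. -/
theorem card_involution_classes_omega_plus [Fintype F] [CharP F 2] (hm : 1 ≤ m)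
    (h : Fintype.card F ≠ 2 ∨ m ≠ 2) :
    Nat.card {C : ConjClasses ↥(Cfsg.Omega F (Cfsg.quadFormPlus m F)) //
      ∃ g : ↥(Cfsg.Omega F (Cfsg.quadFormPlus m F)), ConjClasses.mk g = C ∧ orderOf g = 2}
      = 2 * (m / 2) + (if Even m then 1 else 0) := by
  classical
  rw [← card_idxOmega m]
  set Q : QuadraticForm F (Fin m ⊕ Fin m → F) := plusForm m F with hQdef
  change Nat.card {C : ConjClasses ↥(Cfsg.Omega F ⇑Q) //
      ∃ g : ↥(Cfsg.Omega F ⇑Q), ConjClasses.mk g = C ∧ orderOf g = 2} = _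
  have hQ : (polarBilin Q).Nondegenerate := nondegenerate_plusForm m
  have hV : Fintype.card (Fin m ⊕ Fin m) = 2 * m := by
    rw [Fintype.card_sum, Fintype.card_fin]
    ring
  have h' : Fintype.card F ≠ 2 ∨ Fintype.card (Fin m ⊕ Fin m) ≠ 4 := by
    rcases h with h | h
    · exact Or.inl h
    · right
      rw [hV]
      omega
  have hGdet : IsUnit (gramPlus m F).det := by
    rw [det_gramPlus]
    exact (isUnit_one.neg).pow m
  have hΩ : ∀ g : ↥(Cfsg.isometryGroup F ⇑Q),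
      g ∈ Cfsg.Omega F ⇑Q ↔
        Even ((g.1 : Matrix (Fin m ⊕ Fin m) (Fin m ⊕ Fin m) F) - 1).rank :=
    fun g => mem_Omega_iff_even_rank Q hQ h' g
  -- the basic elements
  set t₀ : ↥(Cfsg.isometryGroup F ⇑Q) := RepO m m hm le_rfl true with ht₀def
  set p₁ : ↥(Cfsg.isometryGroup F ⇑Q) := RepO m 1 le_rfl hm false with hp₁def
  set t₁ : ↥(Cfsg.isometryGroup F ⇑Q) := p₁ * t₀ * p₁⁻¹ with ht₁def
  have ht₀2 : t₀ * t₀ = 1 := RepO_mul_self _ _ _ _
  have ht₁2 : t₁ * t₁ = 1 := by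
    rw [ht₁def]
    calc p₁ * t₀ * p₁⁻¹ * (p₁ * t₀ * p₁⁻¹) = p₁ * (t₀ * t₀) * p₁⁻¹ := by group
      _ = 1 := by rw [ht₀2]; group
  have ht₀ : Even m → t₀ * t₀ = 1 ∧
      ((t₀.1 : Matrix (Fin m ⊕ Fin m) (Fin m ⊕ Fin m) F) - 1).rank = m ∧
      tauQ ⇑Q (t₀.1 : Matrix (Fin m ⊕ Fin m) (Fin m ⊕ Fin m) F) := by
    intro hme
    refine ⟨ht₀2, ?_, ?_⟩
    · rw [ht₀def, RepO_coe, rank_Rep_sub_one le_rfl true (fun _ => hme)]
    · rw [ht₀def, RepO_coe]
      exact (tauQ_Rep_iff hm le_rfl true).2 rfl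
  have hp₁ : p₁ ∉ Cfsg.Omega F ⇑Q := by
    rw [hΩ, hp₁def, RepO_coe, rank_Rep_sub_one hm false (fun hb => by simp at hb)]
    decide
  have hconj01 : IsConj t₀ t₁ := isConj_iff.2 ⟨p₁, rfl⟩
  have hinv01 := (isConj_iff_invariants Q hQ t₀ t₁ ht₀2 ht₁2).1 hconj01
  have ht₁ : Even m → ((t₁.1 : Matrix (Fin m ⊕ Fin m) (Fin m ⊕ Fin m) F) - 1).rank = m ∧
      tauQ ⇑Q (t₁.1 : Matrix (Fin m ⊕ Fin m) (Fin m ⊕ Fin m) F) ∧ ¬ OmConj Q t₀ t₁ := by
    intro hme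
    obtain ⟨_, h2, h3⟩ := ht₀ hme
    refine ⟨hinv01.1 ▸ h2, hinv01.2.1 h3, ?_⟩
    rintro ⟨w, hw, hwc⟩
    have h4 : (p₁⁻¹ * w) * t₀ * (p₁⁻¹ * w)⁻¹ = t₀ := by
      calc (p₁⁻¹ * w) * t₀ * (p₁⁻¹ * w)⁻¹ = p₁⁻¹ * (w * t₀ * w⁻¹) * p₁ := by group
        _ = t₀ := by rw [hwc, ht₁def]; group
    have h5 := mem_Omega_of_commute Q hQ h' m hV t₀ (p₁⁻¹ * w) h2 h3 hme h4
    apply hp₁
    have h6 : p₁ = w * (p₁⁻¹ * w)⁻¹ := by group
    rw [h6]
    exact mul_mem hw (inv_mem h5)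
  -- the representatives
  let T : {p : Fin m × Bool // Even (p.1.val + 1)} ⊕ {u : Unit // Even m} →
      ↥(Cfsg.Omega F ⇑Q) :=
    Sum.elim
      (fun p => ⟨RepO m (p.1.1.val + 1) (by omega) (by have := p.1.1.2; omega) p.1.2, by
        refine (hΩ _).2 ?_
        rw [RepO_coe, rank_Rep_sub_one (by have := p.1.1.2; omega) p.1.2 (fun _ => p.2)]
        exact p.2⟩)
      (fun u => ⟨t₁, by
        refine (hΩ _).2 ?_
        rw [(ht₁ u.2).1]
        exact u.2⟩)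
  have hTlrank : ∀ p, ((((T (Sum.inl p)).1).1 : Matrix (Fin m ⊕ Fin m) (Fin m ⊕ Fin m) F) - 1).rank
      = p.1.1.val + 1 := by
    intro p
    show (Rep F m (p.1.1.val + 1) p.1.2 - 1).rank = _
    rw [rank_Rep_sub_one (by have := p.1.1.2; omega) p.1.2 (fun _ => p.2)]
  have hTltau : ∀ p, tauQ ⇑Q (((T (Sum.inl p)).1).1 : Matrix (Fin m ⊕ Fin m) (Fin m ⊕ Fin m) F)
      ↔ p.1.2 = true := by
    intro p
    show tauQ ⇑Q (Rep F m (p.1.1.val + 1) p.1.2) ↔ _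
    exact tauQ_Rep_iff (by omega) (by have := p.1.1.2; omega) p.1.2
  have hTlsp : ∀ p, ¬ (((((T (Sum.inl p)).1).1 : Matrix (Fin m ⊕ Fin m) (Fin m ⊕ Fin m) F) - 1).rank
      = m ∧ tauQ ⇑Q (((T (Sum.inl p)).1).1 : Matrix (Fin m ⊕ Fin m) (Fin m ⊕ Fin m) F) ∧
      ¬ OmConj Q t₀ (T (Sum.inl p)).1) := by
    intro p
    rintro ⟨h1, h2, h3⟩
    rw [hTlrank] at h1
    rw [hTltau] at h2
    apply h3
    have h4 : (T (Sum.inl p)).1 = t₀ := by
      apply Subtype.ext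
      apply Units.ext
      show Rep F m (p.1.1.val + 1) p.1.2 = Rep F m m true
      rw [h1, h2]
    rw [h4]
    exact OmConj.refl Q t₀
  have hTr : ∀ u, (T (Sum.inr u)).1 = t₁ := fun u => rfl
  have hT2 : ∀ i, (T i).1 * (T i).1 = 1 := by
    rintro (p | u)
    · exact RepO_mul_self (p.1.1.val + 1) (by omega) (by have := p.1.1.2; omega) p.1.2
    · exact ht₁2
  have hTne : ∀ i, T i ≠ 1 := by
    rintro (p | u) h1
    · have h2 := hTlrank p
      rw [h1] at h2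
      simp at h2
    · have h2 := (ht₁ u.2).1
      rw [← hTr u, h1] at h2
      simp at h2
      omega
  have hTord : ∀ i, orderOf (T i) = 2 := by
    intro i
    apply orderOf_eq_two_of
    · apply Subtype.ext
      exact hT2 i
    · exact hTne i
  have hP : ∀ g : ↥(Cfsg.Omega F ⇑Q), orderOf g = 2 → g.1 * g.1 = 1 ∧ orderOf g.1 = 2 := by
    intro g hg
    refine ⟨?_, ?_⟩
    · have := mul_self_of_orderOf g hg
      exact congrArg Subtype.val this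
    · rw [← hg]
      exact Subgroup.orderOf_coe g
  refine card_classes_of_reps (J := ℕ × Prop × Prop) (fun g => orderOf g = 2)
    (fun g : ↥(Cfsg.Omega F ⇑Q) =>
      ((((g.1).1 : Matrix (Fin m ⊕ Fin m) (Fin m ⊕ Fin m) F) - 1).rank,
      tauQ ⇑Q ((g.1).1 : Matrix (Fin m ⊕ Fin m) (Fin m ⊕ Fin m) F),
      ((((g.1).1 : Matrix (Fin m ⊕ Fin m) (Fin m ⊕ Fin m) F) - 1).rank = m ∧
        tauQ ⇑Q ((g.1).1 : Matrix (Fin m ⊕ Fin m) (Fin m ⊕ Fin m) F) ∧ ¬ OmConj Q t₀ g.1)))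
    T hTord ?_ ?_ ?_
  · intro g k hg hk
    rw [isConj_Omega_iff, omConj_iff Q hQ h' m hV t₀ ht₀ g.1 k.1 (hP g hg).1 (hP k hk).1 g.2]
    simp only [Prod.ext_iff, eq_iff_iff, and_assoc]
  · rintro (p | u) (p' | u') hpp
    · simp only [Prod.ext_iff, eq_iff_iff] at hpp
      obtain ⟨h2, h3, _⟩ := hpp
      rw [hTlrank, hTlrank] at h2
      rw [hTltau, hTltau] at h3
      congr 1
      apply Subtype.ext
      apply Prod.ext
      · apply Fin.ext
        omega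
      · exact Bool.eq_iff_iff.mpr h3
    · exfalso
      simp only [Prod.ext_iff, eq_iff_iff] at hpp
      obtain ⟨_, _, h4⟩ := hpp
      apply hTlsp p
      rw [h4]
      exact ht₁ u'.2
    · exfalso
      simp only [Prod.ext_iff, eq_iff_iff] at hpp
      obtain ⟨_, _, h4⟩ := hpp
      apply hTlsp p'
      rw [← h4]
      exact ht₁ u.2
    · congr 1
      apply Subtype.ext
      rfl
  · intro g hg
    obtain ⟨hg2, hgord⟩ := hP g hg
    obtain ⟨hr1, hr2⟩ := rank_bounds g.1 hgord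
    rw [hV] at hr2
    have hev := (hΩ g.1).1 g.2
    set A : Matrix (Fin m ⊕ Fin m) (Fin m ⊕ Fin m) F := ((g.1).1 :
      Matrix (Fin m ⊕ Fin m) (Fin m ⊕ Fin m) F) with hA
    by_cases hsp : (A - 1).rank = m ∧ tauQ ⇑Q A ∧ ¬ OmConj Q t₀ g.1
    · have hme : Even m := hsp.1 ▸ hev
      refine ⟨Sum.inr ⟨(), hme⟩, ?_⟩
      obtain ⟨h1, h2, h3⟩ := ht₁ hme
      simp only [Prod.ext_iff, eq_iff_iff]
      refine ⟨?_, ?_, ?_⟩
      · rw [hTr, h1, hsp.1]
      · rw [hTr]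
        exact ⟨fun _ => hsp.2.1, fun _ => h2⟩
      · rw [hTr]
        exact ⟨fun _ => hsp, fun _ => ⟨h1, h2, h3⟩⟩
    · let s : Fin m := ⟨(A - 1).rank - 1, by omega⟩
      let b : Bool := decide (tauQ ⇑Q A)
      have hs : s.val + 1 = (A - 1).rank := by
        show (A - 1).rank - 1 + 1 = _
        omega
      have hb : b = true ↔ tauQ ⇑Q A := by
        simp [b]
      refine ⟨Sum.inl ⟨(s, b), by rw [hs]; exact hev⟩, ?_⟩
      simp only [Prod.ext_iff, eq_iff_iff]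
      refine ⟨?_, ?_, ?_⟩
      · rw [hTlrank]
        exact hs
      · rw [hTltau]
        exact hb
      · exact ⟨fun h1 => absurd h1 (hTlsp _), fun h1 => absurd h1 hsp⟩

end Cfsg.Agent.Helper43.OrthInv
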