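import Mathlib
import Cfsg.Agent.Helper43.OrthInvG
import Cfsg.Agent.Helper43.OrthInvH
import Cfsg.Agent.Helper45.OmegaInvol

set_option autoImplicit false

/-!
# The involution classes of `Ω⁻_2m(F)` in characteristic two: the generic case
-/

namespace Cfsg.Agent.Helper43.OrthInv

open Matrix QuadraticMap Module Cfsg.Agent.Helper45.OmegaParity
open Cfsg.Agent.Helper44

variable {F : Type*} [Field F] {k : ℕ}

/-- The index set of the classes (`Ω`, minus type). -/
def idxOmegaMinusEquiv (k : ℕ) :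
    {p : Fin (k + 1) × Bool // Even (p.1.val + 1) ∧ (p.2 = true → p.1.val + 1 ≤ k)} ≃
    {s : Fin (k + 1) // Even (s.val + 1)} ⊕ {s : Fin k // Even (s.val + 1)} where
  toFun p := if h : p.1.2 = true then
      Sum.inr ⟨⟨p.1.1.val, by have := p.2.2 h; omega⟩, p.2.1⟩
    else Sum.inl ⟨p.1.1, p.2.1⟩
  invFun x := Sum.elim (fun s => ⟨(s.1, false), ⟨s.2, by simp⟩⟩)
    (fun s => ⟨(⟨s.1.val, by have := s.1.2; omega⟩, true), ⟨s.2, fun _ => by
      have := s.1.2
      show s.1.val + 1 ≤ k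
      omega⟩⟩) x
  left_inv p := by
    obtain ⟨⟨s, b⟩, hp⟩ := p
    cases b
    · simp
    · simp
  right_inv x := by
    rcases x with s | s
    · simp
    · simp

theorem card_idxOmegaMinus (k : ℕ) :
    Nat.card {p : Fin (k + 1) × Bool // Even (p.1.val + 1) ∧ (p.2 = true → p.1.val + 1 ≤ k)}
      = (k + 1) / 2 + k / 2 := by
  rw [Nat.card_congr (idxOmegaMinusEquiv k), Nat.card_sum,
    Nat.card_congr (Cfsg.Agent.S2593.oddEquiv k), Nat.card_congr (Cfsg.Agent.S2593.oddEquiv (k + 1)),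
    Nat.card_fin, Nat.card_fin]

set_option maxHeartbeats 1000000 in
/-- The number of classes of involutions of `Ω⁻_{2k+2}(F)`, generic case. -/
theorem card_involution_classes_omega_minus_gen [Fintype F] [CharP F 2] (k : ℕ) (a c : F)
    (hac : ∀ z₁ z₂ : F, z₁ ^ 2 + a * z₁ * z₂ + c * z₂ ^ 2 = 0 → z₁ = 0 ∧ z₂ = 0)
    (h : Fintype.card F ≠ 2 ∨ k ≠ 1) :
    Nat.card {C : ConjClasses ↥(Cfsg.Omega F (Cfsg.quadFormMinus k F a c)) //
      ∃ g : ↥(Cfsg.Omega F (Cfsg.quadFormMinus k F a c)),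
        ConjClasses.mk g = C ∧ orderOf g = 2} = (k + 1) / 2 + k / 2 := by
  classical
  rw [← card_idxOmegaMinus k]
  set Q : QuadraticForm F ((Fin k ⊕ Fin k) ⊕ Fin 2 → F) := minusForm k F a c with hQdef
  change Nat.card {C : ConjClasses ↥(Cfsg.Omega F ⇑Q) //
      ∃ g : ↥(Cfsg.Omega F ⇑Q), ConjClasses.mk g = C ∧ orderOf g = 2} = _
  have hD : a ^ 2 - 4 * c ≠ 0 := Cfsg.Agent.Helper45.OmegaParity.disc_ne_zero_of_aniso a c hac
  have ha : a ≠ 0 := by
    intro h0
    apply hD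
    have h4 : (4 : F) = 0 := by
      have h2 : (2 : F) = 0 := CharTwo.two_eq_zero
      have : (4 : F) = 2 * 2 := by norm_num
      rw [this, h2, zero_mul]
    rw [h0, h4]
    ring
  have hQ : (polarBilin Q).Nondegenerate := nondegenerate_minusForm k a c hD
  have hGdet : IsUnit (gramMinus k F a c).det := by
    rw [det_gramMinus]
    exact ((isUnit_one.neg).pow (k + 1)).mul (isUnit_iff_ne_zero.mpr hD)
  have hV : Fintype.card ((Fin k ⊕ Fin k) ⊕ Fin 2) = 2 * k + 2 := by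
    rw [Fintype.card_sum, Fintype.card_sum, Fintype.card_fin, Fintype.card_fin]
    ring
  have h' : Fintype.card F ≠ 2 ∨ Fintype.card ((Fin k ⊕ Fin k) ⊕ Fin 2) ≠ 4 := by
    rcases h with h | h
    · exact Or.inl h
    · right
      rw [hV]
      omega
  have hΩ : ∀ g : ↥(Cfsg.isometryGroup F ⇑Q), g ∈ Cfsg.Omega F ⇑Q ↔
      Even ((g.1 : Matrix ((Fin k ⊕ Fin k) ⊕ Fin 2) ((Fin k ⊕ Fin k) ⊕ Fin 2) F) - 1).rank :=
    fun g => mem_Omega_iff_even_rank Q hQ h' g
  -- conjugacy under `Ω` is conjugacy under `O`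
  have hOm : ∀ t s : ↥(Cfsg.isometryGroup F ⇑Q), t * t = 1 → IsConj t s → OmConj Q t s := by
    intro t s ht hconj
    obtain ⟨u, hu, htu⟩ := exists_nonsingular_fixed Q t ht (fun W hW => by
      have := minus_ts_finrank_le k a c hac W hW
      rw [hV]
      omega)
    exact exists_conj_mem_Omega Q hQ h' t s hconj u hu htu
  -- the representatives
  let T : {p : Fin (k + 1) × Bool // Even (p.1.val + 1) ∧ (p.2 = true → p.1.val + 1 ≤ k)} →
      ↥(Cfsg.Omega F ⇑Q) :=
    fun p => ⟨⟨glOfInv (RepM F k (p.1.1.val + 1) p.1.2 a) (RepM_mul_self _ _ _), by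
      rw [Cfsg.Agent.Helper45.WittQuad.mem_isometryGroup_iff]
      intro x
      exact RepM_isometry (by omega) p.1.2 a c x⟩, by
      refine (hΩ _).2 ?_
      show Even (RepM F k (p.1.1.val + 1) p.1.2 a - 1).rank
      rw [rank_RepM_sub_one ha (by have := p.1.1.2; omega) p.1.2 (fun hb => ⟨p.2.1, p.2.2 hb⟩)]
      exact p.2.1⟩
  have hTrank : ∀ p, ((((T p).1).1 :
      Matrix ((Fin k ⊕ Fin k) ⊕ Fin 2) ((Fin k ⊕ Fin k) ⊕ Fin 2) F) - 1).rank
      = p.1.1.val + 1 := by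
    intro p
    show (RepM F k (p.1.1.val + 1) p.1.2 a - 1).rank = _
    rw [rank_RepM_sub_one ha (by have := p.1.1.2; omega) p.1.2 (fun hb => ⟨p.2.1, p.2.2 hb⟩)]
  have hTtau : ∀ p, tauQ ⇑Q (((T p).1).1 :
      Matrix ((Fin k ⊕ Fin k) ⊕ Fin 2) ((Fin k ⊕ Fin k) ⊕ Fin 2) F) ↔ p.1.2 = true := by
    intro p
    show tauQ ⇑Q (RepM F k (p.1.1.val + 1) p.1.2 a) ↔ _
    exact tauQ_RepM_iff ha c (by omega) p.1.2 (fun hb => p.2.2 hb)
  have hTord : ∀ p, orderOf (T p) = 2 := by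
    intro p
    apply orderOf_eq_two_of
    · apply Subtype.ext
      apply Subtype.ext
      exact glOfInv_mul_self _ _
    · intro h1
      have h2 := hTrank p
      rw [h1] at h2
      simp at h2
  have hP : ∀ g : ↥(Cfsg.Omega F ⇑Q), orderOf g = 2 → g.1 * g.1 = 1 ∧ orderOf g.1 = 2 := by
    intro g hg
    refine ⟨?_, ?_⟩
    · have := mul_self_of_orderOf g hg
      exact congrArg Subtype.val this
    · exact (Subgroup.orderOf_coe g).trans hg
  refine card_classes_of_reps (J := ℕ × Prop) (fun g => orderOf g = 2)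
    (fun g : ↥(Cfsg.Omega F ⇑Q) =>
      ((((g.1).1 : Matrix ((Fin k ⊕ Fin k) ⊕ Fin 2) ((Fin k ⊕ Fin k) ⊕ Fin 2) F) - 1).rank,
      tauQ ⇑Q ((g.1).1 : Matrix ((Fin k ⊕ Fin k) ⊕ Fin 2) ((Fin k ⊕ Fin k) ⊕ Fin 2) F)))
    T hTord ?_ ?_ ?_
  · intro g g' hg hg'
    have hinv := isConj_iff_invariants Q hQ g.1 g'.1 (hP g hg).1 (hP g' hg').1
    rw [isConj_Omega_iff, Prod.ext_iff, eq_iff_iff]
    constructor
    · intro hgg
      exact hinv.1 hgg.isConj
    · intro hgg
      exact hOm g.1 g'.1 (hP g hg).1 (hinv.2 hgg)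
  · intro p p' hpp
    rw [Prod.ext_iff, eq_iff_iff] at hpp
    obtain ⟨h2, h3⟩ := hpp
    simp only at h2 h3
    rw [hTrank, hTrank] at h2
    rw [hTtau, hTtau] at h3
    apply Subtype.ext
    apply Prod.ext
    · apply Fin.ext
      omega
    · exact Bool.eq_iff_iff.mpr h3
  · intro g hg
    obtain ⟨hg2, hgord⟩ := hP g hg
    obtain ⟨hr1, hr2⟩ := rank_bounds g.1 hgord
    rw [hV] at hr2
    have hev := (hΩ g.1).1 g.2
    set A : Matrix ((Fin k ⊕ Fin k) ⊕ Fin 2) ((Fin k ⊕ Fin k) ⊕ Fin 2) F :=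
      ((g.1).1 : Matrix ((Fin k ⊕ Fin k) ⊕ Fin 2) ((Fin k ⊕ Fin k) ⊕ Fin 2) F) with hA
    let s : Fin (k + 1) := ⟨(A - 1).rank - 1, by omega⟩
    let b : Bool := decide (tauQ ⇑Q A)
    have hs : s.val + 1 = (A - 1).rank := by
      show (A - 1).rank - 1 + 1 = _
      omega
    have hb : b = true ↔ tauQ ⇑Q A := by
      simp [b]
    have hidx : b = true → s.val + 1 ≤ k := by
      intro hbt
      have htau := hb.mp hbt
      rw [hs]
      have hW := Cfsg.Agent.Helper45.OmegaParity.minus_ts_finrank_le k a c hac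
        (LinearMap.range (A - 1).mulVecLin) (by
          rintro w ⟨v, rfl⟩
          rw [Matrix.mulVecLin_apply, Matrix.sub_mulVec, Matrix.one_mulVec]
          have h1 : A *ᵥ v - v = v + A *ᵥ v := by
            rw [sub_eq_add_neg, add_comm]
            congr 1
            rw [neg_eq_iff_add_eq_zero]
            funext i
            exact CharTwo.add_self_eq_zero _
          rw [h1]
          exact htau v)
      exact hW
    refine ⟨⟨(s, b), ⟨by rw [hs]; exact hev, hidx⟩⟩, ?_⟩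
    refine Prod.ext ?_ (propext ?_)
    · simp only
      rw [hTrank]
      exact hs
    · simp only
      rw [hTtau]
      exact hb

end Cfsg.Agent.Helper43.OrthInv
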