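import Mathlib

set_option autoImplicit false

/-!
# Involutions of `SL₂(K)` in characteristic two are conjugate
-/

namespace Cfsg.Agent.Helper43.OrthInv

open Matrix

variable {K : Type*} [Field K]

/-- the standard involution of `SL₂` -/
def uSL (K : Type*) [Field K] : Matrix.SpecialLinearGroup (Fin 2) K :=
  ⟨!![1, 1; 0, 1], by rw [Matrix.det_fin_two_of]; ring⟩

theorem uSL_mul_self [CharP K 2] : uSL K * uSL K = 1 := by
  have h2 : (2 : K) = 0 := CharTwo.two_eq_zero
  apply Subtype.ext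
  rw [Matrix.SpecialLinearGroup.coe_mul, Matrix.SpecialLinearGroup.coe_one]
  show !![(1 : K), 1; 0, 1] * !![(1 : K), 1; 0, 1] = 1
  have e : (1 : K) + 1 = 0 := by linear_combination h2
  rw [Matrix.mul_fin_two, Matrix.one_fin_two]
  simp [e]

theorem uSL_ne_one : uSL K ≠ 1 := by
  intro h
  have h1 := congrArg (fun A : Matrix.SpecialLinearGroup (Fin 2) K =>
    (A : Matrix (Fin 2) (Fin 2) K) 0 1) h
  simp [uSL] at h1

theorem isConj_uSL [Finite K] [CharP K 2] (t : Matrix.SpecialLinearGroup (Fin 2) K)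
    (ht : t * t = 1) (hne : t ≠ 1) : IsConj (uSL K) t := by
  have h2 : (2 : K) = 0 := CharTwo.two_eq_zero
  obtain ⟨a, b, c, d, hT⟩ : ∃ a b c d : K, (t : Matrix (Fin 2) (Fin 2) K) = !![a, b; c, d] :=
    ⟨_, _, _, _, Matrix.eta_fin_two _⟩
  have hTT : (t : Matrix (Fin 2) (Fin 2) K) * (t : Matrix (Fin 2) (Fin 2) K) = 1 := by
    rw [← Matrix.SpecialLinearGroup.coe_mul, ht, Matrix.SpecialLinearGroup.coe_one]
  rw [hT, Matrix.mul_fin_two, Matrix.one_fin_two] at hTT
  have h00 : a * a + b * c = 1 := by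
    have := congrFun (congrFun hTT 0) 0
    simpa using this
  have h11 : c * b + d * d = 1 := by
    have := congrFun (congrFun hTT 1) 1
    simpa using this
  have hda : a = d := by
    have h3 : (a + d) ^ 2 = 0 := by linear_combination h00 - h11 + (a * d + d * d) * h2
    have h4 : a + d = 0 := (pow_eq_zero_iff (by norm_num : (2 : ℕ) ≠ 0)).1 h3
    linear_combination h4 - d * h2
  subst hda
  -- square roots
  have hsurj : Function.Surjective (frobenius K 2) :=
    (Finite.injective_iff_surjective).mp (frobenius_inj K 2)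
  obtain ⟨p, hp⟩ := hsurj b
  obtain ⟨r, hr⟩ := hsurj c
  rw [frobenius_def] at hp hr
  have hpr : p * r = a + 1 := by
    apply frobenius_inj K 2
    rw [frobenius_def, frobenius_def]
    linear_combination r ^ 2 * hp + b * hr + h00 + (-a ^ 2 - a) * h2
  subst hp
  subst hr
  rw [isConj_iff]
  by_cases hp0 : p = 0
  · subst hp0
    have ha1 : a = 1 := by linear_combination -hpr - h2
    subst ha1
    have hr0 : r ≠ 0 := by
      intro hr0
      apply hne
      apply Subtype.ext
      rw [hT, Matrix.SpecialLinearGroup.coe_one, Matrix.one_fin_two, hr0]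
      simp
    have hdet : (!![0, r⁻¹; r, 0] : Matrix (Fin 2) (Fin 2) K).det = 1 := by
      rw [Matrix.det_fin_two_of]
      field_simp
      linear_combination -h2
    obtain ⟨P, hP⟩ : ∃ P : Matrix.SpecialLinearGroup (Fin 2) K,
        (P : Matrix (Fin 2) (Fin 2) K) = !![0, r⁻¹; r, 0] := ⟨⟨_, hdet⟩, rfl⟩
    refine ⟨P, ?_⟩
    rw [mul_inv_eq_iff_eq_mul]
    apply Subtype.ext
    rw [Matrix.SpecialLinearGroup.coe_mul, Matrix.SpecialLinearGroup.coe_mul, hT, hP]
    show !![0, r⁻¹; r, 0] * !![(1 : K), 1; 0, 1] = !![1, 0 ^ 2; r ^ 2, 1] * !![0, r⁻¹; r, 0]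
    rw [Matrix.mul_fin_two, Matrix.mul_fin_two]
    have e4 : r * 1 + 0 * 1 = r ^ 2 * r⁻¹ + 1 * 0 := by
      field_simp
    rw [e4]
    simp
  · have hdet : (!![p, 0; r, p⁻¹] : Matrix (Fin 2) (Fin 2) K).det = 1 := by
      rw [Matrix.det_fin_two_of]
      field_simp
      ring
    obtain ⟨P, hP⟩ : ∃ P : Matrix.SpecialLinearGroup (Fin 2) K,
        (P : Matrix (Fin 2) (Fin 2) K) = !![p, 0; r, p⁻¹] := ⟨⟨_, hdet⟩, rfl⟩
    refine ⟨P, ?_⟩
    rw [mul_inv_eq_iff_eq_mul]
    apply Subtype.ext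
    rw [Matrix.SpecialLinearGroup.coe_mul, Matrix.SpecialLinearGroup.coe_mul, hT, hP]
    show !![p, 0; r, p⁻¹] * !![(1 : K), 1; 0, 1] = !![a, p ^ 2; r ^ 2, a] * !![p, 0; r, p⁻¹]
    rw [Matrix.mul_fin_two, Matrix.mul_fin_two]
    have e1 : p * 1 + 0 * 0 = a * p + p ^ 2 * r := by
      linear_combination (-a * p) * h2 - p * hpr
    have e2 : p * 1 + 0 * 1 = a * 0 + p ^ 2 * p⁻¹ := by
      field_simp
      ring
    have e3 : r * 1 + p⁻¹ * 0 = r ^ 2 * p + a * r := by
      linear_combination (-a * r) * h2 - r * hpr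
    have e4 : r * 1 + p⁻¹ * 1 = r ^ 2 * 0 + a * p⁻¹ := by
      field_simp
      linear_combination hpr + h2
    rw [e1, e2, e3, e4]

/-- all involutions of `SL₂(K)` are conjugate -/
theorem isConj_of_involutions_SL2 [Finite K] [CharP K 2]
    (t s : Matrix.SpecialLinearGroup (Fin 2) K) (ht : orderOf t = 2) (hs : orderOf s = 2) :
    IsConj t s := by
  have key : ∀ x : Matrix.SpecialLinearGroup (Fin 2) K, orderOf x = 2 → IsConj (uSL K) x := by
    intro x hx
    apply isConj_uSL
    · have h1 := pow_orderOf_eq_one x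
      rw [hx, sq] at h1
      exact h1
    · intro h1
      rw [h1, orderOf_one] at hx
      omega
  exact (key t ht).symm.trans (key s hs)

theorem orderOf_uSL [CharP K 2] : orderOf (uSL K) = 2 := by
  have : Fact (Nat.Prime 2) := ⟨Nat.prime_two⟩
  apply orderOf_eq_prime
  · rw [pow_two]
    exact uSL_mul_self
  · exact uSL_ne_one

end Cfsg.Agent.Helper43.OrthInv
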