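import Mathlib
import Cfsg.Agent.Helper43.OrthInvL
import Cfsg.Agent.Helper43.OrthInvB
import Cfsg.Agent.Helper5.Omega4Minus

set_option autoImplicit false

/-!
# The involution classes of `Ω⁻₄(F)` in characteristic two
-/

namespace Cfsg.Agent.Helper43.OrthInv

open Matrix Cfsg.Agent.Helper5

variable {F : Type*} [Field F] [Fintype F] [CharP F 2]

/-- `Ω⁻₄(F) ≅ SL₂(K)` for the quadratic extension `K` of `F`, characteristic two. -/
theorem exists_iso_Omega4m_SL2 (a c : F)
    (hac : ∀ z₁ z₂ : F, z₁ ^ 2 + a * z₁ * z₂ + c * z₂ ^ 2 = 0 → z₁ = 0 ∧ z₂ = 0) :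
    ∃ (K : Type) (_ : Field K) (_ : Finite K) (_ : CharP K 2),
      Nonempty (↥(Cfsg.Omega F (Cfsg.quadFormMinus 1 F a c)) ≃*
        Matrix.SpecialLinearGroup (Fin 2) K) := by
  obtain ⟨n, _, hn⟩ := FiniteField.card F 2
  have : Fact (Nat.Prime 2) := ⟨Nat.prime_two⟩
  have hn0 : 2 * (n : ℕ) ≠ 0 := by
    have := n.pos
    omega
  have : Fintype (GaloisField 2 (2 * n)) := Fintype.ofFinite _
  have hK : Fintype.card (GaloisField 2 (2 * n)) = (Fintype.card F) ^ 2 := by
    rw [← Nat.card_eq_fintype_card, GaloisField.card 2 (2 * n) hn0, hn, ← pow_mul, mul_comm]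
  obtain ⟨_alg, hrank⟩ := Cfsg.Agent.Helper45.exists_algebra_of_card_sq
    (K := GaloisField 2 (2 * n)) (F := F) hK rfl
  obtain ⟨θ, hs, hp, hne⟩ := exists_theta (F := F) (K := GaloisField 2 (2 * n)) hrank a c hac
  let D : TD F (GaloisField 2 (2 * n)) a c := ⟨θ, hK, hs, hp, hne⟩
  obtain ⟨e0⟩ := nonempty_iso_Om4 (F := F) (a := a) (b := c)
  have hmap : (commutator ↥(Cfsg.isometryGroup F (Cfsg.quadFormMinus 1 F a c))).map
      e0.toMonoidHom = commutator (Om4 a c) := by
    rw [commutator_def, Subgroup.map_commutator, ← MonoidHom.range_eq_map,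
      MonoidHom.range_eq_top.2 e0.surjective, commutator_def]
  let e1 := (e0.subgroupMap (commutator ↥(Cfsg.isometryGroup F (Cfsg.quadFormMinus 1 F a c)))).trans
    (MulEquiv.subgroupCongr hmap)
  have hcomm := commutator_Om4_eq D hac
  let e2 : commutator (Om4 a c) ≃* (rhoF D).range := MulEquiv.subgroupCongr hcomm
  have h2K : (2 : GaloisField 2 (2 * n)) = 0 := CharTwo.two_eq_zero
  have hinj : Function.Injective (rhoF D) := by
    rw [← MonoidHom.ker_eq_bot_iff, rhoF_ker]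
    exact Subgroup.card_eq_one.1 (card_center_SL2_of_two_eq_zero h2K)
  let e3 := MonoidHom.ofInjective hinj
  exact ⟨GaloisField 2 (2 * n), inferInstance, inferInstance, inferInstance,
    ⟨e1.trans (e2.trans e3.symm)⟩⟩

/-- The number of classes of involutions of `Ω⁻₄(F)`. -/
theorem card_involution_classes_omega_minus_four (a c : F)
    (hac : ∀ z₁ z₂ : F, z₁ ^ 2 + a * z₁ * z₂ + c * z₂ ^ 2 = 0 → z₁ = 0 ∧ z₂ = 0) :
    Nat.card {C : ConjClasses ↥(Cfsg.Omega F (Cfsg.quadFormMinus 1 F a c)) //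
      ∃ g : ↥(Cfsg.Omega F (Cfsg.quadFormMinus 1 F a c)),
        ConjClasses.mk g = C ∧ orderOf g = 2} = 1 := by
  obtain ⟨K, _, _, _, ⟨e⟩⟩ := exists_iso_Omega4m_SL2 a c hac
  have h1 : Nat.card Unit = 1 := Nat.card_unique
  refine (card_classes_of_reps (I := Unit) (J := Unit) (fun g => orderOf g = 2) (fun _ => ())
    (fun _ => e.symm (uSL K)) ?_ ?_ ?_ ?_).trans h1
  · intro _
    rw [MulEquiv.orderOf_eq]
    exact orderOf_uSL
  · intro g h hg hh
    refine ⟨fun _ => rfl, fun _ => ?_⟩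
    have h3 : IsConj (e g) (e h) :=
      isConj_of_involutions_SL2 _ _ ((MulEquiv.orderOf_eq e g).trans hg)
        ((MulEquiv.orderOf_eq e h).trans hh)
    have h4 := e.symm.toMonoidHom.map_isConj h3
    simpa using h4
  · intro i i' _
    rfl
  · intro g _
    exact ⟨(), rfl⟩

end Cfsg.Agent.Helper43.OrthInv
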