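import Cfsg.Agent.Helper43.PGLInv

set_option autoImplicit false

namespace Cfsg.Agent.Helper43.PGLPrime

open Matrix Polynomial Cfsg.Agent.Helper43.SS Cfsg.Agent.Helper43.PGLInv

variable {F : Type*} [Field F] {n : ℕ}

theorem charpoly_comp_smul (A : Matrix (Fin n) (Fin n) F) (c : F) :
    ((c • A).charpoly).comp (C c * X) = C (c ^ n) * A.charpoly := by
  unfold Matrix.charpoly
  have h1 : ((c • A).charmatrix.det).comp (C c * X) =
      ((Polynomial.compRingHom (C c * X)).mapMatrix (c • A).charmatrix).det := by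
    rw [← RingHom.map_det]
    rfl
  have h2 : (Polynomial.compRingHom (C c * X)).mapMatrix (c • A).charmatrix = C c • A.charmatrix := by
    ext i j : 1
    rw [RingHom.mapMatrix_apply, Matrix.map_apply, Matrix.smul_apply]
    by_cases hij : i = j
    · subst hij
      rw [charmatrix_apply_eq, charmatrix_apply_eq, Matrix.smul_apply]
      simp [mul_sub]
    · rw [charmatrix_apply_ne _ _ _ hij, charmatrix_apply_ne _ _ _ hij, Matrix.smul_apply]
      simp
  rw [h1, h2, Matrix.det_smul, Fintype.card_fin, ← C_pow]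

/-- The characteristic polynomial of a scalar multiple. -/
theorem charpoly_smul (A : Matrix (Fin n) (Fin n) F) (c : F) (hc : c ≠ 0) :
    (c • A).charpoly = A.charpoly.scaleRoots c := by
  have h1 := charpoly_comp_smul A c
  have h2 : (A.charpoly.scaleRoots c).comp (C c * X) = C (c ^ n) * A.charpoly := by
    have := scaleRoots_eval₂_mul (p := A.charpoly) (C : F →+* F[X]) (X : F[X]) c
    rw [eval₂_C_X, Matrix.charpoly_natDegree_eq_dim, Fintype.card_fin] at this
    rw [C_pow]
    exact this
  have h3 : ∀ p : F[X], (p.comp (C c * X)).comp (C c⁻¹ * X) = p := by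
    intro p
    rw [comp_assoc]
    have : (C c * X : F[X]).comp (C c⁻¹ * X) = X := by
      rw [mul_comp, C_comp, X_comp, ← mul_assoc, ← C_mul, mul_inv_cancel₀ hc, C_1, one_mul]
    rw [this, comp_X]
  rw [← h3 (c • A).charpoly, h1, ← h2, h3]

/-- A matrix killed by a monic irreducible `h` has characteristic polynomial a power of `h`. -/
theorem charpoly_of_irreducible (A : Matrix (Fin n) (Fin n) F) (h : F[X]) (hm : h.Monic)
    (hirr : Irreducible h) (hAh : aeval A h = 0) :
    ∃ m : ℕ, A.charpoly = h ^ m ∧ n = m * h.natDegree := by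
  classical
  have hch0 : A.charpoly ≠ 0 := (Matrix.charpoly_monic A).ne_zero
  have hfac : ∀ P ∈ UniqueFactorizationMonoid.normalizedFactors A.charpoly, P = h := by
    intro P hP
    rw [Polynomial.mem_normalizedFactors_iff hch0] at hP
    have := dvd_of_dvd_charpoly A h hirr.squarefree hAh P hP.2.1 hP.1 hP.2.2
    exact eq_of_monic_of_associated hP.2.1 hm (hP.1.associated_of_dvd hirr this)
  have hrep := Multiset.eq_replicate_card.mpr hfac
  have hprod := UniqueFactorizationMonoid.prod_normalizedFactors hch0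
  rw [hrep, Multiset.prod_replicate] at hprod
  have heq := eq_of_monic_of_associated (hm.pow _) (Matrix.charpoly_monic A) hprod
  refine ⟨_, heq.symm, ?_⟩
  have hdeg := congrArg natDegree heq
  rw [natDegree_pow, Matrix.charpoly_natDegree_eq_dim, Fintype.card_fin] at hdeg
  exact hdeg.symm

/-- If `A` is killed by a squarefree split polynomial, its characteristic polynomial splits. -/
theorem splits_charpoly_of_aeval (A : Matrix (Fin n) (Fin n) F) (h : F[X]) (hsf : Squarefree h)
    (hsp : h.Splits) (h0 : h ≠ 0) (hA : aeval A h = 0) : A.charpoly.Splits := by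
  classical
  have hch0 : A.charpoly ≠ 0 := (Matrix.charpoly_monic A).ne_zero
  obtain ⟨u, hu⟩ := UniqueFactorizationMonoid.prod_normalizedFactors hch0
  rw [← hu]
  refine (Splits.multisetProd fun P hP => ?_).mul u.isUnit.splits
  rw [Polynomial.mem_normalizedFactors_iff hch0] at hP
  exact hsp.of_dvd h0 (dvd_of_dvd_charpoly A h hsf hA P hP.2.1 hP.1 hP.2.2)

theorem isRoot_of_isRoot_charpoly (A : Matrix (Fin n) (Fin n) F) (h : F[X]) (hsf : Squarefree h)
    (hA : aeval A h = 0) (t : F) (ht : A.charpoly.IsRoot t) : h.IsRoot t := by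
  have h1 : (X - C t) ∣ A.charpoly := dvd_iff_isRoot.mpr ht
  have h2 := dvd_of_dvd_charpoly A h hsf hA (X - C t) (monic_X_sub_C t) (irreducible_X_sub_C t) h1
  exact dvd_iff_isRoot.mp h2

/-- `ζ^j` for `j : ZMod r`. -/
def zp (ζ : F) (r : ℕ) (j : ZMod r) : F := ζ ^ j.val

theorem zp_zero (ζ : F) (r : ℕ) [NeZero r] : zp ζ r 0 = 1 := by
  unfold zp
  rw [ZMod.val_zero, pow_zero]

theorem zp_add {ζ : F} {r : ℕ} [NeZero r] (hζ : ζ ^ r = 1) (i j : ZMod r) :
    zp ζ r (i + j) = zp ζ r i * zp ζ r j := by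
  unfold zp
  rw [← pow_add, ZMod.val_add]
  conv_rhs => rw [← Nat.mod_add_div (i.val + j.val) r, pow_add, pow_mul, hζ, one_pow, mul_one]

theorem zp_pow {ζ : F} {r : ℕ} (hζ : ζ ^ r = 1) (j : ZMod r) : zp ζ r j ^ r = 1 := by
  unfold zp
  rw [← pow_mul, mul_comm, pow_mul, hζ, one_pow]

theorem zp_ne_zero {ζ : F} {r : ℕ} (hr : r ≠ 0) (hζ : ζ ^ r = 1) (j : ZMod r) : zp ζ r j ≠ 0 := by
  intro h
  have := zp_pow hζ j
  rw [h, zero_pow hr] at this
  exact zero_ne_one this

theorem zp_injective {ζ : F} {r : ℕ} [NeZero r] (hζ : orderOf ζ = r) :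
    Function.Injective (zp ζ r) := by
  intro i j hij
  unfold zp at hij
  have hi : i.val ∈ Set.Iio (orderOf ζ) := by rw [hζ]; exact ZMod.val_lt i
  have hj : j.val ∈ Set.Iio (orderOf ζ) := by rw [hζ]; exact ZMod.val_lt j
  exact ZMod.val_injective r (pow_injOn_Iio_orderOf hi hj hij)

theorem eq_zp_of_pow_eq_one {ζ : F} {r : ℕ} [NeZero r] (hζ : orderOf ζ = r) (t : F)
    (ht : t ^ r = 1) : ∃ j : ZMod r, t = zp ζ r j := by
  have hprim : IsPrimitiveRoot ζ r := hζ ▸ IsPrimitiveRoot.orderOf ζ
  obtain ⟨i, hi, hit⟩ := hprim.eq_pow_of_pow_eq_one ht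
  refine ⟨(i : ZMod r), ?_⟩
  unfold zp
  rw [ZMod.val_natCast_of_lt hi, hit]

/-- Multiplicity vector of the eigenvalues `ζ^j`. -/
noncomputable def mult (ζ : F) (r : ℕ) (A : Matrix (Fin n) (Fin n) F) : ZMod r → ℕ :=
  fun j => A.charpoly.rootMultiplicity (zp ζ r j)

open scoped Classical in
theorem charpoly_eq_prod {ζ : F} {r : ℕ} [NeZero r] (hr : r.Prime) (hζ : orderOf ζ = r) (hrF : (r : F) ≠ 0)
    (A : Matrix (Fin n) (Fin n) F) (hA : A ^ r = 1) :
    A.charpoly = ∏ j : ZMod r, (X - C (zp ζ r j)) ^ mult ζ r A j ∧ ∑ j : ZMod r, mult ζ r A j = n := by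
  have hprim : IsPrimitiveRoot ζ r := hζ ▸ IsPrimitiveRoot.orderOf ζ
  have hsp : (X ^ r - 1 : F[X]).Splits := X_pow_sub_one_splits hprim
  have hsf : Squarefree (X ^ r - 1 : F[X]) := ((X_pow_sub_one_separable_iff).mpr hrF).squarefree
  have h0 : (X ^ r - 1 : F[X]) ≠ 0 := by
    have := X_pow_sub_C_ne_zero hr.pos (1 : F)
    rwa [C_1] at this
  have hAh : aeval A (X ^ r - 1 : F[X]) = 0 := by
    rw [map_sub, map_pow, aeval_X, map_one, hA, sub_self]
  have hch0 : A.charpoly ≠ 0 := (Matrix.charpoly_monic A).ne_zero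
  have hs := splits_charpoly_of_aeval A _ hsf hsp h0 hAh
  have e1 := hs.eq_prod_roots_of_monic (Matrix.charpoly_monic A)
  rw [Finset.prod_multiset_map_count] at e1
  have hsub : A.charpoly.roots.toFinset ⊆ Finset.univ.image (zp ζ r) := by
    intro t ht
    rw [Multiset.mem_toFinset, mem_roots hch0] at ht
    have h1 := isRoot_of_isRoot_charpoly A _ hsf hAh t ht
    rw [IsRoot.def, eval_sub, eval_pow, eval_X, eval_one, sub_eq_zero] at h1
    obtain ⟨j, hj⟩ := eq_zp_of_pow_eq_one hζ t h1
    exact Finset.mem_image.mpr ⟨j, Finset.mem_univ _, hj.symm⟩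
  constructor
  · calc A.charpoly = ∏ t ∈ A.charpoly.roots.toFinset, (X - C t) ^ (A.charpoly.roots.count t) := e1
      _ = ∏ t ∈ Finset.univ.image (zp ζ r), (X - C t) ^ (A.charpoly.roots.count t) := by
        apply Finset.prod_subset hsub
        intro t _ ht
        rw [Multiset.count_eq_zero_of_notMem (by simpa using ht), pow_zero]
      _ = ∏ j : ZMod r, (X - C (zp ζ r j)) ^ (A.charpoly.roots.count (zp ζ r j)) :=
        Finset.prod_image (fun i _ j _ hij => zp_injective hζ hij)
      _ = _ := by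
        apply Finset.prod_congr rfl
        intro j _
        rw [count_roots]
        rfl
  · calc ∑ j : ZMod r, mult ζ r A j = ∑ j : ZMod r, A.charpoly.roots.count (zp ζ r j) := by
          apply Finset.sum_congr rfl
          intro j _
          rw [count_roots]
          rfl
      _ = ∑ t ∈ Finset.univ.image (zp ζ r), A.charpoly.roots.count t :=
        (Finset.sum_image (s := Finset.univ) (g := zp ζ r)
          (f := fun t => A.charpoly.roots.count t) (fun i _ j _ hij => zp_injective hζ hij)).symm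
      _ = ∑ t ∈ A.charpoly.roots.toFinset, A.charpoly.roots.count t := by
        symm
        apply Finset.sum_subset hsub
        intro t _ ht
        exact Multiset.count_eq_zero_of_notMem (by simpa using ht)
      _ = A.charpoly.roots.card := Multiset.toFinset_sum_count_eq _
      _ = n := by
        rw [← hs.natDegree_eq_card_roots, Matrix.charpoly_natDegree_eq_dim, Fintype.card_fin]

end Cfsg.Agent.Helper43.PGLPrime
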