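import Cfsg.Agent.Helper43.PGLPrimeB

set_option autoImplicit false

namespace Cfsg.Agent.Helper43.PGLPrime

open Matrix Polynomial MulAction Cfsg.Agent.Helper43.SS Cfsg.Agent.Helper43.PGLInv

variable {F : Type*} [Field F] {n r : ℕ}

theorem mul_sc_pow (g : GL (Fin n) F) (e : Fˣ) (k : ℕ) :
    (g * sc n e) ^ k = g ^ k * sc n (e ^ k) := by
  have hcomm : Commute g (sc n e) := (Matrix.GeneralLinearGroup.scalar_commute e g).symm
  rw [hcomm.mul_pow, map_pow]

theorem val_mul_sc (g : GL (Fin n) F) (e : Fˣ) :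
    ((g * sc n e : GL (Fin n) F) : Matrix (Fin n) (Fin n) F) =
      (e : F) • (g : Matrix (Fin n) (Fin n) F) := by
  rw [Units.val_mul, Matrix.GeneralLinearGroup.coe_scalar, Matrix.scalar_apply,
    ← Matrix.smul_eq_mul_diagonal]

theorem conj_pow' (c g : GL (Fin n) F) (k : ℕ) : (c * g * c⁻¹) ^ k = c * g ^ k * c⁻¹ :=
  _root_.conj_pow

theorem conj_sc (c : GL (Fin n) F) (e : Fˣ) : c * sc n e * c⁻¹ = sc n e := by
  rw [← Matrix.GeneralLinearGroup.scalar_commute e c, mul_assoc, mul_inv_cancel, mul_one]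

theorem charpoly_conj (c g : GL (Fin n) F) :
    ((c * g * c⁻¹ : GL (Fin n) F) : Matrix (Fin n) (Fin n) F).charpoly =
      (g : Matrix (Fin n) (Fin n) F).charpoly := by
  rw [Units.val_mul, Units.val_mul, Matrix.coe_units_inv]
  exact Matrix.charpoly_units_conj c _

theorem orderOf_mk_eq_prime_iff (hr : r.Prime) (g : GL (Fin n) F) :
    orderOf (QuotientGroup.mk g : PGL n F) = r ↔
      (∃ c : Fˣ, g ^ r = sc n c) ∧ ¬ ∃ c : Fˣ, g = sc n c := by
  haveI : Fact r.Prime := ⟨hr⟩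
  rw [orderOf_eq_prime_iff, ← QuotientGroup.mk_pow, mk_eq_one_iff, Ne, mk_eq_one_iff]

/-- The subgroup of `r`-th powers of `Fˣ`. -/
abbrev Pr (F : Type*) [Field F] (r : ℕ) : Subgroup Fˣ := (powMonoidHom r : Fˣ →* Fˣ).range

open scoped Classical in
/-- Class of the scalar `g^r` modulo `r`-th powers (`1` if `g^r` is not scalar). -/
noncomputable def kap' (r : ℕ) (g : GL (Fin n) F) : Fˣ ⧸ Pr F r :=
  if h : ∃ c : Fˣ, g ^ r = sc n c then QuotientGroup.mk (Classical.choose h) else 1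

theorem kap'_eq (hn : 1 ≤ n) (g : GL (Fin n) F) (c : Fˣ) (hg : g ^ r = sc n c) :
    kap' r g = QuotientGroup.mk c := by
  have h : ∃ c : Fˣ, g ^ r = sc n c := ⟨c, hg⟩
  unfold kap'
  rw [dif_pos h]
  have h1 := Classical.choose_spec h
  have h2 : sc n c = sc n (Classical.choose h) := hg.symm.trans h1
  rw [← sc_injective hn h2]

/-- The invariant of a class in `PGL_n`: the class of `g^r` for a lift `g`. -/
noncomputable def kap (r : ℕ) (x : PGL n F) : Fˣ ⧸ Pr F r := kap' r (Quotient.out x)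

theorem kap_mk (hn : 1 ≤ n) (g : GL (Fin n) F) (c : Fˣ) (hg : g ^ r = sc n c) :
    kap r (QuotientGroup.mk g : PGL n F) = QuotientGroup.mk c := by
  unfold kap
  have h1 : (QuotientGroup.mk (Quotient.out (QuotientGroup.mk g : PGL n F)) : PGL n F) =
      QuotientGroup.mk g := QuotientGroup.out_eq' _
  obtain ⟨e, he⟩ := (mk_eq_mk_iff _ _).mp h1.symm
  have h2 : (Quotient.out (QuotientGroup.mk g : PGL n F)) ^ r = sc n (c * e ^ r) := by
    rw [he, mul_sc_pow, hg, ← map_mul]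
  rw [kap'_eq hn _ _ h2, QuotientGroup.eq]
  refine ⟨e⁻¹, ?_⟩
  rw [powMonoidHom_apply, _root_.mul_inv_rev, inv_pow, mul_assoc, inv_mul_cancel, mul_one]

theorem kap_conj (hn : 1 ≤ n) (x c : PGL n F) (hx : x ^ r = 1) :
    kap r (c * x * c⁻¹) = kap r x := by
  obtain ⟨g, rfl⟩ := QuotientGroup.mk_surjective x
  obtain ⟨c, rfl⟩ := QuotientGroup.mk_surjective c
  rw [← QuotientGroup.mk_pow, mk_eq_one_iff] at hx
  obtain ⟨e, he⟩ := hx
  have h1 : (c * g * c⁻¹) ^ r = sc n e := by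
    rw [conj_pow', he, conj_sc]
  have h2 : (QuotientGroup.mk c * QuotientGroup.mk g * (QuotientGroup.mk c)⁻¹ : PGL n F) =
      QuotientGroup.mk (c * g * c⁻¹) := rfl
  rw [h2, kap_mk hn _ e h1, kap_mk hn _ e he]

/-- `x` has a lift `g` with `g^r = 1`. -/
def IsSplit (r : ℕ) (x : PGL n F) : Prop :=
  ∃ g : GL (Fin n) F, (QuotientGroup.mk g : PGL n F) = x ∧ g ^ r = 1

theorem isSplit_iff_kap (hn : 1 ≤ n) (x : PGL n F) (hx : x ^ r = 1) :
    IsSplit r x ↔ kap r x = 1 := by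
  constructor
  · rintro ⟨g, rfl, hg⟩
    rw [kap_mk hn g 1 (by rw [hg, map_one])]
    rfl
  · intro hk
    obtain ⟨g, rfl⟩ := QuotientGroup.mk_surjective x
    rw [← QuotientGroup.mk_pow, mk_eq_one_iff] at hx
    obtain ⟨e, he⟩ := hx
    rw [kap_mk hn g e he, QuotientGroup.eq_one_iff] at hk
    obtain ⟨d, hd⟩ := hk
    rw [powMonoidHom_apply] at hd
    refine ⟨g * sc n d⁻¹, ((mk_eq_mk_iff g _).mpr ⟨_, rfl⟩).symm, ?_⟩
    rw [mul_sc_pow, he, ← map_mul, inv_pow, hd, mul_inv_cancel, map_one]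

theorem isSplit_conj (x c : PGL n F) (hx : IsSplit r x) : IsSplit r (c * x * c⁻¹) := by
  obtain ⟨g, rfl, hg⟩ := hx
  obtain ⟨c, rfl⟩ := QuotientGroup.mk_surjective c
  exact ⟨c * g * c⁻¹, rfl, by rw [conj_pow', hg, mul_one, mul_inv_cancel]⟩

theorem isSplit_conj_iff (x c : PGL n F) : IsSplit r (c * x * c⁻¹) ↔ IsSplit r x := by
  constructor
  · intro h
    have := isSplit_conj (c * x * c⁻¹) c⁻¹ h
    have e : c⁻¹ * (c * x * c⁻¹) * c⁻¹⁻¹ = x := by group
    rwa [e] at this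
  · exact isSplit_conj x c

end Cfsg.Agent.Helper43.PGLPrime
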