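import Cfsg.Agent.Helper43.PGLPrimeOrb
import Cfsg.Agent.Helper43.TransvCount

set_option autoImplicit false

namespace Cfsg.Agent.Helper43.PGLPrime

open MulAction

open scoped Classical in
/-- Splitting the value set of the class invariant into its split and non-split parts. -/
noncomputable def countEquiv {K Ω : Type*} [One K] (d0 : Ω) (P : Prop) :
    {t : K × Ω // (t.1 = 1 ∧ t.2 ≠ d0) ∨ (t.1 ≠ 1 ∧ t.2 = d0 ∧ P)} ≃
      {ω : Ω // ω ≠ d0} ⊕ {k : K // k ≠ 1 ∧ P} where
  toFun t := if h : t.1.1 = 1 then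
      Sum.inl ⟨t.1.2, by
        rcases t.2 with h1 | h1
        · exact h1.2
        · exact absurd h h1.1⟩
    else
      Sum.inr ⟨t.1.1, h, by
        rcases t.2 with h1 | h1
        · exact absurd h1.1 h
        · exact h1.2.2⟩
  invFun s := Sum.elim (fun ω => ⟨(1, ω.1), Or.inl ⟨rfl, ω.2⟩⟩)
    (fun k => ⟨(k.1, d0), Or.inr ⟨k.2.1, rfl, k.2.2⟩⟩) s
  left_inv := by
    rintro ⟨⟨k, ω⟩, h | h⟩
    · have hk : k = 1 := h.1
      subst hk
      simp
    · have hk : k ≠ 1 := h.1
      have hω : ω = d0 := h.2.1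
      subst hω
      simp [hk]
  right_inv := by
    rintro (ω | k)
    · simp
    · have hk : k.1 ≠ 1 := k.2.1
      simp [hk]

theorem card_values {K Ω : Type*} [One K] [Finite K] [Finite Ω] (d0 : Ω) (P : Prop)
    [Decidable P] :
    Nat.card {t : K × Ω // (t.1 = 1 ∧ t.2 ≠ d0) ∨ (t.1 ≠ 1 ∧ t.2 = d0 ∧ P)} =
      (Nat.card Ω - 1) + (Nat.card K - 1) * (if P then 1 else 0) := by
  classical
  rw [Nat.card_congr (countEquiv d0 P), Nat.card_sum, natCard_subtype_ne]
  congr 1
  by_cases hP : P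
  · rw [if_pos hP, mul_one, ← natCard_subtype_ne (1 : K)]
    exact Nat.card_congr (Equiv.subtypeEquivRight (fun k => by simp [hP]))
  · rw [if_neg hP, mul_zero]
    haveI : IsEmpty {k : K // k ≠ 1 ∧ P} := ⟨fun k => hP k.2.2⟩
    exact Nat.card_of_isEmpty

theorem natCard_orbits {n r : ℕ} [NeZero r] (hr : r.Prime) :
    Nat.card (Quotient (orbitRel (Multiplicative (ZMod r)) (Bn n r))) * r =
      (r + n - 1).choose n + (r - 1) * (if r ∣ n then 1 else 0) := by
  classical
  rw [Nat.card_eq_fintype_card]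
  convert card_orbits (n := n) hr using 2

/-- The arithmetic matching the count with the printed formula. -/
theorem final_arith (N C r n : ℕ) (hr : 2 ≤ r) (hC : r ∣ n → r + 1 ≤ C)
    (hN : N * r = C + (r - 1) * (if r ∣ n then 1 else 0)) :
    (N - 1) + (r - 1) * (if r ∣ n then 1 else 0) =
      (C - r - (if r ∣ n then 1 else 0)) / r + r * (if r ∣ n then 1 else 0) := by
  have hr0 : 0 < r := by omega
  by_cases h : r ∣ n
  · simp only [if_pos h, mul_one] at hN ⊢
    have hC' := hC h
    have hN2 : 2 ≤ N := by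
      by_contra hlt
      have : N * r ≤ 1 * r := Nat.mul_le_mul_right r (by omega)
      omega
    have h1 : C - r - 1 = (N - 2) * r := by
      rw [Nat.sub_mul]
      omega
    rw [h1, Nat.mul_div_cancel _ hr0]
    omega
  · simp only [if_neg h, mul_zero, add_zero, Nat.sub_zero] at hN ⊢
    have h1 : C - r = (N - 1) * r := by
      rw [Nat.sub_mul]
      omega
    rw [h1, Nat.mul_div_cancel _ hr0]

theorem choose_bound (n r : ℕ) (hn : 2 ≤ n) (hr : 2 ≤ r) : r + 1 ≤ (r + n - 1).choose n := by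
  have h1 : (r + n - 1).choose n = (r + n - 1).choose (r - 1) := by
    rw [← Nat.choose_symm_of_eq_add]
    omega
  have h2 : (r + 1).choose (r - 1) ≤ (r + n - 1).choose (r - 1) :=
    Nat.choose_le_choose _ (by omega)
  have h3 : (r + 1).choose (r - 1) = (r + 1).choose 2 := by
    rw [← Nat.choose_symm_of_eq_add]
    omega
  have h4 : r + 1 ≤ (r + 1).choose 2 := by
    rw [Nat.choose_two_right, Nat.add_sub_cancel, Nat.le_div_iff_mul_le (by norm_num)]
    nlinarith
  omega

end Cfsg.Agent.Helper43.PGLPrime
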