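import Cfsg.Agent.Helper43.PGLPrimeC

set_option autoImplicit false

namespace Cfsg.Agent.Helper43.PGLPrime

open Matrix Polynomial MulAction Cfsg.Agent.Helper43.SS Cfsg.Agent.Helper43.PGLInv

variable {F : Type*} [Field F] {n r : ℕ} [NeZero r]

/-- Rotation orbits of multiplicity vectors. -/
abbrev Om (n r : ℕ) [NeZero r] := Quotient (orbitRel (Multiplicative (ZMod r)) (Bn n r))

open scoped Classical in
/-- The rotation orbit of the multiplicity vector of a lift of order dividing `r`. -/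
noncomputable def orbQ (ζ : F) (r : ℕ) [NeZero r] (x : PGL n F) : Om n r :=
  if h : IsSplit r x then
    Quotient.mk _ (mvec ζ ((Classical.choose h : GL (Fin n) F) : Matrix (Fin n) (Fin n) F))
  else Quotient.mk _ (dlt n r 0)

omit [NeZero r] in
theorem val_pow_eq_one (g : GL (Fin n) F) (hg : g ^ r = 1) :
    (g : Matrix (Fin n) (Fin n) F) ^ r = 1 := by
  rw [← Units.val_pow_eq_pow_val, hg, Units.val_one]

section

variable {ζ : F} (hr : r.Prime) (hζ : orderOf ζ = r) (hrF : (r : F) ≠ 0) (hn : 1 ≤ n)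

include hr hζ hrF hn

theorem orbQ_mk (g : GL (Fin n) F) (hg : g ^ r = 1) :
    orbQ ζ r (QuotientGroup.mk g : PGL n F) =
      Quotient.mk _ (mvec ζ (g : Matrix (Fin n) (Fin n) F)) := by
  have h : IsSplit r (QuotientGroup.mk g : PGL n F) := ⟨g, rfl, hg⟩
  unfold orbQ
  rw [dif_pos h]
  obtain ⟨h1, h2⟩ := Classical.choose_spec h
  obtain ⟨e, he⟩ := (mk_eq_mk_iff _ _).mp h1.symm
  have h3 : e ^ r = 1 := by
    have h4 := h2
    rw [he, mul_sc_pow, hg, one_mul] at h4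
    exact sc_injective hn (h4.trans (map_one _).symm)
  obtain ⟨i, hi⟩ := eq_zp_of_pow_eq_one hζ (e : F)
    (by rw [← Units.val_pow_eq_pow_val, h3, Units.val_one])
  have h4 : ((Classical.choose h : GL (Fin n) F) : Matrix (Fin n) (Fin n) F) =
      zp ζ r i • (g : Matrix (Fin n) (Fin n) F) := by
    rw [he, val_mul_sc, hi]
  apply Quotient.sound
  show _ ∈ orbit _ _
  rw [h4, mvec_smul hr hζ hrF i _ (val_pow_eq_one g hg)]
  exact MulAction.mem_orbit _ _

theorem orbQ_conj (x c : PGL n F) : orbQ ζ r (c * x * c⁻¹) = orbQ ζ r x := by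
  by_cases h : IsSplit r x
  · obtain ⟨g, rfl, hg⟩ := h
    obtain ⟨c, rfl⟩ := QuotientGroup.mk_surjective c
    have h2 : (QuotientGroup.mk c * QuotientGroup.mk g * (QuotientGroup.mk c)⁻¹ : PGL n F) =
        QuotientGroup.mk (c * g * c⁻¹) := rfl
    rw [h2, orbQ_mk hr hζ hrF hn (c * g * c⁻¹) (by rw [conj_pow', hg, mul_one, mul_inv_cancel]),
      orbQ_mk hr hζ hrF hn g hg, mvec_congr ζ _ _ (charpoly_conj c g)]
  · have h' : ¬ IsSplit r (c * x * c⁻¹) := fun h' => h ((isSplit_conj_iff x c).mp h')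
    unfold orbQ
    rw [dif_neg h, dif_neg h']

omit hn in
theorem isConj_of_mvec_orbit_eq (g h : GL (Fin n) F) (hg : g ^ r = 1) (hh : h ^ r = 1)
    (heq : (Quotient.mk _ (mvec ζ (g : Matrix (Fin n) (Fin n) F)) : Om n r) =
      Quotient.mk _ (mvec ζ (h : Matrix (Fin n) (Fin n) F))) :
    IsConj (QuotientGroup.mk g : PGL n F) (QuotientGroup.mk h) := by
  have hζr : ζ ^ r = 1 := by rw [← hζ]; exact pow_orderOf_eq_one ζ
  obtain ⟨i, hi⟩ := Quotient.exact heq
  set e : Fˣ := Units.mk0 (zp ζ r (Multiplicative.toAdd i))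
    (zp_ne_zero (NeZero.ne r) hζr _) with he
  have h2 : ((h * sc n e : GL (Fin n) F) : Matrix (Fin n) (Fin n) F) =
      zp ζ r (Multiplicative.toAdd i) • (h : Matrix (Fin n) (Fin n) F) := val_mul_sc h e
  have h3 : (mvec ζ ((h * sc n e : GL (Fin n) F) : Matrix (Fin n) (Fin n) F) : Bn n r) =
      mvec ζ (g : Matrix (Fin n) (Fin n) F) := by
    rw [h2, mvec_smul hr hζ hrF _ _ (val_pow_eq_one h hh), ← hi]
    rfl
  have he1 : e ^ r = 1 := by
    apply Units.ext
    rw [Units.val_pow_eq_pow_val, he, Units.val_mk0, zp_pow hζr, Units.val_one]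
  have h4 : (h * sc n e) ^ r = 1 := by
    rw [mul_sc_pow, hh, one_mul, he1, map_one]
  have hcp := charpoly_eq_of_mvec_eq hr hζ hrF _ _ (val_pow_eq_one _ h4) (val_pow_eq_one g hg) h3
  have hc : IsConj (h * sc n e) g := isConj_GL_of_charpoly_eq _ _ r r hrF hrF h4 hg hcp
  have h5 := (QuotientGroup.mk' (Subgroup.center (GL (Fin n) F))).map_isConj hc
  have h6 : (QuotientGroup.mk (h * sc n e) : PGL n F) = QuotientGroup.mk h :=
    ((mk_eq_mk_iff h _).mpr ⟨e, rfl⟩).symm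
  have h7 : IsConj (QuotientGroup.mk (h * sc n e) : PGL n F) (QuotientGroup.mk g) := h5
  rw [h6] at h7
  exact h7.symm

omit hn in
theorem mvec_orbit_ne_dlt (g : GL (Fin n) F) (hg : g ^ r = 1) (hns : ¬ ∃ c : Fˣ, g = sc n c) :
    (Quotient.mk _ (mvec ζ (g : Matrix (Fin n) (Fin n) F)) : Om n r) ≠
      Quotient.mk _ (dlt n r 0) := by
  have hζr : ζ ^ r = 1 := by rw [← hζ]; exact pow_orderOf_eq_one ζ
  intro heq
  obtain ⟨i, hi⟩ := Quotient.exact heq
  have hi' : i • dlt n r 0 = mvec ζ (g : Matrix (Fin n) (Fin n) F) := hi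
  rw [smul_dlt, zero_add] at hi'
  have h1 := eq_scalar_of_mvec_eq_dlt hr hζ hrF _ (val_pow_eq_one g hg) _ hi'.symm
  apply hns
  refine ⟨Units.mk0 (zp ζ r (Multiplicative.toAdd i)) (zp_ne_zero (NeZero.ne r) hζr _),
    Units.ext ?_⟩
  rw [Matrix.GeneralLinearGroup.coe_scalar]
  exact h1

end

end Cfsg.Agent.Helper43.PGLPrime
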