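import Cfsg.Agent.Helper43.PGLPrimeC

set_option autoImplicit false

namespace Cfsg.Agent.Helper43.PGLPrime

open Matrix Polynomial Cfsg.Agent.Helper43.SS Cfsg.Agent.Helper43.PGLInv

variable {F : Type*} [Field F] {n r : ℕ}

theorem irreducible_of_not_mem_Pr (hr : r.Prime) (d : Fˣ)
    (hd : (QuotientGroup.mk d : Fˣ ⧸ Pr F r) ≠ 1) : Irreducible (X ^ r - C (d : F) : F[X]) := by
  apply X_pow_sub_C_irreducible_of_prime hr
  intro b hb
  apply hd
  rw [QuotientGroup.eq_one_iff]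
  have hb0 : b ≠ 0 := by
    rintro rfl
    rw [zero_pow hr.ne_zero] at hb
    exact d.ne_zero hb.symm
  refine ⟨Units.mk0 b hb0, ?_⟩
  apply Units.ext
  rw [powMonoidHom_apply, Units.val_pow_eq_pow_val, Units.val_mk0, hb]

theorem charpoly_of_pow_nonsplit (hr : r.Prime) (g : GL (Fin n) F) (d : Fˣ)
    (hd : (QuotientGroup.mk d : Fˣ ⧸ Pr F r) ≠ 1) (hg : g ^ r = sc n d) :
    ∃ m : ℕ, (g : Matrix (Fin n) (Fin n) F).charpoly = (X ^ r - C (d : F)) ^ m ∧ n = m * r := by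
  have hm : (X ^ r - C (d : F) : F[X]).Monic := monic_X_pow_sub_C _ hr.ne_zero
  have hdeg : (X ^ r - C (d : F) : F[X]).natDegree = r := natDegree_X_pow_sub_C
  have hAh : aeval (g : Matrix (Fin n) (Fin n) F) (X ^ r - C (d : F) : F[X]) = 0 := by
    rw [map_sub, map_pow, aeval_X, aeval_C, ← Units.val_pow_eq_pow_val, hg,
      Matrix.GeneralLinearGroup.coe_scalar]
    exact sub_self _
  obtain ⟨m, h1, h2⟩ := charpoly_of_irreducible _ _ hm (irreducible_of_not_mem_Pr hr d hd) hAh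
  rw [hdeg] at h2
  exact ⟨m, h1, h2⟩

section finite

variable [Fintype F]

theorem cast_mul_pred_ne_zero (hrF : (r : F) ≠ 0) : ((r * (Fintype.card F - 1) : ℕ) : F) ≠ 0 := by
  have h1 : 1 ≤ Fintype.card F := Fintype.card_pos
  rw [Nat.cast_mul, Nat.cast_sub h1, FiniteField.cast_card_eq_zero, Nat.cast_one, zero_sub]
  exact mul_ne_zero hrF (neg_ne_zero.mpr one_ne_zero)

theorem pow_eq_one_of_pow_scalar (g : GL (Fin n) F) (c : Fˣ) (hg : g ^ r = sc n c) :
    g ^ (r * (Fintype.card F - 1)) = 1 := by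
  classical
  rw [pow_mul, hg, ← map_pow]
  have : c ^ (Fintype.card F - 1) = 1 := by
    rw [← Fintype.card_units]
    exact pow_card_eq_one
  rw [this, map_one]

theorem isConj_of_kap_eq (hr : r.Prime) (hrF : (r : F) ≠ 0) (hn : 1 ≤ n) (x y : PGL n F)
    (hx : orderOf x = r) (hy : orderOf y = r) (hk : kap r x = kap r y) (hk1 : kap r x ≠ 1) :
    IsConj x y := by
  obtain ⟨g, rfl⟩ := QuotientGroup.mk_surjective x
  obtain ⟨h, rfl⟩ := QuotientGroup.mk_surjective y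
  obtain ⟨⟨c, hc⟩, -⟩ := (orderOf_mk_eq_prime_iff hr g).mp hx
  obtain ⟨⟨d, hd⟩, -⟩ := (orderOf_mk_eq_prime_iff hr h).mp hy
  rw [kap_mk hn g c hc] at hk hk1
  rw [kap_mk hn h d hd] at hk
  obtain ⟨e, he⟩ := QuotientGroup.eq.mp hk
  rw [powMonoidHom_apply] at he
  have hg' : (g * sc n e) ^ r = sc n d := by
    rw [mul_sc_pow, hc, ← map_mul, he, mul_inv_cancel_left]
  have hd1 : (QuotientGroup.mk d : Fˣ ⧸ Pr F r) ≠ 1 := hk ▸ hk1
  obtain ⟨m, hm1, hm2⟩ := charpoly_of_pow_nonsplit hr (g * sc n e) d hd1 hg'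
  obtain ⟨m', hm1', hm2'⟩ := charpoly_of_pow_nonsplit hr h d hd1 hd
  have hmm : m = m' := Nat.eq_of_mul_eq_mul_right hr.pos (hm2.symm.trans hm2')
  have hcp : ((g * sc n e : GL (Fin n) F) : Matrix (Fin n) (Fin n) F).charpoly =
      (h : Matrix (Fin n) (Fin n) F).charpoly := by rw [hm1, hm1', hmm]
  have hcj : IsConj (g * sc n e) h :=
    isConj_GL_of_charpoly_eq _ _ _ _ (cast_mul_pred_ne_zero hrF) (cast_mul_pred_ne_zero hrF)
      (pow_eq_one_of_pow_scalar _ d hg') (pow_eq_one_of_pow_scalar _ d hd) hcp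
  have h5 := (QuotientGroup.mk' (Subgroup.center (GL (Fin n) F))).map_isConj hcj
  have h6 : (QuotientGroup.mk (g * sc n e) : PGL n F) = QuotientGroup.mk g :=
    ((mk_eq_mk_iff g _).mpr ⟨e, rfl⟩).symm
  have h7 : IsConj (QuotientGroup.mk (g * sc n e) : PGL n F) (QuotientGroup.mk h) := h5
  rw [h6] at h7
  exact h7

theorem dvd_of_kap_ne_one (hr : r.Prime) (hn : 1 ≤ n) (x : PGL n F) (hx : orderOf x = r)
    (hk1 : kap r x ≠ 1) : r ∣ n := by
  obtain ⟨g, rfl⟩ := QuotientGroup.mk_surjective x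
  obtain ⟨⟨c, hc⟩, -⟩ := (orderOf_mk_eq_prime_iff hr g).mp hx
  rw [kap_mk hn g c hc] at hk1
  obtain ⟨m, -, hm2⟩ := charpoly_of_pow_nonsplit hr g c hk1 hc
  exact ⟨m, by rw [hm2, mul_comm]⟩

theorem exists_nonsplit_class (hr : r.Prime) (hn : 1 ≤ n) (hrn : r ∣ n) (k : Fˣ ⧸ Pr F r)
    (hk : k ≠ 1) : ∃ x : PGL n F, orderOf x = r ∧ kap r x = k := by
  classical
  obtain ⟨d, rfl⟩ := QuotientGroup.mk_surjective k
  obtain ⟨p, hp⟩ := CharP.exists F
  haveI : CharP F p := hp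
  haveI : Fact p.Prime := ⟨CharP.char_is_prime F p⟩
  have hpp : p.Prime := Fact.out
  set h : F[X] := X ^ r - C (d : F) with hh
  have hm : h.Monic := monic_X_pow_sub_C _ hr.ne_zero
  have hdeg : h.natDegree = r := natDegree_X_pow_sub_C
  have hirr : Irreducible h := irreducible_of_not_mem_Pr hr d hk
  have hfm : (h ^ (n / r)).Monic := hm.pow _
  have hfd : (h ^ (n / r)).natDegree = n := by
    rw [natDegree_pow, hdeg]
    exact Nat.div_mul_cancel hrn
  have hf0 : (h ^ (n / r)).coeff 0 ≠ 0 := by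
    rw [coeff_zero_eq_eval_zero, eval_pow, hh, eval_sub, eval_pow, eval_X, eval_C,
      zero_pow hr.ne_zero, zero_sub]
    exact pow_ne_zero _ (neg_ne_zero.mpr d.ne_zero)
  obtain ⟨A, hA, k, hk0, hkp, hAk⟩ := exists_matrix_charpoly p n _ hfm hfd hf0
  have hkF : (k : F) ≠ 0 := by
    intro h0
    rw [CharP.cast_eq_zero_iff F p k] at h0
    have : p ∣ Nat.gcd k p := Nat.dvd_gcd h0 dvd_rfl
    rw [hkp] at this
    exact hpp.one_lt.ne' (Nat.dvd_one.mp this)
  have hAh : aeval A h = 0 := by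
    apply aeval_eq_zero_of_factors A k hkF hAk h hm.ne_zero
    intro P _ hPi hP
    rw [hA] at hP
    exact hPi.prime.dvd_of_dvd_pow hP
  have hAA : A ^ r = Matrix.scalar (Fin n) (d : F) := by
    rw [hh, map_sub, map_pow, aeval_X, aeval_C, sub_eq_zero] at hAh
    exact hAh
  let g : GL (Fin n) F := Units.ofPowEqOne A k hAk hk0.ne'
  have hg : g ^ r = sc n d := by
    apply Units.ext
    rw [Units.val_pow_eq_pow_val, Matrix.GeneralLinearGroup.coe_scalar]
    exact hAA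
  refine ⟨QuotientGroup.mk g, ?_, kap_mk hn g d hg⟩
  rw [orderOf_mk_eq_prime_iff hr]
  refine ⟨⟨d, hg⟩, ?_⟩
  rintro ⟨c, hc⟩
  rw [hc, ← map_pow] at hg
  have := sc_injective hn hg
  apply hk
  rw [QuotientGroup.eq_one_iff]
  exact ⟨c, this⟩

end finite

end Cfsg.Agent.Helper43.PGLPrime
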