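import Mathlib
import Cfsg.Agent.Helper43.GaussF2Mod

set_option autoImplicit false

namespace Cfsg.Agent.Helper43

open Classical

/-! ### The plus form -/

theorem isQF2_plus (m : ℕ) :
    IsQF2 (Cfsg.quadFormPlus m (ZMod 2)) (polarPlus m (ZMod 2)) where
  two := by
    intro v
    funext j
    exact CharTwo.add_self_eq_zero _
  polar := by
    intro u v
    rw [← quadFormPlus_polar]
    ring
  add_left := polarPlus_add_left m (ZMod 2)
  nondeg := by
    intro s hs
    obtain ⟨u, hu⟩ := polarPlus_exists_ne_zero m (ZMod 2) s hs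
    exact ⟨u, hu⟩

/-- The standard maximal totally singular subgroup of the plus form. -/
def plusLagr (m : ℕ) : AddSubgroup (Fin m ⊕ Fin m → ZMod 2) where
  carrier := {v | ∀ i, v (.inr i) = 0}
  add_mem' := by
    intro a b ha hb i
    simp [ha i, hb i]
  zero_mem' := by intro i; rfl
  neg_mem' := by
    intro a ha i
    simp [ha i]

theorem plusLagr_singular (m : ℕ) (u : plusLagr m) :
    Cfsg.quadFormPlus m (ZMod 2) (u : Fin m ⊕ Fin m → ZMod 2) = 0 := by
  unfold Cfsg.quadFormPlus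
  apply Finset.sum_eq_zero
  intro i _
  rw [u.2 i, mul_zero]

/-- `plusLagr m` is in bijection with `Fin m → ZMod 2`. -/
def plusLagrEquiv (m : ℕ) : plusLagr m ≃ (Fin m → ZMod 2) where
  toFun u := fun i => (u : Fin m ⊕ Fin m → ZMod 2) (.inl i)
  invFun x := ⟨Sum.elim x 0, by intro i; rfl⟩
  left_inv := by
    intro u
    apply Subtype.ext
    funext j
    rcases j with i | i
    · rfl
    · exact (u.2 i).symm
  right_inv := by
    intro x
    rfl

theorem card_plusLagr (m : ℕ) : Nat.card (plusLagr m) = 2 ^ m := by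
  rw [Nat.card_congr (plusLagrEquiv m), Nat.card_eq_fintype_card]
  simp

theorem card_plusSpace (m : ℕ) : Fintype.card (Fin m ⊕ Fin m → ZMod 2) = 2 ^ m * 2 ^ m := by
  simp [pow_add]

theorem gsum_plus (m : ℕ) : IsQF2.gsum (Cfsg.quadFormPlus m (ZMod 2)) = (2 : ℤ) ^ m := by
  have h := (isQF2_plus m).gsum_eq_card_of_maximal_singular (plusLagr m) (plusLagr_singular m) ?_
  · rw [h, ← Nat.card_eq_fintype_card, card_plusLagr]
    push_cast
    rfl
  · rw [← Nat.card_eq_fintype_card, card_plusLagr, card_plusSpace]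

/-! ### The minus form -/

/-- Polar form of the minus-type form over `ZMod 2`. -/
def polarMinus (k : ℕ) (u v : (Fin k ⊕ Fin k) ⊕ Fin 2 → ZMod 2) : ZMod 2 :=
  (∑ i : Fin k, (u (.inl (.inl i)) * v (.inl (.inr i)) + v (.inl (.inl i)) * u (.inl (.inr i))))
    + (u (.inr 0) * v (.inr 1) + v (.inr 0) * u (.inr 1))

/-- Reindexing between the coordinates of the minus form in dimension `2k+2` and those of the
plus form in dimension `2(k+1)`. -/
def sigmaIdx (k : ℕ) : (Fin k ⊕ Fin k) ⊕ Fin 2 ≃ Fin (k + 1) ⊕ Fin (k + 1) where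
  toFun
    | .inl (.inl i) => .inl i.castSucc
    | .inl (.inr i) => .inr i.castSucc
    | .inr j => if j = 0 then .inl (Fin.last k) else .inr (Fin.last k)
  invFun
    | .inl j => if h : (j : ℕ) < k then .inl (.inl ⟨j, h⟩) else .inr 0
    | .inr j => if h : (j : ℕ) < k then .inl (.inr ⟨j, h⟩) else .inr 1
  left_inv := by
    rintro ((i | i) | j)
    · simp
    · simp
    · fin_cases j <;> simp
  right_inv := by
    rintro (j | j)
    · by_cases h : (j : ℕ) < k
      · simp [h]
      · have : j = Fin.last k := by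
          apply Fin.ext
          have := j.2
          simp only [Fin.val_last]
          omega
        simp [h, this]
    · by_cases h : (j : ℕ) < k
      · simp [h]
      · have : j = Fin.last k := by
          apply Fin.ext
          have := j.2
          simp only [Fin.val_last]
          omega
        simp [h, this]

/-- The special vector `w₀ = e_last + f_last` with `Q⁺(w₀) = 1`. -/
def w0 (k : ℕ) : Fin (k + 1) ⊕ Fin (k + 1) → ZMod 2 :=
  Pi.single (.inl (Fin.last k)) 1 + Pi.single (.inr (Fin.last k)) 1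

theorem polarPlus_w0 (k : ℕ) (v : Fin (k + 1) ⊕ Fin (k + 1) → ZMod 2) :
    polarPlus (k + 1) (ZMod 2) v (w0 k) = v (.inl (Fin.last k)) + v (.inr (Fin.last k)) := by
  rw [polarPlus_comm, w0, polarPlus_add_left, polarPlus_single_inl, polarPlus_single_inr, add_comm]

theorem z2_sq (a : ZMod 2) : a ^ 2 = a := by
  revert a; decide

theorem quadFormPlus_w0 (k : ℕ) : Cfsg.quadFormPlus (k + 1) (ZMod 2) (w0 k) = 1 := by
  unfold Cfsg.quadFormPlus
  rw [Fin.sum_univ_castSucc]
  have h1 : ∀ i : Fin k, w0 k (.inl i.castSucc) = 0 := by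
    intro i
    have hne : (Fin.castSucc i) ≠ Fin.last k := Fin.castSucc_ne_last i
    simp [w0, hne]
  rw [Finset.sum_congr rfl (fun i _ => by rw [h1 i, zero_mul])]
  simp [w0]

/-- The minus form is the translate `Q⁺ + f(·, w₀)` after reindexing. -/
theorem quadFormMinus_eq (k : ℕ) (v : Fin (k + 1) ⊕ Fin (k + 1) → ZMod 2) :
    Cfsg.quadFormMinus k (ZMod 2) 1 1 (fun j => v (sigmaIdx k j))
      = Cfsg.quadFormPlus (k + 1) (ZMod 2) v + polarPlus (k + 1) (ZMod 2) v (w0 k) := by
  rw [polarPlus_w0]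
  unfold Cfsg.quadFormMinus Cfsg.quadFormPlus
  rw [Fin.sum_univ_castSucc]
  have e0 : sigmaIdx k (.inr 0) = .inl (Fin.last k) := by simp [sigmaIdx]
  have e1 : sigmaIdx k (.inr 1) = .inr (Fin.last k) := by simp [sigmaIdx]
  have el : ∀ i : Fin k, sigmaIdx k (.inl (.inl i)) = .inl i.castSucc := fun i => rfl
  have er : ∀ i : Fin k, sigmaIdx k (.inl (.inr i)) = .inr i.castSucc := fun i => rfl
  simp only [e0, e1, el, er, z2_sq, one_mul]
  ring

end Cfsg.Agent.Helper43

namespace Cfsg.Agent.Helper43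

/-- The reindexing linear equivalence between the plus space in dimension `2(k+1)` and the
minus space in dimension `2k+2`. -/
def g0 (k : ℕ) : (Fin (k + 1) ⊕ Fin (k + 1) → ZMod 2) ≃ₗ[ZMod 2] ((Fin k ⊕ Fin k) ⊕ Fin 2 → ZMod 2) :=
  LinearEquiv.funCongrLeft (ZMod 2) (ZMod 2) (sigmaIdx k)

theorem g0_apply (k : ℕ) (v : Fin (k + 1) ⊕ Fin (k + 1) → ZMod 2) :
    g0 k v = fun j => v (sigmaIdx k j) := rfl

/-- The translate `Q⁺ + f(·, w₀)`, which is the minus form in other coordinates. -/
def qMinus (k : ℕ) (v : Fin (k + 1) ⊕ Fin (k + 1) → ZMod 2) : ZMod 2 :=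
  Cfsg.quadFormPlus (k + 1) (ZMod 2) v + polarPlus (k + 1) (ZMod 2) v (w0 k)

theorem quadFormMinus_g0 (k : ℕ) (v : Fin (k + 1) ⊕ Fin (k + 1) → ZMod 2) :
    Cfsg.quadFormMinus k (ZMod 2) 1 1 (g0 k v) = qMinus k v := by
  rw [g0_apply, quadFormMinus_eq]
  rfl

theorem isQF2_qMinus (k : ℕ) : IsQF2 (qMinus k) (polarPlus (k + 1) (ZMod 2)) :=
  (isQF2_plus (k + 1)).translate (w0 k)

theorem gsum_qMinus (k : ℕ) : IsQF2.gsum (qMinus k) = -(2 : ℤ) ^ (k + 1) := by
  have := (isQF2_plus (k + 1)).gsum_translate (w0 k)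
  unfold qMinus
  rw [this, quadFormPlus_w0, sgn2_one, gsum_plus]
  ring

end Cfsg.Agent.Helper43
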