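import Mathlib

set_option autoImplicit false

namespace Cfsg.Agent.Helper43.SS

open Polynomial Module

universe u v w

section basic

variable (F : Type u) [Field F]

/-- Multiplication by `X` as an `F`-endomorphism of an `F[X]`-module. -/
noncomputable def xEnd (M : Type v) [AddCommGroup M] [Module F[X] M] [Module F M]
    [IsScalarTower F F[X] M] : Module.End F M :=
  (LinearMap.lsmul F[X] M X).restrictScalars F

variable {F}

theorem xEnd_apply {M : Type v} [AddCommGroup M] [Module F[X] M] [Module F M]
    [IsScalarTower F F[X] M] (m : M) : xEnd F M m = (X : F[X]) • m := rfl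

theorem aeval_xEnd {M : Type v} [AddCommGroup M] [Module F[X] M] [Module F M]
    [IsScalarTower F F[X] M] (f : F[X]) (m : M) : aeval (xEnd F M) f m = f • m := by
  induction f using Polynomial.induction_on' with
  | add p q hp hq => rw [map_add, LinearMap.add_apply, hp, hq, add_smul]
  | monomial n a =>
    rw [← C_mul_X_pow_eq_monomial, map_mul, aeval_C, map_pow, aeval_X, mul_smul]
    have h1 : ∀ (k : ℕ) (m' : M), (xEnd F M ^ k) m' = (X : F[X]) ^ k • m' := by
      intro k
      induction k with
      | zero => intro m'; simp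
      | succ k ih =>
        intro m'
        rw [pow_succ, Module.End.mul_apply, ih, xEnd_apply, pow_succ, mul_smul]
    rw [Module.End.mul_apply, h1, Module.algebraMap_end_apply]
    have hC : ∀ y : M, (C a : F[X]) • y = a • y := by
      intro y
      rw [← smul_one_smul F[X] a y]
      congr 1
      rw [Polynomial.smul_eq_C_mul, mul_one]
    rw [hC]

theorem xEnd_prod {M : Type v} [AddCommGroup M] [Module F[X] M] [Module F M]
    [IsScalarTower F F[X] M] {N : Type w} [AddCommGroup N] [Module F[X] N] [Module F N]
    [IsScalarTower F F[X] N] : xEnd F (M × N) = (xEnd F M).prodMap (xEnd F N) := by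
  apply LinearMap.ext
  rintro ⟨a, b⟩
  rfl

theorem charpoly_xEnd_congr {M : Type v} [AddCommGroup M] [Module F[X] M] [Module F M]
    [IsScalarTower F F[X] M] {N : Type w} [AddCommGroup N] [Module F[X] N] [Module F N]
    [IsScalarTower F F[X] N] [Module.Finite F M] [Module.Finite F N]
    (E : M ≃ₗ[F[X]] N) : (xEnd F M).charpoly = (xEnd F N).charpoly := by
  have h := LinearEquiv.charpoly_conj (E.restrictScalars F) (xEnd F M)
  rw [← h]
  congr 1
  apply LinearMap.ext
  intro n
  show E ((X : F[X]) • E.symm n) = (X : F[X]) • n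
  rw [map_smul, LinearEquiv.apply_symm_apply]

end basic

section struct

variable {F : Type u} [Field F]

/-- The cyclic module `F[X]/(r)`. -/
abbrev Qr (r : F[X]) : Type u := F[X] ⧸ (Ideal.span {r} : Ideal F[X])

theorem exists_split (M : Type v) [AddCommGroup M] [Module F[X] M]
    [IsSemisimpleModule F[X] M] (r : F[X]) (hr : Irreducible r) (m : M) (hm : m ≠ 0)
    (hrm : r • m = 0) :
    ∃ M' : Submodule F[X] M, Nonempty ((Qr r × M') ≃ₗ[F[X]] M) := by
  have htors : Ideal.torsionOf F[X] M m = Ideal.span {r} := by
    have hmax : (Ideal.span {r} : Ideal F[X]).IsMaximal :=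
      PrincipalIdealRing.isMaximal_of_irreducible hr
    symm
    apply hmax.eq_of_le
    · intro htop
      have : (1 : F[X]) ∈ Ideal.torsionOf F[X] M m := by rw [htop]; trivial
      rw [Ideal.mem_torsionOf_iff, one_smul] at this
      exact hm this
    · rw [Ideal.span_singleton_le_iff_mem, Ideal.mem_torsionOf_iff]; exact hrm
  let e1 : Qr r ≃ₗ[F[X]] (Submodule.span F[X] {m}) :=
    (Submodule.quotEquivOfEq _ _ htors.symm).trans (Ideal.quotTorsionOfEquivSpanSingleton F[X] M m)
  obtain ⟨M', hM'⟩ := exists_isCompl (Submodule.span F[X] {m})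
  exact ⟨M', ⟨(LinearEquiv.prodCongr e1 (LinearEquiv.refl _ _)).trans
    (Submodule.prodEquivOfIsCompl _ _ hM')⟩⟩


theorem charpoly_xEnd_Qr (r : F[X]) (hr : r.Monic) [Module.Finite F (Qr r)] :
    (xEnd F (Qr r)).charpoly = r := by
  haveI : Module.Finite F (AdjoinRoot r) := hr.finite_adjoinRoot
  let pb := AdjoinRoot.powerBasis' hr
  have h1 := charpoly_leftMulMatrix pb
  rw [Algebra.leftMulMatrix_apply, LinearMap.charpoly_toMatrix] at h1
  have h2 : minpoly F pb.gen = r := by
    rw [AdjoinRoot.powerBasis'_gen, AdjoinRoot.minpoly_root hr.ne_zero, hr.leadingCoeff, inv_one,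
      map_one, mul_one]
  rw [h2] at h1
  have key : xEnd F (Qr r) = Algebra.lmul F (AdjoinRoot r) pb.gen := by
    apply LinearMap.ext
    intro q
    obtain ⟨g, rfl⟩ := Submodule.Quotient.mk_surjective _ q
    rfl
  rw [key]
  exact h1


theorem charpoly_smul {M : Type v} [AddCommGroup M] [Module F[X] M] [Module F M]
    [IsScalarTower F F[X] M] [Module.Finite F M] (m : M) : (xEnd F M).charpoly • m = 0 := by
  rw [← aeval_xEnd, LinearMap.aeval_self_charpoly, LinearMap.zero_apply]

theorem exists_torsion (M : Type v) [AddCommGroup M] [Module F[X] M] [Module F M]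
    [IsScalarTower F F[X] M] [Module.Finite F M] [Nontrivial M] :
    ∃ r : F[X], r.Monic ∧ Irreducible r ∧ ∃ m : M, m ≠ 0 ∧ r • m = 0 := by
  obtain ⟨m₀, hm₀⟩ := exists_ne (0 : M)
  obtain ⟨g, hg⟩ := (IsPrincipalIdealRing.principal (Ideal.torsionOf F[X] M m₀)).principal
  have hmem : ∀ f : F[X], f • m₀ = 0 ↔ g ∣ f := by
    intro f
    rw [← Ideal.mem_torsionOf_iff, hg, Ideal.submodule_span_eq, Ideal.mem_span_singleton]
  have hg0 : g ≠ 0 := by
    intro h0
    have := (hmem _).mp (charpoly_smul m₀)
    rw [h0, zero_dvd_iff] at this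
    exact (LinearMap.charpoly_monic _).ne_zero this
  have hgu : ¬ IsUnit g := by
    intro hu
    have := (hmem 1).mpr hu.dvd
    rw [one_smul] at this
    exact hm₀ this
  obtain ⟨r, hrm, hri, s, hs⟩ := Polynomial.exists_monic_irreducible_factor g hgu
  refine ⟨r, hrm, hri, s • m₀, ?_, ?_⟩
  · intro h0
    obtain ⟨t, ht⟩ := (hmem s).mp h0
    have hs0 : s ≠ 0 := by
      rintro rfl
      rw [mul_zero] at hs
      exact hg0 hs
    rw [hs, mul_assoc] at ht
    have h1 : s * 1 = s * (r * t) := by
      rw [mul_one]
      calc s = r * (s * t) := ht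
        _ = s * (r * t) := by ring
    have h2 : 1 = r * t := mul_left_cancel₀ hs0 h1
    exact hri.not_isUnit (IsUnit.of_mul_eq_one t h2.symm)
  · rw [← mul_smul, ← hs]
    exact (hmem g).mpr dvd_rfl


theorem finite_sub {M : Type v} [AddCommGroup M] [Module F[X] M] [Module F M]
    [IsScalarTower F F[X] M] [Module.Finite F M] (M' : Submodule F[X] M) : Module.Finite F M' :=
  Module.Finite.of_injective ((M'.subtype).restrictScalars F) Subtype.val_injective

theorem charpoly_of_split {M : Type v} [AddCommGroup M] [Module F[X] M] [Module F M]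
    [IsScalarTower F F[X] M] [Module.Finite F M] (r : F[X]) (hr : r.Monic)
    (M' : Submodule F[X] M) [Module.Finite F M'] (E : (Qr r × M') ≃ₗ[F[X]] M) :
    (xEnd F M).charpoly = r * (xEnd F M').charpoly := by
  haveI : Module.Finite F (Qr r) := hr.finite_quotient
  rw [← charpoly_xEnd_congr E, xEnd_prod, LinearMap.charpoly_prodMap, charpoly_xEnd_Qr r hr]

theorem finrank_of_split {M : Type v} [AddCommGroup M] [Module F[X] M] [Module F M]
    [IsScalarTower F F[X] M] [Module.Finite F M] (r : F[X]) (hr : r.Monic)
    (M' : Submodule F[X] M) [Module.Finite F M'] (E : (Qr r × M') ≃ₗ[F[X]] M) :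
    finrank F M = r.natDegree + finrank F M' := by
  haveI : Module.Finite F (Qr r) := hr.finite_quotient
  rw [← (E.restrictScalars F).finrank_eq, Module.finrank_prod, finrank_quotient_span_eq_natDegree]

theorem charpoly_eq_one_of_subsingleton {M : Type v} [AddCommGroup M] [Module F[X] M] [Module F M]
    [IsScalarTower F F[X] M] [Module.Finite F M] [Subsingleton M] : (xEnd F M).charpoly = 1 := by
  apply (LinearMap.charpoly_monic _).natDegree_eq_zero.mp
  rw [LinearMap.charpoly_natDegree]
  exact Module.finrank_zero_of_subsingleton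

theorem exists_torsion_of_dvd : ∀ (d : ℕ) (M : Type v) [AddCommGroup M] [Module F[X] M]
    [Module F M] [IsScalarTower F F[X] M] [Module.Finite F M] [IsSemisimpleModule F[X] M],
    finrank F M = d → ∀ r : F[X], r.Monic → Irreducible r → r ∣ (xEnd F M).charpoly →
    ∃ m : M, m ≠ 0 ∧ r • m = 0 := by
  intro d
  induction d using Nat.strong_induction_on with
  | _ d ih =>
    intro M _ _ _ _ _ _ hd r hrm hri hdvd
    have hnt : Nontrivial M := by
      by_contra hcon
      rw [not_nontrivial_iff_subsingleton] at hcon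
      rw [charpoly_eq_one_of_subsingleton] at hdvd
      exact hri.not_isUnit (isUnit_of_dvd_one hdvd)
    obtain ⟨r', hr'm, hr'i, m', hm', hr'm'⟩ := exists_torsion (F := F) M
    obtain ⟨M', ⟨E⟩⟩ := exists_split M r' hr'i m' hm' hr'm'
    haveI := finite_sub M'
    have hχ := charpoly_of_split r' hr'm M' E
    have hfr := finrank_of_split r' hr'm M' E
    rw [hχ] at hdvd
    rcases (hri.prime).dvd_or_dvd hdvd with h | h
    · have : r = r' := eq_of_monic_of_associated hrm hr'm (hri.associated_of_dvd hr'i h)
      subst this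
      exact ⟨m', hm', hr'm'⟩
    · have hlt : finrank F M' < d := by
        have : 0 < r'.natDegree := hr'i.natDegree_pos
        omega
      obtain ⟨m, hm, hrm'⟩ := ih _ hlt M' rfl r hrm hri h
      refine ⟨(m : M), ?_, ?_⟩
      · intro h0
        exact hm (Subtype.ext h0)
      · rw [← Submodule.coe_smul, hrm']
        rfl

theorem nonempty_equiv_of_charpoly_eq : ∀ (d : ℕ) (M : Type v) [AddCommGroup M] [Module F[X] M]
    [Module F M] [IsScalarTower F F[X] M] [Module.Finite F M] [IsSemisimpleModule F[X] M]
    (N : Type w) [AddCommGroup N] [Module F[X] N]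
    [Module F N] [IsScalarTower F F[X] N] [Module.Finite F N] [IsSemisimpleModule F[X] N],
    finrank F M = d → (xEnd F M).charpoly = (xEnd F N).charpoly → Nonempty (M ≃ₗ[F[X]] N) := by
  intro d
  induction d using Nat.strong_induction_on with
  | _ d ih =>
    intro M _ _ _ _ _ _ N _ _ _ _ _ _ hd hχ
    have hrank : finrank F N = finrank F M := by
      rw [← LinearMap.charpoly_natDegree (xEnd F N), ← hχ, LinearMap.charpoly_natDegree]
    rcases subsingleton_or_nontrivial M with hM | hM
    · have hN : Subsingleton N := by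
        rw [← Module.finrank_zero_iff (R := F), hrank]
        exact Module.finrank_zero_of_subsingleton
      exact ⟨LinearEquiv.ofSubsingleton M N⟩
    · obtain ⟨r, hrm, hri, m, hm, hrm0⟩ := exists_torsion (F := F) M
      obtain ⟨M', ⟨E⟩⟩ := exists_split M r hri m hm hrm0
      haveI := finite_sub M'
      have hχM := charpoly_of_split r hrm M' E
      have hfr := finrank_of_split r hrm M' E
      have hdvd : r ∣ (xEnd F N).charpoly := by
        rw [← hχ, hχM]
        exact dvd_mul_right _ _
      obtain ⟨n, hn, hrn0⟩ := exists_torsion_of_dvd _ N rfl r hrm hri hdvd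
      obtain ⟨N', ⟨E'⟩⟩ := exists_split N r hri n hn hrn0
      haveI := finite_sub N'
      have hχN := charpoly_of_split r hrm N' E'
      have hχ' : (xEnd F M').charpoly = (xEnd F N').charpoly := by
        rw [hχM, hχN] at hχ
        exact mul_left_cancel₀ hrm.ne_zero hχ
      have hlt : finrank F M' < d := by
        have : 0 < r.natDegree := hri.natDegree_pos
        omega
      obtain ⟨E''⟩ := ih _ hlt M' N' rfl hχ'
      exact ⟨E.symm.trans ((LinearEquiv.prodCongr (LinearEquiv.refl _ _) E'').trans E')⟩

end struct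

end Cfsg.Agent.Helper43.SS
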