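import Mathlib
import Cfsg.Agent.Helper43.SUClsC

set_option autoImplicit false

namespace Cfsg.Agent.Helper43.SUCls

open Polynomial Matrix

universe u

variable {K : Type u} [Field K]

/-- The number of classes of elements of order prime to `p` in `SU_n(q)`, given that such elements
with equal characteristic polynomials are conjugate. -/
theorem card_classes_su_eq [Fintype K] (p : ℕ) [Fact p.Prime] [CharP K p] {q : ℕ}
    (hK : Fintype.card K = q ^ 2) (n : ℕ) (hn : 1 ≤ n)
    (hconj : ∀ g h : ↥(Cfsg.SU n K q), (orderOf g).Coprime p → (orderOf h).Coprime p →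
      ((g : Matrix.SpecialLinearGroup (Fin n) K) : Matrix (Fin n) (Fin n) K).charpoly =
        ((h : Matrix.SpecialLinearGroup (Fin n) K) : Matrix (Fin n) (Fin n) K).charpoly →
      IsConj g h) :
    Nat.card {c : ConjClasses ↥(Cfsg.SU n K q) //
      ∃ g : ↥(Cfsg.SU n K q), ConjClasses.mk g = c ∧ (orderOf g).Coprime p} = q ^ (n - 1) := by
  obtain ⟨bar, hbar⟩ := Cfsg.Agent.Helper45.GU.exists_bar hK
  rw [card_classes_su p hK bar hbar n hconj]
  exact card_suPred hK bar hbar n hn

end Cfsg.Agent.Helper43.SUCls
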