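import Mathlib
import Cfsg.Agent.Helper43.CyclicForm

set_option autoImplicit false

namespace Cfsg.Agent.Helper43

open Polynomial DirectSum

/-- Every endomorphism of a finite-dimensional vector space is self-adjoint for some
(left-)nondegenerate bilinear form. -/
theorem exists_selfadjoint_form {F : Type*} [Field F] {V : Type*} [AddCommGroup V] [Module F V]
    [FiniteDimensional F V] (φ : Module.End F V) :
    ∃ B : V →ₗ[F] V →ₗ[F] F, (∀ x, (∀ y, B x y = 0) → x = 0) ∧ ∀ x y, B (φ x) y = B x (φ y) := by
  classical
  have htors : Module.IsTorsion F[X] (Module.AEval' φ) :=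
    Module.AEval.isTorsion_of_finiteDimensional F V φ
  obtain ⟨ι, _, p, hp, e, ⟨E⟩⟩ := Module.equiv_directSum_of_isTorsion htors
  choose β hβ1 hβ2 hβ3 hβ4 hβ5 using
    fun i => exists_cyclic_form (p i ^ e i) (pow_ne_zero _ (hp i).ne_zero)
  have hβ0 : ∀ i b, β i b 0 = 0 := by
    intro i b
    have := hβ2 i b 0 0
    rw [add_zero] at this
    exact left_eq_add.mp this
  let o := Module.AEval'.of φ
  let f : V → V → F := fun x y => ∑ i, β i (E (o x) i) (E (o y) i)
  have f_add_left : ∀ x x' y, f (x + x') y = f x y + f x' y := by
    intro x x' y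
    simp only [f]
    rw [← Finset.sum_add_distrib]
    apply Finset.sum_congr rfl
    intro i _
    rw [map_add, map_add, DirectSum.add_apply, hβ1]
  have f_add_right : ∀ x y y', f x (y + y') = f x y + f x y' := by
    intro x y y'
    simp only [f]
    rw [← Finset.sum_add_distrib]
    apply Finset.sum_congr rfl
    intro i _
    rw [map_add, map_add, DirectSum.add_apply, hβ2]
  have hsm : ∀ (a : F) (x : V), E (o (a • x)) = C a • E (o x) := by
    intro a x
    rw [map_smul, ← Module.AEval.C_smul, map_smul]
  have f_smul_left : ∀ (a : F) x y, f (a • x) y = a • f x y := by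
    intro a x y
    simp only [f]
    rw [Finset.smul_sum]
    apply Finset.sum_congr rfl
    intro i _
    rw [hsm, DirectSum.smul_apply, hβ4, smul_eq_mul]
  have f_smul_right : ∀ (a : F) x y, f x (a • y) = a • f x y := by
    intro a x y
    simp only [f]
    rw [Finset.smul_sum]
    apply Finset.sum_congr rfl
    intro i _
    rw [hsm, DirectSum.smul_apply, ← hβ3, hβ4, smul_eq_mul]
  refine ⟨LinearMap.mk₂ F f f_add_left f_smul_left f_add_right f_smul_right, ?_, ?_⟩
  · intro x hx
    have hx' : ∀ y, f x y = 0 := hx
    have hcomp : ∀ i, E (o x) i = 0 := by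
      intro i
      apply hβ5 i
      intro c
      have := hx' (o.symm (E.symm (DirectSum.of _ i c)))
      simp only [f] at this
      rw [LinearEquiv.apply_symm_apply, LinearEquiv.apply_symm_apply] at this
      rw [Finset.sum_eq_single i] at this
      · rw [DirectSum.of_eq_same] at this
        exact this
      · intro j _ hji
        rw [DirectSum.of_eq_of_ne _ _ _ hji, hβ0]
      · intro h; exact absurd (Finset.mem_univ i) h
    have : E (o x) = 0 := DirectSum.ext (fun i => by rw [hcomp i]; rfl)
    have h2 : o x = 0 := by
      have := congrArg E.symm this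
      simpa using this
    simpa using h2
  · intro x y
    show f (φ x) y = f x (φ y)
    simp only [f]
    apply Finset.sum_congr rfl
    intro i _
    have h1 : E (o (φ x)) = (X : F[X]) • E (o x) := by
      rw [← Module.AEval'.X_smul_of, map_smul]
    have h2 : E (o (φ y)) = (X : F[X]) • E (o y) := by
      rw [← Module.AEval'.X_smul_of, map_smul]
    rw [h1, h2, DirectSum.smul_apply, DirectSum.smul_apply, hβ3]

/-- Every square matrix over a field is conjugate to its transpose. -/
theorem matrix_isConj_transpose {F : Type*} [Field F] {n : Type*} [Fintype n] [DecidableEq n]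
    (A : Matrix n n F) : IsConj A A.transpose := by
  obtain ⟨B', hB1, hB2⟩ := exists_selfadjoint_form (Matrix.toLin' A)
  let B : LinearMap.BilinForm F (n → F) := B'
  set S := LinearMap.BilinForm.toMatrix' B with hS
  have hcomp : LinearMap.BilinForm.compLeft B (Matrix.toLin' A)
      = LinearMap.BilinForm.compRight B (Matrix.toLin' A) := by
    apply LinearMap.ext
    intro x
    apply LinearMap.ext
    intro y
    rw [LinearMap.BilinForm.compLeft_apply, LinearMap.BilinForm.compRight_apply]
    exact hB2 _ _
  have hSA : A.transpose * S = S * A := by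
    have h1 := LinearMap.BilinForm.toMatrix'_compLeft B (Matrix.toLin' A)
    have h2 := LinearMap.BilinForm.toMatrix'_compRight B (Matrix.toLin' A)
    rw [LinearMap.toMatrix'_toLin'] at h1 h2
    rw [← h1, ← h2, hcomp]
  have hunit : IsUnit S := by
    rw [← Matrix.vecMul_injective_iff_isUnit]
    intro x x' hxx
    have hsub : Matrix.vecMul (x - x') S = 0 := by
      rw [Matrix.sub_vecMul]
      exact sub_eq_zero.mpr hxx
    have : x - x' = 0 := by
      apply hB1
      intro y
      have hBS : B = Matrix.toBilin' S := (Matrix.toBilin'_toMatrix' B).symm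
      show B (x - x') y = 0
      rw [hBS, Matrix.toBilin'_apply', Matrix.dotProduct_mulVec, hsub, zero_dotProduct]
    exact sub_eq_zero.mp this
  obtain ⟨u, hu⟩ := hunit
  refine ⟨u, ?_⟩
  show (u : Matrix n n F) * A = A.transpose * u
  rw [hu, hSA]

end Cfsg.Agent.Helper43
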