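import Mathlib
import Cfsg.Prelude.Def_GeometricClasses
import Cfsg.Agent.Helper45.SpInSL
import Cfsg.Agent.Helper43.SpCountE
import Cfsg.Agent.Helper43.SpCountA

set_option autoImplicit false

/-!
# Similarities of symplectic forms on `F^n`: transport to the standard form
-/

namespace Cfsg.Agent.Helper43.SpDer

open Matrix Cfsg.Geo
open Cfsg.Agent.Helper45.SpInSL

universe u

variable {F : Type u} [Field F] {n : ℕ}

/-- `M` multiplies the form `f` by the scalar `c`. -/
def SimWith (f : (Fin n → F) → (Fin n → F) → F) (M : Matrix (Fin n) (Fin n) F) (c : F) : Prop :=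
  ∀ u v, f (M *ᵥ u) (M *ᵥ v) = c * f u v

theorem mem_similarityGroup_iff (f : (Fin n → F) → (Fin n → F) → F) (g : GL (Fin n) F) :
    g ∈ similarityGroup f ↔ ∃ c : Fˣ, SimWith f (g : Matrix (Fin n) (Fin n) F) (c : F) := Iff.rfl

theorem SimWith.pow {f : (Fin n → F) → (Fin n → F) → F} {M : Matrix (Fin n) (Fin n) F} {c : F}
    (h : SimWith f M c) (k : ℕ) : SimWith f (M ^ k) (c ^ k) := by
  induction k with
  | zero =>
    intro u v
    simp
  | succ k ih =>
    intro u v
    rw [pow_succ, ← Matrix.mulVec_mulVec, ← Matrix.mulVec_mulVec, ih, h, pow_succ, mul_assoc]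

/-- the transported form `(u, v) ↦ f (P u) (P v)`. -/
def pull (f : (Fin n → F) → (Fin n → F) → F) (P : Matrix (Fin n) (Fin n) F) :
    (Fin n → F) → (Fin n → F) → F := fun u v => f (P *ᵥ u) (P *ᵥ v)

theorem pull_symplectic {f : (Fin n → F) → (Fin n → F) → F} (hf : IsSymplecticForm f)
    (P Q : Matrix (Fin n) (Fin n) F) (hPQ : P * Q = 1) (hQP : Q * P = 1) :
    IsSymplecticForm (pull f P) := by
  refine ⟨⟨?_, ?_, ?_, ?_⟩, ?_, ?_, ?_⟩
  · intro x y v
    show f (P *ᵥ (x + y)) (P *ᵥ v) = _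
    rw [Matrix.mulVec_add, hf.bilinear.add_left]; rfl
  · intro c x v
    show f (P *ᵥ (c • x)) (P *ᵥ v) = _
    rw [Matrix.mulVec_smul, hf.bilinear.smul_left]; rfl
  · intro v x y
    show f (P *ᵥ v) (P *ᵥ (x + y)) = _
    rw [Matrix.mulVec_add, hf.bilinear.add_right]; rfl
  · intro c v x
    show f (P *ᵥ v) (P *ᵥ (c • x)) = _
    rw [Matrix.mulVec_smul, hf.bilinear.smul_right]; rfl
  · intro v w
    exact hf.skew _ _
  · intro v
    exact hf.alternating _
  · intro v hv
    have hPv : P *ᵥ v ≠ 0 := by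
      intro h0
      apply hv
      have := congrArg (fun w => Q *ᵥ w) h0
      simpa [Matrix.mulVec_mulVec, hQP] using this
    obtain ⟨⟨x, hx⟩, ⟨y, hy⟩⟩ := hf.nondegenerate _ hPv
    refine ⟨⟨Q *ᵥ x, ?_⟩, ⟨Q *ᵥ y, ?_⟩⟩
    · show f (P *ᵥ (Q *ᵥ x)) (P *ᵥ v) ≠ 0
      rwa [Matrix.mulVec_mulVec, hPQ, Matrix.one_mulVec]
    · show f (P *ᵥ v) (P *ᵥ (Q *ᵥ y)) ≠ 0
      rwa [Matrix.mulVec_mulVec, hPQ, Matrix.one_mulVec]

/-- conjugates and transported forms. -/
theorem simWith_pull {f : (Fin n → F) → (Fin n → F) → F} (P Q x : Matrix (Fin n) (Fin n) F)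
    (hPQ : P * Q = 1) (c : F) (h : SimWith f (P * x * Q) c) : SimWith (pull f P) x c := by
  intro u v
  show f (P *ᵥ (x *ᵥ u)) (P *ᵥ (x *ᵥ v)) = c * f (P *ᵥ u) (P *ᵥ v)
  have hQP : Q * P = 1 := mul_eq_one_comm.mp hPQ
  have := h (P *ᵥ u) (P *ᵥ v)
  rw [Matrix.mulVec_mulVec, Matrix.mulVec_mulVec, Matrix.mul_assoc, Matrix.mul_assoc, hQP,
    Matrix.mul_one, ← Matrix.mulVec_mulVec, ← Matrix.mulVec_mulVec] at this
  exact this

/-- The core reduction: an element of `SL_n` which is a similarity of no symplectic form has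
no conjugate in the similarity group of `f`. -/
theorem not_conj_mem_of_forall {f : (Fin n → F) → (Fin n → F) → F} (hf : IsSymplecticForm f)
    (x : Matrix.SpecialLinearGroup (Fin n) F)
    (hx : ∀ f' : (Fin n → F) → (Fin n → F) → F, IsSymplecticForm f' → ∀ c : F,
      ¬ SimWith f' (x : Matrix (Fin n) (Fin n) F) c)
    (P : Matrix.SpecialLinearGroup (Fin n) F) :
    P⁻¹ * x * P ∉ ((similarityGroup f).comap
      (Matrix.SpecialLinearGroup.toGL : Matrix.SpecialLinearGroup (Fin n) F →* GL (Fin n) F)) := by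
  intro hmem
  rw [Subgroup.mem_comap, mem_similarityGroup_iff] at hmem
  obtain ⟨c, hc⟩ := hmem
  have hPQ : ((P⁻¹ : Matrix.SpecialLinearGroup (Fin n) F) : Matrix (Fin n) (Fin n) F)
      * (P : Matrix (Fin n) (Fin n) F) = 1 := by
    rw [← Matrix.SpecialLinearGroup.coe_mul, inv_mul_cancel]; rfl
  have hQP : (P : Matrix (Fin n) (Fin n) F)
      * ((P⁻¹ : Matrix.SpecialLinearGroup (Fin n) F) : Matrix (Fin n) (Fin n) F) = 1 := by
    rw [← Matrix.SpecialLinearGroup.coe_mul, mul_inv_cancel]; rfl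
  have hc' : SimWith f (((P⁻¹ : Matrix.SpecialLinearGroup (Fin n) F) : Matrix (Fin n) (Fin n) F)
      * (x : Matrix (Fin n) (Fin n) F) * (P : Matrix (Fin n) (Fin n) F)) c := hc
  exact hx _ (pull_symplectic hf _ _ hPQ hQP) c (simWith_pull _ _ _ hPQ c hc')

/-- the multiplier of a similarity of finite order. -/
theorem SimWith.pow_eq_one {f : (Fin n → F) → (Fin n → F) → F} (hf : IsSymplecticForm f)
    (hn : 0 < n) {M : Matrix (Fin n) (Fin n) F} {c : F} (h : SimWith f M c) (k : ℕ)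
    (hM : M ^ k = 1) : c ^ k = 1 := by
  have hk := h.pow k
  rw [hM] at hk
  have hv : (Pi.single (⟨0, hn⟩ : Fin n) (1 : F) : Fin n → F) ≠ 0 := by
    intro h0
    have := congrFun h0 ⟨0, hn⟩
    simp at this
  obtain ⟨⟨y, hy⟩, -⟩ := hf.nondegenerate _ hv
  have := hk y (Pi.single (⟨0, hn⟩ : Fin n) (1 : F))
  rw [Matrix.one_mulVec, Matrix.one_mulVec] at this
  have h2 : (c ^ k - 1) * f y (Pi.single (⟨0, hn⟩ : Fin n) (1 : F)) = 0 := by
    rw [sub_mul, one_mul, ← this, sub_self]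
  rcases mul_eq_zero.mp h2 with h3 | h3
  · exact sub_eq_zero.mp h3
  · exact absurd h3 hy

section finite

variable [Fintype F]

/-- an isometry with the standard symplectic space. -/
theorem exists_std_isometry {f : (Fin n → F) → (Fin n → F) → F} (hf : IsSymplecticForm f)
    {m : ℕ} (hnm : n = m + m) :
    ∃ φ : (Fin n → F) ≃ₗ[F] (Fin m ⊕ Fin m → F),
      ∀ u v, Cfsg.sympForm m F (φ u) (φ v) = f u v := by
  have halt : (fB hf).IsAlt := fun v => hf.alternating v
  have hdim : Module.finrank F (Fin n → F) = Module.finrank F (Fin m ⊕ Fin m → F) := by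
    rw [Module.finrank_fintype_fun_eq_card, Module.finrank_fintype_fun_eq_card, Fintype.card_fin,
      Fintype.card_sum, Fintype.card_fin, hnm]
  obtain ⟨φ, hφ⟩ := Cfsg.Agent.Helper43.SpCount.exists_isometry_alt halt (fB_nondeg hf)
    (Cfsg.Agent.Helper43.SpSS.Bn_alt (n := m) (F := F))
    (Cfsg.Agent.Helper43.SpSS.Bn_nondeg (n := m) (F := F)) hdim
  refine ⟨φ, fun u v => ?_⟩
  rw [← Cfsg.Agent.Helper43.SpSS.Bn_apply, hφ]
  rfl

/-- the characteristic polynomial of an isometry of a symplectic form is self-reciprocal. -/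
theorem charpoly_reverse_of_isom {f : (Fin n → F) → (Fin n → F) → F} (hf : IsSymplecticForm f)
    {m : ℕ} (hnm : n = m + m) (M : Matrix (Fin n) (Fin n) F) (hM : SimWith f M 1) :
    M.charpoly.reverse = M.charpoly := by
  obtain ⟨φ, hφ⟩ := exists_std_isometry hf hnm
  set T : Module.End F (Fin m ⊕ Fin m → F) := φ.conj (Matrix.toLin' M) with hT
  have hTa : ∀ u, T u = φ (M *ᵥ (φ.symm u)) := by
    intro u
    rw [hT, LinearEquiv.conj_apply_apply, Matrix.toLin'_apply]
  set A : Matrix (Fin m ⊕ Fin m) (Fin m ⊕ Fin m) F := LinearMap.toMatrix' T with hA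
  have hAv : ∀ v, A *ᵥ v = T v := by
    intro v
    rw [hA, LinearMap.toMatrix'_mulVec]
  have hmem : A ∈ Matrix.symplecticGroup (Fin m) F := by
    rw [Cfsg.Agent.Helper13.mem_symplecticGroup_iff_preserves]
    intro u v
    rw [hAv, hAv, hTa, hTa, hφ, hM, one_mul, ← hφ, LinearEquiv.apply_symm_apply,
      LinearEquiv.apply_symm_apply]
  have hch : A.charpoly = M.charpoly := by
    rw [← Matrix.charpoly_toLin', hA, Matrix.toLin'_toMatrix', hT, LinearEquiv.charpoly_conj,
      Matrix.charpoly_toLin']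
  rw [← hch]
  exact Cfsg.Agent.Helper43.SpCount.charpoly_reverse_of_mem_symplectic ⟨A, hmem⟩

end finite

end Cfsg.Agent.Helper43.SpDer
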