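import Mathlib
import Cfsg.Agent.Helper43.SpDerA
import Cfsg.Agent.Helper43.LagrD
import Cfsg.Agent.Helper5.SpCard
import Cfsg.Agent.Helper5.Card

set_option autoImplicit false

/-!
# The index of the symplectic similarity group in `SL_n`
-/

namespace Cfsg.Agent.Helper43.SpDer

open Matrix Cfsg.Geo
open Cfsg.Agent.Helper45.SpInSL

universe u

variable {F : Type u} [Field F] {n m : ℕ}

/-- transport of a matrix along a linear equivalence. -/
noncomputable def embMat (φ : (Fin n → F) ≃ₗ[F] (Fin m ⊕ Fin m → F))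
    (A : Matrix (Fin m ⊕ Fin m) (Fin m ⊕ Fin m) F) : Matrix (Fin n) (Fin n) F :=
  LinearMap.toMatrix' (φ.symm.conj (Matrix.toLin' A))

theorem embMat_mulVec (φ : (Fin n → F) ≃ₗ[F] (Fin m ⊕ Fin m → F))
    (A : Matrix (Fin m ⊕ Fin m) (Fin m ⊕ Fin m) F) (v : Fin n → F) :
    embMat φ A *ᵥ v = φ.symm (A *ᵥ φ v) := by
  rw [embMat, LinearMap.toMatrix'_mulVec, LinearEquiv.conj_apply_apply, LinearEquiv.symm_symm,
    Matrix.toLin'_apply]

theorem embMat_mul (φ : (Fin n → F) ≃ₗ[F] (Fin m ⊕ Fin m → F))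
    (A B : Matrix (Fin m ⊕ Fin m) (Fin m ⊕ Fin m) F) :
    embMat φ (A * B) = embMat φ A * embMat φ B := by
  apply Matrix.toLin'.injective
  apply LinearMap.ext
  intro v
  rw [Matrix.toLin'_apply, Matrix.toLin'_apply, ← Matrix.mulVec_mulVec, embMat_mulVec,
    embMat_mulVec, embMat_mulVec, LinearEquiv.apply_symm_apply, Matrix.mulVec_mulVec]

theorem embMat_one (φ : (Fin n → F) ≃ₗ[F] (Fin m ⊕ Fin m → F)) :
    embMat φ (1 : Matrix (Fin m ⊕ Fin m) (Fin m ⊕ Fin m) F) = 1 := by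
  apply Matrix.toLin'.injective
  apply LinearMap.ext
  intro v
  rw [Matrix.toLin'_apply, embMat_mulVec, Matrix.one_mulVec, LinearEquiv.symm_apply_apply,
    Matrix.toLin'_apply, Matrix.one_mulVec]

theorem det_embMat (φ : (Fin n → F) ≃ₗ[F] (Fin m ⊕ Fin m → F))
    (A : Matrix (Fin m ⊕ Fin m) (Fin m ⊕ Fin m) F) : (embMat φ A).det = A.det := by
  rw [embMat, LinearMap.det_toMatrix', LinearEquiv.conj_apply, LinearMap.comp_assoc,
    LinearMap.det_conj, LinearMap.det_toLin']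

theorem embMat_injective (φ : (Fin n → F) ≃ₗ[F] (Fin m ⊕ Fin m → F)) :
    Function.Injective (embMat φ) := by
  intro A B h
  apply Matrix.toLin'.injective
  apply LinearMap.ext
  intro v
  have := congrArg (fun M => φ (M *ᵥ φ.symm v)) h
  simp only [embMat_mulVec, LinearEquiv.apply_symm_apply] at this
  rw [Matrix.toLin'_apply, Matrix.toLin'_apply]
  exact this

/-- the embedding of the standard symplectic group into `SL_n` given by an isometry. -/
noncomputable def emb (φ : (Fin n → F) ≃ₗ[F] (Fin m ⊕ Fin m → F)) :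
    ↥(Matrix.symplecticGroup (Fin m) F) →* Matrix.SpecialLinearGroup (Fin n) F :=
  MonoidHom.mk' (fun A => ⟨embMat φ (A : Matrix (Fin m ⊕ Fin m) (Fin m ⊕ Fin m) F), by
    rw [det_embMat]
    exact Cfsg.Agent.Helper43.SpCount.det_eq_one_of_mem_symplectic A⟩) (by
    intro A B
    apply Subtype.ext
    show embMat φ ((A : Matrix (Fin m ⊕ Fin m) (Fin m ⊕ Fin m) F)
        * (B : Matrix (Fin m ⊕ Fin m) (Fin m ⊕ Fin m) F))
      = embMat φ (A : Matrix (Fin m ⊕ Fin m) (Fin m ⊕ Fin m) F)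
        * embMat φ (B : Matrix (Fin m ⊕ Fin m) (Fin m ⊕ Fin m) F)
    exact embMat_mul φ _ _)

theorem emb_coe (φ : (Fin n → F) ≃ₗ[F] (Fin m ⊕ Fin m → F))
    (A : ↥(Matrix.symplecticGroup (Fin m) F)) :
    ((emb φ A : Matrix.SpecialLinearGroup (Fin n) F) : Matrix (Fin n) (Fin n) F)
      = embMat φ (A : Matrix (Fin m ⊕ Fin m) (Fin m ⊕ Fin m) F) := rfl

theorem emb_injective (φ : (Fin n → F) ≃ₗ[F] (Fin m ⊕ Fin m → F)) :
    Function.Injective (emb φ) := by
  intro A B h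
  apply Subtype.ext
  apply embMat_injective φ
  rw [← emb_coe, ← emb_coe, h]

theorem range_emb_le {f : (Fin n → F) → (Fin n → F) → F}
    (φ : (Fin n → F) ≃ₗ[F] (Fin m ⊕ Fin m → F))
    (hφ : ∀ u v, Cfsg.sympForm m F (φ u) (φ v) = f u v) :
    (emb φ).range ≤ ((similarityGroup f).comap
      (Matrix.SpecialLinearGroup.toGL : Matrix.SpecialLinearGroup (Fin n) F →* GL (Fin n) F)) := by
  rintro _ ⟨A, rfl⟩
  rw [Subgroup.mem_comap, mem_similarityGroup_iff]
  refine ⟨1, ?_⟩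
  intro u v
  show f (embMat φ (A : Matrix (Fin m ⊕ Fin m) (Fin m ⊕ Fin m) F) *ᵥ u)
    (embMat φ (A : Matrix (Fin m ⊕ Fin m) (Fin m ⊕ Fin m) F) *ᵥ v) = ((1 : Fˣ) : F) * f u v
  rw [embMat_mulVec, embMat_mulVec, ← hφ, LinearEquiv.apply_symm_apply,
    LinearEquiv.apply_symm_apply, (Cfsg.Agent.Helper13.mem_symplecticGroup_iff_preserves _).mp A.2,
    hφ, Units.val_one, one_mul]

/-- the index of the symplectic-type subgroup of `SL_n` divides `|SL_n| / |Sp_n|`. -/
theorem exists_index_dvd [Fintype F] {f : (Fin n → F) → (Fin n → F) → F}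
    (hf : IsSymplecticForm f) (hnm : n = m + m) :
    ∃ k : ℕ, k * Nat.card ↥(Matrix.symplecticGroup (Fin m) F)
        = Nat.card (Matrix.SpecialLinearGroup (Fin n) F) ∧
      ((similarityGroup f).comap (Matrix.SpecialLinearGroup.toGL :
        Matrix.SpecialLinearGroup (Fin n) F →* GL (Fin n) F)).index ∣ k := by
  obtain ⟨φ, hφ⟩ := exists_std_isometry hf hnm
  refine ⟨(emb φ).range.index, ?_, Subgroup.index_dvd_of_le (range_emb_le φ hφ)⟩
  rw [← Subgroup.index_mul_card (emb φ).range]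
  congr 1
  exact Nat.card_congr (MonoidHom.ofInjective (emb_injective φ)).toEquiv

/-- splitting a product over `range (m + m)` into even and odd indices. -/
theorem prod_range_two_mul (g : ℕ → ℕ) (m : ℕ) :
    ∏ i ∈ Finset.range (m + m), g i
      = (∏ j ∈ Finset.range m, g (2 * j)) * ∏ j ∈ Finset.range m, g (2 * j + 1) := by
  induction m with
  | zero => simp
  | succ m ih =>
    have : m + 1 + (m + 1) = (m + m) + 1 + 1 := by ring
    rw [this, Finset.prod_range_succ, Finset.prod_range_succ, ih, Finset.prod_range_succ,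
      Finset.prod_range_succ]
    have h1 : m + m = 2 * m := by ring
    rw [h1]
    ring

/-- the arithmetic consequence of `r` dividing the index. -/
theorem dvd_or_exists_dvd_pow_sub_one {q m k r : ℕ} (hq : 2 ≤ q) (hm : 1 ≤ m) (hr : r.Prime)
    (hk : k * (q ^ (m ^ 2) * ∏ i ∈ Finset.range m, (q ^ (2 * (i + 1)) - 1)) * (q - 1)
      = ∏ i : Fin (m + m), (q ^ (m + m) - q ^ (i : ℕ)))
    (hrk : r ∣ k) : r ∣ q ∨ ∃ j, j < m - 1 ∧ r ∣ q ^ (2 * j + 3) - 1 := by
  rw [Cfsg.Agent.Helper43.Lagr.prod_gl_eq q (m + m) (by omega),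
    prod_range_two_mul (fun i => q ^ (i + 1) - 1) m] at hk
  set E := ∏ i ∈ Finset.range m, (q ^ (2 * (i + 1)) - 1) with hE
  have hE' : ∏ j ∈ Finset.range m, (q ^ (2 * j + 1 + 1) - 1) = E := by
    apply Finset.prod_congr rfl
    intro j _
    congr 2
  rw [hE'] at hk
  obtain ⟨m', rfl⟩ : ∃ m', m = m' + 1 := ⟨m - 1, by omega⟩
  rw [Finset.prod_range_succ' (fun j => q ^ (2 * j + 1) - 1) m'] at hk
  simp only [mul_zero, zero_add, pow_one] at hk
  set O' := ∏ j ∈ Finset.range m', (q ^ (2 * (j + 1) + 1) - 1) with hO'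
  set Q := ∏ i ∈ Finset.range (m' + 1 + (m' + 1)), q ^ i with hQ
  have hEpos : 0 < E := by
    apply Finset.prod_pos
    intro i _
    have : 2 ≤ q ^ (2 * (i + 1)) := by
      calc 2 ≤ q := hq
        _ = q ^ 1 := (pow_one q).symm
        _ ≤ q ^ (2 * (i + 1)) := Nat.pow_le_pow_right (by omega) (by omega)
    omega
  have hpos : 0 < E * (q - 1) := Nat.mul_pos hEpos (by omega)
  have h1 : k * q ^ ((m' + 1) ^ 2) * (E * (q - 1)) = Q * O' * (E * (q - 1)) := by
    rw [← mul_assoc, ← mul_assoc] at hk ⊢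
    rw [hk]; ring
  have h2 := Nat.eq_of_mul_eq_mul_right hpos h1
  have h3 : r ∣ Q * O' := by
    rw [← h2]
    exact Dvd.dvd.mul_right hrk _
  rcases (Nat.Prime.dvd_mul hr).mp h3 with h | h
  · left
    rw [hQ, Prime.dvd_finsetProd_iff hr.prime] at h
    obtain ⟨i, -, hi⟩ := h
    exact hr.dvd_of_dvd_pow hi
  · right
    rw [hO', Prime.dvd_finsetProd_iff hr.prime] at h
    obtain ⟨j, hj, hrj⟩ := h
    rw [Finset.mem_range] at hj
    refine ⟨j, by omega, ?_⟩
    have : 2 * (j + 1) + 1 = 2 * j + 3 := by ring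
    rwa [this] at hrj

/-- if `r ∤ q` divides `q ^ (2 j + 3) - 1`, the order of `q` modulo `r` is odd and at most
`2 j + 3`. -/
theorem orderOf_odd_of_dvd {q r j : ℕ} (hr : r.Prime) (hq : 1 ≤ q) (h : r ∣ q ^ (2 * j + 3) - 1) :
    Odd (orderOf (q : ZMod r)) ∧ orderOf (q : ZMod r) ≤ 2 * j + 3 := by
  have : Fact r.Prime := ⟨hr⟩
  have h1 : (q : ZMod r) ^ (2 * j + 3) = 1 := by
    have h0 : ((q ^ (2 * j + 3) - 1 : ℕ) : ZMod r) = 0 := (ZMod.natCast_eq_zero_iff _ _).mpr h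
    rw [Nat.cast_sub (Nat.one_le_pow _ _ hq)] at h0
    push_cast at h0
    exact sub_eq_zero.mp h0
  have hdvd : orderOf (q : ZMod r) ∣ 2 * j + 3 := orderOf_dvd_of_pow_eq_one h1
  refine ⟨?_, Nat.le_of_dvd (by omega) hdvd⟩
  have hodd : Odd (2 * j + 3) := ⟨j + 1, by ring⟩
  exact Odd.of_dvd_nat hodd hdvd

end Cfsg.Agent.Helper43.SpDer
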