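import Mathlib
import Cfsg.Agent.Helper43.SpDerA
import Cfsg.Agent.Helper43.JTForm

set_option autoImplicit false

/-!
# A unipotent element of `SL_n` preserving no symplectic form up to scalars
-/

namespace Cfsg.Agent.Helper43.SpDer

open Matrix Cfsg.Geo
open Cfsg.Agent.Helper45.SpInSL

universe u

variable {F : Type u} [Field F] {n : ℕ}

/-- the nilpotent matrix `E₀₁ + E₁₂`. -/
def nilN (F : Type u) [Field F] {n : ℕ} (hn : 3 ≤ n) : Matrix (Fin n) (Fin n) F :=
  Matrix.single (⟨0, by omega⟩ : Fin n) (⟨1, by omega⟩ : Fin n) (1 : F)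
    + Matrix.single (⟨1, by omega⟩ : Fin n) (⟨2, by omega⟩ : Fin n) (1 : F)

theorem nilN_sq (hn : 3 ≤ n) :
    nilN F hn * nilN F hn = Matrix.single (⟨0, by omega⟩ : Fin n) (⟨2, by omega⟩ : Fin n) (1 : F) := by
  have h01 : (⟨1, by omega⟩ : Fin n) ≠ ⟨0, by omega⟩ := by
    intro h; simp [Fin.ext_iff] at h
  have h21 : (⟨2, by omega⟩ : Fin n) ≠ ⟨1, by omega⟩ := by
    intro h; simp [Fin.ext_iff] at h
  have h20 : (⟨2, by omega⟩ : Fin n) ≠ ⟨0, by omega⟩ := by
    intro h; simp [Fin.ext_iff] at h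
  rw [nilN, Matrix.add_mul, Matrix.mul_add, Matrix.mul_add,
    Matrix.single_mul_single_of_ne _ _ _ _ h01, Matrix.single_mul_single_same,
    Matrix.single_mul_single_of_ne _ _ _ _ h20, Matrix.single_mul_single_of_ne _ _ _ _ h21]
  simp

theorem nilN_cube (hn : 3 ≤ n) : nilN F hn * nilN F hn * nilN F hn = 0 := by
  have h21 : (⟨2, by omega⟩ : Fin n) ≠ ⟨1, by omega⟩ := by
    intro h; simp [Fin.ext_iff] at h
  have h20 : (⟨2, by omega⟩ : Fin n) ≠ ⟨0, by omega⟩ := by
    intro h; simp [Fin.ext_iff] at h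
  rw [nilN_sq, nilN, Matrix.mul_add, Matrix.single_mul_single_of_ne _ _ _ _ h20,
    Matrix.single_mul_single_of_ne _ _ _ _ h21, add_zero]

theorem nilN_pow (hn : 3 ≤ n) (k : ℕ) (hk : 3 ≤ k) : nilN F hn ^ k = 0 := by
  obtain ⟨j, rfl⟩ : ∃ j, k = 3 + j := ⟨k - 3, by omega⟩
  rw [pow_add, pow_succ, pow_two, nilN_cube, zero_mul]

theorem one_add_nilN_pow (hn : 3 ≤ n) (p : ℕ) [Fact p.Prime] [CharP F p] (hp : 3 ≤ p) :
    (1 + nilN F hn) ^ p = 1 := by
  haveI : Nonempty (Fin n) := ⟨⟨0, by omega⟩⟩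
  haveI : CharP (Matrix (Fin n) (Fin n) F) p := Matrix.charP p
  rw [add_pow_char_of_commute p (Commute.one_left _), one_pow, nilN_pow hn p hp, add_zero]

theorem det_one_add_nilN (hn : 3 ≤ n) (p : ℕ) [Fact p.Prime] [CharP F p] (hp : 3 ≤ p) :
    (1 + nilN F hn).det = 1 := by
  have h1 : (1 + nilN F hn).det ^ p = 1 := by
    rw [← Matrix.det_pow, one_add_nilN_pow hn p hp, Matrix.det_one]
  have h2 : ((1 + nilN F hn).det - 1) ^ p = 0 := by
    rw [sub_pow_char, h1, one_pow, sub_self]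
  exact sub_eq_zero.mp (pow_eq_zero_iff (Fact.out : p.Prime).ne_zero |>.mp h2)

theorem one_add_nilN_ne_smul (hn : 3 ≤ n) (z : F) :
    (1 + nilN F hn : Matrix (Fin n) (Fin n) F) ≠ z • (1 : Matrix (Fin n) (Fin n) F) := by
  intro h
  have := congrFun (congrFun h (⟨0, by omega⟩ : Fin n)) (⟨1, by omega⟩ : Fin n)
  simp [nilN, Fin.ext_iff] at this

theorem finrank_range_single (i j : Fin n) :
    Module.finrank F (LinearMap.range (Matrix.toLin' (Matrix.single i j (1 : F)))) = 1 := by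
  have hrange : LinearMap.range (Matrix.toLin' (Matrix.single i j (1 : F)))
      = Submodule.span F {(Pi.single i 1 : Fin n → F)} := by
    apply le_antisymm
    · rintro _ ⟨v, rfl⟩
      rw [Matrix.toLin'_apply, Matrix.single_mulVec, one_mul, Submodule.mem_span_singleton]
      refine ⟨v j, ?_⟩
      funext k
      by_cases hk : k = i
      · subst hk; simp
      · simp [hk]
    · rw [Submodule.span_singleton_le_iff_mem]
      refine ⟨Pi.single j 1, ?_⟩
      rw [Matrix.toLin'_apply, Matrix.single_mulVec, one_mul]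
      funext k
      by_cases hk : k = i
      · subst hk; simp
      · simp [hk]
  rw [hrange]
  apply finrank_span_singleton
  intro h0
  have := congrFun h0 i
  simp at this

/-- the unipotent element `1 + E₀₁ + E₁₂` is a similarity of no symplectic form. -/
theorem unip_not_sim (hn : 3 ≤ n) (p : ℕ) [Fact p.Prime] [CharP F p] (hp : 3 ≤ p)
    (f' : (Fin n → F) → (Fin n → F) → F) (hf' : IsSymplecticForm f') (c : F) :
    ¬ SimWith f' (1 + nilN F hn) c := by
  intro h
  have hcp : c ^ p = 1 := h.pow_eq_one hf' (by omega) p (one_add_nilN_pow hn p hp)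
  have hc1 : c = 1 := by
    have h2 : (c - 1) ^ p = 0 := by rw [sub_pow_char, hcp, one_pow, sub_self]
    exact sub_eq_zero.mp (pow_eq_zero_iff (Fact.out : p.Prime).ne_zero |>.mp h2)
  subst hc1
  have halt : (fB hf').IsAlt := fun v => hf'.alternating v
  have hiso : ∀ x y, (fB hf') (x + Matrix.toLin' (nilN F hn) x) (y + Matrix.toLin' (nilN F hn) y)
      = (fB hf') x y := by
    intro x y
    rw [fB_apply, fB_apply, Matrix.toLin'_apply, Matrix.toLin'_apply]
    have := h x y
    rw [Matrix.add_mulVec, Matrix.add_mulVec, Matrix.one_mulVec, Matrix.one_mulVec, one_mul] at this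
    exact this
  have heven := Cfsg.Agent.Helper43.JT.even_finrank_range_pow_of_isom (fB hf') halt (fB_nondeg hf')
    (Matrix.toLin' (nilN F hn)) hiso 1
  have hpow : (Matrix.toLin' (nilN F hn)) ^ (2 * 1)
      = Matrix.toLin' (Matrix.single (⟨0, by omega⟩ : Fin n) (⟨2, by omega⟩ : Fin n) (1 : F)) := by
    rw [mul_one, ← Matrix.toLin'_pow, pow_two, nilN_sq]
  rw [hpow, finrank_range_single] at heven
  exact absurd heven (by decide)

end Cfsg.Agent.Helper43.SpDer
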