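import Mathlib
import Cfsg.Agent.Helper43.SpDerA
import Cfsg.Agent.Helper43.LagrD
import Cfsg.Agent.Helper43.LagrE
import Cfsg.Agent.Helper43.SpPrimeE
import Cfsg.Agent.Helper43.SSExist

set_option autoImplicit false

/-!
# A semisimple element of `SL_n` of prime order `r` (order of `q` mod `r` odd, at least 3)
preserving no symplectic form up to scalars
-/

namespace Cfsg.Agent.Helper43.SpDer

open Matrix Cfsg.Geo Polynomial
open Cfsg.Agent.Helper45.SpInSL Cfsg.Agent.Helper43.SpPrime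

universe u

variable {F : Type u} [Field F] [Fintype F] {n m : ℕ}

/-- an element of `F` with `c ^ r = 1`, where `r` is a prime not dividing `q - 1`, is `1`. -/
theorem eq_one_of_pow_eq_one {q : ℕ} (hq : Fintype.card F = q) {r : ℕ} (hr : r.Prime)
    (hrq : ¬ r ∣ q - 1) {c : F} (hc : c ^ r = 1) : c = 1 := by
  have hc0 : c ≠ 0 := by
    intro h0
    rw [h0, zero_pow hr.ne_zero] at hc
    exact zero_ne_one hc
  have h2 : c ^ (q - 1) = 1 := by
    rw [← hq]; exact FiniteField.pow_card_sub_one_eq_one c hc0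
  have hcop : Nat.gcd r (q - 1) = 1 := (Nat.Prime.coprime_iff_not_dvd hr).mpr hrq
  have h3 : c ^ Nat.gcd r (q - 1) = 1 := pow_gcd_eq_one.mpr ⟨hc, h2⟩
  rwa [hcop, pow_one] at h3

theorem not_dvd_pred_of_orderOf {q r : ℕ} (hq : 1 ≤ q)
    (he : orderOf (q : ZMod r) ≠ 1) : ¬ r ∣ q - 1 := by
  intro h
  apply he
  rw [orderOf_eq_one_iff]
  have h0 : ((q - 1 : ℕ) : ZMod r) = 0 := (ZMod.natCast_eq_zero_iff _ _).mpr h
  rw [Nat.cast_sub hq] at h0
  push_cast at h0
  exact sub_eq_zero.mp h0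

theorem exists_ss_not_sim (p : ℕ) [Fact p.Prime] [CharP F p] {q : ℕ} (hq : Fintype.card F = q)
    (hnm : n = m + m) (r : ℕ) (hr : r.Prime) (hr2 : r ≠ 2) (hrp : r ≠ p)
    (hodd : Odd (orderOf (q : ZMod r))) (he3 : 3 ≤ orderOf (q : ZMod r))
    (hen : orderOf (q : ZMod r) ≤ n) :
    ∃ x : Matrix.SpecialLinearGroup (Fin n) F,
      (x : Matrix (Fin n) (Fin n) F) ^ r = 1 ∧
      (∀ z : F, (x : Matrix (Fin n) (Fin n) F) ≠ z • (1 : Matrix (Fin n) (Fin n) F)) ∧
      ∀ f' : (Fin n → F) → (Fin n → F) → F, IsSymplecticForm f' → ∀ c : F,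
        ¬ SimWith f' (x : Matrix (Fin n) (Fin n) F) c := by
  classical
  have hp : p.Prime := Fact.out
  have hq1 : 1 ≤ q := by rw [← hq]; exact Fintype.card_pos
  set e := orderOf (q : ZMod r) with he
  obtain ⟨P, hPm, hPi, hPdvd, hPdeg⟩ := Cfsg.Agent.Helper43.Lagr.exists_factor_cyclotomic p hq r hr hrp
  rw [← he] at hPdeg
  have hrpos : 0 < r := hr.pos
  have hP0 : P.coeff 0 ≠ 0 := coeff_zero_ne_of_dvd_X_pow_sub_one hrpos hPdvd
  have hLm : (X - 1 : F[X]).Monic := Cfsg.Agent.Helper43.Lagr.X_sub_one_monic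
  have hLd : (X - 1 : F[X]).natDegree = 1 := by
    have : (X - 1 : F[X]) = X - C 1 := by rw [map_one]
    rw [this]; exact natDegree_X_sub_C 1
  have hP1 : P ≠ X - 1 := by
    intro h
    rw [h, hLd] at hPdeg
    omega
  set k := n - e with hk
  set f₀ : F[X] := P * (X - 1) ^ k with hf₀
  have hfm : f₀.Monic := hPm.mul (hLm.pow k)
  have hfd : f₀.natDegree = n := by
    rw [hf₀, hPm.natDegree_mul (hLm.pow k), hLm.natDegree_pow, hLd, hPdeg]
    omega
  have hL0 : (X - 1 : F[X]).coeff 0 ≠ 0 := by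
    rw [coeff_sub, coeff_X_zero, coeff_one_zero]
    simp
  have hf0 : f₀.coeff 0 ≠ 0 := by
    rw [hf₀, mul_coeff_zero]
    apply mul_ne_zero hP0
    have : ((X - 1 : F[X]) ^ k).coeff 0 = ((X - 1 : F[X]).coeff 0) ^ k := by
      rw [coeff_zero_eq_eval_zero, eval_pow, ← coeff_zero_eq_eval_zero]
    rw [this]
    exact pow_ne_zero k hL0
  obtain ⟨A, hAch, j, hjpos, hjcop, hAj⟩ :=
    Cfsg.Agent.Helper43.SS.exists_matrix_charpoly p n f₀ hfm hfd hf0
  have hrF : (r : F) ≠ 0 := by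
    intro h0
    rw [CharP.cast_eq_zero_iff F p r] at h0
    exact hrp ((Nat.prime_dvd_prime_iff_eq hp hr).mp h0).symm
  have hsep : (X ^ r - 1 : F[X]).Separable := by
    have := Polynomial.separable_X_pow_sub_C (1 : F) hrF one_ne_zero
    simpa using this
  have hX0 : (X ^ r - 1 : F[X]) ≠ 0 := hsep.ne_zero
  have hLdvd : (X - 1 : F[X]) ∣ X ^ r - 1 := by
    have : Fact r.Prime := ⟨hr⟩
    rw [← cyclotomic_prime_mul_X_sub_one F r]
    exact dvd_mul_left _ _
  have hfac : ∀ Q : F[X], Q.Monic → Irreducible Q → Q ∣ f₀ → Q ∣ (X ^ r - 1 : F[X]) := by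
    intro Q hQm hQi hQ
    rcases hQi.prime.dvd_or_dvd hQ with h | h
    · exact h.trans hPdvd
    · exact (hQi.prime.dvd_of_dvd_pow h).trans hLdvd
  have hjF : (j : F) ≠ 0 := Cfsg.Agent.Helper43.SpSS.natCast_ne_zero_of_coprime p hjcop
  have hAr : A ^ r = 1 := by
    have := aeval_eq_zero_of_factors_gen A j hjF hAj (X ^ r - 1 : F[X]) hX0 (by
      intro Q hQm hQi hQ
      rw [hAch] at hQ
      exact hfac Q hQm hQi hQ)
    rw [map_sub, map_pow, aeval_X, map_one] at this
    exact sub_eq_zero.mp this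
  have hrq : ¬ r ∣ q - 1 := not_dvd_pred_of_orderOf hq1 (by rw [← he]; omega)
  have hdet : A.det = 1 := by
    apply eq_one_of_pow_eq_one hq hr hrq
    rw [← Matrix.det_pow, hAr, Matrix.det_one]
  refine ⟨⟨A, hdet⟩, hAr, ?_, ?_⟩
  · intro z hz
    have hz' : A = z • (1 : Matrix (Fin n) (Fin n) F) := hz
    have hsf : Squarefree (X - C z : F[X]) := (irreducible_X_sub_C z).squarefree
    have haev : aeval A (X - C z : F[X]) = 0 := by
      rw [map_sub, aeval_X, aeval_C, Algebra.algebraMap_eq_smul_one, ← hz', sub_self]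
    have hPx : P ∣ A.charpoly := by
      rw [hAch, hf₀]; exact dvd_mul_right _ _
    have := dvd_of_dvd_charpoly_gen A _ hsf haev P hPm hPi hPx
    have hle := natDegree_le_of_dvd this (X_sub_C_ne_zero z)
    rw [natDegree_X_sub_C, hPdeg] at hle
    omega
  · intro f' hf' c h
    have h' : SimWith f' A c := h
    have hn0 : 0 < n := by omega
    have hc1 : c = 1 := eq_one_of_pow_eq_one hq hr hrq (h'.pow_eq_one hf' hn0 r hAr)
    subst hc1
    have hrev := charpoly_reverse_of_isom hf' hnm A h'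
    rw [hAch] at hrev
    have hstar := star_eq_self_of_reverse hfm hrev
    rw [hf₀, SpPrime.star_mul, SpPrime.star_pow, star_X_sub_one] at hstar
    have hPs : star P = P := mul_right_cancel₀ (pow_ne_zero k hLm.ne_zero) hstar
    have hrodd : Odd r := hr.odd_of_ne_two hr2
    have := eq_X_sub_one_of_star_eq_odd hrodd hPm hPi hPdvd hPs (by rw [hPdeg]; exact hodd)
    exact hP1 this

end Cfsg.Agent.Helper43.SpDer
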