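import Mathlib
import Cfsg.Agent.Helper43.SpDerA

set_option autoImplicit false

/-!
# A diagonal element of `SL_n` of prime order `r ∣ q - 1` preserving no symplectic form up to
scalars
-/

namespace Cfsg.Agent.Helper43.SpDer

open Matrix Cfsg.Geo
open Cfsg.Agent.Helper45.SpInSL

universe u

variable {F : Type u} [Field F] {n : ℕ}

/-- If a diagonal matrix is a similarity of a symplectic form, some permutation pairs up its
eigenvalues. -/
theorem exists_perm_of_simWith_diagonal {f' : (Fin n → F) → (Fin n → F) → F}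
    (hf' : IsSymplecticForm f') (μ : Fin n → F) (c : F)
    (h : SimWith f' (Matrix.diagonal μ) c) :
    ∃ σ : Equiv.Perm (Fin n), ∀ i, μ (σ i) * μ i = c := by
  classical
  set G : Matrix (Fin n) (Fin n) F := LinearMap.BilinForm.toMatrix' (fB hf') with hG
  have hdet : G.det ≠ 0 := by
    rw [← Matrix.nondegenerate_iff_det_ne_zero, hG,
      LinearMap.BilinForm.nondegenerate_toMatrix'_iff]
    exact fB_nondeg hf'
  have hGij : ∀ i j, G i j ≠ 0 → μ i * μ j = c := by
    intro i j hij
    rw [hG, LinearMap.BilinForm.toMatrix'_apply, fB_apply] at hij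
    have h1 := h (Pi.single i 1) (Pi.single j 1)
    rw [Matrix.diagonal_mulVec_single, Matrix.diagonal_mulVec_single, mul_one, mul_one] at h1
    have e1 : (Pi.single i (μ i) : Fin n → F) = μ i • Pi.single i 1 := by
      rw [← Pi.single_smul, smul_eq_mul, mul_one]
    have e2 : (Pi.single j (μ j) : Fin n → F) = μ j • Pi.single j 1 := by
      rw [← Pi.single_smul, smul_eq_mul, mul_one]
    rw [e1, e2, hf'.bilinear.smul_left, hf'.bilinear.smul_right] at h1
    have h2 : (μ i * μ j - c) * f' (Pi.single i 1) (Pi.single j 1) = 0 := by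
      rw [sub_mul, mul_assoc, h1, sub_self]
    rcases mul_eq_zero.mp h2 with h3 | h3
    · exact sub_eq_zero.mp h3
    · exact absurd h3 hij
  rw [Matrix.det_apply] at hdet
  obtain ⟨σ, -, hσ⟩ := Finset.exists_ne_zero_of_sum_ne_zero hdet
  have hprod : ∏ i, G (σ i) i ≠ 0 := by
    intro h0
    apply hσ
    rw [h0, smul_zero]
  rw [Finset.prod_ne_zero_iff] at hprod
  exact ⟨σ, fun i => hGij (σ i) i (hprod i (Finset.mem_univ i))⟩

/-- the eigenvalues: `k` times `ζ`, once `w`, then ones. -/
def muFun (n k : ℕ) (ζ w : F) : Fin n → F :=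
  fun i => if i.val < k then ζ else if i.val = k then w else 1

theorem muFun_of_lt {k : ℕ} (ζ w : F) (i : Fin n) (h : i.val < k) : muFun n k ζ w i = ζ := by
  rw [muFun, if_pos h]

theorem muFun_of_eq {k : ℕ} (ζ w : F) (i : Fin n) (h : i.val = k) : muFun n k ζ w i = w := by
  rw [muFun, if_neg (by omega), if_pos h]

theorem muFun_of_gt {k : ℕ} (ζ w : F) (i : Fin n) (h : k < i.val) : muFun n k ζ w i = 1 := by
  rw [muFun, if_neg (by omega), if_neg (by omega)]

theorem no_perm {k : ℕ} (hn : 4 ≤ n) (hk2 : 2 ≤ k) (hk3 : k ≤ 3) (hnk : n ≠ k + 3) (ζ w : F)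
    (hζ0 : ζ ≠ 0) (hζ1 : ζ ≠ 1) (hwζ : w ≠ ζ) (hw2 : k = 2 → w ≠ 1) (hw3 : k = 3 → w = 1)
    (hc1 : ζ * w ≠ ζ * ζ) (hc2 : w * w ≠ ζ * ζ) (hc3 : w ≠ ζ * ζ)
    (σ : Equiv.Perm (Fin n)) (c : F)
    (h : ∀ i, muFun n k ζ w (σ i) * muFun n k ζ w i = c) : False := by
  classical
  set μ := muFun n k ζ w with hμ
  have hval : ∀ i, μ i = ζ ∨ μ i = w ∨ μ i = 1 := by
    intro i
    rcases lt_trichotomy i.val k with hi | hi | hi
    · left; exact muFun_of_lt ζ w i hi
    · right; left; exact muFun_of_eq ζ w i hi
    · right; right; exact muFun_of_gt ζ w i hi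
  have hV1 : ∀ i, μ i = ζ ↔ i.val < k := by
    intro i
    constructor
    · intro hi
      rcases lt_trichotomy i.val k with h1 | h1 | h1
      · exact h1
      · rw [hμ, muFun_of_eq ζ w i h1] at hi
        exact absurd hi hwζ
      · rw [hμ, muFun_of_gt ζ w i h1] at hi
        exact absurd hi.symm hζ1
    · exact muFun_of_lt ζ w i
  have hV3 : ∀ i, μ i = 1 ↔ 3 ≤ i.val := by
    intro i
    constructor
    · intro hi
      rcases lt_trichotomy i.val k with h1 | h1 | h1
      · rw [hμ, muFun_of_lt ζ w i h1] at hi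
        exact absurd hi hζ1
      · rw [hμ, muFun_of_eq ζ w i h1] at hi
        have : k ≠ 2 := fun hk => hw2 hk hi
        omega
      · omega
    · intro hi
      rcases lt_trichotomy i.val k with h1 | h1 | h1
      · omega
      · have hk : k = 3 := by omega
        rw [hμ, muFun_of_eq ζ w i h1]
        exact hw3 hk
      · exact muFun_of_gt ζ w i h1
  let i0 : Fin n := ⟨0, by omega⟩
  let i1 : Fin n := ⟨1, by omega⟩
  let ik : Fin n := ⟨k, by omega⟩
  have hμ0 : μ i0 = ζ := (hV1 i0).mpr (by show 0 < k; omega)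
  have hμ1 : μ i1 = ζ := (hV1 i1).mpr (by show 1 < k; omega)
  have hμk : μ ik = w := muFun_of_eq ζ w ik rfl
  have h0 := h i0
  rw [hμ0] at h0
  -- the case where the partner of `ζ` is `1`
  have hcase1 : μ (σ i0) = 1 → False := by
    intro hv
    rw [hv, one_mul] at h0
    have maps1 : ∀ i : Fin n, 3 ≤ i.val → (σ i).val < k := by
      intro i hi
      have hi1 := (hV3 i).mpr hi
      have := h i
      rw [hi1, mul_one, ← h0] at this
      exact (hV1 _).mp this
    have maps2 : ∀ i : Fin n, i.val < k → 3 ≤ (σ i).val := by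
      intro i hi
      have hi1 := (hV1 i).mpr hi
      have := h i
      rw [hi1, ← h0] at this
      have h2 : μ (σ i) = 1 := by
        have h3 : μ (σ i) * ζ = 1 * ζ := by rw [this, one_mul]
        exact mul_right_cancel₀ hζ0 h3
      exact (hV3 _).mp h2
    have hA : (Finset.Ici (⟨3, by omega⟩ : Fin n)).card ≤ (Finset.Iio (⟨k, by omega⟩ : Fin n)).card := by
      apply Finset.card_le_card_of_injOn σ
      · intro i hi
        rw [Finset.mem_coe, Finset.mem_Ici, Fin.le_def] at hi
        rw [Finset.mem_coe, Finset.mem_Iio, Fin.lt_def]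
        exact maps1 i hi
      · exact σ.injective.injOn
    have hB : (Finset.Iio (⟨k, by omega⟩ : Fin n)).card ≤ (Finset.Ici (⟨3, by omega⟩ : Fin n)).card := by
      apply Finset.card_le_card_of_injOn σ
      · intro i hi
        rw [Finset.mem_coe, Finset.mem_Iio, Fin.lt_def] at hi
        rw [Finset.mem_coe, Finset.mem_Ici, Fin.le_def]
        exact maps2 i hi
      · exact σ.injective.injOn
    rw [Fin.card_Iio, Fin.card_Ici] at hA hB
    simp only [] at hA hB
    omega
  by_cases hv : μ (σ i0) = ζ
  · rw [hv] at h0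
    have hk := h ik
    rw [hμk, ← h0] at hk
    rcases hval (σ ik) with h1 | h1 | h1
    · rw [h1] at hk; exact hc1 hk
    · rw [h1] at hk; exact hc2 hk
    · rw [h1, one_mul] at hk; exact hc3 hk
  · rcases hval (σ i0) with h1 | h1 | h1
    · exact hv h1
    · by_cases hw1 : w = 1
      · exact hcase1 (h1.trans hw1)
      · have hk2' : k = 2 := by
          by_contra hne
          exact hw1 (hw3 (by omega))
        have hVk : ∀ j : Fin n, μ j = w → j = ik := by
          intro j hj
          rcases lt_trichotomy j.val k with h2 | h2 | h2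
          · rw [hμ, muFun_of_lt ζ w j h2] at hj
            exact absurd hj.symm hwζ
          · exact Fin.ext h2
          · rw [hμ, muFun_of_gt ζ w j h2] at hj
            exact absurd hj.symm hw1
        have h1' := h i1
        rw [hμ1, ← h0, h1] at h1'
        have h2 : μ (σ i1) = w := mul_right_cancel₀ hζ0 h1'
        have h3 : σ i1 = σ i0 := (hVk _ h2).trans (hVk _ h1).symm
        have h4 := σ.injective h3
        have := congrArg Fin.val h4
        simp [i0, i1] at this
    · exact hcase1 h1

end Cfsg.Agent.Helper43.SpDer
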