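import Mathlib
import Cfsg.Agent.Helper43.SpDerE

set_option autoImplicit false

/-!
# The diagonal element: existence
-/

namespace Cfsg.Agent.Helper43.SpDer

open Matrix Cfsg.Geo
open Cfsg.Agent.Helper45.SpInSL

universe u

variable {F : Type u} [Field F] {n : ℕ}

theorem prod_muFun {k : ℕ} (hkn : k < n) (ζ w : F) : ∏ i, muFun n k ζ w i = ζ ^ k * w := by
  have h1 : ∏ i : Fin n, muFun n k ζ w i
      = ∏ i ∈ Finset.range n, (if i < k then ζ else if i = k then w else 1) :=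
    Fin.prod_univ_eq_prod_range (fun i => if i < k then ζ else if i = k then w else 1) n
  rw [h1]
  obtain ⟨j, rfl⟩ : ∃ j, n = (k + 1) + j := ⟨n - (k + 1), by omega⟩
  rw [Finset.prod_range_add, Finset.prod_range_succ]
  have h2 : ∏ x ∈ Finset.range k, (if x < k then ζ else if x = k then w else 1) = ζ ^ k := by
    rw [Finset.prod_congr rfl (g := fun _ => ζ), Finset.prod_const, Finset.card_range]
    intro x hx
    rw [Finset.mem_range] at hx
    rw [if_pos hx]
  have h3 : ∏ x ∈ Finset.range j,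
      (if k + 1 + x < k then ζ else if k + 1 + x = k then w else 1) = 1 := by
    apply Finset.prod_eq_one
    intro x _
    rw [if_neg (by omega), if_neg (by omega)]
  rw [h2, h3, mul_one, if_neg (lt_irrefl k), if_pos rfl]

theorem exists_of_data (hn : 4 ≤ n) {k : ℕ} (hk2 : 2 ≤ k) (hk3 : k ≤ 3) (hnk : n ≠ k + 3)
    (ζ w : F) (hζ0 : ζ ≠ 0) (hζ1 : ζ ≠ 1) (hwζ : w ≠ ζ) (hw2 : k = 2 → w ≠ 1)
    (hw3 : k = 3 → w = 1) (hc1 : ζ * w ≠ ζ * ζ) (hc2 : w * w ≠ ζ * ζ) (hc3 : w ≠ ζ * ζ)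
    (r : ℕ) (hζr : ζ ^ r = 1) (hwr : w ^ r = 1) (hdet : ζ ^ k * w = 1) :
    ∃ x : Matrix.SpecialLinearGroup (Fin n) F,
      (x : Matrix (Fin n) (Fin n) F) ^ r = 1 ∧
      (∀ z : F, (x : Matrix (Fin n) (Fin n) F) ≠ z • (1 : Matrix (Fin n) (Fin n) F)) ∧
      ∀ f' : (Fin n → F) → (Fin n → F) → F, IsSymplecticForm f' → ∀ c : F,
        ¬ SimWith f' (x : Matrix (Fin n) (Fin n) F) c := by
  have hD : (Matrix.diagonal (muFun n k ζ w)).det = 1 := by
    rw [Matrix.det_diagonal, prod_muFun (by omega), hdet]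
  refine ⟨⟨Matrix.diagonal (muFun n k ζ w), hD⟩, ?_, ?_, ?_⟩
  · show Matrix.diagonal (muFun n k ζ w) ^ r = 1
    rw [Matrix.diagonal_pow, ← Matrix.diagonal_one]
    congr 1
    funext i
    rw [Pi.pow_apply]
    show muFun n k ζ w i ^ r = 1
    rcases lt_trichotomy i.val k with hi | hi | hi
    · rw [muFun_of_lt ζ w i hi, hζr]
    · rw [muFun_of_eq ζ w i hi, hwr]
    · rw [muFun_of_gt ζ w i hi, one_pow]
  · intro z hz
    have hz' : Matrix.diagonal (muFun n k ζ w) = z • (1 : Matrix (Fin n) (Fin n) F) := hz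
    have h0 := congrFun (congrFun hz' (⟨0, by omega⟩ : Fin n)) (⟨0, by omega⟩ : Fin n)
    have hl := congrFun (congrFun hz' (⟨n - 1, by omega⟩ : Fin n)) (⟨n - 1, by omega⟩ : Fin n)
    rw [Matrix.diagonal_apply_eq, Matrix.smul_apply, Matrix.one_apply_eq, smul_eq_mul, mul_one]
      at h0 hl
    rw [muFun_of_lt ζ w _ (by show 0 < k; omega)] at h0
    have hl1 : muFun n k ζ w (⟨n - 1, by omega⟩ : Fin n) = 1 := by
      rcases lt_trichotomy (n - 1) k with hi | hi | hi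
      · omega
      · rw [muFun_of_eq ζ w _ hi]
        exact hw3 (by omega)
      · exact muFun_of_gt ζ w _ hi
    rw [hl1] at hl
    exact hζ1 (h0.trans hl.symm)
  · intro f' hf' c h
    have h' : SimWith f' (Matrix.diagonal (muFun n k ζ w)) c := h
    obtain ⟨σ, hσ⟩ := exists_perm_of_simWith_diagonal hf' _ c h'
    exact no_perm hn hk2 hk3 hnk ζ w hζ0 hζ1 hwζ hw2 hw3 hc1 hc2 hc3 σ c hσ

/-- the diagonal element for a prime `r ∣ q - 1`. -/
theorem exists_diag_not_sim [Fintype F] {q : ℕ} (hq : Fintype.card F = q) (hn : 4 ≤ n)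
    (heven : Even n) (r : ℕ) (hr : r.Prime) (hr2 : r ≠ 2) (hrq : r ∣ q - 1)
    (hgap : ¬ (n = 6 ∧ r = 3)) :
    ∃ x : Matrix.SpecialLinearGroup (Fin n) F,
      (x : Matrix (Fin n) (Fin n) F) ^ r = 1 ∧
      (∀ z : F, (x : Matrix (Fin n) (Fin n) F) ≠ z • (1 : Matrix (Fin n) (Fin n) F)) ∧
      ∀ f' : (Fin n → F) → (Fin n → F) → F, IsSymplecticForm f' → ∀ c : F,
        ¬ SimWith f' (x : Matrix (Fin n) (Fin n) F) c := by
  classical
  have : Fact r.Prime := ⟨hr⟩
  have hcard : r ∣ Fintype.card Fˣ := by rw [Fintype.card_units, hq]; exact hrq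
  obtain ⟨ζu, hζu⟩ := exists_prime_orderOf_dvd_card r hcard
  set ζ : F := (ζu : F) with hζ
  have hord : orderOf ζ = r := by rw [hζ, orderOf_units, hζu]
  have hζ0 : ζ ≠ 0 := ζu.ne_zero
  have hζr : ζ ^ r = 1 := by rw [← hord]; exact pow_orderOf_eq_one ζ
  have hpow : ∀ j : ℕ, ζ ^ j = 1 → r ∣ j := by
    intro j hj
    rw [← hord]
    exact orderOf_dvd_of_pow_eq_one hj
  have hnd : ∀ j : ℕ, 0 < j → j < r → ζ ^ j ≠ 1 := by
    intro j hj0 hjr hj
    have := Nat.le_of_dvd hj0 (hpow j hj)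
    omega
  have hr3 : 3 ≤ r := by
    have := hr.two_le
    omega
  have hζ1 : ζ ≠ 1 := by
    intro h
    exact hnd 1 one_pos (by omega) (by rw [pow_one, h])
  have hζ2 : ζ * ζ ≠ 1 := by
    intro h
    exact hnd 2 (by norm_num) (by omega) (by rw [pow_two, h])
  by_cases h3 : r = 3
  · -- three eigenvalues `ζ`, the others `1`
    have hnk : n ≠ 3 + 3 := fun h => hgap ⟨h, h3⟩
    apply exists_of_data hn (k := 3) (by norm_num) (by norm_num) hnk ζ 1 hζ0 hζ1
      (fun h => hζ1 h.symm) (by norm_num) (fun _ => rfl) ?_ ?_ ?_ r hζr (one_pow r) ?_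
    · intro h
      rw [mul_one] at h
      exact hζ1 (mul_left_cancel₀ hζ0 (by rw [mul_one]; exact h)).symm
    · intro h
      rw [mul_one] at h
      exact hζ2 h.symm
    · intro h
      exact hζ2 h.symm
    · rw [mul_one, ← h3, hζr]
  · -- two eigenvalues `ζ`, one `ζ⁻²`, the others `1`
    have hnk : n ≠ 2 + 3 := by
      intro h
      rw [h] at heven
      exact absurd heven (by decide)
    have hr5 : 5 ≤ r := by
      rcases Nat.lt_or_ge r 5 with h | h
      · exfalso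
        have : r = 4 := by omega
        rw [this] at hr
        exact absurd hr (by decide)
      · exact h
    set w : F := (ζ ^ 2)⁻¹ with hw
    have hwz : w * ζ ^ 2 = 1 := inv_mul_cancel₀ (pow_ne_zero 2 hζ0)
    have hζ3 : ζ ^ 3 ≠ 1 := hnd 3 (by norm_num) (by omega)
    have hζ4 : ζ ^ 4 ≠ 1 := hnd 4 (by norm_num) (by omega)
    have hζ6 : ζ ^ 6 ≠ 1 := by
      intro h
      have h6 := hpow 6 h
      have : (6 : ℕ) = 2 * 3 := by norm_num
      rw [this] at h6
      rcases (Nat.Prime.dvd_mul hr).mp h6 with h' | h'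
      · exact hr2 ((Nat.prime_dvd_prime_iff_eq hr Nat.prime_two).mp h')
      · exact h3 ((Nat.prime_dvd_prime_iff_eq hr Nat.prime_three).mp h')
    have hwζ : w ≠ ζ := by
      intro h
      apply hζ3
      calc ζ ^ 3 = ζ * ζ ^ 2 := by ring
        _ = w * ζ ^ 2 := by rw [h]
        _ = 1 := hwz
    have hw1 : w ≠ 1 := by
      intro h
      rw [h, one_mul, pow_two] at hwz
      exact hζ2 hwz
    apply exists_of_data hn (k := 2) (by norm_num) (by norm_num) hnk ζ w hζ0 hζ1 hwζ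
      (fun _ => hw1) (by norm_num) ?_ ?_ ?_ r hζr ?_ ?_
    · intro h
      exact hwζ (mul_left_cancel₀ hζ0 h)
    · intro h
      apply hζ6
      calc ζ ^ 6 = (ζ * ζ) * ζ ^ 2 * ζ ^ 2 := by ring
        _ = (w * w) * ζ ^ 2 * ζ ^ 2 := by rw [h]
        _ = (w * ζ ^ 2) ^ 2 := by ring
        _ = 1 := by rw [hwz, one_pow]
    · intro h
      apply hζ4
      calc ζ ^ 4 = (ζ * ζ) * ζ ^ 2 := by ring
        _ = w * ζ ^ 2 := by rw [h]
        _ = 1 := hwz
    · rw [hw, inv_pow, ← pow_mul, mul_comm, pow_mul, hζr, one_pow, inv_one]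
    · rw [mul_comm]; exact hwz

end Cfsg.Agent.Helper43.SpDer
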