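import Cfsg.Agent.Helper43.SpOrthA

/-!
# The index of `O^±_{2d}(q)` in `Sp_{2d}(q)`, `q` even
-/

set_option autoImplicit false

namespace Cfsg.Agent.Helper43.SpOrth

open Matrix Cfsg Cfsg.Geo

theorem sq_sub_one_eq (t : ℕ) (ht : 1 ≤ t) : t ^ 2 - 1 = (t - 1) * (t + 1) := by
  obtain ⟨s, rfl⟩ : ∃ s, t = s + 1 := ⟨t - 1, by omega⟩
  simp only [Nat.add_sub_cancel]
  have : (s + 1) ^ 2 = s * (s + 1 + 1) + 1 := by ring
  omega

theorem prod_pos_aux (q k : ℕ) (hq : 2 ≤ q) :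
    0 < ∏ i ∈ Finset.range k, (q ^ (2 * (i + 1)) - 1) := by
  apply Finset.prod_pos
  intro i _
  have : 2 ≤ q ^ (2 * (i + 1)) := by
    calc 2 ≤ q := hq
      _ = q ^ 1 := (pow_one q).symm
      _ ≤ q ^ (2 * (i + 1)) := Nat.pow_le_pow_right (by omega) (by omega)
  omega

theorem index_arith_plus (q d N : ℕ) (hq : 2 ≤ q) (hd : 1 ≤ d)
    (h : (2 * q ^ (d * (d - 1)) * (q ^ d - 1) * ∏ i ∈ Finset.range (d - 1), (q ^ (2 * (i + 1)) - 1)) * N
      = q ^ (d ^ 2) * ∏ i ∈ Finset.range d, (q ^ (2 * (i + 1)) - 1)) :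
    N * 2 = q ^ d * (q ^ d + 1) := by
  obtain ⟨k, rfl⟩ : ∃ k, d = k + 1 := ⟨d - 1, by omega⟩
  simp only [Nat.add_sub_cancel] at h
  rw [Finset.prod_range_succ] at h
  set P := ∏ i ∈ Finset.range k, (q ^ (2 * (i + 1)) - 1) with hP
  have hPpos : 0 < P := prod_pos_aux q k hq
  set t := q ^ (k + 1) with ht
  have ht2 : 2 ≤ t := by
    calc 2 ≤ q := hq
      _ = q ^ 1 := (pow_one q).symm
      _ ≤ q ^ (k + 1) := Nat.pow_le_pow_right (by omega) (by omega)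
  set A := q ^ ((k + 1) * k) with hA
  have hApos : 0 < A := pow_pos (by omega) _
  have h1 : q ^ ((k + 1) ^ 2) = A * t := by
    rw [hA, ht, ← pow_add]
    congr 1
    ring
  have h2 : q ^ (2 * (k + 1)) - 1 = (t - 1) * (t + 1) := by
    rw [show q ^ (2 * (k + 1)) = t ^ 2 by rw [ht, ← pow_mul]; congr 1; ring]
    exact sq_sub_one_eq t (by omega)
  rw [h1, h2] at h
  have hpos : 0 < A * (t - 1) * P := by
    apply Nat.mul_pos (Nat.mul_pos hApos (by omega)) hPpos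
  apply Nat.eq_of_mul_eq_mul_left hpos
  calc A * (t - 1) * P * (N * 2) = 2 * A * (t - 1) * P * N := by ring
    _ = A * t * (P * ((t - 1) * (t + 1))) := h
    _ = A * (t - 1) * P * (t * (t + 1)) := by ring

theorem index_arith_minus (q d N : ℕ) (hq : 2 ≤ q) (hd : 1 ≤ d)
    (h : (2 * q ^ (d * (d - 1)) * (q ^ d + 1) * ∏ i ∈ Finset.range (d - 1), (q ^ (2 * (i + 1)) - 1)) * N
      = q ^ (d ^ 2) * ∏ i ∈ Finset.range d, (q ^ (2 * (i + 1)) - 1)) :
    N * 2 = q ^ d * (q ^ d - 1) := by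
  obtain ⟨k, rfl⟩ : ∃ k, d = k + 1 := ⟨d - 1, by omega⟩
  simp only [Nat.add_sub_cancel] at h
  rw [Finset.prod_range_succ] at h
  set P := ∏ i ∈ Finset.range k, (q ^ (2 * (i + 1)) - 1) with hP
  have hPpos : 0 < P := prod_pos_aux q k hq
  set t := q ^ (k + 1) with ht
  have ht2 : 2 ≤ t := by
    calc 2 ≤ q := hq
      _ = q ^ 1 := (pow_one q).symm
      _ ≤ q ^ (k + 1) := Nat.pow_le_pow_right (by omega) (by omega)
  set A := q ^ ((k + 1) * k) with hA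
  have hApos : 0 < A := pow_pos (by omega) _
  have h1 : q ^ ((k + 1) ^ 2) = A * t := by
    rw [hA, ht, ← pow_add]
    congr 1
    ring
  have h2 : q ^ (2 * (k + 1)) - 1 = (t - 1) * (t + 1) := by
    rw [show q ^ (2 * (k + 1)) = t ^ 2 by rw [ht, ← pow_mul]; congr 1; ring]
    exact sq_sub_one_eq t (by omega)
  rw [h1, h2] at h
  have hpos : 0 < A * (t + 1) * P := by
    apply Nat.mul_pos (Nat.mul_pos hApos (by omega)) hPpos
  apply Nat.eq_of_mul_eq_mul_left hpos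
  calc A * (t + 1) * P * (N * 2) = 2 * A * (t + 1) * P * N := by ring
    _ = A * t * (P * ((t - 1) * (t + 1))) := h
    _ = A * (t + 1) * P * (t * (t - 1)) := by ring

variable {F : Type*} [Field F] [Fintype F] {d : ℕ}

/-- index of the plus-type orthogonal group -/
theorem relIndex_mul_two_plus {q : ℕ} (hq : Fintype.card F = q) (hd : 1 ≤ d)
    {Q : (Fin d ⊕ Fin d → F) → F} (hQ : Cfsg.Geo.IsNondegenerateQuadraticForm Q)
    (hQf : ∀ u v, QuadraticMap.polar Q u v = Cfsg.sympForm d F u v)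
    (C : (Fin d ⊕ Fin d → F) ≃ₗ[F] (Fin d ⊕ Fin d → F))
    (hC : ∀ w, Cfsg.quadFormPlus d F (C w) = Q w) :
    (Cfsg.Geo.quadSimilarityGroup Q).relIndex (Cfsg.spGL d F) * 2 = q ^ d * (q ^ d + 1) := by
  have hq2 : 2 ≤ q := by rw [← hq]; exact Fintype.one_lt_card
  have h := card_isometry_mul_relIndex hd hQ hQf
  rw [card_isometryGroup_congr Q (Cfsg.quadFormPlus d F) C hC, Cfsg.Agent.S0287.result hq d hd,
    card_spGL, hq] at h
  exact index_arith_plus q d _ hq2 hd h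

/-- index of the minus-type orthogonal group -/
theorem relIndex_mul_two_minus {q : ℕ} (hq : Fintype.card F = q) {k : ℕ}
    {Q : (Fin (k + 1) ⊕ Fin (k + 1) → F) → F} (hQ : Cfsg.Geo.IsNondegenerateQuadraticForm Q)
    (hQf : ∀ u v, QuadraticMap.polar Q u v = Cfsg.sympForm (k + 1) F u v) (a b : F)
    (hab : ∀ z₁ z₂ : F, z₁ ^ 2 + a * z₁ * z₂ + b * z₂ ^ 2 = 0 → z₁ = 0 ∧ z₂ = 0)
    (C : (Fin (k + 1) ⊕ Fin (k + 1) → F) ≃ₗ[F] ((Fin k ⊕ Fin k) ⊕ Fin 2 → F))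
    (hC : ∀ w, Cfsg.quadFormMinus k F a b (C w) = Q w) :
    (Cfsg.Geo.quadSimilarityGroup Q).relIndex (Cfsg.spGL (k + 1) F) * 2
      = q ^ (k + 1) * (q ^ (k + 1) - 1) := by
  have hq2 : 2 ≤ q := by rw [← hq]; exact Fintype.one_lt_card
  have h := card_isometry_mul_relIndex (by omega : 1 ≤ k + 1) hQ hQf
  have h288 : Nat.card ↥(Cfsg.isometryGroup F (Cfsg.quadFormMinus k F a b))
      = 2 * q ^ ((k + 1) * (k + 1 - 1)) * (q ^ (k + 1) + 1)
        * ∏ i ∈ Finset.range (k + 1 - 1), (q ^ (2 * (i + 1)) - 1) :=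
    Cfsg.Agent.S0288.result hq (k + 1) (by omega) a b hab
  rw [card_isometryGroup_congr Q (Cfsg.quadFormMinus k F a b) C hC, h288, card_spGL, hq] at h
  exact index_arith_minus q (k + 1) _ hq2 (by omega) h

end Cfsg.Agent.Helper43.SpOrth
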