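import Cfsg.Agent.Helper43.SpOrthB
import Cfsg.Agent.Helper44.OrthRealizeE
import Cfsg.Agent.Helper45.OmegaInvol
import Cfsg.Agent.Helper45.NonsingMax2

/-!
# Standard models of non-degenerate quadratic forms in even dimension
-/

set_option autoImplicit false

namespace Cfsg.Agent.Helper43.SpOrth

open Matrix Cfsg Cfsg.Geo Cfsg.Agent.Helper44 Cfsg.Agent.Helper44.QType Module

universe u

variable {F : Type u} [Field F]

theorem aniso_of_irred (ζ : F) (hζ : ∀ t : F, t ^ 2 + t + ζ ≠ 0) :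
    ∀ z₁ z₂ : F, z₁ ^ 2 + 1 * z₁ * z₂ + ζ * z₂ ^ 2 = 0 → z₁ = 0 ∧ z₂ = 0 := by
  intro z₁ z₂ hz
  by_cases h2 : z₂ = 0
  · subst h2
    have : z₁ ^ 2 = 0 := by simpa using hz
    exact ⟨pow_eq_zero_iff (two_ne_zero) |>.mp this, rfl⟩
  · exfalso
    apply hζ (z₁ / z₂)
    have : (z₁ / z₂) ^ 2 + z₁ / z₂ + ζ = (z₁ ^ 2 + 1 * z₁ * z₂ + ζ * z₂ ^ 2) / z₂ ^ 2 := by
      field_simp
    rw [this, hz, zero_div]

theorem finrank_VV (d : ℕ) : finrank F (Fin d ⊕ Fin d → F) = 2 * d := by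
  rw [Module.finrank_fintype_fun_eq_card, Fintype.card_sum, Fintype.card_fin, two_mul]

theorem nd_of_geo {ι : Type} [Fintype ι] [DecidableEq ι] {Q : (ι → F) → F}
    (hQ : Cfsg.Geo.IsNondegenerateQuadraticForm Q) :
    ∀ x, (∀ y, QuadraticMap.polar Q x y = 0) → x = 0 := by
  intro x hx
  by_contra hne
  obtain ⟨-, ⟨z, hz⟩⟩ := hQ.nondegenerate x hne
  exact hz (hx z)

/-- Every non-degenerate quadratic form on `F^{2d}` is isometric to the standard plus form or to a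
standard minus form. -/
theorem exists_std [Fintype F] {k : ℕ} {Q : (Fin (k + 1) ⊕ Fin (k + 1) → F) → F}
    (hQ : Cfsg.Geo.IsNondegenerateQuadraticForm Q) :
    (∃ C : (Fin (k + 1) ⊕ Fin (k + 1) → F) ≃ₗ[F] (Fin (k + 1) ⊕ Fin (k + 1) → F),
      ∀ w, Cfsg.quadFormPlus (k + 1) F (C w) = Q w) ∨
    (∃ ζ : F, (∀ t : F, t ^ 2 + t + ζ ≠ 0) ∧
      ∃ C : (Fin (k + 1) ⊕ Fin (k + 1) → F) ≃ₗ[F] ((Fin k ⊕ Fin k) ⊕ Fin 2 → F),
        ∀ w, Cfsg.quadFormMinus k F 1 ζ (C w) = Q w) := by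
  classical
  set Qq : QuadraticForm F (Fin (k + 1) ⊕ Fin (k + 1) → F) :=
    Cfsg.Agent.Helper45.OmegaParity.qfOfGeo Q hQ with hQq
  have hcoe : ⇑Qq = Q := rfl
  have hnd : ∀ x, (∀ y, QuadraticMap.polar Qq x y = 0) → x = 0 := nd_of_geo hQ
  have hV : finrank F (Fin (k + 1) ⊕ Fin (k + 1) → F) = 2 * (k + 1) := finrank_VV (k + 1)
  obtain ⟨ε, hε, hT⟩ := exists_hasType Qq hV hnd
  rcases hε with rfl | rfl
  · left
    obtain ⟨C, hC⟩ := exists_isometry_of_hasType Qq (plusForm (k + 1) F) hV hV hnd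
      ((nondeg_iff _).mp (nondegenerate_plusForm (k + 1))) hT
      (by rw [plusForm_coe]; exact hasType_plus (k + 1))
    exact ⟨C, fun w => hC w⟩
  · right
    obtain ⟨ζ, hζ, hD⟩ := exists_irred_param (F := F)
    have hV' : finrank F ((Fin k ⊕ Fin k) ⊕ Fin 2 → F) = 2 * (k + 1) := by
      rw [Module.finrank_fintype_fun_eq_card, Fintype.card_sum, Fintype.card_sum, Fintype.card_fin,
        Fintype.card_fin]
      ring
    obtain ⟨C, hC⟩ := exists_isometry_of_hasType Qq (minusForm k F 1 ζ) hV hV' hnd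
      ((nondeg_iff _).mp (nondegenerate_minusForm k 1 ζ hD)) hT
      (by rw [minusForm_coe]; exact hasType_minus k 1 ζ (aniso_of_irred ζ hζ))
    exact ⟨ζ, hζ, C, fun w => hC w⟩

/-- the plus model gives a totally singular subspace of half the dimension -/
theorem isPlusTypeOn_of_plus {d : ℕ} {Q : (Fin d ⊕ Fin d → F) → F}
    (C : (Fin d ⊕ Fin d → F) ≃ₗ[F] (Fin d ⊕ Fin d → F))
    (hC : ∀ w, Cfsg.quadFormPlus d F (C w) = Q w) : Cfsg.Geo.IsPlusTypeOn Q ⊤ := by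
  classical
  -- the standard totally singular subspace
  let j : (Fin d → F) →ₗ[F] (Fin d ⊕ Fin d → F) :=
    { toFun := fun x => Sum.elim x 0
      map_add' := by
        intro x y
        funext i
        rcases i with i | i <;> simp
      map_smul' := by
        intro c x
        funext i
        rcases i with i | i <;> simp }
  have hj : Function.Injective j := by
    intro x y hxy
    funext i
    have := congrFun hxy (Sum.inl i)
    exact this
  refine ⟨(LinearMap.range j).map (C.symm : (Fin d ⊕ Fin d → F) →ₗ[F] (Fin d ⊕ Fin d → F)),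
    le_top, ?_, ?_⟩
  · rintro w ⟨v, ⟨x, rfl⟩, rfl⟩
    show Q (C.symm (j x)) = 0
    rw [← hC, LinearEquiv.apply_symm_apply]
    unfold Cfsg.quadFormPlus
    apply Finset.sum_eq_zero
    intro i _
    show (Sum.elim x (0 : Fin d → F) : Fin d ⊕ Fin d → F) (Sum.inl i)
      * (Sum.elim x (0 : Fin d → F) : Fin d ⊕ Fin d → F) (Sum.inr i) = 0
    simp
  · rw [finrank_top, finrank_VV]
    have h1 : finrank F ↥((LinearMap.range j).map
        (C.symm : (Fin d ⊕ Fin d → F) →ₗ[F] (Fin d ⊕ Fin d → F)))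
        = finrank F ↥(LinearMap.range j) :=
      LinearEquiv.finrank_map_eq C.symm (LinearMap.range j)
    rw [h1, LinearMap.finrank_range_of_inj hj, Module.finrank_fintype_fun_eq_card,
      Fintype.card_fin]

/-- the minus model has no totally singular subspace of half the dimension -/
theorem not_isPlusTypeOn_of_minus {k : ℕ} {Q : (Fin (k + 1) ⊕ Fin (k + 1) → F) → F} (a b : F)
    (hab : ∀ z₁ z₂ : F, z₁ ^ 2 + a * z₁ * z₂ + b * z₂ ^ 2 = 0 → z₁ = 0 ∧ z₂ = 0)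
    (C : (Fin (k + 1) ⊕ Fin (k + 1) → F) ≃ₗ[F] ((Fin k ⊕ Fin k) ⊕ Fin 2 → F))
    (hC : ∀ w, Cfsg.quadFormMinus k F a b (C w) = Q w) : ¬ Cfsg.Geo.IsPlusTypeOn Q ⊤ := by
  rintro ⟨U, -, hU, hdim⟩
  rw [finrank_top, finrank_VV] at hdim
  have h1 := Cfsg.Agent.Helper45.OmegaParity.minus_ts_finrank_le k a b hab
    (U.map (C : (Fin (k + 1) ⊕ Fin (k + 1) → F) →ₗ[F] ((Fin k ⊕ Fin k) ⊕ Fin 2 → F))) (by
      rintro w ⟨v, hv, rfl⟩
      show Cfsg.quadFormMinus k F a b (C v) = 0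
      rw [hC]
      exact hU v hv)
  have h2 : finrank F ↥(U.map
      (C : (Fin (k + 1) ⊕ Fin (k + 1) → F) →ₗ[F] ((Fin k ⊕ Fin k) ⊕ Fin 2 → F)))
      = finrank F ↥U := LinearEquiv.finrank_map_eq C U
  omega

end Cfsg.Agent.Helper43.SpOrth
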