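import Mathlib
import Cfsg.Agent.Helper43.SpPrimeC
import Cfsg.Agent.Helper43.SpPrimeD
import Cfsg.Agent.Helper43.LagrD

/-!
# A self-reciprocal polynomial for a fixed-point-free symplectic element of prime order
-/

set_option autoImplicit false

namespace Cfsg.Agent.Helper43.SpOrth

open Polynomial Cfsg.Agent.Helper43.SpPrime Cfsg.Agent.Helper43.SS

universe u

variable {F : Type u} [Field F] [Fintype F]

theorem X_sub_one_monic' : (X - 1 : F[X]).Monic := by
  have : (X - 1 : F[X]) = X - C 1 := by rw [map_one]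
  rw [this]; exact monic_X_sub_C 1

theorem X_sub_one_irreducible' : Irreducible (X - 1 : F[X]) := by
  have : (X - 1 : F[X]) = X - C 1 := by rw [map_one]
  rw [this]; exact irreducible_X_sub_C 1

/-- an irreducible factor of the cyclotomic polynomial of the right degree, different from `X - 1` -/
theorem exists_factor_cyclotomic' (p : ℕ) [Fact p.Prime]
    [CharP F p] {q : ℕ} (hF : Fintype.card F = q) (r : ℕ) (hr : r.Prime) (hrp : r ≠ p) :
    ∃ P : F[X], P.Monic ∧ Irreducible P ∧ P ∣ (X ^ r - 1 : F[X]) ∧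
      P.natDegree = orderOf (q : ZMod r) ∧ P ≠ X - 1 := by
  have hp : p.Prime := Fact.out
  haveI : Fact r.Prime := ⟨hr⟩
  obtain ⟨f, -, hcard⟩ := FiniteField.card F p
  have hK : Fintype.card F = p ^ (f : ℕ) := hcard
  have hn : p.Coprime r := (Nat.coprime_primes hp hr).mpr hrp.symm
  have hord : orderOf (ZMod.unitOfCoprime (p ^ (f : ℕ)) (hn.pow_left f)) = orderOf (q : ZMod r) := by
    rw [← orderOf_units, ZMod.coe_unitOfCoprime, ← hK, hF]
  have hnu : ¬ IsUnit (cyclotomic r F) := by
    intro hu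
    have := natDegree_eq_zero_of_isUnit hu
    rw [natDegree_cyclotomic, Nat.totient_prime hr] at this
    have := hr.two_le
    omega
  have hrF : (r : F) ≠ 0 := by
    intro h0
    rw [CharP.cast_eq_zero_iff F p r] at h0
    exact hrp ((Nat.prime_dvd_prime_iff_eq hp hr).mp h0).symm
  obtain ⟨P, hPm, hPi, hPd⟩ := exists_monic_irreducible_factor _ hnu
  refine ⟨P, hPm, hPi, ?_, ?_, ?_⟩
  · rw [← cyclotomic_prime_mul_X_sub_one F r]
    exact Dvd.dvd.mul_right hPd _
  · rw [← hord]
    exact natDegree_of_dvd_cyclotomic_of_irreducible hK hn hPd hPi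
  · rintro rfl
    have h1 : (cyclotomic r F).IsRoot 1 := by
      apply dvd_iff_isRoot.mp
      rw [map_one]
      exact hPd
    rw [IsRoot.def, eval_one_cyclotomic_prime] at h1
    exact hrF h1

/-- the polynomial of a fixed-point-free element of order `r` of `Sp_{2d}(q)` -/
theorem exists_fpf_poly (p : ℕ) [Fact p.Prime] [CharP F p] {q : ℕ} (hq : Fintype.card F = q)
    (d r : ℕ) (hd : 1 ≤ d) (hr : r.Prime) (hrp : r ≠ p)
    (hpow : (q : ZMod r) ^ (2 * d) = 1) :
    ∃ g : F[X], g.Monic ∧ g.natDegree = 2 * d ∧ g.reverse = g ∧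
      (∀ P : F[X], P.Monic → Irreducible P → P ∣ g → P ∣ (X ^ r - 1 : F[X])) ∧
      ¬ (X - 1 : F[X]) ∣ g := by
  classical
  obtain ⟨P, hPm, hPi, hPdvd, hPdeg, hP1⟩ := exists_factor_cyclotomic' p hq r hr hrp
  set e := orderOf (q : ZMod r) with he
  have he2d : e ∣ 2 * d := orderOf_dvd_of_pow_eq_one hpow
  have hepos : 0 < e := by
    rcases Nat.eq_zero_or_pos e with h0 | h0
    · rw [h0, zero_dvd_iff] at he2d
      omega
    · exact h0
  have hP0 : P.coeff 0 ≠ 0 := coeff_zero_ne_of_dvd_X_pow_sub_one hr.pos hPdvd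
  have hLm : (X - 1 : F[X]).Monic := X_sub_one_monic'
  have hLi : Irreducible (X - 1 : F[X]) := X_sub_one_irreducible'
  have hLP : ¬ (X - 1 : F[X]) ∣ P := by
    intro h
    exact hP1 (eq_of_monic_of_associated hLm hPm (hLi.associated_of_dvd hPi h)).symm
  by_cases hed : e ∣ d
  · -- `g = (P * star P) ^ (d / e)`
    obtain ⟨n, hn⟩ := hed
    have hSm : (star P).Monic := star_monic hP0
    have hSi : Irreducible (star P) := star_irreducible hPm hPi hP0
    have hSd : (star P).natDegree = e := by rw [natDegree_star hP0, hPdeg]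
    have hS0 : (star P).coeff 0 ≠ 0 := star_coeff_zero_ne hPm.ne_zero hP0
    have hSdvd : star P ∣ (X ^ r - 1 : F[X]) := by
      have := star_dvd hPdvd
      rwa [star_X_pow_sub_one hr.pos] at this
    have hLS : ¬ (X - 1 : F[X]) ∣ star P := by
      intro h
      have h1 : star P = X - 1 :=
        (eq_of_monic_of_associated hLm hSm (hLi.associated_of_dvd hSi h)).symm
      apply hP1
      rw [← star_star hPm hP0, h1, star_X_sub_one]
    refine ⟨(P * star P) ^ n, (hPm.mul hSm).pow n, ?_, ?_, ?_, ?_⟩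
    · rw [(hPm.mul hSm).natDegree_pow, hPm.natDegree_mul hSm, hPdeg, hSd, hn]
      ring
    · apply reverse_eq_self_of_star
      · rw [coeff_zero_eq_eval_zero, eval_pow, eval_mul, ← coeff_zero_eq_eval_zero,
          ← coeff_zero_eq_eval_zero, coeff_zero_star, hPm.leadingCoeff, mul_one,
          mul_inv_cancel₀ hP0, one_pow]
      · rw [SpPrime.star_pow, SpPrime.star_mul, star_star hPm hP0, mul_comm]
    · intro Q hQm hQi hQ
      rcases hQi.prime.dvd_or_dvd (hQi.prime.dvd_of_dvd_pow hQ) with h | h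
      · exact h.trans hPdvd
      · exact h.trans hSdvd
    · intro h
      rcases hLi.prime.dvd_or_dvd (hLi.prime.dvd_of_dvd_pow h) with h | h
      · exact hLP h
      · exact hLS h
  · -- `e` is even and `g = P ^ (2 d / e)`
    have heven : Even e := by
      by_contra hodd
      rw [Nat.not_even_iff_odd] at hodd
      apply hed
      have hcop : Nat.Coprime e 2 := Nat.Coprime.symm (Nat.coprime_two_left.mpr hodd)
      exact hcop.dvd_of_dvd_mul_left he2d
    obtain ⟨n, hn⟩ := he2d
    have hn0 : n ≠ 0 := by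
      rintro rfl
      omega
    have hgm : (P ^ n).Monic := hPm.pow n
    have hgd : (P ^ n).natDegree = 2 * d := by
      rw [hPm.natDegree_pow, hPdeg, hn, mul_comm]
    have hfac : ∀ Q : F[X], Q.Monic → Irreducible Q → Q ∣ P ^ n → Q ∣ (X ^ r - 1 : F[X]) := by
      intro Q hQm hQi hQ
      exact (hQi.prime.dvd_of_dvd_pow hQ).trans hPdvd
    have hLg : ¬ (X - 1 : F[X]) ∣ P ^ n := fun h => hLP (hLi.prime.dvd_of_dvd_pow h)
    have hne : P ^ n ≠ (X - 1) ^ (2 * d) := by
      intro h
      apply hLg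
      rw [h]
      exact dvd_pow_self _ (by omega)
    have hpp : PrimePred (2 * d) r (P ^ n) := ⟨hgm, hgd, hfac, hne⟩
    exact ⟨P ^ n, hgm, hgd, reverse_eq_of_even p hq d r e hr hrp he heven hepos hpp, hfac, hLg⟩

end Cfsg.Agent.Helper43.SpOrth
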