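import Cfsg.Agent.Helper43.SpOrthC
import Cfsg.Agent.Helper43.SpOrthD

/-!
# Elements of odd prime order of `Sp_{2d}(q)`, `q` even, with no conjugate in `O^±_{2d}(q)`
-/

set_option autoImplicit false

namespace Cfsg.Agent.Helper43.SpOrth

open Matrix Cfsg Cfsg.Geo Cfsg.Agent.Helper44 Cfsg.Agent.Helper44.QType Module Polynomial

universe u

variable {F : Type u} [Field F]

/-- a pair of vectors on which the standard alternating form does not vanish -/
theorem exists_sympForm_ne {d : ℕ} (hd : 1 ≤ d) :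
    ∃ u v : Fin d ⊕ Fin d → F, Cfsg.sympForm d F u v ≠ 0 := by
  classical
  set x : Fin d ⊕ Fin d → F := Pi.single (Sum.inl ⟨0, hd⟩) 1 with hx
  have hx0 : x ≠ 0 := by
    intro h
    have := congrFun h (Sum.inl ⟨0, hd⟩)
    rw [hx, Pi.single_eq_same, Pi.zero_apply] at this
    exact one_ne_zero this
  by_contra hcon
  push Not at hcon
  apply hx0
  apply (Cfsg.Agent.Helper43.SpSS.Bn_nondeg (n := d) (F := F)).1 x
  intro y
  rw [Cfsg.Agent.Helper43.SpSS.Bn_apply]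
  exact hcon x y

/-- in characteristic two the only symplectic scalar is `1` -/
theorem scalar_eq_one_of_mem_symp [CharP F 2] {d : ℕ} (hd : 1 ≤ d) (z : F)
    (hz : z • (1 : Matrix (Fin d ⊕ Fin d) (Fin d ⊕ Fin d) F) ∈ Matrix.symplecticGroup (Fin d) F) :
    z = 1 := by
  obtain ⟨u, v, huv⟩ := exists_sympForm_ne (F := F) hd
  have h1 := (Cfsg.Agent.Helper13.mem_symplecticGroup_iff_preserves _).mp hz u v
  rw [Matrix.smul_mulVec, Matrix.smul_mulVec, Matrix.one_mulVec, Matrix.one_mulVec,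
    Cfsg.Agent.Helper13.sympForm_smul_left, Cfsg.Agent.Helper13.sympForm_smul_right] at h1
  have h2 : (z * z - 1) * Cfsg.sympForm d F u v = 0 := by
    rw [sub_mul, one_mul, mul_assoc, h1, sub_self]
  have h3 : z * z - 1 = 0 := by
    rcases mul_eq_zero.mp h2 with h | h
    · exact h
    · exact absurd h huv
  have h4 : (z - 1) * (z - 1) = 0 := by
    have h2' : (2 : F) = 0 := CharTwo.two_eq_zero
    linear_combination h3 - (z - 1) * h2'
  have := mul_self_eq_zero.mp h4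
  exact sub_eq_zero.mp this

/-- the congruence for `q ^ d` forced by a prime divisor of the index -/
theorem exists_type_of_dvd_index [Fintype F] [CharP F 2] {q : ℕ} (hq : Fintype.card F = q)
    {k : ℕ} {Q : (Fin (k + 1) ⊕ Fin (k + 1) → F) → F}
    (hQ : Cfsg.Geo.IsNondegenerateQuadraticForm Q)
    (hQf : ∀ u v, QuadraticMap.polar Q u v = Cfsg.sympForm (k + 1) F u v)
    (r : ℕ) (hr : r.Prime) (hr2 : r ≠ 2)
    (hΩ : r ∣ (Cfsg.Geo.quadSimilarityGroup Q).relIndex (Cfsg.spGL (k + 1) F)) :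
    ∃ ε : ℤ, (ε = 1 ∨ ε = -1) ∧ HasType Q (k + 1) ε ∧
      (q : ZMod r) ^ (k + 1) = (((-ε : ℤ)) : ZMod r) := by
  classical
  haveI : Fact r.Prime := ⟨hr⟩
  have hq2 : 2 ≤ q := by rw [← hq]; exact Fintype.one_lt_card
  have hrq : ¬ r ∣ q := by
    intro h
    obtain ⟨f, -, hcard⟩ := FiniteField.card F 2
    rw [← hq, hcard] at h
    exact hr2 ((Nat.prime_dvd_prime_iff_eq hr Nat.prime_two).mp (hr.dvd_of_dvd_pow h))
  have hrqd : ¬ r ∣ q ^ (k + 1) := fun h => hrq (hr.dvd_of_dvd_pow h)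
  have hqd1 : 1 ≤ q ^ (k + 1) := Nat.one_le_pow _ _ (by omega)
  rcases exists_std hQ with ⟨C, hC⟩ | ⟨ζ, hζ, C, hC⟩
  · refine ⟨1, Or.inl rfl, ?_, ?_⟩
    · exact (hasType_plus (F := F) (k + 1)).congr C.symm.toEquiv (fun w => by
        show Q (C.symm w) = _
        rw [← hC, LinearEquiv.apply_symm_apply])
    · have hidx := relIndex_mul_two_plus hq (by omega : 1 ≤ k + 1) hQ hQf C hC
      have h1 : r ∣ q ^ (k + 1) * (q ^ (k + 1) + 1) := by
        rw [← hidx]
        exact Dvd.dvd.mul_right hΩ 2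
      have h2 : r ∣ q ^ (k + 1) + 1 := (hr.dvd_mul.mp h1).resolve_left hrqd
      have h3 : ((q ^ (k + 1) + 1 : ℕ) : ZMod r) = 0 := (ZMod.natCast_eq_zero_iff _ _).mpr h2
      push_cast at h3 ⊢
      linear_combination h3
  · refine ⟨-1, Or.inr rfl, ?_, ?_⟩
    · exact (hasType_minus (F := F) k 1 ζ (aniso_of_irred ζ hζ)).congr C.symm.toEquiv (fun w => by
        show Q (C.symm w) = _
        rw [← hC, LinearEquiv.apply_symm_apply])
    · have hidx := relIndex_mul_two_minus hq hQ hQf 1 ζ (aniso_of_irred ζ hζ) C hC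
      have h1 : r ∣ q ^ (k + 1) * (q ^ (k + 1) - 1) := by
        rw [← hidx]
        exact Dvd.dvd.mul_right hΩ 2
      have h2 : r ∣ q ^ (k + 1) - 1 := (hr.dvd_mul.mp h1).resolve_left hrqd
      have h3 : ((q ^ (k + 1) - 1 : ℕ) : ZMod r) = 0 := (ZMod.natCast_eq_zero_iff _ _).mpr h2
      rw [Nat.cast_sub hqd1] at h3
      push_cast at h3 ⊢
      linear_combination h3

/-- **Derangements of odd prime order.** -/
theorem exists_derangement_odd [Fintype F] [CharP F 2] {q : ℕ} (hq : Fintype.card F = q)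
    {k : ℕ} {Q : (Fin (k + 1) ⊕ Fin (k + 1) → F) → F}
    (hQ : Cfsg.Geo.IsNondegenerateQuadraticForm Q)
    (hQf : ∀ u v, QuadraticMap.polar Q u v = Cfsg.sympForm (k + 1) F u v)
    (r : ℕ) (hr : r.Prime) (hr2 : r ≠ 2)
    (hΩ : r ∣ (Cfsg.Geo.quadSimilarityGroup Q).relIndex (Cfsg.spGL (k + 1) F)) :
    ∃ x ∈ Cfsg.spGL (k + 1) F, x ^ r = 1 ∧
      (∀ z : F, (x : Matrix (Fin (k + 1) ⊕ Fin (k + 1)) (Fin (k + 1) ⊕ Fin (k + 1)) F)
        ≠ z • (1 : Matrix (Fin (k + 1) ⊕ Fin (k + 1)) (Fin (k + 1) ⊕ Fin (k + 1)) F)) ∧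
      ∀ g ∈ Cfsg.spGL (k + 1) F, g⁻¹ * x * g ∉ Cfsg.Geo.quadSimilarityGroup Q := by
  classical
  haveI : Fact r.Prime := ⟨hr⟩
  haveI : Fact (Nat.Prime 2) := ⟨Nat.prime_two⟩
  have hrp : r ≠ 2 := hr2
  have hd : 1 ≤ k + 1 := by omega
  obtain ⟨ε, hε, hT, hcong⟩ := exists_type_of_dvd_index hq hQ hQf r hr hr2 hΩ
  have hpow : (q : ZMod r) ^ (2 * (k + 1)) = 1 := by
    rw [mul_comm, pow_mul, hcong]
    rcases hε with rfl | rfl <;> simp
  obtain ⟨g, hgm, hgd, hgr, hfac, hgn⟩ := exists_fpf_poly 2 hq (k + 1) r hd hr hrp hpow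
  obtain ⟨A, hA, hAr, hAch⟩ := exists_symp_of_poly 2 (k + 1) r hr hrp hgm hgd hgr hfac
  have hL : ¬ (X - 1 : F[X]) ∣ A.charpoly := by rw [hAch]; exact hgn
  refine ⟨sympToGL ⟨A, hA⟩, sympToGL_mem _, ?_, ?_, ?_⟩
  · apply Units.ext
    rw [Units.val_pow_eq_pow_val, sympToGL_coe]
    exact hAr
  · intro z hz
    rw [sympToGL_coe] at hz
    have hz' : A = z • 1 := hz
    have hz1 : z = 1 := scalar_eq_one_of_mem_symp hd z (hz' ▸ hA)
    rw [hz1, one_smul] at hz'
    obtain ⟨u, v, huv⟩ := exists_sympForm_ne (F := F) hd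
    have hu : u = 0 := eq_zero_of_mulVec_eq A hL u (by rw [hz', Matrix.one_mulVec])
    apply huv
    rw [hu]
    unfold Cfsg.sympForm
    rw [zero_dotProduct]
  · intro c hc hmem
    set x := sympToGL (⟨A, hA⟩ : ↥(Matrix.symplecticGroup (Fin (k + 1)) F)) with hx
    set y := c⁻¹ * x * c with hy
    have hysp : y ∈ Cfsg.spGL (k + 1) F :=
      mul_mem (mul_mem (inv_mem hc) (sympToGL_mem _)) hc
    have hyiso := (Cfsg.Agent.Helper13.mem_isometryGroup_iff Q y).mp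
      (isometry_of_sim_sp hd hQ hQf hmem hysp)
    set Qq : QuadraticForm F (Fin (k + 1) ⊕ Fin (k + 1) → F) :=
      Cfsg.Agent.Helper45.OmegaParity.qfOfGeo Q hQ with hQq
    have hnd : ∀ x, (∀ y, QuadraticMap.polar Qq x y = 0) → x = 0 := nd_of_geo hQ
    have hV : finrank F (Fin (k + 1) ⊕ Fin (k + 1) → F) = 2 * (k + 1) := finrank_VV (k + 1)
    have hrq : ¬ r ∣ Nat.card F := by
      intro h
      obtain ⟨f, -, hcard⟩ := FiniteField.card F 2
      rw [Nat.card_eq_fintype_card, hcard] at h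
      exact hr2 ((Nat.prime_dvd_prime_iff_eq hr Nat.prime_two).mp (hr.dvd_of_dvd_pow h))
    have hyr : y ^ r = 1 := by
      have hxr : x ^ r = 1 := by
        apply Units.ext
        rw [Units.val_pow_eq_pow_val, hx, sympToGL_coe]
        exact hAr
      have : y = c⁻¹ * x * c⁻¹⁻¹ := by rw [hy, inv_inv]
      rw [this, conj_pow, hxr, mul_one, mul_inv_cancel]
    have hiter : ∀ (j : ℕ) (v : Fin (k + 1) ⊕ Fin (k + 1) → F),
        (fun v => (y : Matrix (Fin (k + 1) ⊕ Fin (k + 1)) (Fin (k + 1) ⊕ Fin (k + 1)) F) *ᵥ v)^[j] v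
          = ((y ^ j : GL (Fin (k + 1) ⊕ Fin (k + 1)) F) :
            Matrix (Fin (k + 1) ⊕ Fin (k + 1)) (Fin (k + 1) ⊕ Fin (k + 1)) F) *ᵥ v := by
      intro j
      induction j with
      | zero => intro v; simp
      | succ j ih =>
        intro v
        rw [Function.iterate_succ_apply', ih, Matrix.mulVec_mulVec, ← Units.val_mul, ← pow_succ']
    have key := pow_eq_of_fpf Qq hV hnd hT r hrq
      (fun v => (y : Matrix (Fin (k + 1) ⊕ Fin (k + 1)) (Fin (k + 1) ⊕ Fin (k + 1)) F) *ᵥ v)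
      (fun v => hyiso v)
      (fun v => by rw [hiter, hyr, Units.val_one, Matrix.one_mulVec])
      (fun v hv => by
        have hcy : c * y = x * c := by rw [hy]; group
        have h1 : (x : Matrix (Fin (k + 1) ⊕ Fin (k + 1)) (Fin (k + 1) ⊕ Fin (k + 1)) F) *ᵥ
            ((c : Matrix (Fin (k + 1) ⊕ Fin (k + 1)) (Fin (k + 1) ⊕ Fin (k + 1)) F) *ᵥ v)
            = (c : Matrix (Fin (k + 1) ⊕ Fin (k + 1)) (Fin (k + 1) ⊕ Fin (k + 1)) F) *ᵥ v := by
          rw [Matrix.mulVec_mulVec, ← Units.val_mul, ← hcy, Units.val_mul, ← Matrix.mulVec_mulVec]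
          exact congrArg _ hv
        rw [hx, sympToGL_coe] at h1
        have h2 := eq_zero_of_mulVec_eq A hL _ h1
        have h3 : ((c⁻¹ : GL (Fin (k + 1) ⊕ Fin (k + 1)) F) :
            Matrix (Fin (k + 1) ⊕ Fin (k + 1)) (Fin (k + 1) ⊕ Fin (k + 1)) F) *ᵥ
            ((c : Matrix (Fin (k + 1) ⊕ Fin (k + 1)) (Fin (k + 1) ⊕ Fin (k + 1)) F) *ᵥ v) = v := by
          rw [Matrix.mulVec_mulVec, ← Units.val_mul, inv_mul_cancel, Units.val_one,
            Matrix.one_mulVec]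
        rw [← h3, h2, Matrix.mulVec_zero])
    rw [Nat.card_eq_fintype_card, hq, hcong] at key
    have hε' : (-ε = 1 ∨ -ε = -1) := by
      rcases hε with rfl | rfl
      · right; rfl
      · left; norm_num
    have := sign_eq_of_cast_eq hr hr2 hε' hε key
    rcases hε with rfl | rfl <;> omega

end Cfsg.Agent.Helper43.SpOrth
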