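import Cfsg.Agent.Helper43.SpOrthE
import Cfsg.Agent.Helper43.OrthInvG
import Cfsg.Agent.Helper43.SpInvB

/-!
# Involutions of `Sp_{2d}(q)`, `q` even, and the orthogonal subgroups
-/

set_option autoImplicit false

namespace Cfsg.Agent.Helper43.SpOrth

open Matrix Cfsg Cfsg.Geo Cfsg.Agent.Helper44 Cfsg.Agent.Helper44.QType Module
open Cfsg.Agent.Helper43.SpInv Cfsg.Agent.Helper43.OrthInv

universe u

variable {F : Type u} [Field F]

theorem rank_conjMatAlgEquiv {ι κ : Type} [Fintype ι] [DecidableEq ι] [Fintype κ] [DecidableEq κ]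
    (C : (ι → F) ≃ₗ[F] (κ → F)) (M : Matrix ι ι F) : (conjMatAlgEquiv C M).rank = M.rank := by
  have h : (conjMatAlgEquiv C M).mulVecLin
      = (C : (ι → F) →ₗ[F] (κ → F)) ∘ₗ M.mulVecLin ∘ₗ (C.symm : (κ → F) →ₗ[F] (ι → F)) := by
    apply LinearMap.ext
    intro v
    simp only [Matrix.mulVecLin_apply, LinearMap.comp_apply, LinearEquiv.coe_coe]
    exact conjMatAlgEquiv_mulVec C M v
  unfold Matrix.rank
  rw [h, LinearMap.range_comp, LinearMap.range_comp_of_range_eq_top _ (LinearEquiv.range C.symm)]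
  exact LinearEquiv.finrank_map_eq C _

/-- for an isometry in characteristic two, the two type invariants agree -/
theorem tau_iff_tauQ [CharP F 2] {d : ℕ} {Q : (Fin d ⊕ Fin d → F) → F}
    (hQf : ∀ u v, QuadraticMap.polar Q u v = Cfsg.sympForm d F u v)
    (t : Matrix (Fin d ⊕ Fin d) (Fin d ⊕ Fin d) F) (ht : ∀ v, Q (t *ᵥ v) = Q v) :
    tau t ↔ tauQ Q t := by
  have key : ∀ v, Q (v + t *ᵥ v) = Cfsg.sympForm d F v (t *ᵥ v) := by
    intro v
    rw [← hQf]
    unfold QuadraticMap.polar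
    rw [ht, sub_sub, CharTwo.add_self_eq_zero, sub_zero]
  constructor
  · intro h v
    rw [key]
    exact h v
  · intro h v
    rw [← key]
    exact h v

/-- an involution of `Sp` whose invariants are realised by an isometry of a model of `Q` has a
conjugate preserving `Q` -/
theorem conj_mem_of_rep [Fintype F] [CharP F 2] {d : ℕ} {κ : Type} [Fintype κ] [DecidableEq κ]
    {Q : (Fin d ⊕ Fin d → F) → F}
    (hQf : ∀ u v, QuadraticMap.polar Q u v = Cfsg.sympForm d F u v)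
    (Q' : (κ → F) → F) (C : (Fin d ⊕ Fin d → F) ≃ₗ[F] (κ → F)) (hC : ∀ w, Q' (C w) = Q w)
    (t' : Matrix κ κ F) (ht2 : t' * t' = 1) (hiso : ∀ v, Q' (t' *ᵥ v) = Q' v)
    (x : GL (Fin d ⊕ Fin d) F) (hx : x ∈ Cfsg.spGL d F) (hx2 : x * x = 1) (hx1 : x ≠ 1)
    (hrank : ((x : Matrix (Fin d ⊕ Fin d) (Fin d ⊕ Fin d) F) - 1).rank = (t' - 1).rank)
    (htau : tau (x : Matrix (Fin d ⊕ Fin d) (Fin d ⊕ Fin d) F) ↔ tauQ Q' t') :
    ∃ g ∈ Cfsg.spGL d F, g⁻¹ * x * g ∈ Cfsg.Geo.quadSimilarityGroup Q := by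
  classical
  set t : Matrix (Fin d ⊕ Fin d) (Fin d ⊕ Fin d) F := conjMatAlgEquiv C.symm t' with ht
  have htv : ∀ v, t *ᵥ v = C.symm (t' *ᵥ C v) := by
    intro v
    rw [ht, conjMatAlgEquiv_mulVec, LinearEquiv.symm_symm]
  have hC' : ∀ w, Q (C.symm w) = Q' w := by
    intro w
    rw [← hC, LinearEquiv.apply_symm_apply]
  have htt : t * t = 1 := by
    rw [ht, ← map_mul, ht2, map_one]
  have htiso : ∀ v, Q (t *ᵥ v) = Q v := by
    intro v
    rw [htv, hC', hiso, hC]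
  set tGL : GL (Fin d ⊕ Fin d) F := ⟨t, t, htt, htt⟩ with htGL
  have htmem : tGL ∈ Cfsg.isometryGroup F Q := by
    rw [Cfsg.Agent.Helper13.mem_isometryGroup_iff]
    exact htiso
  have htsp : tGL ∈ Cfsg.spGL d F := isometry_mem_spGL hQf htmem
  have htrank : (t - 1).rank = (t' - 1).rank := by
    have : t - 1 = conjMatAlgEquiv C.symm (t' - 1) := by
      rw [map_sub, map_one]
    rw [this, rank_conjMatAlgEquiv]
  have httau : tau t ↔ tauQ Q' t' := by
    rw [tau_iff_tauQ hQf t htiso]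
    constructor
    · intro h v
      have := h (C.symm v)
      rw [htv, LinearEquiv.apply_symm_apply, ← map_add, hC'] at this
      exact this
    · intro h v
      rw [htv]
      have := h (C v)
      rw [← hC', map_add, LinearEquiv.symm_apply_apply] at this
      exact this
  -- pass to Mathlib's symplectic group
  set a : ↥(Matrix.symplecticGroup (Fin d) F) := spEquiv ⟨x, hx⟩ with ha
  set b : ↥(Matrix.symplecticGroup (Fin d) F) := spEquiv ⟨tGL, htsp⟩ with hb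
  have hacoe : (a : Matrix (Fin d ⊕ Fin d) (Fin d ⊕ Fin d) F) = x := rfl
  have hbcoe : (b : Matrix (Fin d ⊕ Fin d) (Fin d ⊕ Fin d) F) = t := rfl
  have haa : a * a = 1 := by
    apply Subtype.ext
    show (x : Matrix (Fin d ⊕ Fin d) (Fin d ⊕ Fin d) F) * x = 1
    rw [← Units.val_mul, hx2, Units.val_one]
  have ha1 : a ≠ 1 := by
    intro h
    apply hx1
    apply Units.ext
    have := congrArg Subtype.val h
    exact this
  have hao : orderOf a = 2 := orderOf_eq_two_of a haa ha1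
  have hbb : b * b = 1 := by
    apply Subtype.ext
    exact htt
  have hb1 : b ≠ 1 := by
    intro h
    have h1 : t = 1 := congrArg Subtype.val h
    have h2 := (SpInv.rank_bounds a hao).1
    rw [hacoe, hrank, ← htrank, h1, sub_self, Matrix.rank_zero] at h2
    omega
  have hbo : orderOf b = 2 := orderOf_eq_two_of b hbb hb1
  have hconj : IsConj a b := by
    rw [SpInv.isConj_iff_invariants a b hao hbo, hacoe, hbcoe, hrank, htrank, htau, httau]
    exact ⟨rfl, Iff.rfl⟩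
  obtain ⟨c, hc⟩ := isConj_iff.mp hconj
  refine ⟨(sympToGL c)⁻¹, inv_mem (sympToGL_mem c), ?_⟩
  rw [inv_inv]
  have h1 : sympToGL c * x * (sympToGL c)⁻¹ = tGL := by
    have hxa : sympToGL a = x := Units.ext rfl
    have htb : sympToGL b = tGL := Units.ext rfl
    rw [← hxa, ← htb, ← hc, map_mul, map_mul, map_inv]
  rw [h1]
  exact isometry_mem_sim htmem

/-- **Plus type: every involution has a conjugate preserving `Q`.** -/
theorem invol_conj_mem_plus [Fintype F] [CharP F 2] {d : ℕ} {Q : (Fin d ⊕ Fin d → F) → F}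
    (hQf : ∀ u v, QuadraticMap.polar Q u v = Cfsg.sympForm d F u v)
    (C : (Fin d ⊕ Fin d → F) ≃ₗ[F] (Fin d ⊕ Fin d → F))
    (hC : ∀ w, Cfsg.quadFormPlus d F (C w) = Q w)
    (x : GL (Fin d ⊕ Fin d) F) (hx : x ∈ Cfsg.spGL d F) (hx2 : x * x = 1) (hx1 : x ≠ 1) :
    ∃ g ∈ Cfsg.spGL d F, g⁻¹ * x * g ∈ Cfsg.Geo.quadSimilarityGroup Q := by
  classical
  set a : ↥(Matrix.symplecticGroup (Fin d) F) := spEquiv ⟨x, hx⟩ with ha
  have hacoe : (a : Matrix (Fin d ⊕ Fin d) (Fin d ⊕ Fin d) F) = x := rfl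
  have haa : a * a = 1 := by
    apply Subtype.ext
    show (x : Matrix (Fin d ⊕ Fin d) (Fin d ⊕ Fin d) F) * x = 1
    rw [← Units.val_mul, hx2, Units.val_one]
  have ha1 : a ≠ 1 := by
    intro h
    apply hx1
    apply Units.ext
    exact congrArg Subtype.val h
  have hao : orderOf a = 2 := orderOf_eq_two_of a haa ha1
  obtain ⟨hs1, hs⟩ := SpInv.rank_bounds a hao
  rw [hacoe] at hs1 hs
  set s := ((x : Matrix (Fin d ⊕ Fin d) (Fin d ⊕ Fin d) F) - 1).rank with hsdef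
  set b : Bool := decide (tau (x : Matrix (Fin d ⊕ Fin d) (Fin d ⊕ Fin d) F)) with hb
  have hbt : b = true ↔ tau (x : Matrix (Fin d ⊕ Fin d) (Fin d ⊕ Fin d) F) := by
    rw [hb, decide_eq_true_iff]
  have hbev : b = true → Even s := fun h => even_rank_of_tau (hbt.mp h)
  refine conj_mem_of_rep hQf (Cfsg.quadFormPlus d F) C hC (Rep F d s b) (Rep_mul_self s b)
    (fun v => Rep_isometry hs1 hs b v) x hx hx2 hx1 ?_ ?_
  · rw [rank_Rep_sub_one hs b hbev]
  · rw [tauQ_Rep_iff hs1 hs b, hbt]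

/-- **Minus type, `d` odd: every involution has a conjugate preserving `Q`.** -/
theorem invol_conj_mem_minus [Fintype F] [CharP F 2] {k : ℕ} (hk : Even k)
    {Q : (Fin (k + 1) ⊕ Fin (k + 1) → F) → F}
    (hQf : ∀ u v, QuadraticMap.polar Q u v = Cfsg.sympForm (k + 1) F u v) (ζ : F)
    (C : (Fin (k + 1) ⊕ Fin (k + 1) → F) ≃ₗ[F] ((Fin k ⊕ Fin k) ⊕ Fin 2 → F))
    (hC : ∀ w, Cfsg.quadFormMinus k F 1 ζ (C w) = Q w)
    (x : GL (Fin (k + 1) ⊕ Fin (k + 1)) F) (hx : x ∈ Cfsg.spGL (k + 1) F) (hx2 : x * x = 1)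
    (hx1 : x ≠ 1) :
    ∃ g ∈ Cfsg.spGL (k + 1) F, g⁻¹ * x * g ∈ Cfsg.Geo.quadSimilarityGroup Q := by
  classical
  set a : ↥(Matrix.symplecticGroup (Fin (k + 1)) F) := spEquiv ⟨x, hx⟩ with ha
  have hacoe : (a : Matrix (Fin (k + 1) ⊕ Fin (k + 1)) (Fin (k + 1) ⊕ Fin (k + 1)) F) = x := rfl
  have haa : a * a = 1 := by
    apply Subtype.ext
    show (x : Matrix (Fin (k + 1) ⊕ Fin (k + 1)) (Fin (k + 1) ⊕ Fin (k + 1)) F) * x = 1
    rw [← Units.val_mul, hx2, Units.val_one]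
  have ha1 : a ≠ 1 := by
    intro h
    apply hx1
    apply Units.ext
    exact congrArg Subtype.val h
  have hao : orderOf a = 2 := orderOf_eq_two_of a haa ha1
  obtain ⟨hs1, hs⟩ := SpInv.rank_bounds a hao
  rw [hacoe] at hs1 hs
  set s := ((x : Matrix (Fin (k + 1) ⊕ Fin (k + 1)) (Fin (k + 1) ⊕ Fin (k + 1)) F) - 1).rank
    with hsdef
  set b : Bool :=
    decide (tau (x : Matrix (Fin (k + 1) ⊕ Fin (k + 1)) (Fin (k + 1) ⊕ Fin (k + 1)) F)) with hb
  have hbt : b = true ↔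
      tau (x : Matrix (Fin (k + 1) ⊕ Fin (k + 1)) (Fin (k + 1) ⊕ Fin (k + 1)) F) := by
    rw [hb, decide_eq_true_iff]
  have hbev : b = true → Even s ∧ s ≤ k := by
    intro h
    have h1 : Even s := even_rank_of_tau (hbt.mp h)
    refine ⟨h1, ?_⟩
    obtain ⟨j, hj⟩ := h1
    obtain ⟨i, hi⟩ := hk
    omega
  have h10 : (1 : F) ≠ 0 := one_ne_zero
  refine conj_mem_of_rep hQf (Cfsg.quadFormMinus k F 1 ζ) C hC (RepM F k s b 1)
    (RepM_mul_self s b 1) (fun v => RepM_isometry hs1 b 1 ζ v) x hx hx2 hx1 ?_ ?_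
  · rw [rank_RepM_sub_one h10 hs b hbev]
  · rw [tauQ_RepM_iff h10 ζ hs1 b (fun h => (hbev h).2), hbt]

end Cfsg.Agent.Helper43.SpOrth
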