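import Cfsg.Agent.Helper43.SpOrthF

/-!
# Minus type, `d` even: an involution of `Sp_{2d}(q)` with no conjugate in `O^-_{2d}(q)`
-/

set_option autoImplicit false

namespace Cfsg.Agent.Helper43.SpOrth

open Matrix Cfsg Cfsg.Geo Cfsg.Agent.Helper44 Cfsg.Agent.Helper44.QType Module
open Cfsg.Agent.Helper43.SpInv Cfsg.Agent.Helper43.OrthInv

universe u

variable {F : Type u} [Field F]

theorem exists_invol_not_conj [Fintype F] [CharP F 2] {k : ℕ} (hk : Odd k)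
    {Q : (Fin (k + 1) ⊕ Fin (k + 1) → F) → F}
    (hQ : Cfsg.Geo.IsNondegenerateQuadraticForm Q)
    (hQf : ∀ u v, QuadraticMap.polar Q u v = Cfsg.sympForm (k + 1) F u v) (a b : F)
    (hab : ∀ z₁ z₂ : F, z₁ ^ 2 + a * z₁ * z₂ + b * z₂ ^ 2 = 0 → z₁ = 0 ∧ z₂ = 0)
    (C : (Fin (k + 1) ⊕ Fin (k + 1) → F) ≃ₗ[F] ((Fin k ⊕ Fin k) ⊕ Fin 2 → F))
    (hC : ∀ w, Cfsg.quadFormMinus k F a b (C w) = Q w) :
    ∃ x ∈ Cfsg.spGL (k + 1) F, x * x = 1 ∧
      (∀ z : F, (x : Matrix (Fin (k + 1) ⊕ Fin (k + 1)) (Fin (k + 1) ⊕ Fin (k + 1)) F)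
        ≠ z • (1 : Matrix (Fin (k + 1) ⊕ Fin (k + 1)) (Fin (k + 1) ⊕ Fin (k + 1)) F)) ∧
      ∀ g ∈ Cfsg.spGL (k + 1) F, g⁻¹ * x * g ∉ Cfsg.Geo.quadSimilarityGroup Q := by
  classical
  have hd : 1 ≤ k + 1 := by omega
  have hdev : Even (k + 1) := by
    obtain ⟨j, hj⟩ := hk
    exact ⟨j + 1, by omega⟩
  set S : Matrix (Fin (k + 1)) (Fin (k + 1)) F := Sm F (k + 1) (k + 1) true with hS
  have hX : tS S ∈ Matrix.symplecticGroup (Fin (k + 1)) F := tS_mem (Sm_transpose _ _)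
  have hXX : tS S * tS S = 1 := tS_mul_self S
  have hXrank : (tS S - 1).rank = k + 1 := by
    rw [rank_tS_sub_one, hS, rank_Sm le_rfl true (fun _ => hdev)]
  have hXtau : tau (tS S) := (tau_tS_Sm hd le_rfl true).mpr rfl
  set x : GL (Fin (k + 1) ⊕ Fin (k + 1)) F := sympToGL ⟨tS S, hX⟩ with hx
  have hxcoe : (x : Matrix (Fin (k + 1) ⊕ Fin (k + 1)) (Fin (k + 1) ⊕ Fin (k + 1)) F) = tS S := rfl
  refine ⟨x, sympToGL_mem _, ?_, ?_, ?_⟩
  · apply Units.ext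
    rw [Units.val_mul, hxcoe, hXX, Units.val_one]
  · intro z hz
    rw [hxcoe] at hz
    have hz1 : z = 1 := scalar_eq_one_of_mem_symp hd z (hz ▸ hX)
    rw [hz1, one_smul] at hz
    rw [hz, sub_self, Matrix.rank_zero] at hXrank
    omega
  · intro g hg hmem
    set y := g⁻¹ * x * g with hy
    have hysp : y ∈ Cfsg.spGL (k + 1) F := mul_mem (mul_mem (inv_mem hg) (sympToGL_mem _)) hg
    have hyiso := (Cfsg.Agent.Helper13.mem_isometryGroup_iff Q y).mp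
      (isometry_of_sim_sp hd hQ hQf hmem hysp)
    have hgy : g * y = x * g := by rw [hy]; group
    have hgsp := (mem_spGL_iff_mem_symp g).mp hg
    have hmat : (g : Matrix (Fin (k + 1) ⊕ Fin (k + 1)) (Fin (k + 1) ⊕ Fin (k + 1)) F)
        * (y : Matrix (Fin (k + 1) ⊕ Fin (k + 1)) (Fin (k + 1) ⊕ Fin (k + 1)) F)
        = tS S * (g : Matrix (Fin (k + 1) ⊕ Fin (k + 1)) (Fin (k + 1) ⊕ Fin (k + 1)) F) := by
      rw [← hxcoe, ← Units.val_mul, ← Units.val_mul, hgy]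
    have hytau : tau (y : Matrix (Fin (k + 1) ⊕ Fin (k + 1)) (Fin (k + 1) ⊕ Fin (k + 1)) F) :=
      tau_of_conj hgsp hmat hXtau
    have hyrank : ((y : Matrix (Fin (k + 1) ⊕ Fin (k + 1)) (Fin (k + 1) ⊕ Fin (k + 1)) F)
        - 1).rank = k + 1 := by
      rw [rank_eq_of_conj hgsp hmat, hXrank]
    have hytauQ := (tau_iff_tauQ hQf _ hyiso).mp hytau
    apply not_isPlusTypeOn_of_minus a b hab C hC
    refine ⟨LinearMap.range
      ((y : Matrix (Fin (k + 1) ⊕ Fin (k + 1)) (Fin (k + 1) ⊕ Fin (k + 1)) F) - 1).mulVecLin,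
      le_top, ?_, ?_⟩
    · rintro u ⟨v, rfl⟩
      rw [Matrix.mulVecLin_apply, Matrix.sub_mulVec, Matrix.one_mulVec, CharTwo.sub_eq_add,
        add_comm]
      exact hytauQ v
    · rw [finrank_top, finrank_VV]
      have : finrank F ↥(LinearMap.range
          ((y : Matrix (Fin (k + 1) ⊕ Fin (k + 1)) (Fin (k + 1) ⊕ Fin (k + 1)) F)
            - 1).mulVecLin) = k + 1 := hyrank
      rw [this]

end Cfsg.Agent.Helper43.SpOrth
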