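import Mathlib
import Cfsg.Agent.Helper43.SpDerB
import Cfsg.Agent.Helper43.SpDerE

set_option autoImplicit false

/-!
# Involutions of `PSL_n(q)` and symplectic-type subgroups: an involution with no conjugate
in the similarity group
-/

namespace Cfsg.Agent.Helper43.SpDer

open Matrix Cfsg.Geo
open Cfsg.Agent.Helper45.SpInSL

universe u

variable {F : Type u} [Field F] {n m : ℕ}

/-- If a diagonal matrix is a similarity of a symplectic form, some fixed-point-free permutation
pairs up its eigenvalues. -/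
theorem exists_perm_of_simWith_diagonal' {f' : (Fin n → F) → (Fin n → F) → F}
    (hf' : IsSymplecticForm f') (μ : Fin n → F) (c : F)
    (h : SimWith f' (Matrix.diagonal μ) c) :
    ∃ σ : Equiv.Perm (Fin n), ∀ i, σ i ≠ i ∧ μ (σ i) * μ i = c := by
  classical
  set G : Matrix (Fin n) (Fin n) F := LinearMap.BilinForm.toMatrix' (fB hf') with hG
  have hdet : G.det ≠ 0 := by
    rw [← Matrix.nondegenerate_iff_det_ne_zero, hG,
      LinearMap.BilinForm.nondegenerate_toMatrix'_iff]
    exact fB_nondeg hf'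
  have hGii : ∀ i, G i i = 0 := by
    intro i
    rw [hG, LinearMap.BilinForm.toMatrix'_apply, fB_apply]
    exact hf'.alternating _
  have hGij : ∀ i j, G i j ≠ 0 → μ i * μ j = c := by
    intro i j hij
    rw [hG, LinearMap.BilinForm.toMatrix'_apply, fB_apply] at hij
    have h1 := h (Pi.single i 1) (Pi.single j 1)
    rw [Matrix.diagonal_mulVec_single, Matrix.diagonal_mulVec_single, mul_one, mul_one] at h1
    have e1 : (Pi.single i (μ i) : Fin n → F) = μ i • Pi.single i 1 := by
      rw [← Pi.single_smul, smul_eq_mul, mul_one]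
    have e2 : (Pi.single j (μ j) : Fin n → F) = μ j • Pi.single j 1 := by
      rw [← Pi.single_smul, smul_eq_mul, mul_one]
    rw [e1, e2, hf'.bilinear.smul_left, hf'.bilinear.smul_right] at h1
    have h2 : (μ i * μ j - c) * f' (Pi.single i 1) (Pi.single j 1) = 0 := by
      rw [sub_mul, mul_assoc, h1, sub_self]
    rcases mul_eq_zero.mp h2 with h3 | h3
    · exact sub_eq_zero.mp h3
    · exact absurd h3 hij
  rw [Matrix.det_apply] at hdet
  obtain ⟨σ, -, hσ⟩ := Finset.exists_ne_zero_of_sum_ne_zero hdet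
  have hprod : ∏ i, G (σ i) i ≠ 0 := by
    intro h0
    apply hσ
    rw [h0, smul_zero]
  rw [Finset.prod_ne_zero_iff] at hprod
  refine ⟨σ, fun i => ⟨?_, hGij (σ i) i (hprod i (Finset.mem_univ i))⟩⟩
  intro hi
  have := hprod i (Finset.mem_univ i)
  rw [hi, hGii] at this
  exact this rfl

/-- In a finite field with `v₂(n) < v₂(q - 1)`, `-1` is an `n`-th power. -/
theorem exists_pow_eq_neg_one [Fintype F] {q : ℕ} (hq : Fintype.card F = q) (n : ℕ) (hn : n ≠ 0)
    (h : padicValNat 2 n < padicValNat 2 (q - 1)) : ∃ w : F, w ^ n = -1 := by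
  classical
  obtain ⟨a, n', hn'odd, hnn⟩ := Nat.exists_eq_two_pow_mul_odd hn
  have ha : padicValNat 2 n = a := by
    have : Fact (Nat.Prime 2) := ⟨Nat.prime_two⟩
    have hn'0 : n' ≠ 0 := by
      rintro rfl
      exact absurd hn'odd (by decide)
    rw [hnn, padicValNat.mul (pow_ne_zero _ two_ne_zero) hn'0, padicValNat.prime_pow,
      padicValNat.eq_zero_of_not_dvd (by
        intro hd
        have := Nat.odd_iff.mp hn'odd
        omega), add_zero]
  set b := padicValNat 2 (q - 1) with hb
  have hq1 : q - 1 ≠ 0 := by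
    intro h0
    rw [hb, h0] at h
    simp at h
  have hdvd : 2 ^ b ∣ q - 1 := pow_padicValNat_dvd
  obtain ⟨u, hu⟩ := hdvd
  have hu0 : 0 < u := by
    rcases Nat.eq_zero_or_pos u with h0 | h0
    · rw [h0, mul_zero] at hu
      exact absurd hu hq1
    · exact h0
  obtain ⟨g, hg⟩ := IsCyclic.exists_generator (α := Fˣ)
  have hord : orderOf g = q - 1 := by
    rw [orderOf_eq_card_of_forall_mem_zpowers hg, Nat.card_eq_fintype_card, Fintype.card_units, hq]
  have hab : a < b := ha ▸ h
  obtain ⟨e, he⟩ : ∃ e, b = a + 1 + e := ⟨b - a - 1, by omega⟩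
  -- the element of order two
  set ε : Fˣ := g ^ (u * 2 ^ (b - 1)) with hε
  have hε2 : ε ^ 2 = 1 := by
    rw [hε, ← pow_mul, mul_assoc, ← pow_succ, show b - 1 + 1 = b by omega, mul_comm, ← hu, ← hord]
    exact pow_orderOf_eq_one g
  have hε1 : ε ≠ 1 := by
    intro h1
    rw [hε] at h1
    have h2 := orderOf_dvd_of_pow_eq_one h1
    rw [hord, hu] at h2
    have h3 : 2 ^ b = 2 * 2 ^ (b - 1) := by
      rw [← pow_succ', show b - 1 + 1 = b by omega]
    rw [h3] at h2
    have h4 : 0 < u * 2 ^ (b - 1) := Nat.mul_pos hu0 (pow_pos (by norm_num) _)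
    have := Nat.le_of_dvd h4 h2
    nlinarith
  have hεF : (ε : F) = -1 := by
    have h1 : (ε : F) ^ 2 = 1 := by
      rw [← Units.val_pow_eq_pow_val, hε2, Units.val_one]
    have h2 : ((ε : F) - 1) * ((ε : F) + 1) = 0 := by ring_nf; rw [h1]; ring
    rcases mul_eq_zero.mp h2 with h3 | h3
    · exfalso
      apply hε1
      apply Units.ext
      rw [Units.val_one]
      exact sub_eq_zero.mp h3
    · exact eq_neg_of_add_eq_zero_left h3
  refine ⟨((g ^ (u * 2 ^ e) : Fˣ) : F), ?_⟩
  rw [← Units.val_pow_eq_pow_val, ← pow_mul]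
  have h5 : u * 2 ^ e * n = u * 2 ^ (b - 1) * n' := by
    rw [hnn, he, show a + 1 + e - 1 = e + a by omega, pow_add]
    ring
  rw [h5, pow_mul, ← hε, Units.val_pow_eq_pow_val, hεF, Odd.neg_one_pow hn'odd]

/-- The scalar multiple of a reflection-like diagonal matrix which is a similarity of no
symplectic form. -/
theorem diag_not_sim (hn : 3 ≤ n) (h2 : (2 : F) ≠ 0) (w : F) (hw : w ≠ 0)
    (f' : (Fin n → F) → (Fin n → F) → F) (hf' : IsSymplecticForm f') (c : F) :
    ¬ SimWith f' (Matrix.diagonal (fun i : Fin n => if i.val = 0 then -w else w)) c := by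
  intro h
  obtain ⟨σ, hσ⟩ := exists_perm_of_simWith_diagonal' hf' _ c h
  set i0 : Fin n := ⟨0, by omega⟩ with hi0
  set i1 : Fin n := ⟨1, by omega⟩ with hi1
  set i2 : Fin n := ⟨2, by omega⟩ with hi2
  have h0 := hσ i0
  have hσ0 : (σ i0).val ≠ 0 := by
    intro h1
    apply h0.1
    apply Fin.ext
    exact h1
  have hc : c = -(w * w) := by
    have := h0.2
    have e1 : (if (σ i0).val = 0 then -w else w) = w := if_neg hσ0
    have e2 : (if i0.val = 0 then -w else w) = -w := if_pos rfl
    rw [e1, e2] at this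
    rw [← this]
    ring
  -- an index `i ≠ 0` with `σ i ≠ 0`
  have key : ∀ i : Fin n, i.val ≠ 0 → (σ i).val ≠ 0 → False := by
    intro i hi hσi
    have := (hσ i).2
    have e1 : (if (σ i).val = 0 then -w else w) = w := if_neg hσi
    have e2 : (if i.val = 0 then -w else w) = w := if_neg hi
    rw [e1, e2] at this
    rw [hc] at this
    have h3 : (2 : F) * (w * w) = 0 := by linear_combination this
    rcases mul_eq_zero.mp h3 with h4 | h4
    · exact h2 h4
    · exact hw (mul_self_eq_zero.mp h4)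
  by_cases h1 : (σ i1).val = 0
  · apply key i2 (by simp [hi2])
    intro h3
    have : σ i1 = σ i2 := Fin.ext (h1.trans h3.symm)
    have := σ.injective this
    simp [hi1, hi2, Fin.ext_iff] at this
  · exact key i1 (by simp [hi1]) h1

/-- An involution of `PSL_n(q)` with no conjugate in the similarity group of a symplectic form,
when `v₂(n) < v₂(q - 1)`. -/
theorem exists_invol_not_sim [Fintype F] {q : ℕ} (hq : Fintype.card F = q) (hn : 3 ≤ n)
    (h : padicValNat 2 n < padicValNat 2 (q - 1)) :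
    ∃ x : Matrix.SpecialLinearGroup (Fin n) F,
      (∃ z : F, ((x ^ 2 : Matrix.SpecialLinearGroup (Fin n) F) : Matrix (Fin n) (Fin n) F)
        = z • (1 : Matrix (Fin n) (Fin n) F)) ∧
      (∀ z : F, (x : Matrix (Fin n) (Fin n) F) ≠ z • (1 : Matrix (Fin n) (Fin n) F)) ∧
      ∀ f' : (Fin n → F) → (Fin n → F) → F, IsSymplecticForm f' → ∀ c : F,
        ¬ SimWith f' (x : Matrix (Fin n) (Fin n) F) c := by
  classical
  -- `q` is odd
  have h2 : (2 : F) ≠ 0 := by
    intro h0
    have hb : 1 ≤ padicValNat 2 (q - 1) := by omega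
    have hdvd : 2 ∣ q - 1 := by
      have := pow_padicValNat_dvd (p := 2) (n := q - 1)
      exact (pow_dvd_pow 2 hb).trans this |> fun h => by simpa using h
    have hq2 : 2 ∣ q := by
      have hc : ringChar F = 2 := by
        have : CharP F 2 := CharTwo.of_one_ne_zero_of_two_eq_zero one_ne_zero h0
        exact ringChar.eq F 2
      obtain ⟨k, hk⟩ := FiniteField.card F (ringChar F)
      rw [← hq, hk.2, hc]
      exact dvd_pow_self 2 k.ne_zero
    have hq1 : 1 ≤ q := by rw [← hq]; exact Fintype.card_pos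
    omega
  obtain ⟨w, hw⟩ := exists_pow_eq_neg_one hq n (by omega) h
  have hw0 : w ≠ 0 := by
    rintro rfl
    rw [zero_pow (by omega)] at hw
    have : (1 : F) = 0 := by linear_combination hw
    exact one_ne_zero this
  set μ : Fin n → F := fun i => if i.val = 0 then -w else w with hμ
  have hdet : (Matrix.diagonal μ).det = 1 := by
    rw [Matrix.det_diagonal]
    obtain ⟨k, rfl⟩ : ∃ k, n = k + 1 := ⟨n - 1, by omega⟩
    rw [Fin.prod_univ_succ]
    have h1 : ∀ i : Fin k, μ i.succ = w := by
      intro i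
      simp [hμ]
    simp only [h1, Finset.prod_const, Finset.card_univ, Fintype.card_fin]
    have h3 : μ 0 = -w := by simp [hμ]
    rw [h3]
    have : -w * w ^ k = -(w ^ (k + 1)) := by ring
    rw [this, hw, neg_neg]
  obtain ⟨x, hx⟩ : ∃ x : Matrix.SpecialLinearGroup (Fin n) F,
      (x : Matrix (Fin n) (Fin n) F) = Matrix.diagonal μ := ⟨⟨_, hdet⟩, rfl⟩
  refine ⟨x, ⟨w * w, ?_⟩, ?_, ?_⟩
  · rw [Matrix.SpecialLinearGroup.coe_pow, hx]
    rw [pow_two, Matrix.diagonal_mul_diagonal, ← Matrix.diagonal_one, ← Matrix.diagonal_smul]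
    congr 1
    ext i
    simp only [hμ, Pi.smul_apply, smul_eq_mul, mul_one]
    split_ifs <;> ring
  · intro z hz
    have hz' : Matrix.diagonal μ = z • (1 : Matrix (Fin n) (Fin n) F) := hx ▸ hz
    have e0 := congrFun (congrFun hz' ⟨0, by omega⟩) ⟨0, by omega⟩
    have e1 := congrFun (congrFun hz' ⟨1, by omega⟩) ⟨1, by omega⟩
    simp [hμ] at e0 e1
    have : (2 : F) * w = 0 := by linear_combination e1 - e0
    rcases mul_eq_zero.mp this with h4 | h4
    · exact h2 h4
    · exact hw0 h4
  · intro f' hf' c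
    rw [hx]
    exact diag_not_sim hn h2 w hw0 f' hf' c

end Cfsg.Agent.Helper43.SpDer
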