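import Mathlib
import Cfsg.Agent.Helper43.SpTwoA
import Cfsg.Agent.S2569

set_option autoImplicit false

/-!
# Involutions of `PSL_n(q)` and symplectic-type subgroups: conjugating into the similarity group
-/

namespace Cfsg.Agent.Helper43.SpDer

open Matrix Cfsg.Geo
open Cfsg.Agent.Helper45.SpInSL

universe u

variable {F : Type u} [Field F] {n m : ℕ}

theorem embMat_smul (φ : (Fin n → F) ≃ₗ[F] (Fin m ⊕ Fin m → F)) (a : F)
    (A : Matrix (Fin m ⊕ Fin m) (Fin m ⊕ Fin m) F) : embMat φ (a • A) = a • embMat φ A := by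
  apply Matrix.toLin'.injective
  apply LinearMap.ext
  intro v
  rw [Matrix.toLin'_apply, Matrix.toLin'_apply, embMat_mulVec, Matrix.smul_mulVec,
    Matrix.smul_mulVec, embMat_mulVec, map_smul]

theorem embMat_sub (φ : (Fin n → F) ≃ₗ[F] (Fin m ⊕ Fin m → F))
    (A B : Matrix (Fin m ⊕ Fin m) (Fin m ⊕ Fin m) F) :
    embMat φ (A - B) = embMat φ A - embMat φ B := by
  apply Matrix.toLin'.injective
  apply LinearMap.ext
  intro v
  rw [Matrix.toLin'_apply, Matrix.toLin'_apply, embMat_mulVec, Matrix.sub_mulVec,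
    Matrix.sub_mulVec, embMat_mulVec, embMat_mulVec, map_sub]

theorem rank_embMat (φ : (Fin n → F) ≃ₗ[F] (Fin m ⊕ Fin m → F))
    (A : Matrix (Fin m ⊕ Fin m) (Fin m ⊕ Fin m) F) : (embMat φ A).rank = A.rank := by
  unfold Matrix.rank
  have h1 : LinearMap.range (embMat φ A).mulVecLin
      = (LinearMap.range A.mulVecLin).map φ.symm.toLinearMap := by
    ext y
    constructor
    · rintro ⟨v, rfl⟩
      refine ⟨A *ᵥ φ v, ⟨φ v, rfl⟩, ?_⟩
      rw [Matrix.mulVecLin_apply, embMat_mulVec]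
      rfl
    · rintro ⟨_, ⟨v, rfl⟩, rfl⟩
      refine ⟨φ.symm v, ?_⟩
      rw [Matrix.mulVecLin_apply, embMat_mulVec, LinearEquiv.apply_symm_apply]
      rfl
  rw [h1]
  exact LinearEquiv.finrank_map_eq φ.symm _

/-- transport of similarities of the standard form. -/
theorem simWith_embMat {f : (Fin n → F) → (Fin n → F) → F}
    (φ : (Fin n → F) ≃ₗ[F] (Fin m ⊕ Fin m → F))
    (hφ : ∀ u v, Cfsg.sympForm m F (φ u) (φ v) = f u v)
    (Y : Matrix (Fin m ⊕ Fin m) (Fin m ⊕ Fin m) F) (c : F)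
    (hY : ∀ u v, Cfsg.sympForm m F (Y *ᵥ u) (Y *ᵥ v) = c * Cfsg.sympForm m F u v) :
    SimWith f (embMat φ Y) c := by
  intro u v
  rw [embMat_mulVec, embMat_mulVec, ← hφ, LinearEquiv.apply_symm_apply,
    LinearEquiv.apply_symm_apply, hY, hφ]

/-- similarities of the standard form from the matrix identity. -/
theorem sympForm_sim_of_eq (Y : Matrix (Fin m ⊕ Fin m) (Fin m ⊕ Fin m) F) (c : F)
    (h : Yᵀ * Matrix.J (Fin m) F * Y = c • Matrix.J (Fin m) F) (u v : Fin m ⊕ Fin m → F) :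
    Cfsg.sympForm m F (Y *ᵥ u) (Y *ᵥ v) = c * Cfsg.sympForm m F u v := by
  rw [Cfsg.Agent.Helper13.sympForm_mulVec, h, Matrix.smul_mulVec, dotProduct_smul, smul_eq_mul,
    Cfsg.Agent.Helper13.sympForm_def]

/-- a scalar multiple of a symplectic matrix is a similarity. -/
theorem sympForm_sim_smul (w : F) (D : Matrix (Fin m ⊕ Fin m) (Fin m ⊕ Fin m) F)
    (hD : D ∈ Matrix.symplecticGroup (Fin m) F) (u v : Fin m ⊕ Fin m → F) :
    Cfsg.sympForm m F ((w • D) *ᵥ u) ((w • D) *ᵥ v) = (w * w) * Cfsg.sympForm m F u v := by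
  rw [Matrix.smul_mulVec, Matrix.smul_mulVec, Cfsg.Agent.Helper13.sympForm_smul_left,
    Cfsg.Agent.Helper13.sympForm_smul_right,
    (Cfsg.Agent.Helper13.mem_symplecticGroup_iff_preserves D).mp hD, mul_assoc]

/-- wrap-up: a conjugating matrix of determinant one. -/
theorem good_of_conj {f : (Fin n → F) → (Fin n → F) → F}
    (x : Matrix.SpecialLinearGroup (Fin n) F) (A B : Matrix (Fin n) (Fin n) F) (hAB : A * B = 1)
    (hdet : A.det = 1) (c : Fˣ) (hsim : SimWith f (A * (x : Matrix (Fin n) (Fin n) F) * B) c) :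
    ∃ P : Matrix.SpecialLinearGroup (Fin n) F, P⁻¹ * x * P ∈ ((similarityGroup f).comap
      (Matrix.SpecialLinearGroup.toGL : Matrix.SpecialLinearGroup (Fin n) F →* GL (Fin n) F)) := by
  have hBA : B * A = 1 := mul_eq_one_comm.mp hAB
  have hdetB : B.det = 1 := by
    have := congrArg Matrix.det hAB
    rw [Matrix.det_mul, hdet, one_mul, Matrix.det_one] at this
    exact this
  obtain ⟨P, hP⟩ : ∃ P : Matrix.SpecialLinearGroup (Fin n) F,
      (P : Matrix (Fin n) (Fin n) F) = B := ⟨⟨B, hdetB⟩, rfl⟩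
  have hPinv : ((P⁻¹ : Matrix.SpecialLinearGroup (Fin n) F) : Matrix (Fin n) (Fin n) F) = A := by
    have h1 : ((P⁻¹ : Matrix.SpecialLinearGroup (Fin n) F) : Matrix (Fin n) (Fin n) F)
        * (P : Matrix (Fin n) (Fin n) F) = 1 := by
      rw [← Matrix.SpecialLinearGroup.coe_mul, inv_mul_cancel]; rfl
    rw [hP] at h1
    calc ((P⁻¹ : Matrix.SpecialLinearGroup (Fin n) F) : Matrix (Fin n) (Fin n) F)
        = ((P⁻¹ : Matrix.SpecialLinearGroup (Fin n) F) : Matrix (Fin n) (Fin n) F) * (B * A) := by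
          rw [hBA, Matrix.mul_one]
      _ = A := by rw [← Matrix.mul_assoc, h1, Matrix.one_mul]
  refine ⟨P, ?_⟩
  rw [Subgroup.mem_comap, mem_similarityGroup_iff]
  refine ⟨c, ?_⟩
  have h2 : ((Matrix.SpecialLinearGroup.toGL (P⁻¹ * x * P) : GL (Fin n) F) :
      Matrix (Fin n) (Fin n) F) = A * (x : Matrix (Fin n) (Fin n) F) * B := by
    show ((P⁻¹ * x * P : Matrix.SpecialLinearGroup (Fin n) F) : Matrix (Fin n) (Fin n) F) = _
    rw [Matrix.SpecialLinearGroup.coe_mul, Matrix.SpecialLinearGroup.coe_mul, hPinv, hP]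
  rw [h2]
  exact hsim

/-- wrap-up in odd characteristic: conjugacy in `GL_n` suffices. -/
theorem good_of_conj_odd [Fintype F] (p : ℕ) [Fact p.Prime] [CharP F p] (hp2 : p ≠ 2)
    (hn : 0 < n) {f : (Fin n → F) → (Fin n → F) → F}
    (x : Matrix.SpecialLinearGroup (Fin n) F) (z : F)
    (hz : (x : Matrix (Fin n) (Fin n) F) * (x : Matrix (Fin n) (Fin n) F)
      = z • (1 : Matrix (Fin n) (Fin n) F))
    (Y₀ : Matrix (Fin n) (Fin n) F) (c : Fˣ) (hsim : SimWith f Y₀ c) (g : GL (Fin n) F)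
    (hg : (g : Matrix (Fin n) (Fin n) F) * (x : Matrix (Fin n) (Fin n) F)
      = Y₀ * (g : Matrix (Fin n) (Fin n) F)) :
    ∃ P : Matrix.SpecialLinearGroup (Fin n) F, P⁻¹ * x * P ∈ ((similarityGroup f).comap
      (Matrix.SpecialLinearGroup.toGL : Matrix.SpecialLinearGroup (Fin n) F →* GL (Fin n) F)) := by
  classical
  have hp : p.Prime := Fact.out
  set x' : GL (Fin n) F := Matrix.SpecialLinearGroup.toGL x with hx'
  have hx'c : (x' : Matrix (Fin n) (Fin n) F) = (x : Matrix (Fin n) (Fin n) F) := rfl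
  -- the order of `x` is prime to `p`
  have hz0 : z ≠ 0 := by
    rintro rfl
    have := congrArg Matrix.det hz
    rw [Matrix.det_mul, x.2, zero_smul, one_mul] at this
    have hne : Nonempty (Fin n) := ⟨⟨0, hn⟩⟩
    rw [Matrix.det_zero] at this
    exact one_ne_zero this
  have hpow : x' ^ (2 * (Fintype.card F - 1)) = 1 := by
    apply Units.ext
    rw [Units.val_pow_eq_pow_val, hx'c, pow_mul, pow_two, hz, smul_pow, one_pow,
      FiniteField.pow_card_sub_one_eq_one z hz0, one_smul]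
    rfl
  have hcop : (orderOf x').Coprime p := by
    have hdvd := orderOf_dvd_of_pow_eq_one hpow
    apply Nat.Coprime.coprime_dvd_left hdvd
    rw [Nat.coprime_comm, Nat.Prime.coprime_iff_not_dvd hp]
    intro hd
    rcases (Nat.Prime.dvd_mul hp).mp hd with h1 | h1
    · exact hp2 ((Nat.prime_dvd_prime_iff_eq hp Nat.prime_two).mp h1)
    · obtain ⟨k, -, hk⟩ := FiniteField.card F p
      have h2 : p ∣ Fintype.card F := by
        rw [hk]
        exact dvd_pow_self p k.ne_zero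
      have h3 : 1 ≤ Fintype.card F := Fintype.card_pos
      have h4 : p ∣ 1 := by
        have := (Nat.dvd_sub h2 h1)
        rwa [Nat.sub_sub_self h3] at this
      exact hp.one_lt.ne' (Nat.dvd_one.mp h4)
  obtain ⟨h, hdet, hh⟩ := Cfsg.Agent.S2569.result (p := p) x' g hcop
  have hmat : (h : Matrix (Fin n) (Fin n) F) * (x : Matrix (Fin n) (Fin n) F)
      * ((h⁻¹ : GL (Fin n) F) : Matrix (Fin n) (Fin n) F) = Y₀ := by
    have h1 := congrArg (fun y : GL (Fin n) F => (y : Matrix (Fin n) (Fin n) F)) hh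
    simp only [Units.val_mul] at h1
    rw [hx'c] at h1
    rw [h1, hg, Matrix.mul_assoc]
    have : (g : Matrix (Fin n) (Fin n) F) * ((g⁻¹ : GL (Fin n) F) : Matrix (Fin n) (Fin n) F)
        = 1 := by
      rw [← Units.val_mul, mul_inv_cancel]; rfl
    rw [this, Matrix.mul_one]
  apply good_of_conj x (h : Matrix (Fin n) (Fin n) F)
    ((h⁻¹ : GL (Fin n) F) : Matrix (Fin n) (Fin n) F) ?_ hdet c
  · rw [hmat]
    exact hsim
  · rw [← Units.val_mul, mul_inv_cancel]; rfl

end Cfsg.Agent.Helper43.SpDer
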