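import Mathlib
import Cfsg.Agent.Helper43.SpTwoB
import Cfsg.Agent.Helper43.PGLInvRep

set_option autoImplicit false

/-!
# Involutions of `PSL_n(q)`, `q` odd, are conjugate into the symplectic similarity group
-/

namespace Cfsg.Agent.Helper43.SpDer

open Matrix Cfsg.Geo
open Cfsg.Agent.Helper45.SpInSL Cfsg.Agent.Helper43.PGLInv

universe u

variable {F : Type u} [Field F] {n m : ℕ}

theorem odd_card_of_char_ne_two [Fintype F] (p : ℕ) [Fact p.Prime] [CharP F p] (hp2 : p ≠ 2) :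
    Odd (Fintype.card F) := by
  have hp : p.Prime := Fact.out
  obtain ⟨k, -, hk⟩ := FiniteField.card F p
  rw [hk]
  exact (hp.odd_of_ne_two hp2).pow

theorem scalar_eq_smul_one (z : F) : Matrix.scalar (Fin n) z = z • (1 : Matrix (Fin n) (Fin n) F) := by
  rw [Matrix.smul_one_eq_diagonal]
  rfl

/-- the standard element squaring to the scalar `z`. -/
def Ysq (m : ℕ) (z : F) : Matrix (Fin m ⊕ Fin m) (Fin m ⊕ Fin m) F :=
  fromBlocks 0 (z • 1) 1 0

theorem Ysq_mul_self (z : F) : Ysq m z * Ysq m z = z • 1 := by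
  unfold Ysq
  rw [fromBlocks_multiply]
  simp only [Matrix.zero_mul, Matrix.mul_zero, Matrix.mul_one, Matrix.one_mul, zero_add, add_zero]
  rw [← fromBlocks_one, fromBlocks_smul, smul_zero]

theorem Ysq_J (z : F) : (Ysq m z)ᵀ * Matrix.J (Fin m) F * Ysq m z = (-z) • Matrix.J (Fin m) F := by
  unfold Ysq Matrix.J
  rw [fromBlocks_transpose, fromBlocks_multiply, fromBlocks_multiply, fromBlocks_smul]
  simp only [Matrix.transpose_zero, Matrix.transpose_one, Matrix.transpose_smul, Matrix.zero_mul,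
    Matrix.mul_zero, Matrix.mul_one, Matrix.one_mul, zero_add, add_zero, smul_zero, Matrix.mul_neg,
    smul_neg, neg_smul, neg_neg, neg_zero]

/-- The case of a non-square scalar. -/
theorem good_nonsquare [Fintype F] (p : ℕ) [Fact p.Prime] [CharP F p] (hp2 : p ≠ 2)
    (hn : 0 < n) (hnm : n = m + m) {f : (Fin n → F) → (Fin n → F) → F}
    (hf : IsSymplecticForm f) (x : Matrix.SpecialLinearGroup (Fin n) F) (z : F)
    (hz : (x : Matrix (Fin n) (Fin n) F) * (x : Matrix (Fin n) (Fin n) F)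
      = z • (1 : Matrix (Fin n) (Fin n) F)) (hzns : ¬ IsSquare z) :
    ∃ P : Matrix.SpecialLinearGroup (Fin n) F, P⁻¹ * x * P ∈ ((similarityGroup f).comap
      (Matrix.SpecialLinearGroup.toGL : Matrix.SpecialLinearGroup (Fin n) F →* GL (Fin n) F)) := by
  classical
  obtain ⟨φ, hφ⟩ := exists_std_isometry hf hnm
  have hodd := odd_card_of_char_ne_two (F := F) p hp2
  have hz0 : z ≠ 0 := by
    rintro rfl
    exact hzns ⟨0, by simp⟩
  set zu : Fˣ := Units.mk0 z hz0 with hzu
  set Y₀ : Matrix (Fin n) (Fin n) F := embMat φ (Ysq m z) with hY₀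
  have hYY : Y₀ * Y₀ = z • 1 := by
    rw [hY₀, ← embMat_mul, Ysq_mul_self, embMat_smul, embMat_one]
  have hYinv : Y₀ * (z⁻¹ • Y₀) = 1 := by
    rw [Matrix.mul_smul, hYY, smul_smul, inv_mul_cancel₀ hz0, one_smul]
  have hYinv' : (z⁻¹ • Y₀) * Y₀ = 1 := by
    rw [Matrix.smul_mul, hYY, smul_smul, inv_mul_cancel₀ hz0, one_smul]
  set y' : GL (Fin n) F := ⟨Y₀, z⁻¹ • Y₀, hYinv, hYinv'⟩ with hy'
  set x' : GL (Fin n) F := Matrix.SpecialLinearGroup.toGL x with hx'
  have hxx : x' * x' = sc n zu := by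
    apply Units.ext
    rw [Units.val_mul, Matrix.GeneralLinearGroup.coe_scalar, scalar_eq_smul_one]
    exact hz
  have hyy : y' * y' = sc n zu := by
    apply Units.ext
    rw [Units.val_mul, Matrix.GeneralLinearGroup.coe_scalar, scalar_eq_smul_one]
    exact hYY
  have hconj := isConj_of_sq_nonsquare hodd x' y' zu hzns hxx hyy
  obtain ⟨g, hg⟩ := isConj_iff.mp hconj
  have hg' : (g : Matrix (Fin n) (Fin n) F) * (x : Matrix (Fin n) (Fin n) F)
      = Y₀ * (g : Matrix (Fin n) (Fin n) F) := by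
    have h1 : g * x' = y' * g := by rw [← hg]; group
    exact congrArg (fun y : GL (Fin n) F => (y : Matrix (Fin n) (Fin n) F)) h1
  exact good_of_conj_odd p hp2 hn x z hz Y₀ (-zu)
    (simWith_embMat φ hφ (Ysq m z) (-z) (sympForm_sim_of_eq _ _ (Ysq_J z))) g hg'

end Cfsg.Agent.Helper43.SpDer
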