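import Mathlib
import Cfsg.Agent.Helper43.SpTwoC
import Cfsg.Agent.Helper43.OrthInvE

set_option autoImplicit false

/-!
# Involutions of `PSL_n(q)`, `q` odd, with square scalar: conjugating into the symplectic
similarity group
-/

namespace Cfsg.Agent.Helper43.SpDer

open Matrix Cfsg.Geo
open Cfsg.Agent.Helper45.SpInSL Cfsg.Agent.Helper43.PGLInv

universe u

variable {F : Type u} [Field F] {n m : ℕ}

theorem padicValNat_two_pow_mul_odd (a n' : ℕ) (h : Odd n') : padicValNat 2 (2 ^ a * n') = a := by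
  have : Fact (Nat.Prime 2) := ⟨Nat.prime_two⟩
  have hn'0 : n' ≠ 0 := by
    rintro rfl
    exact absurd h (by decide)
  rw [padicValNat.mul (pow_ne_zero _ two_ne_zero) hn'0, padicValNat.prime_pow,
    padicValNat.eq_zero_of_not_dvd (by
      intro hd
      have := Nat.odd_iff.mp h
      omega), add_zero]

/-- `-1` is not an `n`-th power when `v₂(q - 1) ≤ v₂(n)`. -/
theorem pow_ne_neg_one [Fintype F] {q : ℕ} (hq : Fintype.card F = q) (h2 : (2 : F) ≠ 0) (n : ℕ)
    (hn : n ≠ 0) (hv : padicValNat 2 (q - 1) ≤ padicValNat 2 n) (w : F) (hw : w ≠ 0) :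
    w ^ n ≠ -1 := by
  intro hwn
  have hq2 : 2 ≤ q := by rw [← hq]; exact Fintype.one_lt_card
  have hq1 : q - 1 ≠ 0 := by omega
  obtain ⟨b, u₀, hu₀, hqu⟩ := Nat.exists_eq_two_pow_mul_odd hq1
  have hb : padicValNat 2 (q - 1) = b := by rw [hqu, padicValNat_two_pow_mul_odd b u₀ hu₀]
  have hdvd : 2 ^ b ∣ n := by
    have h1 : 2 ^ padicValNat 2 n ∣ n := pow_padicValNat_dvd
    exact (pow_dvd_pow 2 (hb ▸ hv)).trans h1
  obtain ⟨t, ht⟩ := hdvd
  have h3 : (w ^ n) ^ u₀ = 1 := by
    rw [← pow_mul, ht, show 2 ^ b * t * u₀ = (2 ^ b * u₀) * t by ring, ← hqu, pow_mul, ← hq,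
      FiniteField.pow_card_sub_one_eq_one w hw, one_pow]
  rw [hwn, Odd.neg_one_pow hu₀] at h3
  have : (2 : F) = 0 := by linear_combination -h3
  exact h2 this

/-- the determinant of an involution. -/
theorem det_invol (h2 : (2 : F) ≠ 0) (u : Matrix (Fin n) (Fin n) F) (hu : u * u = 1) :
    u.det = (-1) ^ (u - 1).rank := by
  classical
  set k := (u - 1).rank with hk
  have hkn : k ≤ n := by
    have := Matrix.rank_le_card_width (u - 1)
    rwa [Fintype.card_fin] at this
  set uGL : GL (Fin n) F := ⟨u, u, hu, hu⟩ with huGL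
  have hconj := Cfsg.Agent.Helper43.Inv.isConj_of_invol h2 uGL (dGL n k F) hu (dmat_mul_self k)
    (by rw [show ((dGL n k F : GL (Fin n) F) : Matrix (Fin n) (Fin n) F) = dmat n k F from rfl,
      rank_dmat_sub_one h2 k hkn])
  obtain ⟨c, hc⟩ := isConj_iff.mp hconj
  have h1 : c * uGL = dGL n k F * c := by rw [← hc]; group
  have h3 := congrArg (fun y : GL (Fin n) F => (y : Matrix (Fin n) (Fin n) F).det) h1
  simp only [Units.val_mul, Matrix.det_mul] at h3
  have hcdet : (c : Matrix (Fin n) (Fin n) F).det ≠ 0 :=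
    ((Matrix.isUnit_iff_isUnit_det _).mp ⟨c, rfl⟩).ne_zero
  have h4 : u.det = (dmat n k F).det := by
    have : (c : Matrix (Fin n) (Fin n) F).det * u.det
        = (c : Matrix (Fin n) (Fin n) F).det * (dmat n k F).det := by
      rw [mul_comm _ (dmat n k F).det]
      exact h3
    exact mul_left_cancel₀ hcdet this
  rw [h4]
  unfold dmat
  rw [Matrix.det_diagonal, Finset.prod_ite, Finset.prod_const, Finset.prod_const_one, mul_one,
    Fin.card_filter_val_lt, min_eq_right hkn]

/-- The case of a square scalar, `q` odd. -/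
theorem good_square_odd [Fintype F] (p : ℕ) [Fact p.Prime] [CharP F p] (hp2 : p ≠ 2) {q : ℕ}
    (hq : Fintype.card F = q) (hn : 0 < n) (hnm : n = m + m)
    {f : (Fin n → F) → (Fin n → F) → F} (hf : IsSymplecticForm f)
    (hv : padicValNat 2 (q - 1) ≤ padicValNat 2 n)
    (x : Matrix.SpecialLinearGroup (Fin n) F) (w : F) (hw : w ≠ 0)
    (hz : (x : Matrix (Fin n) (Fin n) F) * (x : Matrix (Fin n) (Fin n) F)
      = (w * w) • (1 : Matrix (Fin n) (Fin n) F)) :
    ∃ P : Matrix.SpecialLinearGroup (Fin n) F, P⁻¹ * x * P ∈ ((similarityGroup f).comap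
      (Matrix.SpecialLinearGroup.toGL : Matrix.SpecialLinearGroup (Fin n) F →* GL (Fin n) F)) := by
  classical
  obtain ⟨φ, hφ⟩ := exists_std_isometry hf hnm
  have hodd := odd_card_of_char_ne_two (F := F) p hp2
  have h2 : (2 : F) ≠ 0 := two_ne_zero_of_odd hodd
  set u : Matrix (Fin n) (Fin n) F := w⁻¹ • (x : Matrix (Fin n) (Fin n) F) with hu
  have huu : u * u = 1 := by
    rw [hu, Matrix.smul_mul, Matrix.mul_smul, hz, smul_smul, smul_smul]
    have : w⁻¹ * w⁻¹ * (w * w) = 1 := by field_simp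
    rw [this, one_smul]
  have hxu : (x : Matrix (Fin n) (Fin n) F) = w • u := by
    rw [hu, smul_smul, mul_inv_cancel₀ hw, one_smul]
  set k := (u - 1).rank with hk
  have hkn : k ≤ n := by
    have := Matrix.rank_le_card_width (u - 1)
    rwa [Fintype.card_fin] at this
  have hdet : w ^ n * (-1) ^ k = 1 := by
    have h1 := x.2
    rw [hxu, Matrix.det_smul, Fintype.card_fin, det_invol h2 u huu] at h1
    exact h1
  have hkeven : Even k := by
    by_contra hne
    rw [Nat.not_even_iff_odd] at hne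
    rw [Odd.neg_one_pow hne] at hdet
    apply pow_ne_neg_one hq h2 n (by omega) hv w hw
    linear_combination -hdet
  obtain ⟨j, hj⟩ := hkeven
  have hjm : j ≤ m := by omega
  set D : Matrix (Fin m ⊕ Fin m) (Fin m ⊕ Fin m) F :=
    fromBlocks (dmat m j F) 0 0 (dmat m j F) with hD
  have hDt : (dmat m j F)ᵀ = dmat m j F := by
    unfold dmat
    rw [Matrix.diagonal_transpose]
  have hDmem : D ∈ Matrix.symplecticGroup (Fin m) F := by
    rw [hD, SymplecticGroup.fromBlocks_mem_iff]
    refine ⟨by simp, by simp, ?_⟩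
    rw [hDt, dmat_mul_self, Matrix.transpose_zero, Matrix.zero_mul, sub_zero]
  have hDD : D * D = 1 := by
    rw [hD, fromBlocks_multiply]
    simp only [Matrix.zero_mul, Matrix.mul_zero, add_zero, zero_add, dmat_mul_self]
    exact fromBlocks_one
  have hDrank : (D - 1).rank = k := by
    have h1 : D - 1 = fromBlocks (dmat m j F - 1) 0 0 (dmat m j F - 1) := by
      rw [hD]
      ext a b
      rcases a with a | a <;> rcases b with b | b <;> simp [Matrix.one_apply]
    rw [h1, Cfsg.Agent.Helper43.OrthInv.rank_fromBlocks_diag, rank_dmat_sub_one h2 j hjm, hj]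
  set D₀ : Matrix (Fin n) (Fin n) F := embMat φ D with hD₀
  have hD₀D₀ : D₀ * D₀ = 1 := by
    rw [hD₀, ← embMat_mul, hDD, embMat_one]
  have hD₀rank : (D₀ - 1).rank = k := by
    rw [hD₀, ← embMat_one φ, ← embMat_sub, rank_embMat, hDrank]
  set uGL : GL (Fin n) F := ⟨u, u, huu, huu⟩ with huGL
  set dGL₀ : GL (Fin n) F := ⟨D₀, D₀, hD₀D₀, hD₀D₀⟩ with hdGL₀
  have hconj := Cfsg.Agent.Helper43.Inv.isConj_of_invol h2 uGL dGL₀ huu hD₀D₀ (by
    show (u - 1).rank = (D₀ - 1).rank
    rw [hD₀rank])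
  obtain ⟨g, hg⟩ := isConj_iff.mp hconj
  have hg1 : (g : Matrix (Fin n) (Fin n) F) * u = D₀ * (g : Matrix (Fin n) (Fin n) F) := by
    have h1 : g * uGL = dGL₀ * g := by rw [← hg]; group
    exact congrArg (fun y : GL (Fin n) F => (y : Matrix (Fin n) (Fin n) F)) h1
  have hg' : (g : Matrix (Fin n) (Fin n) F) * (x : Matrix (Fin n) (Fin n) F)
      = embMat φ (w • D) * (g : Matrix (Fin n) (Fin n) F) := by
    rw [hxu, Matrix.mul_smul, hg1, embMat_smul, Matrix.smul_mul]
  exact good_of_conj_odd p hp2 hn x (w * w) hz (embMat φ (w • D))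
    (Units.mk0 (w * w) (mul_ne_zero hw hw))
    (simWith_embMat φ hφ (w • D) (w * w) (sympForm_sim_smul w D hDmem)) g hg'

end Cfsg.Agent.Helper43.SpDer
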