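import Mathlib
import Cfsg.Agent.Helper43.SpTwoB
import Cfsg.Agent.Helper43.SpInvB
import Cfsg.Agent.Helper43.JTKer
import Cfsg.Agent.Helper43.PGLInv
import Cfsg.Agent.S2166

set_option autoImplicit false

/-!
# Involutions of `PSL_n(q)`, `q` even: conjugating into the symplectic similarity group
-/

namespace Cfsg.Agent.Helper43.SpDer

open Matrix Cfsg.Geo Module
open Cfsg.Agent.Helper45.SpInSL Cfsg.Agent.Helper43.SpInv

universe u

variable {F : Type u} [Field F] {n m : ℕ}

/-- square-zero endomorphisms of the same rank are conjugate. -/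
theorem exists_equiv_of_sq_zero {V : Type*} [AddCommGroup V] [Module F V] [FiniteDimensional F V]
    (N N' : Module.End F V) (hN : N * N = 0) (hN' : N' * N' = 0)
    (hr : finrank F (LinearMap.range N) = finrank F (LinearMap.range N')) :
    ∃ e : V ≃ₗ[F] V, ∀ x, e (N x) = N' (e x) := by
  apply Cfsg.Agent.Helper43.JT.exists_equiv_of_kdim_eq N N' ⟨2, by rw [pow_two, hN]⟩
    ⟨2, by rw [pow_two, hN']⟩
  intro l
  rcases l with _ | _ | l
  · unfold Cfsg.Agent.Helper43.JT.kdim
    rw [pow_zero, pow_zero]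
  · unfold Cfsg.Agent.Helper43.JT.kdim
    rw [pow_one, pow_one]
    have h1 := LinearMap.finrank_range_add_finrank_ker N
    have h2 := LinearMap.finrank_range_add_finrank_ker N'
    omega
  · have h1 : N ^ (l + 1 + 1) = 0 := by
      rw [show l + 1 + 1 = l + 2 by ring, pow_add, pow_two, hN, mul_zero]
    have h2 : N' ^ (l + 1 + 1) = 0 := by
      rw [show l + 1 + 1 = l + 2 by ring, pow_add, pow_two, hN', mul_zero]
    rw [Cfsg.Agent.Helper43.JT.kdim_of_pow_eq_zero h1, Cfsg.Agent.Helper43.JT.kdim_of_pow_eq_zero h2]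

/-- the diagonal matrix commuting with `tS` of a diagonal matrix. -/
def Zd (m : ℕ) (a : F) : Matrix (Fin m ⊕ Fin m) (Fin m ⊕ Fin m) F :=
  fromBlocks (Matrix.diagonal fun i : Fin m => if i.val = 0 then a else 1) 0 0
    (Matrix.diagonal fun i : Fin m => if i.val = 0 then a else 1)

theorem Zd_mul (a b : F) : Zd m a * Zd m b = Zd m (a * b) := by
  unfold Zd
  rw [fromBlocks_multiply]
  simp only [Matrix.zero_mul, Matrix.mul_zero, add_zero, zero_add, Matrix.diagonal_mul_diagonal]
  congr 2 <;>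
  · ext i
    split_ifs <;> simp

theorem Zd_one : Zd m (1 : F) = 1 := by
  unfold Zd
  have : (fun i : Fin m => if i.val = 0 then (1 : F) else 1) = fun _ => 1 := by
    ext i
    split_ifs <;> rfl
  rw [this, Matrix.diagonal_one, fromBlocks_one]

theorem det_Zd (hm : 0 < m) (a : F) : (Zd m a).det = a * a := by
  unfold Zd
  rw [Matrix.det_fromBlocks_zero₂₁, Matrix.det_diagonal]
  obtain ⟨k, rfl⟩ : ∃ k, m = k + 1 := ⟨m - 1, by omega⟩
  rw [Fin.prod_univ_succ]
  simp

theorem Zd_comm_tS (a : F) (d : Fin m → F) :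
    Zd m a * tS (Matrix.diagonal d) = tS (Matrix.diagonal d) * Zd m a := by
  unfold Zd tS
  rw [fromBlocks_multiply, fromBlocks_multiply]
  simp only [Matrix.zero_mul, Matrix.mul_zero, add_zero, zero_add, Matrix.mul_one, Matrix.one_mul,
    Matrix.diagonal_mul_diagonal]
  congr 2
  ext i
  exact mul_comm _ _

/-- The case of characteristic two. -/
theorem good_char_two [Fintype F] [CharP F 2] (hn : 0 < n) (hnm : n = m + m)
    {f : (Fin n → F) → (Fin n → F) → F} (hf : IsSymplecticForm f)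
    (x : Matrix.SpecialLinearGroup (Fin n) F) (z : F)
    (hz : (x : Matrix (Fin n) (Fin n) F) * (x : Matrix (Fin n) (Fin n) F)
      = z • (1 : Matrix (Fin n) (Fin n) F))
    (hns : ∀ z : F, (x : Matrix (Fin n) (Fin n) F) ≠ z • (1 : Matrix (Fin n) (Fin n) F)) :
    ∃ P : Matrix.SpecialLinearGroup (Fin n) F, P⁻¹ * x * P ∈ ((similarityGroup f).comap
      (Matrix.SpecialLinearGroup.toGL : Matrix.SpecialLinearGroup (Fin n) F →* GL (Fin n) F)) := by
  classical
  obtain ⟨φ, hφ⟩ := exists_std_isometry hf hnm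
  have hm : 0 < m := by omega
  have hne : Nonempty (Fin n) := ⟨⟨0, hn⟩⟩
  have hz0 : z ≠ 0 := by
    rintro rfl
    have := congrArg Matrix.det hz
    rw [Matrix.det_mul, x.2, zero_smul, one_mul, Matrix.det_zero] at this
    exact one_ne_zero this
  have hsurj : Function.Surjective (frobenius F 2) :=
    (Finite.injective_iff_surjective).mp (frobenius_inj F 2)
  obtain ⟨w, hw⟩ := hsurj z
  rw [frobenius_def, pow_two] at hw
  have hw0 : w ≠ 0 := by
    rintro rfl
    rw [mul_zero] at hw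
    exact hz0 hw.symm
  set u : Matrix (Fin n) (Fin n) F := w⁻¹ • (x : Matrix (Fin n) (Fin n) F) with hu
  have huu : u * u = 1 := by
    rw [hu, Matrix.smul_mul, Matrix.mul_smul, hz, smul_smul, smul_smul, ← hw]
    have : w⁻¹ * w⁻¹ * (w * w) = 1 := by field_simp
    rw [this, one_smul]
  have hxu : (x : Matrix (Fin n) (Fin n) F) = w • u := by
    rw [hu, smul_smul, mul_inv_cancel₀ hw0, one_smul]
  set N : Matrix (Fin n) (Fin n) F := u - 1 with hN
  have hNN : N * N = 0 := Cfsg.Agent.S2166.sub_one_sq u huu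
  have hN0 : N ≠ 0 := by
    intro h0
    apply hns w
    rw [hxu, sub_eq_zero.mp h0]
  set k := N.rank with hk
  have hk1 : 1 ≤ k := by
    rw [Nat.one_le_iff_ne_zero]
    intro h0
    exact hN0 (Cfsg.Agent.Helper43.PGLInv.eq_zero_of_rank_eq_zero N h0)
  have hk2 : k ≤ m := by
    have := Matrix.rank_add_rank_le_card_of_mul_eq_zero hNN
    rw [Fintype.card_fin] at this
    omega
  set S : Matrix (Fin m) (Fin m) F := Matrix.diagonal (wv F m k) with hS
  set D : Matrix (Fin m ⊕ Fin m) (Fin m ⊕ Fin m) F := tS S with hD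
  have hDmem : D ∈ Matrix.symplecticGroup (Fin m) F := tS_mem (Matrix.diagonal_transpose _)
  have hDD : D * D = 1 := tS_mul_self S
  have hDrank : (D - 1).rank = k := (rank_tS_sub_one S).trans (rank_diagonal_wv hk2)
  set D₀ : Matrix (Fin n) (Fin n) F := embMat φ D with hD₀
  have hD₀D₀ : D₀ * D₀ = 1 := by
    rw [hD₀, ← embMat_mul, hDD, embMat_one]
  set N' : Matrix (Fin n) (Fin n) F := D₀ - 1 with hN'
  have hN'N' : N' * N' = 0 := Cfsg.Agent.S2166.sub_one_sq D₀ hD₀D₀
  have hN'rank : N'.rank = k := by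
    rw [hN', hD₀, ← embMat_one φ, ← embMat_sub, rank_embMat, hDrank]
  obtain ⟨E₁, hE₁⟩ := exists_equiv_of_sq_zero (Matrix.toLin' N) (Matrix.toLin' N')
    (by rw [Module.End.mul_eq_comp, ← Matrix.toLin'_mul, hNN, map_zero])
    (by rw [Module.End.mul_eq_comp, ← Matrix.toLin'_mul, hN'N', map_zero])
    (by
      show N.rank = N'.rank
      rw [hN'rank])
  set g : Matrix (Fin n) (Fin n) F := LinearMap.toMatrix' E₁.toLinearMap with hg
  set ginv : Matrix (Fin n) (Fin n) F := LinearMap.toMatrix' E₁.symm.toLinearMap with hginv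
  have hgg : g * ginv = 1 := by
    rw [hg, hginv, ← LinearMap.toMatrix'_comp]
    have : E₁.toLinearMap ∘ₗ E₁.symm.toLinearMap = LinearMap.id := by
      ext v
      simp
    rw [this, LinearMap.toMatrix'_id]
  have hgN : g * N = N' * g := by
    apply Matrix.toLin'.injective
    apply LinearMap.ext
    intro v
    rw [Matrix.toLin'_mul, Matrix.toLin'_mul, hg, Matrix.toLin'_toMatrix']
    exact hE₁ v
  have hgu : g * u = D₀ * g := by
    have h1 : u = N + 1 := by rw [hN]; abel
    have h2 : D₀ = N' + 1 := by rw [hN']; abel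
    rw [h1, h2, Matrix.mul_add, Matrix.add_mul, hgN, Matrix.mul_one, Matrix.one_mul]
  have hgdet : g.det ≠ 0 := by
    intro h0
    have := congrArg Matrix.det hgg
    rw [Matrix.det_mul, h0, zero_mul, Matrix.det_one] at this
    exact zero_ne_one this
  obtain ⟨a, ha⟩ := hsurj (g.det)⁻¹
  rw [frobenius_def, pow_two] at ha
  have ha0 : a ≠ 0 := by
    rintro rfl
    rw [mul_zero] at ha
    exact inv_ne_zero hgdet ha.symm
  set Z : Matrix (Fin n) (Fin n) F := embMat φ (Zd m a) with hZ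
  set Zinv : Matrix (Fin n) (Fin n) F := embMat φ (Zd m a⁻¹) with hZinv
  have hZZ : Z * Zinv = 1 := by
    rw [hZ, hZinv, ← embMat_mul, Zd_mul, mul_inv_cancel₀ ha0, Zd_one, embMat_one]
  have hZD : Z * D₀ = D₀ * Z := by
    rw [hZ, hD₀, ← embMat_mul, ← embMat_mul, hD, hS, Zd_comm_tS]
  have hZdet : Z.det = (g.det)⁻¹ := by
    rw [hZ, det_embMat, det_Zd hm, ha]
  have hAB : (Z * g) * (ginv * Zinv) = 1 := by
    rw [Matrix.mul_assoc, ← Matrix.mul_assoc g, hgg, Matrix.one_mul, hZZ]
  have hAdet : (Z * g).det = 1 := by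
    rw [Matrix.det_mul, hZdet, inv_mul_cancel₀ hgdet]
  have hconj : (Z * g) * (x : Matrix (Fin n) (Fin n) F) * (ginv * Zinv) = embMat φ (w • D) := by
    rw [hxu, Matrix.mul_smul, Matrix.smul_mul, Matrix.mul_assoc Z g u, hgu, ← Matrix.mul_assoc Z,
      hZD, Matrix.mul_assoc D₀ Z g, Matrix.mul_assoc D₀, hAB, Matrix.mul_one, embMat_smul]
  apply good_of_conj x (Z * g) (ginv * Zinv) hAB hAdet (Units.mk0 (w * w) (mul_ne_zero hw0 hw0))
  rw [hconj]
  exact simWith_embMat φ hφ (w • D) (w * w) (sympForm_sim_smul w D hDmem)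

end Cfsg.Agent.Helper43.SpDer
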