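import Mathlib
import Cfsg.Agent.Helper43.SylMatI
import Cfsg.Agent.Helper44.OrthOddA
import Cfsg.Agent.S0286

/-!
# Sylow 2-subgroups of `Ω` for forms classified by type
-/

set_option autoImplicit false
set_option linter.unusedSectionVars false
set_option linter.unusedVariables false

namespace Cfsg.Agent.Helper43.Syl

open Matrix Cfsg.Agent.Helper44 Cfsg.Agent.Helper42 Cfsg.Agent.Helper44.QType

variable {F : Type*} [Field F] [Fintype F]

theorem three_le_card (hF : Odd (Fintype.card F)) : 3 ≤ Fintype.card F := by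
  have h1 : 1 < Fintype.card F := Fintype.one_lt_card
  have hodd : Fintype.card F % 2 = 1 := Nat.odd_iff.1 hF
  omega

/-- even dimension: a form of the same type as a model form -/
theorem sylow_even (hF : Odd (Fintype.card F)) {ι : Type} [Fintype ι] [DecidableEq ι]
    (Q : QuadraticForm F (ι → F)) {m : ℕ} (hV : Module.finrank F (ι → F) = 2 * m)
    (hnd : ∀ x, (∀ y, QuadraticMap.polar Q x y = 0) → x = 0) {ε : ℤ} (hQ : HasType (⇑Q) m ε)
    {k j : ℕ} (hk : 2 ≤ k) (γ : Fin j → F) (hγ : ∀ i, γ i ≠ 0) (hdim : 2 * k + j = 2 * m)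
    (hM : HasType (⇑(mForm k j γ)) m ε)
    (hcard : padicValNat 2 (Nat.card (Cfsg.isometryGroup F ⇑Q)) =
      k * padicValNat 2 (2 * ee (Fintype.card F)) + padicValNat 2 k.factorial + j)
    (P : Sylow 2 (Cfsg.Omega F ⇑Q)) : EA 2 (P : Subgroup (Cfsg.Omega F ⇑Q)) := by
  obtain ⟨C, hC⟩ := exists_isometry_of_hasType Q (mForm k j γ) hV
    (by rw [finrank_idx, hdim]) hnd (Cfsg.Agent.Helper60.Syl.mForm_nondeg' hF k j γ hγ) hQ hM
  have e := Cfsg.Agent.Helper45.nonempty_mulEquiv_of_linearEquiv (⇑Q) (⇑(mForm k j γ)) C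
    (fun w => hC w)
  refine sylow_Omega_EA_of_equiv hF (⇑Q) hk γ hγ e ?_ P
  rw [card_iso_E2 hF]
  exact hcard

/-- odd dimension -/
theorem sylow_odd (hF : Odd (Fintype.card F)) (m : ℕ) (hm : 2 ≤ m)
    (P : Sylow 2 (Cfsg.Omega F (Cfsg.quadFormOdd m F))) :
    EA 2 (P : Subgroup (Cfsg.Omega F (Cfsg.quadFormOdd m F))) := by
  have h2 : (2 : F) ≠ 0 := Cfsg.Agent.Helper60.Syl.two_ne_zero_of_odd hF
  let γ : Fin 1 → F := fun _ => 1
  have hγ : ∀ i, γ i ≠ 0 := fun _ => one_ne_zero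
  obtain ⟨a, g, ha, hg⟩ := exists_similarity_odd (mForm m 1 γ) (by rw [finrank_idx])
    (Cfsg.Agent.Helper60.Syl.mForm_nondeg' hF m 1 γ hγ)
  obtain ⟨e1⟩ := Cfsg.Agent.Helper45.nonempty_mulEquiv_of_linearEquiv (⇑(mForm m 1 γ))
    (fun w => a * Cfsg.quadFormOdd m F w) g (fun w => hg w)
  have hsub : Cfsg.isometryGroup F (fun w => a * Cfsg.quadFormOdd m F w) =
      Cfsg.isometryGroup F (Cfsg.quadFormOdd m F) :=
    Subgroup.ext (fun x => mem_isometryGroup_smul_iff (Cfsg.quadFormOdd m F) a ha x)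
  have e : Nonempty (Cfsg.isometryGroup F (Cfsg.quadFormOdd m F) ≃*
      Cfsg.isometryGroup F ⇑(mForm m 1 γ)) :=
    ⟨((e1.trans (MulEquiv.subgroupCongr hsub))).symm⟩
  refine sylow_Omega_EA_of_equiv hF (Cfsg.quadFormOdd m F) hm γ hγ e ?_ P
  rw [card_iso_E2 hF, Cfsg.Agent.S0286.result rfl hF m]
  exact Cfsg.Agent.Helper49.Syl.v2_card_odd _ m hF (three_le_card hF)

end Cfsg.Agent.Helper43.Syl
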