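import Mathlib

set_option autoImplicit false

namespace Cfsg.Agent.Helper43

open Module

theorem fin_one_ne_two (m : ℕ) : (1 : Fin (m+3)) ≠ 2 := by
  intro h
  have := congrArg Fin.val h
  simp only [Fin.val_one, Fin.val_two] at this
  omega

theorem fin_two_ne_zero (m : ℕ) : (2 : Fin (m+3)) ≠ 0 := by
  intro h
  have := congrArg Fin.val h
  simp only [Fin.val_two, Fin.val_zero] at this
  omega

variable {F : Type*} [Field F] {V : Type*} [AddCommGroup V] [Module F V] [FiniteDimensional F V]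

/-- A basis adapted to a rank-one square-zero endomorphism: `A b₀ = b₁`, `A bⱼ = 0` for `j ≠ 0`. -/
theorem exists_adapted_basis {m : ℕ} (A : Module.End F V) (hV : finrank F V = m + 3)
    (hr : finrank F (LinearMap.range A) = 1) (hA : A * A = 0) :
    ∃ b : Basis (Fin (m + 3)) F V, A (b 0) = b 1 ∧ ∀ j, j ≠ 0 → A (b j) = 0 := by
  have hrk := LinearMap.finrank_range_add_finrank_ker A
  set K := LinearMap.ker A with hK
  have hKdim : finrank F K = m + 2 := by omega
  have hKlt : K < ⊤ := by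
    rw [lt_top_iff_ne_top]
    intro h
    rw [h, finrank_top] at hKdim
    omega
  obtain ⟨w, -, hw⟩ := SetLike.exists_of_lt hKlt
  set v := A w with hv
  have hv0 : v ≠ 0 := fun h => hw (LinearMap.mem_ker.mpr h)
  have hvK : v ∈ K := by
    rw [hK, LinearMap.mem_ker, hv, ← Module.End.mul_apply, hA]
    simp
  -- the range is spanned by v
  have hrange : ∀ z : V, ∃ c : F, c • v = A z := by
    intro z
    have h1 := (finrank_eq_one_iff_of_nonzero' (⟨v, ⟨w, rfl⟩⟩ : LinearMap.range A)
      (fun h => hv0 (congrArg Subtype.val h))).mp hr ⟨A z, ⟨z, rfl⟩⟩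
    obtain ⟨c, hc⟩ := h1
    exact ⟨c, congrArg Subtype.val hc⟩
  -- inside K: complement of the line spanned by v
  set vK : K := ⟨v, hvK⟩ with hvKdef
  have hvK0 : vK ≠ 0 := fun h => hv0 (congrArg Subtype.val h)
  obtain ⟨C, hC⟩ := Submodule.exists_isCompl (Submodule.span F {vK})
  have hCdim : finrank F C = m + 1 := by
    have := Submodule.finrank_add_eq_of_isCompl hC
    rw [finrank_span_singleton hvK0, hKdim] at this
    omega
  let bC : Basis (Fin (m + 1)) F C := Module.finBasisOfFinrankEq F C hCdim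
  have hliK : ∀ (c : F), ∀ x ∈ C, c • vK + x = 0 → c = 0 := by
    intro c x hx hcx
    have h1 : c • vK ∈ Submodule.span F {vK} := Submodule.smul_mem _ c (Submodule.mem_span_singleton_self vK)
    have h2 : c • vK ∈ C := by
      have : c • vK = -x := eq_neg_of_add_eq_zero_left hcx
      rw [this]; exact C.neg_mem hx
    have h3 : c • vK ∈ Submodule.span F {vK} ⊓ C := ⟨h1, h2⟩
    rw [hC.inf_eq_bot, Submodule.mem_bot] at h3
    rcases smul_eq_zero.mp h3 with h | h
    · exact h
    · exact absurd h hvK0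
  have hspK : ∀ z : K, ∃ c : F, z + c • vK ∈ C := by
    intro z
    have hz : z ∈ Submodule.span F {vK} ⊔ C := by rw [hC.sup_eq_top]; trivial
    obtain ⟨l, hl, x, hx, hlx⟩ := Submodule.mem_sup.mp hz
    obtain ⟨a, rfl⟩ := Submodule.mem_span_singleton.mp hl
    refine ⟨-a, ?_⟩
    rw [← hlx]
    have : a • vK + x + -a • vK = x := by
      rw [neg_smul]; abel
    rw [this]; exact hx
  let bK : Basis (Fin (m + 2)) F K := Basis.mkFinCons vK bC hliK hspK
  have hliV : ∀ (c : F), ∀ x ∈ K, c • w + x = 0 → c = 0 := by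
    intro c x hx hcx
    by_contra hc
    apply hw
    have h1 : c • w = -x := eq_neg_of_add_eq_zero_left hcx
    have h2 : w = c⁻¹ • (-x) := by rw [← h1, smul_smul, inv_mul_cancel₀ hc, one_smul]
    rw [h2]
    exact K.smul_mem _ (K.neg_mem hx)
  have hspV : ∀ z : V, ∃ c : F, z + c • w ∈ K := by
    intro z
    obtain ⟨a, ha⟩ := hrange z
    refine ⟨-a, ?_⟩
    rw [hK, LinearMap.mem_ker, map_add, map_smul, ← ha, ← hv, neg_smul, add_neg_cancel]
  let bV : Basis (Fin (m + 3)) F V := Basis.mkFinCons w bK hliV hspV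
  have hbV : (bV : Fin (m + 3) → V) = Fin.cons w (Subtype.val ∘ bK) := Basis.coe_mkFinCons _ _ _ _
  have hbK : (bK : Fin (m + 2) → K) = Fin.cons vK (Subtype.val ∘ bC) := Basis.coe_mkFinCons _ _ _ _
  refine ⟨bV, ?_, ?_⟩
  · have h0 : bV 0 = w := by rw [hbV]; rfl
    have h1 : bV 1 = v := by
      rw [hbV]
      show (Fin.cons w (Subtype.val ∘ bK) : Fin (m + 3) → V) (Fin.succ 0) = v
      rw [Fin.cons_succ, Function.comp_apply, hbK]
      rfl
    rw [h0, h1]
  · intro j hj
    obtain ⟨i, rfl⟩ := Fin.exists_succ_eq.mpr hj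
    rw [hbV, Fin.cons_succ, Function.comp_apply]
    exact LinearMap.mem_ker.mp (bK i).2

/-- Two rank-one square-zero endomorphisms in dimension at least 3 are conjugate by an
automorphism of determinant one. -/
theorem exists_det_one_conj {m : ℕ} (A A' : Module.End F V) (hV : finrank F V = m + 3)
    (hr : finrank F (LinearMap.range A) = 1) (hA : A * A = 0)
    (hr' : finrank F (LinearMap.range A') = 1) (hA' : A' * A' = 0) :
    ∃ g : Module.End F V, LinearMap.det g = 1 ∧ g * A = A' * g := by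
  obtain ⟨b, hb0, hb⟩ := exists_adapted_basis A hV hr hA
  obtain ⟨b', hb'0, hb'⟩ := exists_adapted_basis A' hV hr' hA'
  let e : V ≃ₗ[F] V := b.equiv b' (Equiv.refl _)
  have he : ∀ j, e (b j) = b' j := fun j => by
    rw [Basis.equiv_apply]; rfl
  have heA : (e : V →ₗ[F] V) ∘ₗ A = A' ∘ₗ (e : V →ₗ[F] V) := by
    apply b.ext
    intro j
    simp only [LinearMap.comp_apply, LinearEquiv.coe_coe]
    by_cases hj : j = 0
    · subst hj
      rw [hb0, he, he, hb'0]
    · rw [hb j hj, he, hb' j hj, map_zero]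
  set d := LinearMap.det (e : V →ₗ[F] V) with hd
  have hd0 : d ≠ 0 := (LinearEquiv.isUnit_det' e).ne_zero
  -- the dilation along b' 2
  let D : V →ₗ[F] V := LinearMap.transvection ((d⁻¹ - 1) • b'.coord 2) (b' 2)
  have hDdet : LinearMap.det D = d⁻¹ := by
    rw [LinearMap.transvection.det]
    simp [Basis.coord_apply]
  have hcoordA' : b'.coord 2 ∘ₗ A' = 0 := by
    apply b'.ext
    intro j
    simp only [LinearMap.comp_apply, LinearMap.zero_apply]
    by_cases hj : j = 0
    · subst hj
      rw [hb'0, Basis.coord_apply, Basis.repr_self, Finsupp.single_apply]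
      have : ¬ ((1 : Fin (m + 3)) = 2) := fin_one_ne_two m
      simp [this]
    · rw [hb' j hj, map_zero]
  have hDA' : D ∘ₗ A' = A' ∘ₗ D := by
    apply LinearMap.ext
    intro x
    simp only [LinearMap.comp_apply, D, LinearMap.transvection.apply, LinearMap.smul_apply]
    have h1 : b'.coord 2 (A' x) = 0 := by
      have := congrArg (fun f : V →ₗ[F] F => f x) hcoordA'
      simpa using this
    have h2 : A' (b' 2) = 0 := hb' 2 (fin_two_ne_zero m)
    rw [h1, map_add, map_smul, h2]
    simp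
  refine ⟨D ∘ₗ (e : V →ₗ[F] V), ?_, ?_⟩
  · rw [LinearMap.det_comp, hDdet, ← hd, inv_mul_cancel₀ hd0]
  · show (D ∘ₗ (e : V →ₗ[F] V)) ∘ₗ A = A' ∘ₗ (D ∘ₗ (e : V →ₗ[F] V))
    rw [LinearMap.comp_assoc, heA, ← LinearMap.comp_assoc, hDA', LinearMap.comp_assoc]

end Cfsg.Agent.Helper43
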